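import Cfsg.Agent.Lib.Transfer.Fusion
import Cfsg.Agent.Lib.Fusion.SylowAux

/-!
Conjugates of subgroups and Sylow subgroups of a subgroup, in the ambient group.
-/

set_option autoImplicit false

namespace CfsgLib.Techniques

open Subgroup

variable {G : Type*} [Group G] {p : ℕ}

/-- The conjugate `g H g⁻¹`. -/
abbrev cj (g : G) (H : Subgroup G) : Subgroup G := H.map (MulAut.conj g).toMonoidHom

theorem mem_cj {g x : G} {H : Subgroup G} : x ∈ cj g H ↔ g⁻¹ * x * g ∈ H := by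
  constructor
  · rintro ⟨y, hy, rfl⟩
    simpa [mul_assoc] using hy
  · intro h
    exact ⟨_, h, by simp [mul_assoc]⟩

theorem conj_mem_cj {g x : G} {H : Subgroup G} : g * x * g⁻¹ ∈ cj g H ↔ x ∈ H := by
  rw [mem_cj]
  simp [mul_assoc]

theorem cj_le_iff {g : G} {H K : Subgroup G} : cj g H ≤ K ↔ ∀ x ∈ H, g * x * g⁻¹ ∈ K := by
  constructor
  · exact fun h x hx => h (conj_mem_cj.2 hx)
  · rintro h _ ⟨x, hx, rfl⟩
    exact h x hx

theorem cj_mono {g : G} {H K : Subgroup G} (h : H ≤ K) : cj g H ≤ cj g K := Subgroup.map_mono h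

@[simp] theorem cj_one (H : Subgroup G) : cj 1 H = H := by
  ext x
  simp [mem_cj]

theorem cj_mul (g h : G) (H : Subgroup G) : cj (g * h) H = cj g (cj h H) := by
  ext x
  simp only [mem_cj, mul_inv_rev, mul_assoc]

theorem cj_inv_cj (g : G) (H : Subgroup G) : cj g⁻¹ (cj g H) = H := by
  rw [← cj_mul, inv_mul_cancel, cj_one]

theorem cj_cj_inv (g : G) (H : Subgroup G) : cj g (cj g⁻¹ H) = H := by
  rw [← cj_mul, mul_inv_cancel, cj_one]

theorem cj_bot (g : G) : cj g (⊥ : Subgroup G) = ⊥ := Subgroup.map_bot _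

theorem cj_eq_bot_iff {g : G} {H : Subgroup G} : cj g H = ⊥ ↔ H = ⊥ :=
  Subgroup.map_eq_bot_iff_of_injective _ (MulAut.conj g).injective

theorem cj_inf (g : G) (H K : Subgroup G) : cj g (H ⊓ K) = cj g H ⊓ cj g K :=
  Subgroup.map_inf _ _ _ (MulAut.conj g).injective

theorem cj_commutator (g : G) (H K : Subgroup G) : cj g ⁅H, K⁆ = ⁅cj g H, cj g K⁆ :=
  Subgroup.map_commutator _ _ _

theorem card_cj (g : G) (H : Subgroup G) : Nat.card (cj g H) = Nat.card H :=
  (Nat.card_congr (Subgroup.equivMapOfInjective H _ (MulAut.conj g).injective).toEquiv).symm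

theorem isPGroup_cj {g : G} {H : Subgroup G} (h : IsPGroup p H) : IsPGroup p (cj g H) := h.map _

theorem mem_normalizer_iff_cj {g : G} {H : Subgroup G} :
    g ∈ normalizer (H : Set G) ↔ cj g H = H := by
  rw [Subgroup.mem_normalizer_iff]
  constructor
  · intro h
    ext x
    rw [mem_cj, h (g⁻¹ * x * g)]
    simp [mul_assoc]
  · intro h x
    conv_rhs => rw [← h]
    rw [conj_mem_cj]

theorem le_normalizer_iff_cj {K H : Subgroup G} :
    K ≤ normalizer (H : Set G) ↔ ∀ k ∈ K, cj k H = H :=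
  ⟨fun h _ hk => mem_normalizer_iff_cj.1 (h hk), fun h k hk => mem_normalizer_iff_cj.2 (h k hk)⟩

theorem cj_normalizer (g : G) (H : Subgroup G) :
    cj g (normalizer (H : Set G)) = normalizer (cj g H : Set G) :=
  Subgroup.map_equiv_normalizer_eq H (MulAut.conj g)

theorem cj_eq_self_of_mem {g : G} {H : Subgroup G} (hg : g ∈ H) : cj g H = H :=
  mem_normalizer_iff_cj.1 (Subgroup.le_normalizer hg)

theorem relIndex_cj (g : G) (H K : Subgroup G) : (cj g H).relIndex (cj g K) = H.relIndex K :=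
  Subgroup.relIndex_map_map_of_injective H K (MulAut.conj g).injective

/-- `T` is a Sylow `p`-subgroup of the subgroup `H`. -/
def SylIn (p : ℕ) (T H : Subgroup G) : Prop := T ≤ H ∧ IsPGroup p T ∧ ¬ p ∣ T.relIndex H

namespace SylIn

variable {T T' H : Subgroup G}

theorem le (h : SylIn p T H) : T ≤ H := h.1
theorem isPGroup (h : SylIn p T H) : IsPGroup p T := h.2.1
theorem not_dvd (h : SylIn p T H) : ¬ p ∣ T.relIndex H := h.2.2

theorem cj' (h : SylIn p T H) (g : G) : SylIn p (cj g T) (cj g H) :=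
  ⟨cj_mono h.le, isPGroup_cj h.isPGroup, by rw [relIndex_cj]; exact h.not_dvd⟩

theorem cj_mem (h : SylIn p T H) {k : G} (hk : k ∈ H) : SylIn p (cj k T) H := by
  have := h.cj' k
  rwa [cj_eq_self_of_mem hk] at this

theorem exists_conj [Finite G] [Fact p.Prime] (h : SylIn p T H) {V : Subgroup G} (hV : IsPGroup p V)
    (hVH : V ≤ H) : ∃ k ∈ H, cj k V ≤ T := by
  obtain ⟨k, hk, hkV⟩ := CfsgLib.Transfer.exists_conj_le_of_isPGroup h.isPGroup h.le h.not_dvd hV hVH
  exact ⟨k⁻¹, inv_mem hk, cj_le_iff.2 fun x hx => by simpa using hkV x hx⟩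

theorem eq_of_le [Finite G] [hp : Fact p.Prime] (h : SylIn p T H) {V : Subgroup G} (hV : IsPGroup p V)
    (hTV : T ≤ V) (hVH : V ≤ H) : V = T := by
  refine le_antisymm ?_ hTV
  rw [← Subgroup.relIndex_eq_one]
  haveI : (T.subgroupOf V).FiniteIndex := inferInstance
  obtain ⟨n, hn⟩ := hV.index (T.subgroupOf V)
  have hdvd : T.relIndex V ∣ T.relIndex H :=
    Dvd.intro _ (Subgroup.relIndex_mul_relIndex T V H hTV hVH)
  rcases Nat.eq_zero_or_pos n with rfl | hn0
  · rw [Subgroup.relIndex, hn, pow_zero]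
  · exact absurd ((dvd_pow_self p hn0.ne').trans (hn ▸ hdvd)) h.not_dvd

theorem exists_conj_eq [Finite G] [Fact p.Prime] (h : SylIn p T H) (h' : SylIn p T' H) :
    ∃ k ∈ H, cj k T' = T := by
  obtain ⟨k, hk, hle⟩ := h.exists_conj h'.isPGroup h'.le
  exact ⟨k, hk, ((h'.cj_mem hk).eq_of_le h.isPGroup hle h.le).symm⟩

theorem card_eq [Finite G] [Fact p.Prime] (h : SylIn p T H) (h' : SylIn p T' H) :
    Nat.card T' = Nat.card T := by
  obtain ⟨k, -, hk⟩ := h.exists_conj_eq h'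
  rw [← hk, card_cj]

theorem card_le [Finite G] [Fact p.Prime] (h : SylIn p T H) {V : Subgroup G} (hV : IsPGroup p V)
    (hVH : V ≤ H) : Nat.card V ≤ Nat.card T := by
  obtain ⟨k, -, hk⟩ := h.exists_conj hV hVH
  rw [← card_cj k V]
  exact Subgroup.card_le_of_le hk

theorem le_of_normal [Finite G] [Fact p.Prime] (h : SylIn p T H) {V : Subgroup G} (hV : IsPGroup p V)
    (hVH : V ≤ H) (hn : H ≤ normalizer (V : Set G)) : V ≤ T := by
  obtain ⟨k, hk, hle⟩ := h.exists_conj hV hVH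
  rwa [mem_normalizer_iff_cj.1 (hn hk)] at hle

theorem mono (h : SylIn p T H) {K : Subgroup G} (hTK : T ≤ K) (hKH : K ≤ H) : SylIn p T K :=
  ⟨hTK, h.isPGroup, fun hd => h.not_dvd (hd.trans (Dvd.intro _ (Subgroup.relIndex_mul_relIndex T K H hTK hKH)))⟩

theorem to_sylow [Finite G] [Fact p.Prime] (h : SylIn p T ⊤) : ∃ S : Sylow p G, (S : Subgroup G) = T :=
  ⟨h.isPGroup.toSylow (by simpa using h.not_dvd), rfl⟩

/-- A `p`-subgroup of `H` of the order of a Sylow subgroup is one. -/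
theorem of_card [Finite G] [Fact p.Prime] (h : SylIn p T H) {V : Subgroup G} (hV : IsPGroup p V)
    (hVH : V ≤ H) (hc : Nat.card T ≤ Nat.card V) : SylIn p V H := by
  obtain ⟨k, hk, hle⟩ := h.exists_conj hV hVH
  have : cj k V = T := Subgroup.eq_of_le_of_card_ge hle (by rw [card_cj]; exact hc)
  have h2 := h.cj_mem (inv_mem hk)
  rwa [← this, cj_inv_cj] at h2

end SylIn

theorem sylIn_top (S : Sylow p G) [Finite G] [Fact p.Prime] : SylIn p (S : Subgroup G) ⊤ :=
  ⟨le_top, S.isPGroup', by simpa using S.not_dvd_index⟩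

theorem sylIn_of_le [Finite G] [Fact p.Prime] (S : Sylow p G) {H : Subgroup G} (h : (S : Subgroup G) ≤ H) :
    SylIn p (S : Subgroup G) H :=
  (sylIn_top S).mono h le_top

theorem exists_sylIn_ge [Finite G] [Fact p.Prime] {V H : Subgroup G} (hV : IsPGroup p V) (hVH : V ≤ H) :
    ∃ T, SylIn p T H ∧ V ≤ T := by
  obtain ⟨R, hR⟩ := (hV.comap_subtype (K := H)).exists_le_sylow
  refine ⟨(R : Subgroup H).map H.subtype, ⟨Subgroup.map_subtype_le _, R.isPGroup'.map _, ?_⟩, ?_⟩
  · rw [Subgroup.relIndex, Subgroup.subgroupOf, Subgroup.comap_map_eq_self_of_injective H.subtype_injective]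
    exact R.not_dvd_index
  · intro v hv
    exact ⟨⟨v, hVH hv⟩, hR (Subgroup.mem_subgroupOf.2 hv), rfl⟩

theorem exists_sylIn [Finite G] [Fact p.Prime] (H : Subgroup G) : ∃ T, SylIn p T H := by
  obtain ⟨T, hT, -⟩ := exists_sylIn_ge (p := p) (V := ⊥) (H := H) IsPGroup.of_bot bot_le
  exact ⟨T, hT⟩

/-- The intersection of a Sylow subgroup with a normal subgroup is a Sylow subgroup of it. -/
theorem SylIn.inf_normal [Finite G] [Fact p.Prime] {T H N : Subgroup G} (h : SylIn p T H) (hNH : N ≤ H)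
    (hn : H ≤ normalizer (N : Set G)) : SylIn p (T ⊓ N) N := by
  obtain ⟨R, hR⟩ := exists_sylIn (p := p) N
  obtain ⟨k, hk, hle⟩ := h.exists_conj hR.isPGroup (hR.le.trans hNH)
  have hR' : SylIn p (cj k R) N := by
    have := hR.cj' k
    rwa [mem_normalizer_iff_cj.1 (hn hk)] at this
  refine hR'.of_card (h.isPGroup.to_le inf_le_left) inf_le_right ?_
  exact Subgroup.card_le_of_le (le_inf hle hR'.le)

/-- Frattini argument inside a subgroup. -/
theorem SylIn.frattini [Finite G] [Fact p.Prime] {T H N : Subgroup G} (h : SylIn p T H) (hNH : N ≤ H)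
    (hn : H ≤ normalizer (N : Set G)) {g : G} (hg : g ∈ H) :
    ∃ a ∈ H ⊓ normalizer ((T ⊓ N : Subgroup G) : Set G), ∃ c ∈ N, g = c * a := by
  have hR := h.inf_normal hNH hn
  have hR' : SylIn p (cj g (T ⊓ N)) N := by
    have := hR.cj' g
    rwa [mem_normalizer_iff_cj.1 (hn hg)] at this
  obtain ⟨c, hc, he⟩ := hR.exists_conj_eq hR'
  refine ⟨c * g, ⟨mul_mem (hNH hc) hg, mem_normalizer_iff_cj.2 (by rw [cj_mul, he])⟩, c⁻¹, inv_mem hc, by group⟩

theorem card_lt_of_lt [Finite G] {A B : Subgroup G} (h : A < B) : Nat.card A < Nat.card B :=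
  (Subgroup.card_le_of_le h.le).lt_of_ne fun he => h.ne (Subgroup.eq_of_le_of_card_ge h.le he.ge)

theorem lt_inf_normalizer' [Fact p.Prime] [Finite G] {A B : Subgroup G} (hB : IsPGroup p B) (h : A < B) :
    A < B ⊓ normalizer (A : Set G) :=
  CfsgLib.Fusion.lt_inf_normalizer hB h

end CfsgLib.Techniques
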