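import Mathlib

/-!
An involution acting without fixed points on a finite group inverts every element.
-/

set_option autoImplicit false

namespace CfsgLib.Techniques

variable {H : Type*} [Group H] [Finite H]

theorem inverts_of_inf_centralizer_eq_bot {N : Subgroup H} [N.Normal] {z : H} (hz : z ^ 2 = 1)
    (h : N ⊓ Subgroup.centralizer ({z} : Set H) = ⊥) {n : H} (hn : n ∈ N) : z * n * z⁻¹ = n⁻¹ := by
  have hz' : z * z = 1 := by rwa [pow_two] at hz
  have hzi : z⁻¹ = z := inv_eq_of_mul_eq_one_right hz'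
  let f : N → N := fun m => ⟨(m : H)⁻¹ * (z * m * z⁻¹),
    N.mul_mem (N.inv_mem m.2) (‹N.Normal›.conj_mem _ m.2 z)⟩
  have hinj : Function.Injective f := by
    intro a b hab
    have hab' : (a : H)⁻¹ * (z * a * z⁻¹) = (b : H)⁻¹ * (z * b * z⁻¹) := congrArg Subtype.val hab
    have hmem : (b : H) * (a : H)⁻¹ ∈ N ⊓ Subgroup.centralizer ({z} : Set H) := by
      refine ⟨N.mul_mem b.2 (N.inv_mem a.2), Subgroup.mem_centralizer_iff.2 ?_⟩
      intro w hw
      rw [Set.mem_singleton_iff.1 hw]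
      have h1 : (b : H) * (a : H)⁻¹ = z * b * z⁻¹ * (z * a * z⁻¹)⁻¹ := by
        calc (b : H) * (a : H)⁻¹ = (b : H) * ((a : H)⁻¹ * (z * a * z⁻¹)) * (z * a * z⁻¹)⁻¹ := by group
        _ = z * b * z⁻¹ * (z * a * z⁻¹)⁻¹ := by rw [hab']; group
      conv_rhs => rw [h1]
      group
    rw [h, Subgroup.mem_bot, mul_inv_eq_one] at hmem
    exact Subtype.ext hmem.symm
  obtain ⟨m, hm⟩ := (Finite.injective_iff_surjective.1 hinj) ⟨n, hn⟩
  have hm' : (m : H)⁻¹ * (z * m * z⁻¹) = n := congrArg Subtype.val hm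
  rw [← hm', hzi]
  calc z * ((m : H)⁻¹ * (z * m * z)) * z = z * (m : H)⁻¹ * z * m * (z * z) := by group
  _ = ((m : H)⁻¹ * (z * m * z))⁻¹ := by rw [hz', mul_one, mul_inv_rev, mul_inv_rev, mul_inv_rev, hzi, inv_inv]; group

theorem eq_bot_of_klein_inverting {N : Subgroup H} [N.Normal] {E : Subgroup H} (hE : IsKleinFour ↥E)
    (h : ∀ e ∈ E, e ≠ 1 → N ⊓ Subgroup.centralizer ({e} : Set H) = ⊥) : N = ⊥ := by
  classical
  haveI := hE
  haveI : Fintype ↥E := Fintype.ofFinite _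
  obtain ⟨e, he⟩ : ∃ e : ↥E, e ≠ 1 := by
    have : 1 < Fintype.card ↥E := by rw [← Nat.card_eq_fintype_card, IsKleinFour.card_four]; norm_num
    exact Fintype.exists_ne_of_one_lt_card this 1
  obtain ⟨f, hf, hfe⟩ : ∃ f : ↥E, f ≠ 1 ∧ f ≠ e := by
    by_contra hc
    push Not at hc
    have hsub : (Finset.univ : Finset ↥E) ⊆ {1, e} := fun x _ => by
      simp only [Finset.mem_insert, Finset.mem_singleton]
      tauto
    have := (Finset.card_le_card hsub).trans Finset.card_le_two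
    rw [Finset.card_univ, ← Nat.card_eq_fintype_card, IsKleinFour.card_four] at this
    omega
  have hsq : ∀ x : ↥E, (x : H) ^ 2 = 1 := fun x => by
    rw [pow_two]
    exact congrArg Subtype.val (IsKleinFour.mul_self x)
  have hne : e * f ≠ 1 := fun hc => hfe (mul_left_cancel (hc.trans (IsKleinFour.mul_self e).symm))
  have inv : ∀ x : ↥E, x ≠ 1 → ∀ n ∈ N, (x : H) * n * (x : H)⁻¹ = n⁻¹ := fun x hx n hn =>
    inverts_of_inf_centralizer_eq_bot (hsq x) (h x x.2 (by simpa using hx)) hn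
  rw [eq_bot_iff]
  intro n hn
  have hfix : (↑(e * f) : H) * n * (↑(e * f) : H)⁻¹ = n := by
    calc (↑(e * f) : H) * n * (↑(e * f) : H)⁻¹ = (e : H) * ((f : H) * n * (f : H)⁻¹) * (e : H)⁻¹ := by
          rw [Subgroup.coe_mul]; group
    _ = n := by rw [inv f hf n hn, inv e he _ (N.inv_mem hn), inv_inv]
  have : n ∈ N ⊓ Subgroup.centralizer ({(↑(e * f) : H)} : Set H) := by
    refine ⟨hn, Subgroup.mem_centralizer_iff.2 ?_⟩
    intro w hw
    rw [Set.mem_singleton_iff.1 hw]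
    calc (↑(e * f) : H) * n = (↑(e * f) : H) * n * (↑(e * f) : H)⁻¹ * (↑(e * f) : H) := by group
    _ = n * (↑(e * f) : H) := by rw [hfix]
  rwa [h _ (e * f).2 (fun hc => hne (Subtype.ext hc))] at this

theorem inf_centralizer_eq_bot_of_isConj {N : Subgroup H} [N.Normal] {z e : H} (hc : IsConj z e)
    (h : N ⊓ Subgroup.centralizer ({z} : Set H) = ⊥) :
    N ⊓ Subgroup.centralizer ({e} : Set H) = ⊥ := by
  obtain ⟨c, rfl⟩ := isConj_iff.1 hc
  rw [eq_bot_iff]
  rintro n ⟨hn, hn'⟩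
  have h1 : c⁻¹ * n * c ∈ N ⊓ Subgroup.centralizer ({z} : Set H) := by
    refine ⟨by simpa using ‹N.Normal›.conj_mem n hn c⁻¹, Subgroup.mem_centralizer_iff.2 ?_⟩
    intro w hw
    rw [Set.mem_singleton_iff.1 hw]
    have h2 : c * z * c⁻¹ * n = n * (c * z * c⁻¹) := Subgroup.mem_centralizer_iff.1 hn' _ rfl
    calc z * (c⁻¹ * n * c) = c⁻¹ * (c * z * c⁻¹ * n) * c := by group
    _ = c⁻¹ * n * c * z := by rw [h2]; group
  rw [h, Subgroup.mem_bot] at h1
  rw [Subgroup.mem_bot]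
  calc n = c * (c⁻¹ * n * c) * c⁻¹ := by group
  _ = 1 := by rw [h1]; group

end CfsgLib.Techniques
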