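import Cfsg.Agent.Lib.Techniques.Minimal

/-!
Invariance of the local hypotheses under isomorphism.
-/

set_option autoImplicit false
set_option linter.unusedSectionVars false

namespace CfsgLib.Techniques

open Cfsg Subgroup

universe u

variable {G X : Type u} [Group G] [Group X] {p : ℕ}

theorem map_centralizer_mulEquiv (e : G ≃* X) (A : Subgroup G) :
    (centralizer (A : Set G)).map e.toMonoidHom = centralizer (A.map e.toMonoidHom : Set X) := by
  ext y
  obtain ⟨x, rfl⟩ := e.surjective y
  simp only [Subgroup.mem_map_equiv, e.symm_apply_apply, mem_centralizer_iff]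
  constructor
  · rintro h _ ⟨a, ha, rfl⟩
    simp only [MulEquiv.coe_toMonoidHom, ← map_mul, h a ha]
  · intro h a ha
    apply e.injective
    simpa using h (e a) ⟨a, ha, rfl⟩

theorem constrained_congr (e : G ≃* X) (h : Constrained p X) : Constrained p G := by
  have h1 : (centralizer ((pCore p G : Subgroup G) : Set G)).map e.toMonoidHom ≤
      (pCore p G).map e.toMonoidHom := by
    rw [map_centralizer_mulEquiv, CfsgLib.Base.map_pCore_mulEquiv]
    exact h
  exact (Subgroup.map_le_map_iff_of_injective e.injective).1 h1

variable [Finite G] [Finite X] [Fact p.Prime]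

theorem map_inducedFunctor_normal_iff {W : ∀ (Q : Type u) [Group Q], Subgroup Q}
    (hW : IsCharPFunctor.{u} p W) (e : G ≃* X) {T : Subgroup G} (hT : IsPGroup p T) :
    (inducedFunctor W (T.map e.toMonoidHom)).Normal ↔ (inducedFunctor W T).Normal := by
  rw [inducedFunctor_map_of_injective hW hT e.injective, CfsgLib.Base.normal_map_mulEquiv_iff]

theorem normalizer_map_mulEquiv (e : G ≃* X) (A : Subgroup G) :
    (normalizer (A : Set G)).map e.toMonoidHom = normalizer (A.map e.toMonoidHom : Set X) :=
  Subgroup.map_equiv_normalizer_eq A e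

theorem exists_map_sylow_eq (e : G ≃* X) (T : Sylow p X) :
    ∃ T' : Sylow p G, (T' : Subgroup G).map e.toMonoidHom = (T : Subgroup X) := by
  have hs : Function.Surjective e.symm.toMonoidHom := e.symm.surjective
  refine ⟨T.mapSurjective hs, ?_⟩
  rw [Sylow.coe_mapSurjective, Subgroup.map_map]
  convert Subgroup.map_id (T : Subgroup X)
  ext x
  simp

end CfsgLib.Techniques
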