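import Mathlib
import Cfsg.Prelude.Def_LocalEven
import Cfsg.Prelude.Def_PLocal

/-!
Chief factors inside `p`-groups and iterated commutators with an element.
-/

set_option autoImplicit false
set_option linter.unusedSectionVars false

namespace CfsgLib.Techniques

open Cfsg Subgroup fwdDiff
open scoped commutatorElement

variable {G : Type*} [Group G]

theorem iterCommutator_mono {N N' H H' : Subgroup G} (hN : N ≤ N') (hH : H ≤ H') :
    ∀ n, iterCommutator N H n ≤ iterCommutator N' H' n
  | 0 => hN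
  | n + 1 => commutator_mono (iterCommutator_mono hN hH n) hH

theorem iterCommutator_le {N H : Subgroup G} [N.Normal] : ∀ n, iterCommutator N H n ≤ N
  | 0 => le_rfl
  | n + 1 => (commutator_mono (iterCommutator_le n) le_rfl).trans (commutator_le_left N H)

theorem iterCommutator_succ_le {N H : Subgroup G} [N.Normal] :
    ∀ n, iterCommutator N H (n + 1) ≤ N :=
  fun n => iterCommutator_le (n + 1)

theorem iterCommutator_antitone_le {N H V : Subgroup G} [V.Normal] {m n : ℕ} (hmn : m ≤ n)
    (h : iterCommutator N H m ≤ V) : iterCommutator N H n ≤ V := by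
  induction hmn with
  | refl => exact h
  | step _ ih => exact (commutator_mono ih le_rfl).trans (commutator_le_left V H)

variable [Finite G] {p : ℕ} [Fact p.Prime] {U V : Subgroup G}

/-- A chief factor whose top is a `p`-group is elementary abelian. -/
theorem chiefFactor_pGroup (h : IsChiefFactor U V) (hU : IsPGroup p U) :
    ⁅U, U⁆ ≤ V ∧ ∀ x ∈ U, x ^ p ∈ V := by
  obtain ⟨hlt, hUn, hVn, hmin⟩ := h
  haveI := hUn
  haveI := hVn
  have hnt : Nontrivial (U.map (QuotientGroup.mk' V)) := by
    rw [Subgroup.nontrivial_iff_ne_bot, Ne, Subgroup.map_eq_bot_iff, QuotientGroup.ker_mk']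
    exact hlt.not_ge
  set Ub := U.map (QuotientGroup.mk' V) with hUb
  haveI : Ub.Normal := hUn.map _ (QuotientGroup.mk'_surjective V)
  have hUbp : IsPGroup p Ub := hU.map _
  have key : ∀ M : Subgroup (G ⧸ V), M.Normal → M ≤ Ub → M = ⊥ ∨ M = Ub := by
    intro M hM hle
    have h1 : M.comap (QuotientGroup.mk' V) ≤ U := by
      refine (Subgroup.comap_mono hle).trans ?_
      rw [hUb, Subgroup.comap_map_eq, QuotientGroup.ker_mk', sup_eq_left.2 hlt.le]
    rcases hmin (M.comap (QuotientGroup.mk' V)) (hM.comap _)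
      (fun v hv => by
        rw [Subgroup.mem_comap, QuotientGroup.mk'_apply, (QuotientGroup.eq_one_iff v).2 hv]
        exact M.one_mem) h1 with h2 | h2
    · left
      rw [← Subgroup.map_comap_eq_self_of_surjective (QuotientGroup.mk'_surjective V) M, h2,
        QuotientGroup.map_mk'_self]
    · right
      rw [← Subgroup.map_comap_eq_self_of_surjective (QuotientGroup.mk'_surjective V) M, h2]
  have hnil : Group.IsNilpotent Ub := hUbp.isNilpotent
  have hcomm : ⁅Ub, Ub⁆ = ⊥ := by
    rcases key ⁅Ub, Ub⁆ (Subgroup.commutator_normal _ _) (Subgroup.commutator_le_self _) with h1 | h1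
    · exact h1
    · exfalso
      haveI := hnil
      haveI := hnt
      have h2 : (commutator Ub).map Ub.subtype = (⊤ : Subgroup Ub).map Ub.subtype := by
        rw [map_subtype_commutator, h1, ← MonoidHom.range_eq_map, Subgroup.range_subtype]
      exact (IsSolvable.commutator_lt_top_of_nontrivial Ub).ne
        (Subgroup.map_injective Ub.subtype_injective h2)
  refine ⟨?_, ?_⟩
  · rw [← QuotientGroup.ker_mk' V, ← Subgroup.map_eq_bot_iff, Subgroup.map_commutator]
    exact hcomm
  have hab : ∀ a ∈ Ub, ∀ b ∈ Ub, a * b = b * a := fun a ha b hb =>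
    commutatorElement_eq_one_iff_mul_comm.1 (by
      have := commutator_mem_commutator ha hb
      rwa [hcomm, Subgroup.mem_bot] at this)
  let M : Subgroup (G ⧸ V) :=
    { carrier := {y | ∃ x ∈ Ub, y = x ^ p}
      one_mem' := ⟨1, one_mem _, (one_pow p).symm⟩
      mul_mem' := by
        rintro _ _ ⟨a, ha, rfl⟩ ⟨b, hb, rfl⟩
        exact ⟨a * b, mul_mem ha hb, ((show Commute a b from hab a ha b hb).mul_pow p).symm⟩
      inv_mem' := by
        rintro _ ⟨a, ha, rfl⟩
        exact ⟨a⁻¹, inv_mem ha, (inv_pow a p).symm⟩ }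
  have hMle : M ≤ Ub := by
    rintro _ ⟨x, hx, rfl⟩
    exact pow_mem hx p
  haveI hMn : M.Normal := ⟨by
    rintro _ ⟨x, hx, rfl⟩ g
    exact ⟨g * x * g⁻¹, Subgroup.Normal.conj_mem ‹Ub.Normal› x hx g, conj_pow.symm⟩⟩
  intro x hx
  rcases key M hMn hMle with h1 | h1
  · have h2 : (QuotientGroup.mk' V x) ^ p ∈ M := ⟨_, ⟨x, hx, rfl⟩, rfl⟩
    rw [h1, Subgroup.mem_bot, ← map_pow] at h2
    exact (QuotientGroup.eq_one_iff _).1 h2
  · -- the `p`-th power map cannot be onto
    exfalso
    let f : Ub → Ub := fun y => ⟨(y : G ⧸ V) ^ p, pow_mem y.2 p⟩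
    have hsurj : Function.Surjective f := fun y => by
      obtain ⟨z, hz, e⟩ := h1.ge y.2
      exact ⟨⟨z, hz⟩, Subtype.ext e.symm⟩
    have hinj : Function.Injective f := Finite.injective_iff_surjective.2 hsurj
    haveI := hnt
    obtain ⟨k, hk, hcard⟩ := hUbp.exists_card_eq.elim fun k hk => (⟨k, (Nat.pos_of_ne_zero fun h0 => by
        rw [h0, pow_zero] at hk
        exact absurd hk (Finite.one_lt_card (α := Ub)).ne'), hk⟩ : ∃ k, 0 < k ∧ Nat.card Ub = p ^ k)
    obtain ⟨y, hy⟩ := exists_prime_orderOf_dvd_card' (G := Ub) p (hcard ▸ dvd_pow_self p hk.ne')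
    have : f y = f 1 := by
      refine Subtype.ext ?_
      show (y : G ⧸ V) ^ p = ((1 : Ub) : G ⧸ V) ^ p
      rw [← Subgroup.coe_pow, ← hy, pow_orderOf_eq_one]
      simp
    rw [hinj this, orderOf_one] at hy
    exact (Fact.out : p.Prime).ne_one hy.symm

theorem choose_pred_smul {A : Type*} [AddCommGroup A] {x : A} (hx : (p : ℕ) • x = 0) {k : ℕ}
    (hk : k ≤ p - 1) : ((-1 : ℤ) ^ (p - 1 - k) * (Nat.choose (p - 1) k : ℤ)) • x = x := by
  have hp : p.Prime := Fact.out
  have h1 : ∀ j ≤ p - 1, ((Nat.choose (p - 1) j : ℤ) : ZMod p) = (-1) ^ j := by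
    intro j hj
    induction j with
    | zero => simp
    | succ j ih =>
      have h2 : (Nat.choose (p - 1) j + Nat.choose (p - 1) (j + 1) : ℕ) = Nat.choose p (j + 1) := by
        conv_rhs => rw [show p = p - 1 + 1 by have := hp.one_le; omega]
        rw [Nat.choose_succ_succ']
      have h3 : ((Nat.choose p (j + 1) : ℕ) : ZMod p) = 0 :=
        (ZMod.natCast_eq_zero_iff _ _).2 (hp.dvd_choose_self (by omega) (by omega))
      rw [← h2] at h3
      have h4 := ih (by omega)
      push_cast at h3 h4 ⊢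
      rw [h4] at h3
      rw [pow_succ]
      linear_combination h3
  have h5 : (((-1 : ℤ) ^ (p - 1 - k) * (Nat.choose (p - 1) k : ℤ) : ℤ) : ZMod p) = ((1 : ℤ) : ZMod p) := by
    have h6 := h1 k hk
    push_cast at h6 ⊢
    rw [h6, ← pow_add, Nat.sub_add_cancel hk]
    exact ZMod.pow_card_sub_one_eq_one (by simp)
  obtain ⟨c, hc⟩ := (ZMod.intCast_eq_intCast_iff_dvd_sub _ _ p).1 h5.symm
  have h7 : (-1 : ℤ) ^ (p - 1 - k) * (Nat.choose (p - 1) k : ℤ) = 1 + c * (p : ℤ) := by
    linear_combination hc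
  rw [h7, add_smul, one_smul, mul_smul, natCast_zsmul, hx, smul_zero, add_zero]

/-- If `[U, u; p-1] ≤ V` then a homomorphism on `U` killing `V` kills `∏_{i<p} z^(u^i)`. -/
theorem sum_conj_eq_zero {A : Type*} [AddCommGroup A] [U.Normal] [V.Normal] {u : G}
    (hexp : ∀ x ∈ U, x ^ p ∈ V)
    (hit : iterCommutator U (zpowers u) (p - 1) ≤ V) {a : G → A}
    (hadd : ∀ x ∈ U, ∀ y ∈ U, a (x * y) = a x + a y) (hV : ∀ v ∈ V, a v = 0) {z : G} (hz : z ∈ U) :
    ∑ i ∈ Finset.range p, a ((u ^ i)⁻¹ * z * u ^ i) = 0 := by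
  set T : ℕ → G → G := fun i w => (u ^ i)⁻¹ * w * u ^ i with hT
  have hTU : ∀ i, ∀ w ∈ U, T i w ∈ U := fun i w hw => by
    have := (inferInstance : U.Normal).conj_mem w hw (u ^ i)⁻¹
    simpa [hT] using this
  let d : G → G := fun w => u⁻¹ * w * u * w⁻¹
  have hdU : ∀ n, d^[n] z ∈ iterCommutator U (zpowers u) n := by
    intro n
    induction n with
    | zero => exact hz
    | succ n ih =>
      rw [Function.iterate_succ_apply']
      show u⁻¹ * d^[n] z * u * (d^[n] z)⁻¹ ∈ _
      have h1 := commutator_mem_commutator (Subgroup.inv_mem _ (mem_zpowers u)) ih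
      rw [commutatorElement_def, inv_inv] at h1
      show _ ∈ ⁅iterCommutator U (zpowers u) n, zpowers u⁆
      rw [Subgroup.commutator_comm]
      exact h1
  have hainv : ∀ x ∈ U, a x⁻¹ = - a x := fun x hx => by
    have h1 := hadd x hx x⁻¹ (inv_mem hx)
    rw [mul_inv_cancel, hV 1 (one_mem V)] at h1
    exact (neg_eq_of_add_eq_zero_right h1.symm).symm
  set g : ℕ → A := fun i => a (T i z) with hg
  have key : ∀ n j, a (T j (d^[n] z)) = ((fwdDiff (1 : ℕ))^[n] g) j := by
    intro n
    induction n with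
    | zero => exact fun j => rfl
    | succ n ih =>
      intro j
      have hm : d^[n] z ∈ U := iterCommutator_le n (hdU n)
      rw [Function.iterate_succ_apply', Function.iterate_succ_apply', fwdDiff, ← ih, ← ih]
      have e : T j (d (d^[n] z)) = T (j + 1) (d^[n] z) * (T j (d^[n] z))⁻¹ := by
        simp only [hT, d, pow_succ', mul_inv_rev]
        group
      rw [e, hadd _ (hTU _ _ hm) _ (inv_mem (hTU _ _ hm)), hainv _ (hTU _ _ hm), sub_eq_add_neg]
  have h0 : a (T 0 (d^[p - 1] z)) = 0 := hV _ (by simpa [hT] using hit (hdU (p - 1)))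
  rw [key, fwdDiff_iter_eq_sum_shift] at h0
  have hp1 : p - 1 + 1 = p := Nat.sub_add_cancel (Fact.out : p.Prime).one_le
  rw [← hp1]
  refine Eq.trans (Finset.sum_congr rfl fun i hi => ?_) h0
  have hxp : (p : ℕ) • g i = 0 := by
    have hmem : T i z ∈ U := hTU i z hz
    have hpw : ∀ m : ℕ, a ((T i z) ^ m) = m • g i := by
      intro m
      induction m with
      | zero => rw [pow_zero, zero_nsmul]; exact hV 1 (one_mem V)
      | succ m ih =>
        rw [pow_succ, hadd _ (pow_mem hmem m) _ hmem, ih, succ_nsmul]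
    rw [← hpw]
    exact hV _ (hexp _ hmem)
  have := choose_pred_smul hxp (k := i) (by simpa using Finset.mem_range_succ_iff.1 hi)
  simpa [hg, hT] using this.symm

end CfsgLib.Techniques
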