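import Mathlib

/-!
Sums over orbits of a `p`-group containing elements acting with "norm zero".
-/

set_option autoImplicit false
set_option linter.unusedSectionVars false

namespace CfsgLib.Techniques

open MulAction

variable {S : Type*} [Group S] [Finite S] {p : ℕ} [Fact p.Prime]
  {Ω : Type*} [Fintype Ω] [MulAction S Ω] {A : Type*} [AddCommGroup A]

open Classical in
/-- If some element of `L ∩ 𝒰` moves a point of an orbit, the sum over that `L`-orbit vanishes. -/
theorem sum_orbit_eq_zero (hS : IsPGroup p S) (f : Ω → A) (act : S → A →+ A)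
    (hequiv : ∀ (s : S) ω, f (s • ω) = act s (f ω)) (𝒰 : Set S)
    (h0 : ∀ u ∈ 𝒰, ∀ a ∈ AddSubgroup.closure (Set.range f),
      ∑ i ∈ Finset.range p, act (u ^ i) a = 0) :
    ∀ (L : Subgroup S) (ω₀ : Ω), (∃ u ∈ 𝒰, u ∈ L ∧ u • ω₀ ≠ ω₀) →
      ∑ ω ∈ Finset.univ.filter (fun ω => ω ∈ orbit L ω₀), f ω = 0 := by
  intro L
  induction hd : Nat.card L using Nat.strong_induction_on generalizing L with
  | _ d ih =>
    rintro ω₀ ⟨u, hu, huL, humove⟩
    -- a maximal subgroup containing the stabiliser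
    set St : Subgroup L := stabilizer L ω₀ with hSt
    have hne : St ≠ ⊤ := fun h => humove (by
      have : (⟨u, huL⟩ : L) ∈ St := h ▸ Subgroup.mem_top _
      exact this)
    obtain ⟨M, hM, hStM⟩ : ∃ M : Subgroup L, IsCoatom M ∧ St ≤ M :=
      (eq_top_or_exists_le_coatom St).resolve_left hne
    have hLp : IsPGroup p L := hS.to_subgroup L
    haveI hnil : Group.IsNilpotent L := hLp.isNilpotent
    haveI hMn : M.Normal :=
      Subgroup.NormalizerCondition.normal_of_coatom M Group.normalizerCondition_of_isNilpotent hM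
    have hidx : Nat.card (L ⧸ M) = p := by
      have hq : IsPGroup p (L ⧸ M) := hLp.to_quotient M
      haveI : IsSimpleGroup (L ⧸ M) := by
        haveI : Nontrivial (L ⧸ M) := QuotientGroup.nontrivial_iff.2 hM.1
        refine ⟨fun H hH => ?_⟩
        rcases eq_or_lt_of_le (bot_le : ⊥ ≤ H) with h | h
        · exact Or.inl h.symm
        · right
          have h1 : M < H.comap (QuotientGroup.mk' M) := by
            have := (Subgroup.comap_lt_comap_of_surjective (QuotientGroup.mk'_surjective M)).2 h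
            rwa [MonoidHom.comap_bot, QuotientGroup.ker_mk'] at this
          rw [← Subgroup.map_comap_eq_self_of_surjective (QuotientGroup.mk'_surjective M) H,
            hM.2 _ h1, Subgroup.map_top_of_surjective _ (QuotientGroup.mk'_surjective M)]
      obtain ⟨k, hk⟩ := hq.exists_card_eq
      have hnil' : Group.IsNilpotent (L ⧸ M) := hq.isNilpotent
      haveI : IsMulCommutative (L ⧸ M) := by
        rcases (Subgroup.Normal.eq_bot_or_eq_top (H := Subgroup.center (L ⧸ M)) inferInstance) with h | h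
        · exact absurd h ((Subgroup.nontrivial_iff_ne_bot _).1 hq.center_nontrivial)
        · exact ⟨⟨fun a b => (Subgroup.mem_center_iff.1 (h ▸ Subgroup.mem_top b) a)⟩⟩
      letI : CommGroup (L ⧸ M) := { (inferInstance : Group (L ⧸ M)) with mul_comm := fun a b => mul_comm' a b }
      have hprime : (Nat.card (L ⧸ M)).Prime := IsSimpleGroup.prime_card
      rw [hk] at hprime ⊢
      rcases k with _ | _ | k
      · exact absurd hprime (by simpa using Nat.not_prime_one)
      · exact pow_one p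
      · exact absurd hprime (Nat.Prime.not_prime_pow (by omega))
    -- choose the element spanning the quotient, inside `𝒰` when possible
    obtain ⟨u₀, hu₀, hcase⟩ : ∃ u₀ : L, u₀ ∉ M ∧
        ((u₀ : S) ∈ 𝒰 ∨ ∀ v ∈ 𝒰, ∀ hv : v ∈ L, (⟨v, hv⟩ : L) ∈ M) := by
      by_cases hex : ∃ v ∈ 𝒰, ∃ hv : v ∈ L, (⟨v, hv⟩ : L) ∉ M
      · obtain ⟨v, hv𝒰, hvL, hvM⟩ := hex
        exact ⟨⟨v, hvL⟩, hvM, Or.inl hv𝒰⟩
      · push Not at hex
        obtain ⟨v, hv⟩ : ∃ v : L, v ∉ M := by
          by_contra hcon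
          push Not at hcon
          exact hM.1 ((Subgroup.eq_top_iff' M).2 hcon)
        exact ⟨v, hv, Or.inr hex⟩
    have hord : orderOf (QuotientGroup.mk' M u₀) = p := by
      haveI : Fact p.Prime := inferInstance
      refine orderOf_eq_prime ?_ ?_
      · rw [← hidx]; exact pow_card_eq_one'
      · rw [QuotientGroup.mk'_apply, Ne, QuotientGroup.eq_one_iff]; exact hu₀
    set L1 : Subgroup S := M.map L.subtype with hL1
    set O1 := Finset.univ.filter (fun ω => ω ∈ orbit L1 ω₀) with hO1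
    have hdecomp : Finset.univ.filter (fun ω => ω ∈ orbit L ω₀) =
        ((Finset.range p) ×ˢ O1).image (fun x => ((u₀ : S) ^ x.1) • x.2) := by
      ext ω
      simp only [Finset.mem_filter, Finset.mem_univ, true_and, Finset.mem_image, Finset.mem_product,
        Finset.mem_range, hO1, Prod.exists]
      constructor
      · rintro ⟨l, rfl⟩
        have hl : QuotientGroup.mk' M l ∈ Subgroup.zpowers (QuotientGroup.mk' M u₀) := by
          rw [Subgroup.eq_top_of_card_eq (Subgroup.zpowers (QuotientGroup.mk' M u₀))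
            (by rw [Nat.card_zpowers, hord, hidx])]
          exact Subgroup.mem_top _
        rw [← (isOfFinOrder_of_finite _).mem_powers_iff_mem_zpowers] at hl
        obtain ⟨i, hi⟩ := hl
        have hmem : (u₀ ^ (i % p))⁻¹ * l ∈ M := by
          apply (QuotientGroup.eq_one_iff _).1
          show QuotientGroup.mk' M ((u₀ ^ (i % p))⁻¹ * l) = 1
          rw [map_mul, map_inv, map_pow]
          nth_rw 1 [← hord]
          rw [pow_mod_orderOf, inv_mul_eq_one]
          exact hi
        refine ⟨i % p, (((u₀ ^ (i % p))⁻¹ * l : L) : S) • ω₀,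
          ⟨Nat.mod_lt _ (Fact.out : p.Prime).pos,
            ⟨⟨L.subtype ((u₀ ^ (i % p))⁻¹ * l), Subgroup.mem_map_of_mem _ hmem⟩, rfl⟩⟩, ?_⟩
        · rw [← mul_smul]
          simp [Subgroup.smul_def]
      · rintro ⟨i, x, ⟨-, ⟨⟨_, m, hm, rfl⟩, rfl⟩⟩, rfl⟩
        exact ⟨u₀ ^ i * m, by simp [Subgroup.smul_def, mul_smul]⟩
    have hinj : Set.InjOn (fun x : ℕ × Ω => ((u₀ : S) ^ x.1) • x.2)
        (((Finset.range p) ×ˢ O1 : Finset (ℕ × Ω)) : Set (ℕ × Ω)) := by
      rintro ⟨i, x⟩ hx ⟨j, y⟩ hy hxy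
      simp only [Finset.coe_product, Set.mem_prod, Finset.mem_coe, Finset.mem_range, hO1,
        Finset.mem_filter, Finset.mem_univ, true_and] at hx hy
      obtain ⟨hi, ⟨⟨_, m, hm, rfl⟩, rfl⟩⟩ := hx
      obtain ⟨hj, ⟨⟨_, n, hn, rfl⟩, rfl⟩⟩ := hy
      have hstab : (u₀ ^ j * n)⁻¹ * (u₀ ^ i * m) ∈ St := by
        rw [hSt, MulAction.mem_stabilizer_iff, mul_smul, inv_smul_eq_iff]
        simpa [Subgroup.smul_def, mul_smul] using hxy
      have hq : QuotientGroup.mk' M u₀ ^ i = QuotientGroup.mk' M u₀ ^ j := by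
        have h1 : QuotientGroup.mk' M ((u₀ ^ j * n)⁻¹ * (u₀ ^ i * m)) = 1 :=
          (QuotientGroup.eq_one_iff _).2 (hStM hstab)
        have hn1 : QuotientGroup.mk' M n = 1 := (QuotientGroup.eq_one_iff _).2 hn
        have hm1 : QuotientGroup.mk' M m = 1 := (QuotientGroup.eq_one_iff _).2 hm
        rw [map_mul, map_inv, map_mul, map_mul, hn1, hm1, mul_one, mul_one, map_pow, map_pow,
          inv_mul_eq_one] at h1
        exact h1.symm
      have hij : i = j := pow_injOn_Iio_orderOf (by rwa [hord]) (by rwa [hord]) hq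
      subst hij
      simp only [smul_left_cancel_iff] at hxy
      exact Prod.ext rfl hxy
    rw [hdecomp, Finset.sum_image hinj, Finset.sum_product]
    simp only [hequiv, ← map_sum]
    rcases hcase with hmem | hall
    · refine h0 _ hmem _ (AddSubgroup.sum_mem _ fun x _ => AddSubgroup.subset_closure ⟨x, rfl⟩)
    · have hzero : ∑ x ∈ O1, f x = 0 := by
        refine ih _ ?_ L1 rfl ω₀ ⟨u, hu, ⟨⟨u, huL⟩, hall u hu huL, rfl⟩, humove⟩
        rw [← hd]
        have hlt : L1 < L := by
          refine lt_of_le_of_ne (Subgroup.map_subtype_le M) fun he => hM.1 ?_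
          refine Subgroup.map_injective L.subtype_injective ?_
          rw [← MonoidHom.range_eq_map, Subgroup.range_subtype]
          exact he
        exact (Subgroup.card_le_of_le hlt.le).lt_of_ne fun he =>
          hlt.ne (Subgroup.eq_of_le_of_card_ge hlt.le he.ge)
      exact Finset.sum_eq_zero fun i _ => by rw [hzero, map_zero]

open Classical in
/-- The sum over all points reduces to the points fixed by every member of `𝒰` in every translate. -/
theorem sum_eq_sum_fixed (hS : IsPGroup p S) (f : Ω → A) (act : S → A →+ A)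
    (hequiv : ∀ (s : S) ω, f (s • ω) = act s (f ω)) (𝒰 : Set S)
    (h0 : ∀ u ∈ 𝒰, ∀ a ∈ AddSubgroup.closure (Set.range f),
      ∑ i ∈ Finset.range p, act (u ^ i) a = 0) :
    ∑ ω, f ω = ∑ ω ∈ Finset.univ.filter (fun ω => ∀ u ∈ 𝒰, ∀ s : S, u • (s • ω) = s • ω), f ω := by
  rw [← Finset.sum_filter_add_sum_filter_not Finset.univ
    (fun ω => ∀ u ∈ 𝒰, ∀ s : S, u • (s • ω) = s • ω) f, add_eq_left]
  suffices h : ∀ B : Finset Ω, (∀ ω ∈ B, ∀ s : S, s • ω ∈ B) →
      (∀ ω ∈ B, ∃ u ∈ 𝒰, ∃ s : S, u • (s • ω) ≠ s • ω) → ∑ ω ∈ B, f ω = 0 by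
    refine h _ (fun ω hω s => ?_) fun ω hω => ?_
    · simp only [Finset.mem_filter, Finset.mem_univ, true_and] at hω ⊢
      push Not at hω ⊢
      obtain ⟨u, hu, t, ht⟩ := hω
      exact ⟨u, hu, t * s⁻¹, by simpa [mul_smul] using ht⟩
    · simp only [Finset.mem_filter, Finset.mem_univ, true_and] at hω
      push Not at hω
      exact hω
  intro B
  induction B using Finset.strongInduction with
  | _ B ih =>
    intro hB hmove
    rcases B.eq_empty_or_nonempty with rfl | ⟨ω, hω⟩
    · simp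
    obtain ⟨u, hu, s, hs⟩ := hmove ω hω
    set O := Finset.univ.filter (fun x => x ∈ orbit (⊤ : Subgroup S) (s • ω)) with hO
    have hOB : O ⊆ B := by
      intro x hx
      obtain ⟨t, rfl⟩ := (Finset.mem_filter.1 hx).2
      exact hB _ (hB _ hω s) t
    have hOne : O.Nonempty := ⟨s • ω, by simp [hO]⟩
    rw [← Finset.sum_sdiff hOB, sum_orbit_eq_zero hS f act hequiv 𝒰 h0 ⊤ (s • ω)
      ⟨u, hu, Subgroup.mem_top u, hs⟩, add_zero]
    refine ih _ (Finset.sdiff_ssubset hOB hOne) (fun x hx t => ?_) fun x hx => hmove x (Finset.mem_sdiff.1 hx).1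
    obtain ⟨hxB, hxO⟩ := Finset.mem_sdiff.1 hx
    refine Finset.mem_sdiff.2 ⟨hB x hxB t, fun htO => hxO ?_⟩
    simp only [hO, Finset.mem_filter, Finset.mem_univ, true_and] at htO ⊢
    obtain ⟨r, hr⟩ := htO
    refine ⟨⟨t⁻¹ * (r : S), Subgroup.mem_top _⟩, ?_⟩
    show (t⁻¹ * (r : S)) • (s • ω) = x
    rw [mul_smul, show (r : S) • (s • ω) = t • x from hr, inv_smul_smul]

end CfsgLib.Techniques
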