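import Cfsg.Agent.Lib.Techniques.Invariance
import Cfsg.Agent.Lib.Techniques.ChiefFactor
import Cfsg.Agent.Lib.Techniques.OrbitSum

/-!
The structure of a minimal failure of control of transfer (Glauberman).
-/

set_option autoImplicit false
set_option linter.unusedSectionVars false

namespace CfsgLib.Techniques

open Cfsg Subgroup
open scoped commutatorElement

universe u

variable {G : Type u} [Group G] [Finite G] {p : ℕ} [Fact p.Prime]

theorem map_iterCommutator {X : Type*} [Group X] (f : G →* X) (N H : Subgroup G) :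
    ∀ n, (iterCommutator N H n).map f = iterCommutator (N.map f) (H.map f) n
  | 0 => rfl
  | n + 1 => by
    show (⁅iterCommutator N H n, H⁆).map f = ⁅iterCommutator _ _ n, _⁆
    rw [Subgroup.map_commutator, map_iterCommutator f N H n]

theorem exists_chiefFactor_below {U : Subgroup G} [hUn : U.Normal] (hU : U ≠ ⊥) :
    ∃ V : Subgroup G, IsChiefFactor U V := by
  obtain ⟨V, ⟨⟨hVn, hVU⟩, hmax⟩⟩ := Set.Finite.exists_maximal
    (s := {V : Subgroup G | V.Normal ∧ V < U}) (Set.toFinite _) ⟨⊥, inferInstance, bot_lt_iff_ne_bot.2 hU⟩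
  refine ⟨V, hVU, hUn, hVn, fun N hN hVN hNU => ?_⟩
  rcases eq_or_lt_of_le hNU with h | h
  · exact Or.inr h
  · exact Or.inl (le_antisymm (hmax ⟨hN, h⟩ hVN) hVN)

theorem chiefFactor_comap {X : Type*} [Group X] (e : G ≃* X) {U V : Subgroup X}
    (h : IsChiefFactor U V) :
    IsChiefFactor (U.comap e.toMonoidHom) (V.comap e.toMonoidHom) := by
  obtain ⟨hlt, hUn, hVn, hmin⟩ := h
  refine ⟨(Subgroup.comap_lt_comap_of_surjective e.surjective).2 hlt, hUn.comap _, hVn.comap _,
    fun N hN hVN hNU => ?_⟩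
  have h1 := hmin (N.map e.toMonoidHom) (hN.map _ e.surjective)
    ((Subgroup.map_comap_eq_self_of_surjective e.surjective V).ge.trans (Subgroup.map_mono hVN))
    ((Subgroup.map_mono hNU).trans (Subgroup.map_comap_eq_self_of_surjective e.surjective U).le)
  have e1 : (N.map e.toMonoidHom).comap e.toMonoidHom = N :=
    Subgroup.comap_map_eq_self_of_injective e.injective N
  rcases h1 with h | h
  · left; rw [← e1, h]
  · right; rw [← e1, h]

variable {𝓦 : Set (∀ (Q : Type u) [Group Q], Subgroup Q)}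

theorem minimal_failure (h𝓦 : ∀ W ∈ 𝓦, IsCharPFunctor.{u} p W) (hne : 𝓦.Nonempty)
    (hK : ∀ K : Subgroup G, K ≠ ⊤ → FamilyControlsTransferIn p (indFam G 𝓦) K)
    (hQ : ∀ (N : Subgroup G) [N.Normal], N ≠ ⊥ →
      FamilyControlsTransferIn p (indFam (G ⧸ N) 𝓦) ⊤)
    (hG : ¬ FamilyControlsTransferIn p (indFam G 𝓦) ⊤) {S : Subgroup G} (hS : SylIn p S ⊤) :
    Constrained p G ∧
      (normalizer ((transferTarget S (indFam G 𝓦) ⊓ pCore p G : Subgroup G) : Set G) ≠ ⊤ ∧
        ∀ H : Subgroup G, S ≤ H → H ≠ ⊤ →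
          H ≤ normalizer ((transferTarget S (indFam G 𝓦) ⊓ pCore p G : Subgroup G) : Set G)) ∧
      (∀ M : Subgroup G,
        M = normalizer ((transferTarget S (indFam G 𝓦) ⊓ pCore p G : Subgroup G) : Set G) →
        ⁅pCore p G, M⁆ ≤ pCore p G ⊓ ⁅M, M⁆ ∧
          pCore p G ⊓ ⁅M, M⁆ ≤ pCore p G ⊓ transferTarget S (indFam G 𝓦)) ∧
      ∀ u : G, u ∈ S → u ∉ pCore p G → ∃ U V : Subgroup G,
        IsChiefFactor U V ∧ U ≤ pCore p G ∧ ¬ iterCommutator U (zpowers u) (p - 1) ≤ V := by
  classical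
  have hF := isConjugacyFunctor_indFam (G := G) h𝓦
  have hcon : Constrained p G := by
    by_contra hc
    exact hG (familyTransfer_reduce h𝓦 hK hQ fun h => absurd h hc)
  set P := pCore p G with hP
  have hPS : P ≤ S :=
    hS.le_of_normal (CfsgLib.Base.isPGroup_pCore p G) le_top (by rw [normalizer_eq_top])
  obtain ⟨W₀, hW₀⟩ := hne
  set X := transferTarget S (indFam G 𝓦) with hX
  have hXle := transferTarget_le (G := G) S (indFam G 𝓦)
  have hW₀le : ∀ L : Subgroup G, L ≤ normalizer (inducedFunctor W₀ S : Set G) → S ⊓ ⁅L, L⁆ ≤ X :=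
    fun L hL => le_trans (inf_le_inf_left _ (commutator_mono (le_inf le_top hL) (le_inf le_top hL)))
      (le_iSup₂_of_le (inducedFunctor W₀) ⟨W₀, hW₀, rfl⟩ le_rfl)
  have hNS : normalizer (S : Set G) ≤ normalizer (inducedFunctor W₀ S : Set G) :=
    normalizer_le_normalizer_functor (isConjugacyFunctor_induced (h𝓦 W₀ hW₀)) hS.isPGroup
  have hSP : ¬ S ≤ P := by
    intro hle
    refine hG ⟨S, le_top, hS.isPGroup, hS.not_dvd, le_antisymm ?_ hXle⟩
    have htop : (⊤ : Subgroup G) ≤ normalizer (inducedFunctor W₀ S : Set G) := by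
      refine le_trans ?_ hNS
      rw [le_antisymm hle hPS, normalizer_eq_top]
    exact hW₀le ⊤ htop
  have hP0 : P ≠ ⊥ := by
    intro h0
    refine hSP (le_trans ?_ hcon)
    intro x _ y hy
    rw [← hP, h0, SetLike.mem_coe, mem_bot] at hy
    simp [hy]
  have hSX : ⁅S, S⁆ ≤ X := le_trans (le_inf (commutator_le_self S) le_rfl)
    (hW₀le S (le_normalizer.trans hNS))
  have hgoal : ¬ P ⊓ ⁅(⊤ : Subgroup G), (⊤ : Subgroup G)⁆ ≤ X := fun h =>
    hG (familyTransfer_of_pCore_inf h𝓦 hK (hQ P hP0) hS hSP h)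
  have hSne : S ≠ ⊤ := fun h => hSP (CfsgLib.Base.le_pCore (N := (⊤ : Subgroup G))
    (h ▸ hS.isPGroup) |> fun h' => le_top.trans h')
  have hconj : ∀ g : G, ∀ z ∈ P, g⁻¹ * z * g ∈ P := fun g z hz => by
    simpa using (inferInstance : P.Normal).conj_mem z hz g⁻¹
  -- overgroups of `S` normalize `X ⊓ P`
  have hover : ∀ H : Subgroup G, S ≤ H → H ≠ ⊤ → H ≤ normalizer ((X ⊓ P : Subgroup G) : Set G) := by
    intro H hSH hH
    have hle := target_of_ctl hF hS hSH (hK H hH)
    rw [le_normalizer_iff_cj]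
    intro h hh
    refine Subgroup.eq_of_le_of_card_ge ?_ (card_cj h _).ge
    rw [cj_le_iff]
    rintro x ⟨hxX, hxP⟩
    have hxP' : h * x * h⁻¹ ∈ P := (inferInstance : P.Normal).conj_mem x hxP h
    have hc : h * x * h⁻¹ * x⁻¹ ∈ X := hle ⟨S.mul_mem (hPS hxP') (S.inv_mem (hPS hxP)),
      commutator_mem_commutator hh (hSH (hPS hxP))⟩
    have h2 := X.mul_mem hc hxX
    rw [inv_mul_cancel_right] at h2
    exact ⟨h2, hxP'⟩
  set M := normalizer ((X ⊓ P : Subgroup G) : Set G) with hM
  have hSM : S ≤ M := hover S le_rfl hSne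
  have hMne : M ≠ ⊤ := by
    intro htop
    haveI hn : (X ⊓ P).Normal := normalizer_eq_top_iff.1 htop
    let K : Subgroup G :=
      { carrier := {g | ∀ z ∈ P, z⁻¹ * (g⁻¹ * z * g) ∈ X}
        one_mem' := fun z _ => by simp
        mul_mem' := fun {a b} ha hb z hz => by
          have h1 : z⁻¹ * (a⁻¹ * z * a) ∈ X := ha z hz
          have h2 : (a⁻¹ * z * a)⁻¹ * (b⁻¹ * (a⁻¹ * z * a) * b) ∈ X := hb _ (hconj a z hz)
          have h3 := X.mul_mem h1 h2
          simpa [mul_assoc] using h3
        inv_mem' := fun {a} ha z hz => by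
          have hz' : a * z * a⁻¹ ∈ P := (inferInstance : P.Normal).conj_mem z hz a
          have h1 := X.inv_mem (ha _ hz')
          simpa [mul_assoc] using h1 }
    have hSK : S ≤ K := by
      intro s hs z hz
      refine hSX ?_
      have := commutator_mem_commutator (S.inv_mem (hPS hz)) (S.inv_mem hs)
      simpa [commutatorElement_def, mul_assoc] using this
    haveI hKn : K.Normal := ⟨fun k hk g z hz => by
      have hz' : g⁻¹ * z * g ∈ P := hconj g z hz
      have h1 : (g⁻¹ * z * g)⁻¹ * (k⁻¹ * (g⁻¹ * z * g) * k) ∈ X ⊓ P :=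
        ⟨hk _ hz', P.mul_mem (P.inv_mem hz') (hconj k _ hz')⟩
      have h2 := hn.conj_mem _ h1 g
      have e : g * ((g⁻¹ * z * g)⁻¹ * (k⁻¹ * (g⁻¹ * z * g) * k)) * g⁻¹ =
          z⁻¹ * ((g * k * g⁻¹)⁻¹ * z * (g * k * g⁻¹)) := by group
      rw [e] at h2
      exact h2.1⟩
    have hKtop : ∀ g : G, g ∈ K := by
      intro g
      obtain ⟨a, ha, c, hc, rfl⟩ := hS.frattini (N := K) le_top (by rw [normalizer_eq_top]) (mem_top g)
      refine K.mul_mem hc fun z hz => ?_
      have haS : a ∈ normalizer (S : Set G) := by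
        have h1 := ha.2
        rwa [inf_eq_left.2 hSK] at h1
      refine hW₀le (normalizer (S : Set G)) hNS
        ⟨S.mul_mem (S.inv_mem (hPS hz)) (hPS (hconj a z hz)), ?_⟩
      have h1 := commutator_mem_commutator (Subgroup.inv_mem _ (le_normalizer (hPS hz) : z ∈ normalizer (S : Set G)))
        (Subgroup.inv_mem _ haS)
      simpa [commutatorElement_def, mul_assoc] using h1
    refine hgoal fun z hz => ?_
    exact mem_of_conj_eq hS (fun x hx => (hXle hx).1) hSX (hPS hz.1)
      (fun g => ⟨hPS (hconj g z hz.1), hKtop g z hz.1⟩) hz.2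
  have hMX : P ⊓ ⁅M, M⁆ ≤ X :=
    le_trans (inf_le_inf_right _ hPS) (target_of_ctl hF hS hSM (hK M hMne))
  refine ⟨hcon, ⟨hMne, hover⟩, ?_, ?_⟩
  · rintro M' rfl
    refine ⟨le_inf (commutator_le_left P M) (commutator_mono (hPS.trans hSM) le_rfl),
      le_inf inf_le_left hMX⟩
  intro u huS huP
  by_contra hcontra
  push Not at hcontra
  refine hgoal ?_
  suffices h : ∀ U : Subgroup G, U.Normal → U ≤ P →
      U ⊓ ⁅(⊤ : Subgroup G), (⊤ : Subgroup G)⁆ ≤ X from h P inferInstance le_rfl
  intro U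
  induction hd : Nat.card U using Nat.strong_induction_on generalizing U with
  | _ d ih =>
    intro hUn hUP
    haveI := hUn
    rcases eq_or_ne U ⊥ with rfl | hU0
    · simp
    obtain ⟨V, hV⟩ := exists_chiefFactor_below hU0
    haveI : V.Normal := hV.2.2.1
    have hVU : V ≤ U := hV.1.le
    have ihV : V ⊓ ⁅(⊤ : Subgroup G), (⊤ : Subgroup G)⁆ ≤ X :=
      ih _ (hd ▸ card_lt_of_lt hV.1) V rfl inferInstance (hVU.trans hUP)
    obtain ⟨-, hexp⟩ := chiefFactor_pGroup hV ((CfsgLib.Base.isPGroup_pCore p G).to_le hUP)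
    intro z hz
    have hzU : z ∈ U := hz.1
    -- the coefficient group
    set D := X ⊔ V with hD
    have hDS : D ≤ S := sup_le (fun x hx => (hXle hx).1) ((hVU.trans hUP).trans hPS)
    have hcomm : commutator S ≤ D.subgroupOf S := by
      intro x hx
      refine mem_subgroupOf.2 ((le_sup_left : X ≤ D) (hSX ?_))
      rw [← map_subtype_commutator S]
      exact ⟨x, hx, rfl⟩
    haveI : (D.subgroupOf S).Normal := Subgroup.Normal.of_commutator_le S hcomm
    letI : CommGroup (S ⧸ D.subgroupOf S) :=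
      { (inferInstance : Group (S ⧸ D.subgroupOf S)) with
        mul_comm := fun a b => by
          induction a using QuotientGroup.induction_on with
          | _ a =>
            induction b using QuotientGroup.induction_on with
            | _ b =>
              rw [← QuotientGroup.mk_mul, ← QuotientGroup.mk_mul, QuotientGroup.eq]
              refine hcomm ?_
              have := Subgroup.commutator_mem_commutator (H₁ := (⊤ : Subgroup S)) (H₂ := (⊤ : Subgroup S))
                (mem_top b⁻¹) (mem_top a⁻¹)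
              simpa [commutator_def, commutatorElement_def, mul_assoc] using this }
    let φ : S →* S ⧸ D.subgroupOf S := QuotientGroup.mk' _
    let ψ : G → Additive (S ⧸ D.subgroupOf S) :=
      fun w => if hw : w ∈ S then Additive.ofMul (φ ⟨w, hw⟩) else 0
    have hψ : ∀ w (hw : w ∈ S), ψ w = Additive.ofMul (φ ⟨w, hw⟩) := fun w hw => dif_pos hw
    have hψadd : ∀ x ∈ S, ∀ y ∈ S, ψ (x * y) = ψ x + ψ y := fun x hx y hy => by
      rw [hψ x hx, hψ y hy, hψ _ (S.mul_mem hx hy), ← ofMul_mul, ← map_mul]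
      rfl
    have hψD : ∀ x ∈ D, ψ x = 0 := fun x hx => by
      rw [hψ x (hDS hx), ofMul_eq_zero]
      exact (QuotientGroup.eq_one_iff _).2 (mem_subgroupOf.2 hx)
    have hψS : ∀ r ∈ S, ∀ w ∈ S, ψ (r⁻¹ * w * r) = ψ w := fun r hr w hw => by
      have h1 : w⁻¹ * (r⁻¹ * w * r) ∈ D := (le_sup_left : X ≤ D) (hSX (by
        have := commutator_mem_commutator (S.inv_mem hw) (S.inv_mem hr)
        simpa [commutatorElement_def, mul_assoc] using this))
      have h2 : r⁻¹ * w * r ∈ S := S.mul_mem (S.mul_mem (S.inv_mem hr) hw) hr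
      rw [show r⁻¹ * w * r = w * (w⁻¹ * (r⁻¹ * w * r)) by group,
        hψadd _ hw _ (S.mul_mem (S.inv_mem hw) h2), hψD _ h1, add_zero]
    let f : G ⧸ S → (G → Additive (S ⧸ D.subgroupOf S)) :=
      fun q w => if w ∈ U then ψ (q.out⁻¹ * w * q.out) else 0
    let act : S → (G → Additive (S ⧸ D.subgroupOf S)) →+ (G → Additive (S ⧸ D.subgroupOf S)) :=
      fun s => { toFun := fun a w => a ((s : G)⁻¹ * w * s), map_zero' := rfl, map_add' := fun _ _ => rfl }
    have hUS : ∀ w ∈ U, ∀ g : G, g⁻¹ * w * g ∈ S := fun w hw g => hPS (hconj g w (hUP hw))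
    have hUconj : ∀ (g w : G), g⁻¹ * w * g ∈ U ↔ w ∈ U := fun g w => by
      constructor
      · intro h
        simpa [mul_assoc] using hUn.conj_mem _ h g
      · intro h
        simpa using hUn.conj_mem _ h g⁻¹
    have hequiv : ∀ (s : S) (q : G ⧸ S), f (s • q) = act s (f q) := by
      intro s q
      funext w
      show (if w ∈ U then ψ ((s • q).out⁻¹ * w * (s • q).out) else 0) =
        if (s : G)⁻¹ * w * s ∈ U then ψ (q.out⁻¹ * ((s : G)⁻¹ * w * s) * q.out) else 0
      by_cases hw : w ∈ U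
      · rw [if_pos hw, if_pos ((hUconj _ _).2 hw)]
        have hq : (QuotientGroup.mk ((s : G) * q.out) : G ⧸ S) = s • q := by
          conv_rhs => rw [← QuotientGroup.out_eq' q]
          rfl
        obtain ⟨r, hr⟩ := QuotientGroup.mk_out_eq_mul S ((s : G) * q.out)
        rw [hq] at hr
        rw [hr, show ((s : G) * q.out * r)⁻¹ * w * ((s : G) * q.out * r) =
          (r : G)⁻¹ * (q.out⁻¹ * ((s : G)⁻¹ * w * s) * q.out) * r by group]
        exact hψS r r.2 _ (hUS _ ((hUconj _ _).2 hw) q.out)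
      · rw [if_neg hw, if_neg fun h => hw ((hUconj _ _).1 h)]
    let 𝒰 : Set S := {x | ∃ g : G, g * u * g⁻¹ = (x : G)}
    have hit : ∀ x ∈ 𝒰, iterCommutator U (zpowers (x : G)) (p - 1) ≤ V := by
      rintro x ⟨g, hg⟩
      have h1 := Subgroup.map_mono (f := (MulAut.conj g).toMonoidHom) (hcontra U V hV hUP)
      rw [map_iterCommutator, MonoidHom.map_zpowers] at h1
      have e1 : U.map (MulAut.conj g).toMonoidHom = U :=
        mem_normalizer_iff_cj.1 (by rw [normalizer_eq_top]; exact mem_top g)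
      have e2 : V.map (MulAut.conj g).toMonoidHom = V :=
        mem_normalizer_iff_cj.1 (by rw [normalizer_eq_top]; exact mem_top g)
      rw [e1, e2] at h1
      rw [← hg]
      exact h1
    have hclosed : ∀ a ∈ AddSubgroup.closure (Set.range f),
        (∀ x ∈ U, ∀ y ∈ U, a (x * y) = a x + a y) ∧ (∀ v ∈ V, a v = 0) ∧ ∀ w, w ∉ U → a w = 0 := by
      intro a ha
      induction ha using AddSubgroup.closure_induction with
      | mem a ha =>
        obtain ⟨q, rfl⟩ := ha
        refine ⟨fun x hx y hy => ?_, fun v hv => ?_, fun w hw => if_neg hw⟩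
        · show (if x * y ∈ U then _ else _) = (if x ∈ U then _ else _) + (if y ∈ U then _ else _)
          rw [if_pos (mul_mem hx hy), if_pos hx, if_pos hy, ← hψadd _ (hUS x hx _) _ (hUS y hy _)]
          congr 1
          group
        · show (if v ∈ U then _ else _) = _
          rw [if_pos (hVU hv)]
          refine hψD _ ((le_sup_right : V ≤ D) ?_)
          simpa using (inferInstance : V.Normal).conj_mem v hv q.out⁻¹
      | zero => exact ⟨fun _ _ _ _ => by simp, fun _ _ => rfl, fun _ _ => rfl⟩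
      | add a b _ _ iha ihb =>
        exact ⟨fun x hx y hy => by
          simp only [Pi.add_apply, iha.1 x hx y hy, ihb.1 x hx y hy]; abel,
          fun v hv => by simp [iha.2.1 v hv, ihb.2.1 v hv],
          fun w hw => by simp [iha.2.2 w hw, ihb.2.2 w hw]⟩
      | neg a _ iha =>
        exact ⟨fun x hx y hy => by simp only [Pi.neg_apply, iha.1 x hx y hy]; abel,
          fun v hv => by simp [iha.2.1 v hv], fun w hw => by simp [iha.2.2 w hw]⟩
    letI : Fintype (G ⧸ S) := Fintype.ofFinite _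
    have hsum := sum_eq_sum_fixed (S := S) (p := p) hS.isPGroup f act hequiv 𝒰 (fun x hx a ha => by
      obtain ⟨hadd, hV0, hout⟩ := hclosed a ha
      funext w
      simp only [Finset.sum_apply, Pi.zero_apply]
      show ∑ i ∈ Finset.range p, a (((x ^ i : S) : G)⁻¹ * w * ((x ^ i : S) : G)) = 0
      simp only [SubmonoidClass.coe_pow]
      by_cases hw : w ∈ U
      · exact sum_conj_eq_zero hexp (hit x hx) hadd hV0 hw
      · exact Finset.sum_eq_zero fun i _ => hout _ fun h => hw ((hUconj _ _).1 h))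
    -- the fixed cosets lie in `M`
    set Q := closure ((fun x : S => (x : G)) '' 𝒰) with hQdef
    have hQS : Q ≤ S := (closure_le _).2 (by rintro _ ⟨x, -, rfl⟩; exact x.2)
    have huQ : u ∈ Q := subset_closure ⟨⟨u, huS⟩, ⟨1, by simp⟩, rfl⟩
    have hQne : normalizer (Q : Set G) ≠ ⊤ := by
      intro h
      haveI := normalizer_eq_top_iff.1 h
      exact huP (CfsgLib.Base.le_pCore (hS.isPGroup.to_le hQS) huQ)
    have hQconj : ∀ g : G, (∀ x ∈ 𝒰, g * (x : G) * g⁻¹ ∈ S) → g ∈ normalizer (Q : Set G) := by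
      intro g hg
      refine mem_normalizer_iff_cj.2 (Subgroup.eq_of_le_of_card_ge ?_ (card_cj g Q).ge)
      rw [Subgroup.map_le_iff_le_comap, closure_le]
      rintro _ ⟨x, ⟨c, hc⟩, rfl⟩
      exact subset_closure ⟨⟨_, hg x ⟨c, hc⟩⟩, ⟨g * c, by
        show g * c * u * (g * c)⁻¹ = g * (x : G) * g⁻¹
        rw [← hc]; group⟩, rfl⟩
    have hSQ : S ≤ normalizer (Q : Set G) := fun s hs => hQconj s fun x _ =>
      S.mul_mem (S.mul_mem hs x.2) (S.inv_mem hs)
    set F0 := Finset.univ.filter (fun q : G ⧸ S => ∀ x ∈ 𝒰, ∀ s : S, x • (s • q) = s • q) with hF0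
    have hF0M : ∀ q ∈ F0, q.out ∈ M := by
      intro q hq
      have h1 : q.out⁻¹ ∈ normalizer (Q : Set G) := hQconj _ fun x hx => by
        have h2 := (Finset.mem_filter.1 hq).2 x hx 1
        rw [one_smul] at h2
        conv_lhs at h2 => rw [← QuotientGroup.out_eq' q]
        conv_rhs at h2 => rw [← QuotientGroup.out_eq' q]
        have h3 := QuotientGroup.eq.1 h2.symm
        rw [inv_inv]
        simpa [mul_assoc, Subgroup.smul_def] using h3
      exact hover _ hSQ hQne (by simpa using inv_mem h1)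
    have hval : ∀ q ∈ F0, f q z = ψ z := by
      intro q hq
      show (if z ∈ U then _ else _) = _
      rw [if_pos hzU]
      have hzP : z ∈ P := hUP hz.1
      have hqM := hF0M q hq
      have hzM : z ∈ M := hSM (hPS hzP)
      have h1 : z⁻¹ * (q.out⁻¹ * z * q.out) ∈ D := (le_sup_left : X ≤ D) (hMX
        ⟨P.mul_mem (P.inv_mem hzP) (hconj q.out z hzP), by
          have := commutator_mem_commutator (M.inv_mem hzM) (M.inv_mem hqM)
          simpa [commutatorElement_def, mul_assoc] using this⟩)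
      rw [show q.out⁻¹ * z * q.out = z * (z⁻¹ * (q.out⁻¹ * z * q.out)) by group,
        hψadd _ (hPS hzP) _ (hDS h1), hψD _ h1, add_zero]
    -- the transfer of `z` vanishes
    have htr : ∑ q : G ⧸ S, f q z = 0 := by
      have hfix : ∀ q : G ⧸ S, z • q = q := by
        intro q
        conv_rhs => rw [← QuotientGroup.out_eq' q]
        conv_lhs => rw [← QuotientGroup.out_eq' q]
        refine QuotientGroup.eq.2 ?_
        have h1 := S.inv_mem (hUS z hz.1 q.out)
        simpa [mul_assoc] using h1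
      have h1 := transfer_apply_of_fixed φ hfix (fun q => hUS z hz.1 q.out)
      have h3 : MonoidHom.transfer φ z = 1 :=
        Abelianization.commutator_subset_ker (MonoidHom.transfer φ) (by rw [_root_.commutator_def]; exact hz.2)
      rw [h3] at h1
      calc ∑ q : G ⧸ S, f q z
          = ∑ q : G ⧸ S, Additive.ofMul (φ ⟨q.out⁻¹ * z * q.out, hUS z hz.1 q.out⟩) := by
            refine Finset.sum_congr rfl fun q _ => ?_
            show (if z ∈ U then _ else _) = _
            rw [if_pos hzU, hψ]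
        _ = Additive.ofMul (∏ q : G ⧸ S, φ ⟨q.out⁻¹ * z * q.out, hUS z hz.1 q.out⟩) := (ofMul_prod _ _).symm
        _ = 0 := by rw [← h1]; rfl
    have hz0 : (F0.card : ℕ) • ψ z = 0 := by
      have h1 := congrFun hsum z
      rw [Finset.sum_apply, Finset.sum_apply] at h1
      rw [htr] at h1
      rw [← Finset.sum_const, h1]
      exact (Finset.sum_congr rfl hval).symm
    have hcop : ¬ p ∣ F0.card := by
      have h1 := sum_eq_sum_fixed (S := S) (p := p) hS.isPGroup (fun _ : G ⧸ S => (1 : ZMod p))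
        (fun _ => AddMonoidHom.id _) (fun _ _ => rfl) 𝒰 (fun x _ a _ => by simp)
      simp only [Finset.sum_const, nsmul_eq_mul, mul_one, Finset.card_univ] at h1
      intro hd'
      rw [← hF0, (ZMod.natCast_eq_zero_iff F0.card p).2 hd', ZMod.natCast_eq_zero_iff,
        ← Nat.card_eq_fintype_card] at h1
      refine hS.not_dvd ?_
      rw [relIndex_top_right]
      exact h1
    have hzD : z ∈ D := by
      have hzS := hPS (hUP hz.1)
      rw [hψ z hzS, ← ofMul_pow, ofMul_eq_zero] at hz0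
      obtain ⟨k, hk⟩ := IsPGroup.iff_orderOf.1 hS.isPGroup ⟨z, hzS⟩
      have h4 : orderOf (φ ⟨z, hzS⟩) = 1 :=
        Nat.eq_one_of_dvd_coprimes (Nat.Coprime.pow_left k ((Nat.Prime.coprime_iff_not_dvd Fact.out).2 hcop))
          (hk ▸ orderOf_map_dvd φ _) (orderOf_dvd_of_pow_eq_one hz0)
      exact mem_subgroupOf.1 ((QuotientGroup.eq_one_iff _).1 (orderOf_eq_one_iff.1 h4))
    rw [hD, Subgroup.mem_sup_of_normal_right] at hzD
    obtain ⟨x, hx, v, hv, rfl⟩ := hzD
    refine X.mul_mem hx (ihV ⟨hv, ?_⟩)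
    have := Subgroup.mul_mem _ (Subgroup.inv_mem _ (hXle hx).2) hz.2
    simpa using this

end CfsgLib.Techniques
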