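import Cfsg.Agent.Lib.Techniques.Reduction

/-!
Induction over the sections: only the constrained minimal configurations have to be handled.
-/

set_option autoImplicit false
set_option linter.unusedSectionVars false

namespace CfsgLib.Techniques

open Cfsg Subgroup

universe u

variable {p : ℕ} [Fact p.Prime] {𝓦 : Set (∀ (Q : Type u) [Group Q], Subgroup Q)}

/-- The hypothesis left by the reduction for fusion. -/
def FusionStep (p : ℕ) (𝓦 : Set (∀ (Q : Type u) [Group Q], Subgroup Q)) (X : Type u) [Group X] :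
    Prop :=
  (∀ K : Subgroup X, K ≠ ⊤ → FamilyControlsStrongFusionIn p (indFam X 𝓦) K) →
    (∀ (N : Subgroup X) [N.Normal], N ≠ ⊥ →
      FamilyControlsStrongFusionIn p (indFam (X ⧸ N) 𝓦) ⊤) →
    Constrained p X → FamilyControlsStrongFusionIn p (indFam X 𝓦) ⊤

/-- The hypothesis left by the reduction for transfer. -/
def TransferStep (p : ℕ) (𝓦 : Set (∀ (Q : Type u) [Group Q], Subgroup Q)) (X : Type u) [Group X] :
    Prop :=
  (∀ K : Subgroup X, K ≠ ⊤ → FamilyControlsTransferIn p (indFam X 𝓦) K) →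
    (∀ (N : Subgroup X) [N.Normal], N ≠ ⊥ →
      FamilyControlsTransferIn p (indFam (X ⧸ N) 𝓦) ⊤) →
    Constrained p X → FamilyControlsTransferIn p (indFam X 𝓦) ⊤

theorem card_quotient_lt {G : Type u} [Group G] [Finite G] (N : Subgroup G) (h : N ≠ ⊥) :
    Nat.card (G ⧸ N) < Nat.card G := by
  rw [Subgroup.card_eq_card_quotient_mul_card_subgroup N]
  exact lt_mul_of_one_lt_right Nat.card_pos (Subgroup.one_lt_card_iff_ne_bot _ |>.2 h)

theorem card_subgroup_lt {G : Type u} [Group G] [Finite G] (K : Subgroup G) (h : K ≠ ⊤) :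
    Nat.card K < Nat.card G := by
  simpa using card_lt_of_lt (lt_top_iff_ne_top.2 h)

theorem familyFusion_of_sections (h𝓦 : ∀ W ∈ 𝓦, IsCharPFunctor.{u} p W) :
    ∀ (G : Type u) [Group G] [Finite G], SectionsSatisfy G (FusionStep p 𝓦) →
      FamilyControlsStrongFusionIn p (indFam G 𝓦) ⊤ := by
  intro G
  induction hn : Nat.card G using Nat.strong_induction_on generalizing G with
  | _ n ih =>
    intro _ _ h
    have hK : ∀ K : Subgroup G, K ≠ ⊤ → FamilyControlsStrongFusionIn p (indFam G 𝓦) K := fun K hK =>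
      familyFusion_subgroup h𝓦 (ih _ (hn ▸ card_subgroup_lt K hK) K rfl (h.subgroup K))
    have hQ : ∀ (N : Subgroup G) [N.Normal], N ≠ ⊥ →
        FamilyControlsStrongFusionIn p (indFam (G ⧸ N) 𝓦) ⊤ := fun N _ hN =>
      ih _ (hn ▸ card_quotient_lt N hN) (G ⧸ N) rfl (h.quotient N)
    exact familyFusion_reduce h𝓦 hK hQ (h.self hK hQ)

theorem familyTransfer_of_sections (h𝓦 : ∀ W ∈ 𝓦, IsCharPFunctor.{u} p W) :
    ∀ (G : Type u) [Group G] [Finite G], SectionsSatisfy G (TransferStep p 𝓦) →
      FamilyControlsTransferIn p (indFam G 𝓦) ⊤ := by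
  intro G
  induction hn : Nat.card G using Nat.strong_induction_on generalizing G with
  | _ n ih =>
    intro _ _ h
    have hK : ∀ K : Subgroup G, K ≠ ⊤ → FamilyControlsTransferIn p (indFam G 𝓦) K := fun K hK =>
      familyTransfer_subgroup h𝓦 (ih _ (hn ▸ card_subgroup_lt K hK) K rfl (h.subgroup K))
    have hQ : ∀ (N : Subgroup G) [N.Normal], N ≠ ⊥ →
        FamilyControlsTransferIn p (indFam (G ⧸ N) 𝓦) ⊤ := fun N _ hN =>
      ih _ (hn ▸ card_quotient_lt N hN) (G ⧸ N) rfl (h.quotient N)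
    exact familyTransfer_reduce h𝓦 hK hQ (h.self hK hQ)

/-- Normal functor values give control of fusion. -/
theorem familyFusion_of_normal {G : Type u} [Group G] [Finite G]
    {W : ∀ (Q : Type u) [Group Q], Subgroup Q} {S : Subgroup G} (hS : SylIn p S ⊤)
    (hn : (inducedFunctor W S).Normal) :
    FamilyControlsStrongFusionIn p (indFam G {W}) ⊤ := by
  rw [indFam, Set.image_singleton, familyControlsFusion_singleton]
  refine controls_of_fusionAt hS fun A h hh _ _ => ⟨h, ⟨mem_top h, ?_⟩, fun a _ => rfl⟩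
  haveI := hn
  rw [normalizer_eq_top]
  exact mem_top h

theorem controls_family {G : Type u} [Group G] [Finite G] {F : Set (Subgroup G → Subgroup G)}
    {T : Sylow p G} (h : ∀ (A : Set G) (g : G), A ⊆ (T : Subgroup G) → lc g '' A ⊆ (T : Subgroup G) →
      Link (T : Subgroup G) (stepSet F (T : Subgroup G) ⊤) A g) :
    FamilyControlsStrongFusionIn p F ⊤ :=
  ⟨T, le_top, (sylIn_top T).isPGroup, (sylIn_top T).not_dvd,
    fun A g _ hA hgA => link_iff_chain.1 (h A g hA hgA)⟩

end CfsgLib.Techniques
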