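import Cfsg.Agent.Lib.Techniques.SylIn
import Cfsg.Agent.Lib.Techniques.Invariance
import Cfsg.Agent.Lib.Base.Cores
import Cfsg.Prelude.Def_LocalEven

/-!
Isomorphism invariance of the normalizer form of `p`-stability.
-/

set_option autoImplicit false
set_option linter.unusedSectionVars false

namespace CfsgLib.Techniques

open Cfsg Subgroup
open scoped commutatorElement

variable {G : Type*} [Group G] {p : ℕ}

/-- `g` induces on `P` an element of `O_p` of the automiser. -/
def InAutCore (p : ℕ) (P : Subgroup G) (g : G) : Prop :=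
  ∃ L : Subgroup G, g ∈ L ∧ centralizer (P : Set G) ≤ L ∧ L ≤ normalizer (P : Set G) ∧
    normalizer (P : Set G) ≤ normalizer (L : Set G) ∧
    ∀ l ∈ L, ∃ k : ℕ, l ^ p ^ k ∈ centralizer (P : Set G)

theorem mk_mem_pCore_iff [Finite G] {P : Subgroup G} {g : G} (hg : g ∈ normalizer (P : Set G)) :
    (QuotientGroup.mk (s := (centralizer (P : Set G)).subgroupOf (normalizer (P : Set G)))
      (⟨g, hg⟩ : ↥(normalizer (P : Set G)))) ∈
      pCore p (↥(normalizer (P : Set G)) ⧸ (centralizer (P : Set G)).subgroupOf (normalizer (P : Set G))) ↔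
    InAutCore p P g := by
  set N := normalizer (P : Set G) with hN
  set C := centralizer (P : Set G) with hC
  have hCN : C ≤ N := centralizer_le_normalizer _
  set q := QuotientGroup.mk' (C.subgroupOf N) with hq
  constructor
  · intro hmem
    set L' := (pCore p (N ⧸ C.subgroupOf N)).comap q with hL'
    refine ⟨L'.map N.subtype, ⟨⟨g, hg⟩, hmem, rfl⟩, fun c hc => ⟨⟨c, hCN hc⟩, ?_, rfl⟩, map_subtype_le _, ?_, ?_⟩
    · show q ⟨c, hCN hc⟩ ∈ pCore p (N ⧸ C.subgroupOf N)
      rw [hq, QuotientGroup.mk'_apply, (QuotientGroup.eq_one_iff _).2 (mem_subgroupOf.2 hc)]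
      exact one_mem _
    · haveI : L'.Normal := inferInstance
      refine le_trans ?_ (Subgroup.le_normalizer_map N.subtype)
      rw [normalizer_eq_top_iff.2 (inferInstance : L'.Normal), ← MonoidHom.range_eq_map, N.range_subtype]
    · rintro _ ⟨l, hl, rfl⟩
      obtain ⟨k, hk⟩ := CfsgLib.Base.isPGroup_pCore p (N ⧸ C.subgroupOf N) ⟨q l, hl⟩
      refine ⟨k, ?_⟩
      have h2 : q (l ^ p ^ k) = 1 := by
        rw [map_pow]
        exact congrArg Subtype.val hk
      exact mem_subgroupOf.1 ((QuotientGroup.eq_one_iff _).1 h2)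
  · rintro ⟨L, hgL, hCL, hLN, hNL, hpow⟩
    haveI : (L.subgroupOf N).Normal := (normal_subgroupOf_iff_le_normalizer hLN).2 hNL
    haveI : ((L.subgroupOf N).map q).Normal :=
      (inferInstance : (L.subgroupOf N).Normal).map q (QuotientGroup.mk'_surjective _)
    refine CfsgLib.Base.le_pCore (N := (L.subgroupOf N).map q) ?_ ⟨⟨g, hg⟩, mem_subgroupOf.2 hgL, rfl⟩
    rintro ⟨_, l, hl, rfl⟩
    obtain ⟨k, hk⟩ := hpow l (mem_subgroupOf.1 hl)
    refine ⟨k, Subtype.ext ?_⟩
    show q l ^ p ^ k = 1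
    rw [← map_pow]
    exact (QuotientGroup.eq_one_iff _).2 (mem_subgroupOf.2 hk)

theorem mapEquiv_centralizer {X : Type*} [Group X] (e : G ≃* X) (A : Subgroup G) :
    (centralizer (A : Set G)).map e.toMonoidHom = centralizer (A.map e.toMonoidHom : Set X) := by
  ext x
  constructor
  · rintro ⟨c, hc, rfl⟩ _ ⟨a, ha, rfl⟩
    show e a * e c = e c * e a
    rw [← map_mul, ← map_mul, hc a ha]
  · intro hx
    refine ⟨e.symm x, fun a ha => e.injective ?_, e.apply_symm_apply x⟩
    rw [map_mul, map_mul, e.apply_symm_apply]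
    exact hx (e a) ⟨a, ha, rfl⟩

theorem isNormalizerPStable_congr {X : Type*} [Group X] [Finite G] [Finite X] (e : G ≃* X)
    (h : IsNormalizerPStable p G) : IsNormalizerPStable p X := by
  intro P hP g hg hq
  set P' := P.comap e.toMonoidHom with hP'
  have hmap : P'.map e.toMonoidHom = P := Subgroup.map_comap_eq_self_of_surjective e.surjective P
  have hg' : e.symm g ∈ normalizer (P' : Set G) := by
    rw [← hmap, ← Subgroup.map_equiv_normalizer_eq] at hg
    obtain ⟨y, hy, hye⟩ := hg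
    rw [← hye]
    simpa using hy
  have hq' : ⁅⁅P', zpowers (e.symm g)⁆, zpowers (e.symm g)⁆ = ⊥ := by
    refine (Subgroup.map_eq_bot_iff_of_injective _ (f := e.toMonoidHom) e.injective).1 ?_
    rw [Subgroup.map_commutator, Subgroup.map_commutator, hmap, MonoidHom.map_zpowers]
    simpa using hq
  obtain ⟨L, h1, h2, h3, h4, h5⟩ :=
    (mk_mem_pCore_iff hg').1 (h P' (hP.comap_of_injective e.toMonoidHom e.injective) _ hg' hq')
  refine (mk_mem_pCore_iff hg).2 ⟨L.map e.toMonoidHom, ⟨_, h1, e.apply_symm_apply g⟩, ?_, ?_, ?_, ?_⟩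
  · rw [← hmap, ← mapEquiv_centralizer]; exact map_mono h2
  · rw [← hmap, ← Subgroup.map_equiv_normalizer_eq]; exact map_mono h3
  · rw [← hmap, ← Subgroup.map_equiv_normalizer_eq, ← Subgroup.map_equiv_normalizer_eq]; exact map_mono h4
  · rintro _ ⟨l, hl, rfl⟩
    obtain ⟨k, hk⟩ := h5 l hl
    refine ⟨k, ?_⟩
    rw [← hmap, ← mapEquiv_centralizer, ← map_pow]
    exact ⟨_, hk, rfl⟩

end CfsgLib.Techniques
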