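import Cfsg.Agent.Lib.Techniques.FourGammaRankOne
import Cfsg.Agent.Lib.Components.Basic
import Cfsg.Prelude.Def_CaseTheorems

/-!
The main statement: a perfect group acted on by a four-group, no non-trivial element of which
centralises a four-group, has no four-subgroup.
-/

set_option autoImplicit false
set_option linter.style.haveILetI false

namespace CfsgLib.FourGamma

open Subgroup

theorem klein_closure {H : Type*} [Group H] {a b : H} (ha : a * a = 1) (hb : b * b = 1)
    (hab : a * b = b * a) :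
    IsMulCommutative (Subgroup.closure ({a, b} : Set H)) ∧
      ∀ w ∈ Subgroup.closure ({a, b} : Set H), w * w = 1 := by
  set K := Subgroup.closure ({a, b} : Set H)
  have h1 : K ≤ centralizer ({a, b} : Set H) := (closure_le _).2 <| by
    rintro w (rfl | rfl) <;> refine mem_centralizer_iff.2 ?_ <;> rintro v (rfl | rfl)
    exacts [rfl, hab.symm, hab, rfl]
  have h2 : ∀ g ∈ K, ∀ h ∈ K, g * h = h * g := fun g hg h hh => by
    have h3 : K ≤ centralizer ({h} : Set H) := (closure_le _).2 fun w hw =>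
      mem_centralizer_singleton_iff.2 (mem_centralizer_iff.1 (h1 hh) w hw)
    exact mem_centralizer_singleton_iff.1 (h3 hg)
  refine ⟨⟨⟨fun g h => Subtype.ext (h2 g g.2 h h.2)⟩⟩, fun w hw => ?_⟩
  induction hw using Subgroup.closure_induction with
  | mem w hw => rcases hw with rfl | rfl <;> assumption
  | one => exact one_mul 1
  | mul g h hg hh ihg ihh =>
    rw [mul_assoc, ← mul_assoc h, h2 h hh g hg, mul_assoc g h, ihh, mul_one, ihg]
  | inv g hg ihg => rw [← mul_inv_rev, ihg, inv_one]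

theorem not_rankLE_one {H : Type*} [Group H] [Finite H] {a b : H} (ha : a * a = 1) (hb : b * b = 1)
    (ha1 : a ≠ 1) (hb1 : b ≠ 1) (hne : a ≠ b) (hab : a * b = b * a) : ¬ Cfsg.PRankLE 2 1 H := by
  intro h
  classical
  obtain ⟨hc, hsq⟩ := klein_closure ha hb hab
  have h2 := h _ hc (fun w hw => by rw [pow_two]; exact hsq w hw)
  have h3 : 3 ≤ Nat.card (Subgroup.closure ({a, b} : Set H)) := by
    haveI := Fintype.ofFinite (Subgroup.closure ({a, b} : Set H))
    rw [Nat.card_eq_fintype_card, show (3 : ℕ) = ({(1 : Subgroup.closure ({a, b} : Set H)),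
      ⟨a, subset_closure (Or.inl rfl)⟩, ⟨b, subset_closure (Or.inr rfl)⟩} :
        Finset _).card from (Finset.card_eq_three.2 ⟨_, _, _, fun h => ha1 (congrArg Subtype.val h).symm,
          fun h => hb1 (congrArg Subtype.val h).symm, fun h => hne (congrArg Subtype.val h), rfl⟩).symm]
    exact Finset.card_le_univ _
  omega

theorem exists_four {H : Type*} [Group H] [Finite H] (h : ¬ Cfsg.PRankLE 2 1 H) :
    ∃ a b : H, a * a = 1 ∧ b * b = 1 ∧ a ≠ 1 ∧ b ≠ 1 ∧ a ≠ b ∧ a * b = b * a := by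
  simp only [Cfsg.PRankLE, not_forall, not_le] at h
  obtain ⟨E, hc, hsq, hcard⟩ := h
  haveI := Fintype.ofFinite E
  rw [Nat.card_eq_fintype_card] at hcard
  obtain ⟨a, b, c, hab, hac, hbc⟩ := Fintype.two_lt_card_iff.1 (by simpa using hcard)
  have hs : ∀ w : E, (w : H) * w = 1 := fun w => by rw [← pow_two]; exact hsq w w.2
  have hcm : ∀ v w : E, (v : H) * w = w * v := fun v w => congrArg Subtype.val (hc.is_comm.comm v w)
  by_cases ha : a = 1
  · exact ⟨b, c, hs b, hs c, fun h => hab (ha.trans (Subtype.ext h).symm),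
      fun h => hac (ha.trans (Subtype.ext h).symm), fun h => hbc (Subtype.ext h), hcm b c⟩
  by_cases hb : b = 1
  · exact ⟨a, c, hs a, hs c, fun h => ha (Subtype.ext h), fun h => hbc (hb.trans (Subtype.ext h).symm),
      fun h => hac (Subtype.ext h), hcm a c⟩
  exact ⟨a, b, hs a, hs b, fun h => ha (Subtype.ext h), fun h => hb (Subtype.ext h),
    fun h => hab (Subtype.ext h), hcm a b⟩

theorem quaternion_sq_eq_one {m : ℕ} [NeZero m] {g : QuaternionGroup m} (h : g * g = 1) :
    g = 1 ∨ g = QuaternionGroup.a (m : ZMod (2 * m)) := by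
  rcases g with i | i
  · rw [QuaternionGroup.a_mul_a, QuaternionGroup.one_def, QuaternionGroup.a.injEq] at h
    rcases (ZMod.neg_eq_self_iff i).1 (neg_eq_of_add_eq_zero_left h) with h' | h'
    · left; rw [h', QuaternionGroup.one_def]
    · right
      have : i.val = m := by omega
      rw [← ZMod.natCast_zmod_val i, this]
  · exfalso
    have h4 := QuaternionGroup.orderOf_xa i
    have := orderOf_dvd_of_pow_eq_one (x := QuaternionGroup.xa i) (n := 2) (by rw [pow_two]; exact h)
    rw [h4] at this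
    exact absurd (Nat.le_of_dvd two_pos this) (by norm_num)

variable {A : Type*} [Group A] [Finite A]

/-- A group of maximal class with a four-subgroup is dihedral or semidihedral. -/
theorem exists_shape (T : Subgroup A) {n : ℕ} (hn : 3 ≤ n) (hT : Nat.card T = 2 ^ n)
    (hcl : Group.nilpotencyClass T = n - 1) {a b : A} (haT : a ∈ T) (hbT : b ∈ T) (ha : a * a = 1)
    (hb : b * b = 1) (ha1 : a ≠ 1) (hb1 : b ≠ 1) (hne : a ≠ b) :
    ∃ (x t : A) (k : ℕ) (e : ℤ), Shape T x t k e := by
  rcases CfsgLib.PGroups.maximalClass_two_classification hn hT hcl with ⟨k, ⟨φ⟩⟩ | ⟨k, hk, x, t, hx, ht, htc⟩ | ⟨k, ⟨φ⟩⟩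
  · haveI : NeZero (2 ^ (k + 2)) := ⟨pow_ne_zero _ two_ne_zero⟩
    refine ⟨φ.symm (.r 1), φ.symm (.sr 0), k, -1, ?_, ?_, ?_, SetLike.coe_mem _, SetLike.coe_mem _, ?_, ?_, Or.inl rfl⟩
    · rw [Subgroup.orderOf_coe, MulEquiv.orderOf_eq, DihedralGroup.orderOf_r_one]
    · rw [← Subgroup.coe_mul, ← map_mul, DihedralGroup.sr_mul_sr, sub_self, ← DihedralGroup.one_def,
        map_one, OneMemClass.coe_one]
    · rw [mem_zpowers_iff]
      rintro ⟨i, hi⟩
      rw [← Subgroup.coe_zpow, ← map_zpow, DihedralGroup.r_one_zpow] at hi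
      cases φ.symm.injective (Subtype.ext hi)
    · intro g hg
      rcases hcase : φ ⟨g, hg⟩ with i | i
      · refine ⟨(i.cast : ℤ), Or.inl ?_⟩
        rw [← Subgroup.coe_zpow, ← map_zpow, DihedralGroup.r_one_zpow, ZMod.intCast_zmod_cast, ← hcase,
          MulEquiv.symm_apply_apply]
      · refine ⟨((-i).cast : ℤ), Or.inr ?_⟩
        rw [← Subgroup.coe_zpow, ← map_zpow, DihedralGroup.r_one_zpow, ZMod.intCast_zmod_cast,
          ← Subgroup.coe_mul, ← map_mul, DihedralGroup.r_mul_sr, zero_sub, neg_neg, ← hcase,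
          MulEquiv.symm_apply_apply]
    · rw [← Subgroup.coe_inv, ← Subgroup.coe_mul, ← Subgroup.coe_mul, zpow_neg_one, ← Subgroup.coe_inv,
        ← map_inv, ← map_mul, ← map_mul, ← map_inv]
      congr 2
      simp
  · have hord : orderOf (x : A) = 2 ^ (k + 1 + 2) := by
      rw [Subgroup.orderOf_coe, hx]
    have ht2 : t * t = 1 := by rw [← pow_two, ← ht, pow_orderOf_eq_one]
    have hnot : t ∉ zpowers x := by
      intro h
      obtain ⟨i, rfl⟩ := mem_zpowers_iff.1 h
      rw [((Commute.refl x).zpow_left i).eq, mul_inv_cancel_right] at htc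
      nth_rewrite 1 [← pow_one x] at htc
      rw [pow_eq_pow_iff_modEq, hx] at htc
      have h2 : 2 ^ (k + 3) = 2 * 2 ^ (k + 2) := by rw [← pow_succ']
      have h3 : 2 ^ 2 ≤ 2 ^ (k + 2) := Nat.pow_le_pow_right two_pos (by omega)
      have h4 := (Nat.modEq_iff_dvd' (by omega)).1 htc
      have h5 := Nat.le_of_dvd (by omega) h4
      omega
    have hidx : (zpowers x).index = 2 := by
      have h := Subgroup.card_mul_index (zpowers x)
      rw [Nat.card_zpowers, hx, hk, show k + 4 = k + 3 + 1 by omega, pow_succ] at h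
      exact Nat.eq_of_mul_eq_mul_left (pow_pos two_pos (k + 3)) h
    refine ⟨x, t, k + 1, 2 ^ (k + 2) - 1, hord, by rw [← Subgroup.coe_mul, ht2, OneMemClass.coe_one], ?_,
      x.2, t.2, ?_, ?_, Or.inr ⟨by omega, rfl⟩⟩
    · intro h
      obtain ⟨i, hi⟩ := mem_zpowers_iff.1 h
      exact hnot (mem_zpowers_iff.2 ⟨i, Subtype.ext hi⟩)
    · intro g hg
      by_cases hgx : (⟨g, hg⟩ : T) ∈ zpowers x
      · obtain ⟨i, hi⟩ := mem_zpowers_iff.1 hgx
        exact ⟨i, Or.inl (congrArg Subtype.val hi).symm⟩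
      · have : (⟨g, hg⟩ : T) * t ∈ zpowers x :=
          (Subgroup.mul_mem_iff_of_index_two hidx).2 ⟨fun h => absurd h hgx, fun h => absurd h hnot⟩
        obtain ⟨i, hi⟩ := mem_zpowers_iff.1 this
        refine ⟨i, Or.inr ?_⟩
        have h2 : (⟨g, hg⟩ : T) = x ^ i * t := by rw [hi, mul_assoc, ht2, mul_one]
        exact congrArg Subtype.val h2
    · have h2 := congrArg Subtype.val htc
      simp only [Subgroup.coe_mul, Subgroup.coe_inv, SubgroupClass.coe_pow] at h2
      rw [h2, ← zpow_natCast, Nat.cast_sub (Nat.one_le_pow _ _ two_pos)]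
      push_cast
      rfl
  · exfalso
    haveI : NeZero (2 ^ (k + 1)) := ⟨pow_ne_zero _ two_ne_zero⟩
    have hA : ∀ (g : A) (hg : g ∈ T), g * g = 1 → g ≠ 1 →
        φ ⟨g, hg⟩ = QuaternionGroup.a ((2 ^ (k + 1) : ℕ) : ZMod (2 * 2 ^ (k + 1))) := by
      intro g hg hg2 hg1
      refine (quaternion_sq_eq_one ?_).resolve_left fun h => hg1 ?_
      · rw [← map_mul, show (⟨g, hg⟩ : T) * ⟨g, hg⟩ = 1 from Subtype.ext hg2, map_one]
      · exact congrArg Subtype.val (φ.injective (h.trans (map_one φ).symm))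
    exact hne (congrArg Subtype.val (φ.injective ((hA a haT ha ha1).trans (hA b hbT hb hb1).symm)))

theorem mul_comm_of_sq {U : Type*} [Group U] (h : ∀ u : U, u * u = 1) (u v : U) : u * v = v * u := by
  calc u * v = (v * v) * (u * v) * (u * u) := by rw [h, h, one_mul, mul_one]
    _ = v * ((v * u) * (v * u)) * u := by group
    _ = v * u := by rw [h, mul_one]

/-- No four-subgroup in a perfect group on which a four-group acts without centralised four-groups. -/
theorem no_four {U : Type*} [Group U] (φ : U →* MulAut A) (hU : Nat.card U = 4)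
    (hU2 : ∀ u : U, u * u = 1) (hperf : ∀ M : Subgroup A, M.Normal → M.index ≠ 2)
    (hΓ : ∀ u : U, u ≠ 1 → ∀ a b : A, a * a = 1 → b * b = 1 → a ≠ 1 → b ≠ 1 → a ≠ b → a * b = b * a →
      φ u a = a → φ u b = b → False)
    {a b : A} (ha : a * a = 1) (hb : b * b = 1) (ha1 : a ≠ 1) (hb1 : b ≠ 1) (hne : a ≠ b)
    (hab : a * b = b * a) : False := by
  classical
  haveI : Finite U := Nat.finite_of_card_ne_zero (by rw [hU]; norm_num)
  have hUp : IsPGroup 2 U := IsPGroup.of_card (n := 2) (by rw [hU]; norm_num)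
  -- an invariant Sylow subgroup
  letI : MulAction U (Sylow 2 A) := MulAction.compHom _ φ
  obtain ⟨P, hP⟩ := hUp.nonempty_fixed_point_of_prime_not_dvd_card (Sylow 2 A) (by
    intro hd
    have h1 := card_sylow_modEq_one 2 A
    rw [Nat.ModEq, Nat.mod_eq_zero_of_dvd hd] at h1
    norm_num at h1)
  have hinv : ∀ (u : U), ∀ g ∈ (P : Subgroup A), φ u g ∈ (P : Subgroup A) := by
    intro u g hg
    have h1 : φ u g ∈ ((φ u • P : Sylow 2 A) : Subgroup A) := Subgroup.smul_mem_pointwise_smul g _ _ hg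
    rwa [show φ u • P = P from hP u] at h1
  -- a four-group inside it
  obtain ⟨hc, hsq⟩ := klein_closure ha hb hab
  obtain ⟨Q, hQ⟩ := (show IsPGroup 2 (Subgroup.closure ({a, b} : Set A)) from fun w =>
    ⟨1, Subtype.ext (by rw [pow_one, pow_two]; exact hsq w w.2)⟩).exists_le_sylow
  obtain ⟨c, hc'⟩ := MulAction.exists_smul_eq A P Q
  have hmem : ∀ g ∈ (Q : Subgroup A), c⁻¹ * g * c ∈ (P : Subgroup A) := by
    intro g hg
    rw [← hc', Sylow.coe_subgroup_smul, mem_pointwise_smul_iff_inv_smul_mem] at hg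
    simpa [MulAut.smul_def, mul_assoc] using hg
  set a' := c⁻¹ * a * c with ha'
  set b' := c⁻¹ * b * c with hb'
  have haP : a' ∈ (P : Subgroup A) := hmem a (hQ (subset_closure (Or.inl rfl)))
  have hbP : b' ∈ (P : Subgroup A) := hmem b (hQ (subset_closure (Or.inr rfl)))
  have hconj : ∀ v w : A, c⁻¹ * v * c * (c⁻¹ * w * c) = c⁻¹ * (v * w) * c := fun v w => by group
  have hconj1 : ∀ v : A, c⁻¹ * v * c = 1 → v = 1 := fun v h => by
    calc v = c * (c⁻¹ * v * c) * c⁻¹ := by group
      _ = 1 := by rw [h, mul_one, mul_inv_cancel]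
  have ha2 : a' * a' = 1 := by rw [ha', hconj, ha, mul_one, inv_mul_cancel]
  have hb2 : b' * b' = 1 := by rw [hb', hconj, hb, mul_one, inv_mul_cancel]
  have ha'1 : a' ≠ 1 := fun h => ha1 (hconj1 a h)
  have hb'1 : b' ≠ 1 := fun h => hb1 (hconj1 b h)
  have hne' : a' ≠ b' := fun h => hne (mul_left_cancel (mul_right_cancel h))
  have hab' : a' * b' = b' * a' := by rw [ha', hb', hconj, hconj, hab]
  obtain ⟨n, hn⟩ := IsPGroup.iff_card.1 P.2
  -- a fixed central involution
  let Z : Subgroup A :=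
    { carrier := {g | g ∈ (P : Subgroup A) ∧ g * g = 1 ∧ ∀ h ∈ (P : Subgroup A), h * g = g * h}
      one_mem' := ⟨one_mem _, one_mul 1, fun h _ => by simp⟩
      mul_mem' := by
        rintro g g' ⟨hg, hg2, hgc⟩ ⟨hg', hg2', hgc'⟩
        refine ⟨mul_mem hg hg', ?_, fun h hh => ?_⟩
        · rw [mul_assoc, ← mul_assoc g', hgc g' hg', mul_assoc g g', hg2', mul_one, hg2]
        · rw [← mul_assoc, hgc h hh, mul_assoc, hgc' h hh, mul_assoc]
      inv_mem' := by
        rintro g ⟨hg, hg2, hgc⟩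
        rw [show g⁻¹ = g from inv_eq_of_mul_eq_one_right hg2]
        exact ⟨hg, hg2, hgc⟩ }
  obtain ⟨z, ⟨hzP, hz2, hzc⟩, hz1, hzfix⟩ : ∃ z ∈ Z, z ≠ 1 ∧ ∀ u : U, φ u z = z := by
    have hZp : IsPGroup 2 Z := P.2.to_le fun g hg => hg.1
    have hZ1 : Z ≠ ⊥ := by
      haveI : Nontrivial (P : Subgroup A) := ⟨⟨⟨a', haP⟩, 1, fun h => ha'1 (congrArg Subtype.val h)⟩⟩
      haveI := P.2.center_nontrivial
      have hcp : IsPGroup 2 (center (P : Subgroup A)) := P.2.to_subgroup _
      obtain ⟨k, hk, hcard⟩ := (IsPGroup.nontrivial_iff_card hcp).1 inferInstance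
      obtain ⟨w, hw⟩ := exists_prime_orderOf_dvd_card' (G := center (P : Subgroup A)) 2
        (hcard ▸ dvd_pow_self 2 (Nat.pos_iff_ne_zero.1 hk))
      refine Subgroup.ne_bot_iff_exists_ne_one.2 ⟨⟨((w : (P : Subgroup A)) : A), (w : (P : Subgroup A)).2, ?_, ?_⟩, ?_⟩
      · have h2 : w * w = 1 := by
          have h3 := pow_orderOf_eq_one w
          rwa [hw, pow_two] at h3
        exact congrArg Subtype.val (congrArg Subtype.val h2)
      · exact fun h hh => congrArg Subtype.val (mem_center_iff.1 w.2 ⟨h, hh⟩)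
      · intro h
        have h2 : w = 1 := by
          have h3 : ((w : (P : Subgroup A)) : A) = 1 := congrArg Subtype.val h
          exact Subtype.ext (Subtype.ext h3)
        rw [h2, orderOf_one] at hw
        exact absurd hw (by norm_num)
    have hZinv : ∀ (u : U), ∀ g ∈ Z, φ u g ∈ Z := by
      rintro u g ⟨hg, hg2, hgc⟩
      refine ⟨hinv u g hg, by rw [← map_mul, hg2, map_one], fun h hh => ?_⟩
      have h1 : h = φ u (φ u h) := by
        rw [← MulAut.mul_apply, ← map_mul, hU2, map_one, MulAut.one_apply]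
      rw [h1, ← map_mul, ← map_mul, hgc _ (hinv u h hh)]
    letI : MulAction U Z :=
      { smul := fun u g => ⟨φ u g, hZinv u g g.2⟩
        one_smul := fun g => Subtype.ext (by show φ 1 (g : A) = g; simp)
        mul_smul := fun u v g => Subtype.ext (by show φ (u * v) (g : A) = φ u (φ v g); simp) }
    haveI := (nontrivial_iff_ne_bot Z).2 hZ1
    obtain ⟨j, hj, hcardZ⟩ := (IsPGroup.nontrivial_iff_card hZp).1 inferInstance
    obtain ⟨z, hz, hz1⟩ := hUp.exists_fixed_point_of_prime_dvd_card_of_fixed_point Z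
      (hcardZ ▸ dvd_pow_self 2 (Nat.pos_iff_ne_zero.1 hj)) (a := 1)
      (fun u => Subtype.ext (map_one (φ u)))
    exact ⟨z, z.2, fun h => hz1 (Subtype.ext h.symm), fun u => congrArg Subtype.val (hz u)⟩
  have hzz : ∀ g ∈ (P : Subgroup A), g * z = z * g := hzc
  -- no involution is moved only inside its coset of `⟨z⟩`
  have hU1 : ∃ u v : U, u ≠ 1 ∧ v ≠ 1 ∧ u * v ≠ 1 := by
    haveI := Fintype.ofFinite U
    obtain ⟨p, q, w, hpq, hpw, hqw⟩ := Fintype.two_lt_card_iff.1
      (show 2 < Fintype.card U by rw [← Nat.card_eq_fintype_card, hU]; norm_num)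
    have key : ∀ u v : U, u ≠ v → u * v ≠ 1 := fun u v h h' =>
      h (by rw [← mul_one u, ← hU2 v, ← mul_assoc, h', one_mul])
    by_cases hp : p = 1
    · subst hp; exact ⟨q, w, hpq.symm, hpw.symm, key q w hqw⟩
    by_cases hq : q = 1
    · subst hq; exact ⟨p, w, hp, hqw.symm, key p w hpw⟩
    exact ⟨p, q, hp, hq, key p q hpq⟩
  have hnofix : ∀ g ∈ (P : Subgroup A), g * g = 1 → g ≠ 1 → g ≠ z →
      ¬ ∀ u : U, φ u g = g ∨ φ u g = g * z := by
    intro g hg hg2 hg1 hgz hall
    obtain ⟨u, v, hu, hv, huv⟩ := hU1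
    obtain ⟨w, hw, hwg⟩ : ∃ w : U, w ≠ 1 ∧ φ w g = g := by
      rcases hall u with h | h
      · exact ⟨u, hu, h⟩
      rcases hall v with h' | h'
      · exact ⟨v, hv, h'⟩
      refine ⟨u * v, huv, ?_⟩
      rw [map_mul, MulAut.mul_apply, h', map_mul, h, hzfix, mul_assoc, hz2, mul_one]
    exact hΓ w hw g z hg2 hz2 hg1 hz1 hgz (hzz g hg) hwg (hzfix w)
  have hnf : ∀ u : U, u ≠ 1 → ∀ g ∈ (P : Subgroup A), g * g = 1 → g ≠ 1 → g ≠ z → φ u g ≠ g :=
    fun u hu g hg hg2 hg1 hgz h => hΓ u hu g z hg2 hz2 hg1 hz1 hgz (hzz g hg) h (hzfix u)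
  -- the number of solutions of `g² = 1`
  let I := {g : A // g ∈ (P : Subgroup A) ∧ g * g = 1 ∧ g ≠ 1 ∧ g ≠ z}
  have hact : ∀ (u : U) (g : A), g ∈ (P : Subgroup A) → g * g = 1 → g ≠ 1 → g ≠ z → ∀ w : A, w = 1 ∨ w = z →
      φ u g * w ∈ (P : Subgroup A) ∧ φ u g * w * (φ u g * w) = 1 ∧ φ u g * w ≠ 1 ∧ φ u g * w ≠ z := by
    intro u g hg hg2 hg1 hgz w hw
    have hw2 : w * w = 1 := by rcases hw with hw | hw <;> rw [hw]; exacts [one_mul 1, hz2]
    have hwc : φ u g * w = w * φ u g := by
      rcases hw with hw | hw <;> rw [hw]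
      · simp
      · exact hzz _ (hinv u g hg)
    refine ⟨mul_mem (hinv u g hg) (by rcases hw with hw | hw <;> rw [hw]; exacts [one_mem _, hzP]), ?_, ?_, ?_⟩
    · rw [mul_assoc, ← mul_assoc w, ← hwc, mul_assoc (φ u g) w, hw2, mul_one, ← map_mul, hg2, map_one]
    · intro h
      rcases hw with hw | hw <;> rw [hw] at h
      · rw [mul_one, ← map_one (φ u)] at h; exact hg1 ((φ u).injective h)
      · have h' : φ u g = φ u z := by
          rw [hzfix u, ← mul_one (φ u g), ← hz2, ← mul_assoc, h, one_mul]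
        exact hgz ((φ u).injective h')
    · intro h
      rcases hw with hw | hw <;> rw [hw] at h
      · exact hgz ((φ u).injective (((mul_one _).symm.trans h).trans (hzfix u).symm))
      · have h' : φ u g = φ u 1 := by rw [map_one]; exact mul_eq_right.1 h
        exact hg1 ((φ u).injective h')
  let W := U × (zpowers z)
  have hzp : ∀ w : zpowers z, (w : A) = 1 ∨ (w : A) = z := by
    intro w
    obtain ⟨i, hi⟩ := mem_zpowers_iff.1 w.2
    rw [← hi]
    rcases Int.even_or_odd' i with ⟨k, rfl | rfl⟩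
    · left; rw [zpow_mul, zpow_two, hz2, one_zpow]
    · right; rw [zpow_add, zpow_mul, zpow_two, hz2, one_zpow, one_mul, zpow_one]
  letI : MulAction W I :=
    { smul := fun w g => ⟨φ w.1 g.1 * w.2.1, hact w.1 g.1 g.2.1 g.2.2.1 g.2.2.2.1 g.2.2.2.2 w.2.1 (hzp w.2)⟩
      one_smul := fun g => Subtype.ext (by show φ 1 g.1 * 1 = g.1; simp)
      mul_smul := fun v w g => Subtype.ext (by
        show φ (v.1 * w.1) g.1 * (v.2.1 * w.2.1) = φ v.1 (φ w.1 g.1 * w.2.1) * v.2.1
        have hfix : φ v.1 w.2.1 = w.2.1 := by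
          rcases hzp w.2 with h | h <;> rw [h]
          · exact map_one _
          · exact hzfix _
        have hcc : v.2.1 * w.2.1 = w.2.1 * v.2.1 := congrArg Subtype.val (mul_comm' v.2 w.2)
        rw [map_mul (φ v.1), hfix, map_mul φ, MulAut.mul_apply, hcc, mul_assoc]) }
  have hWp : IsPGroup 2 W := by
    refine IsPGroup.of_card (n := 3) ?_
    rw [Nat.card_prod, hU, Nat.card_zpowers, orderOf_eq_prime (by rw [pow_two]; exact hz2) hz1]
    norm_num
  have hI4 : 4 ∣ Nat.card I := by
    haveI := Fintype.ofFinite (Quotient (MulAction.orbitRel W I))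
    rw [Nat.card_congr (MulAction.selfEquivSigmaOrbits W I), Nat.card_sigma]
    refine Finset.dvd_sum fun ω _ => ?_
    obtain ⟨j, hj⟩ := hWp.card_orbit ω.out
    by_contra hno
    have hj1 : j ≤ 1 := by
      by_contra hj1
      exact hno (hj ▸ Nat.pow_dvd_pow 2 (show 2 ≤ j by omega))
    have hle : Nat.card (MulAction.orbit W ω.out) ≤ 2 :=
      hj ▸ (Nat.pow_le_pow_right two_pos hj1).trans_eq (pow_one 2)
    rcases hω : ω.out with ⟨g, hg, hg2, hg1, hgz⟩
    rw [hω] at hle
    apply hnofix g hg hg2 hg1 hgz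
    intro u
    by_contra hu
    push Not at hu
    let g0 : I := ⟨g, hg, hg2, hg1, hgz⟩
    let f : Fin 3 → MulAction.orbit W g0 := ![⟨(1 : W) • g0, MulAction.mem_orbit _ _⟩,
      ⟨((1, ⟨z, mem_zpowers z⟩) : W) • g0, MulAction.mem_orbit _ _⟩,
      ⟨((u, 1) : W) • g0, MulAction.mem_orbit _ _⟩]
    have hf : Function.Injective fun i => ((f i).1 : I).1 := by
      intro i j hij
      have hne1 : g * z ≠ g := fun h => hz1 (mul_eq_left.1 h)
      have e0 : ((f 0).1 : I).1 = g := by show φ 1 g * 1 = g; simp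
      have e1 : ((f 1).1 : I).1 = g * z := by show φ 1 g * z = g * z; simp
      have e2 : ((f 2).1 : I).1 = φ u g := by show φ u g * 1 = φ u g; simp
      fin_cases i <;> fin_cases j <;> first
        | rfl
        | exact absurd (e0.symm.trans (hij.trans e1)).symm hne1
        | exact absurd (e0.symm.trans (hij.symm.trans e1)).symm hne1
        | exact absurd (e2.symm.trans (hij.trans e0)) hu.1
        | exact absurd (e2.symm.trans (hij.symm.trans e0)) hu.1
        | exact absurd (e2.symm.trans (hij.trans e1)) hu.2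
        | exact absurd (e2.symm.trans (hij.symm.trans e1)) hu.2
    have := Nat.card_le_card_of_injective f (Function.Injective.of_comp (f := fun w : MulAction.orbit W g0 => (w.1 : I).1) hf)
    rw [Nat.card_fin] at this
    change Nat.card (MulAction.orbit W g0) ≤ 2 at hle
    omega
  have hcount : Nat.card {g : (P : Subgroup A) // g ^ 2 = 1} = Nat.card I + 2 := by
    haveI := Fintype.ofFinite A
    let J : Finset A := Finset.univ.filter fun g => g ∈ (P : Subgroup A) ∧ g * g = 1
    have e1 : Nat.card {g : (P : Subgroup A) // g ^ 2 = 1} = J.card := by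
      rw [← Fintype.card_coe, ← Nat.card_eq_fintype_card]
      refine Nat.card_congr
        { toFun := fun g => ⟨g.1.1, Finset.mem_filter.2 ⟨Finset.mem_univ _, g.1.2, by
            have h := congrArg Subtype.val g.2
            rwa [SubgroupClass.coe_pow, OneMemClass.coe_one, pow_two] at h⟩⟩
          invFun := fun g => ⟨⟨g.1, (Finset.mem_filter.1 g.2).2.1⟩, Subtype.ext (by
            rw [SubgroupClass.coe_pow, OneMemClass.coe_one, pow_two]
            exact (Finset.mem_filter.1 g.2).2.2)⟩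
          left_inv := fun g => rfl
          right_inv := fun g => rfl }
    have e2 : Nat.card I = ((J.erase 1).erase z).card := by
      rw [← Fintype.card_coe, ← Nat.card_eq_fintype_card]
      refine Nat.card_congr (Equiv.subtypeEquivRight fun g => ?_)
      simp [J]
      tauto
    rw [e1, e2]
    have h1 : (1 : A) ∈ J := by simp [J]
    have h2 : z ∈ J.erase 1 := by simp [J, hzP, hz2, hz1]
    rw [← Finset.card_erase_add_one h1, ← Finset.card_erase_add_one h2]
  have hno4 : ¬ 4 ∣ Nat.card {g : (P : Subgroup A) // g ^ 2 = 1} := by omega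
  -- the group is of maximal class
  have hPnc : ¬ IsCyclic (P : Subgroup A) := by
    intro hcyc
    refine absurd ?_ (Nat.not_le.2 (show 2 < 3 by norm_num))
    haveI := Fintype.ofFinite (P : Subgroup A)
    refine le_trans ?_ (IsCyclic.card_pow_eq_one_le (α := (P : Subgroup A)) (n := 2) (by norm_num))
    refine le_trans (le_of_eq ?_) (Finset.card_le_card (s := {1, ⟨a', haP⟩, ⟨b', hbP⟩}) ?_)
    · rw [Finset.card_eq_three.2 ⟨_, _, _, fun h => ha'1 (congrArg Subtype.val h).symm,
        fun h => hb'1 (congrArg Subtype.val h).symm, fun h => hne' (congrArg Subtype.val h), rfl⟩]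
    · intro w hw
      simp only [Finset.mem_insert, Finset.mem_singleton] at hw
      refine Finset.mem_filter.2 ⟨Finset.mem_univ _, ?_⟩
      rcases hw with rfl | rfl | rfl
      · exact one_pow 2
      · exact Subtype.ext (by rw [SubgroupClass.coe_pow, pow_two]; exact ha2)
      · exact Subtype.ext (by rw [SubgroupClass.coe_pow, pow_two]; exact hb2)
  have hcl : Group.nilpotencyClass (P : Subgroup A) = n - 1 := by
    by_contra hcl
    obtain ⟨E, hEn, hE4, hE2⟩ := CfsgLib.FgsB.Kulakov.exists_normal_four' hn hPnc hcl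
    exact hno4 (CfsgLib.FgsB.Kulakov.sq_dvd_card_solutions (p := 2) hn (fun _ => hcl) (E := E) hE4 hE2)
  have hn3 : 3 ≤ n := by
    by_contra hn3
    have hle : Nat.card (P : Subgroup A) ≤ 4 :=
      hn ▸ (Nat.pow_le_pow_right two_pos (show n ≤ 2 by omega)).trans_eq (by norm_num)
    have hcomm : IsMulCommutative (Subgroup.closure ({a', b'} : Set A)) := (klein_closure ha2 hb2 hab').1
    have hcle : Subgroup.closure ({a', b'} : Set A) ≤ (P : Subgroup A) :=
      (closure_le _).2 (by rintro w (rfl | rfl) <;> assumption)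
    have h3 : 3 ≤ Nat.card (Subgroup.closure ({a', b'} : Set A)) := by
      haveI := Fintype.ofFinite (Subgroup.closure ({a', b'} : Set A))
      rw [Nat.card_eq_fintype_card]
      refine Fintype.two_lt_card_iff.2 ⟨1, ⟨a', subset_closure (Or.inl rfl)⟩,
        ⟨b', subset_closure (Or.inr rfl)⟩, fun h => ha'1 (congrArg Subtype.val h).symm,
        fun h => hb'1 (congrArg Subtype.val h).symm, fun h => hne' (congrArg Subtype.val h)⟩
    have heq : Subgroup.closure ({a', b'} : Set A) = (P : Subgroup A) := by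
      refine eq_of_le_of_card_ge hcle ?_
      obtain ⟨j, hj⟩ := IsPGroup.iff_card.1 (P.2.to_le hcle)
      have h2 : 2 ≤ j := by
        by_contra hj2
        have := (Nat.pow_le_pow_right two_pos (show j ≤ 1 by omega) : 2 ^ j ≤ 2 ^ 1)
        omega
      have := (Nat.pow_le_pow_right two_pos h2 : 2 ^ 2 ≤ 2 ^ j)
      omega
    apply hno4
    have hall : ∀ g : (P : Subgroup A), g ^ 2 = 1 := fun g => Subtype.ext (by
      rw [SubgroupClass.coe_pow, pow_two]
      exact (klein_closure ha2 hb2 hab').2 g (heq.symm ▸ g.2))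
    rw [Nat.card_congr (Equiv.subtypeUnivEquiv hall)]
    rw [heq] at h3
    have h4 : Nat.card (P : Subgroup A) = 4 := by
      rw [hn] at h3 hle ⊢
      rcases (by omega : n = 0 ∨ n = 1 ∨ n = 2) with rfl | rfl | rfl <;>
        first | omega | norm_num
    rw [h4]
  obtain ⟨x, t, k, e, S⟩ := exists_shape (P : Subgroup A) hn3 hn hcl haP hbP ha2 hb2 ha'1 hb'1 hne'
  have hzeq : z = cinv x k := by
    by_contra hne''
    have h1 := centralizer_inv S hzP hz2 hz1 hne'' S.xT (hzz x S.xT)
    have h2 : x ^ 2 = 1 := by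
      rcases h1 with h | h | h | h
      · rw [h, one_pow]
      · rw [h, pow_two]; exact z_sq S
      · rw [h, pow_two]; exact hz2
      · rw [h, (show Commute (cinv x k) z from hzz _ (z_mem S)).mul_pow, pow_two, pow_two, z_sq S, hz2, one_mul]
    have h3 := Nat.le_of_dvd two_pos (S.hx ▸ orderOf_dvd_of_pow_eq_one h2)
    have h4 : 2 ^ 2 ≤ 2 ^ (k + 2) := Nat.pow_le_pow_right two_pos (by omega)
    omega
  obtain ⟨u, v, hu, hv, huv⟩ := hU1
  have hsq2 : ∀ w : U, φ w * φ w = 1 := fun w => by rw [← map_mul, hU2, map_one]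
  have hnf' : ∀ w : U, w ≠ 1 → NF S (φ w) := fun w hw g hg hg2 hg1 hgz =>
    hnf w hw g hg hg2 hg1 (hzeq ▸ hgz)
  have hcom : φ u * φ v = φ v * φ u := by
    rw [← map_mul, ← map_mul]
    congr 1
    exact mul_comm_of_sq hU2 u v
  rcases exists_inner S (hsq2 u) (hsq2 v) hcom (hinv u) (hinv v) (hnf' u hu) (hnf' v hv)
    (by rw [← map_mul]; exact hnf' _ huv) with h | h | h
  · exact inner_false P S hperf (hsq2 u) h
  · exact inner_false P S hperf (hsq2 v) h
  · exact inner_false P S hperf (by rw [← map_mul]; exact hsq2 _) h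

end CfsgLib.FourGamma
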