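import Cfsg.Agent.Lib.Techniques.ChiefFactor
import Cfsg.Agent.Lib.Techniques.SylIn
import Cfsg.Agent.Lib.PGroups.Basic

/-!
Degree of the action of an element on the chief factors of a `p`-group from its action on a
self-centralising subgroup with central commutators.
-/

set_option autoImplicit false
set_option linter.unusedSectionVars false

namespace CfsgLib.Techniques

open Cfsg Subgroup
open scoped commutatorElement

variable {G : Type*} [Group G] [Finite G] {p : ℕ} [Fact p.Prime]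

/-- A normal `p`-subgroup centralises the chief factors inside it. -/
theorem commutator_le_of_chiefFactor {P U V : Subgroup G} [P.Normal] (hP : IsPGroup p P)
    (h : IsChiefFactor U V) (hU : U ≤ P) : ⁅P, U⁆ ≤ V := by
  haveI := h.2.1
  haveI := h.2.2.1
  set π := QuotientGroup.mk' V with hπ
  haveI : (P.map π).Normal := (inferInstance : P.Normal).map π (QuotientGroup.mk'_surjective V)
  haveI : (U.map π).Normal := h.2.1.map π (QuotientGroup.mk'_surjective V)
  have hne : U.map π ≠ ⊥ := by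
    rw [Ne, Subgroup.map_eq_bot_iff, hπ, QuotientGroup.ker_mk']
    exact h.1.not_ge
  have hsub : ((U.map π).subgroupOf (P.map π)) ≠ ⊥ := fun h0 => hne (by
    rw [← map_subgroupOf_eq_of_le (map_mono hU : U.map π ≤ P.map π), h0, Subgroup.map_bot])
  haveI : ((U.map π).subgroupOf (P.map π)).Normal := inferInstance
  obtain ⟨y, hy, hyne⟩ : ∃ y ∈ (U.map π).subgroupOf (P.map π) ⊓ center _, y ≠ 1 :=
    (bot_or_exists_ne_one _).resolve_left (CfsgLib.PGroups.inf_center_ne_bot (hP.map π) hsub)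
  set W : Subgroup G := U ⊓ (centralizer (P.map π : Set (G ⧸ V))).comap π with hW
  haveI : (centralizer (P.map π : Set (G ⧸ V))).Normal := by
    constructor
    intro c hc g q hq
    have hq' : g⁻¹ * q * g ∈ P.map π := by
      simpa using (inferInstance : (P.map π).Normal).conj_mem q hq g⁻¹
    calc q * (g * c * g⁻¹) = g * ((g⁻¹ * q * g) * c) * g⁻¹ := by group
      _ = g * (c * (g⁻¹ * q * g)) * g⁻¹ := by rw [hc _ hq']
      _ = g * c * g⁻¹ * q := by group
  have hWV : V ≤ W := fun v hv => ⟨h.1.le hv, by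
    show π v ∈ centralizer _
    rw [show π v = 1 from (QuotientGroup.eq_one_iff v).2 hv]
    exact one_mem _⟩
  rcases h.2.2.2 W inferInstance hWV inf_le_left with hWe | hWe
  · exfalso
    obtain ⟨x, hx, hxy⟩ := mem_subgroupOf.1 hy.1
    have hxW : x ∈ W := ⟨hx, fun q hq => by
      rw [hxy]
      exact congrArg Subtype.val (mem_center_iff.1 hy.2 ⟨q, hq⟩)⟩
    rw [hWe] at hxW
    exact hyne (Subtype.ext (hxy ▸ (QuotientGroup.eq_one_iff x).2 hxW))
  · rw [commutator_le]
    intro q hq u hu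
    rw [← hWe] at hu
    refine (QuotientGroup.eq_one_iff _).1 ?_
    show π ⁅q, u⁆ = 1
    rw [map_commutatorElement, commutatorElement_eq_one_iff_mul_comm]
    exact hu.2 _ ⟨q, hq, rfl⟩

theorem iterate_mem_iterCommutator {U : Subgroup G} {g x : G} (hx : x ∈ U) :
    ∀ n, (fun w => ⁅g, w⁆)^[n] x ∈ iterCommutator U (zpowers g) n
  | 0 => hx
  | n + 1 => by
    rw [Function.iterate_succ_apply']
    show _ ∈ ⁅iterCommutator U (zpowers g) n, zpowers g⁆
    rw [Subgroup.commutator_comm]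
    exact commutator_mem_commutator (mem_zpowers g) (iterate_mem_iterCommutator hx n)

theorem comm_mem_of_mem {V : Subgroup G} [hV : V.Normal] {g v : G} (hv : v ∈ V) : ⁅g, v⁆ ∈ V := by
  rw [commutatorElement_def]
  exact mul_mem (hV.conj_mem v hv g) (inv_mem hv)

/-- The elements of `U` killed modulo `V` by `k` commutations with `g`. -/
def iterKer (U V : Subgroup G) [U.Normal] [hV : V.Normal] (hUU : ⁅U, U⁆ ≤ V) (g : G) (k : ℕ) : Subgroup G where
  carrier := {x | x ∈ U ∧ (fun w => ⁅g, w⁆)^[k] x ∈ V}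
  one_mem' := ⟨U.one_mem, by
    induction k with
    | zero => exact V.one_mem
    | succ k ih => rw [Function.iterate_succ_apply']; exact comm_mem_of_mem ih⟩
  mul_mem' := fun {x y} hx hy => by
    refine ⟨mul_mem hx.1 hy.1, ?_⟩
    have hd : ∀ k, (fun w => ⁅g, w⁆)^[k] (x * y) ∈ U ∧
        QuotientGroup.mk' V ((fun w => ⁅g, w⁆)^[k] (x * y)) =
          QuotientGroup.mk' V ((fun w => ⁅g, w⁆)^[k] x * (fun w => ⁅g, w⁆)^[k] y) ∧
        (fun w => ⁅g, w⁆)^[k] x ∈ U ∧ (fun w => ⁅g, w⁆)^[k] y ∈ U := by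
      intro k
      induction k with
      | zero => exact ⟨mul_mem hx.1 hy.1, rfl, hx.1, hy.1⟩
      | succ k ih =>
        obtain ⟨h1, h2, hxU, hyU⟩ := ih
        simp only [Function.iterate_succ_apply']
        refine ⟨comm_mem_of_mem h1, ?_, comm_mem_of_mem hxU, comm_mem_of_mem hyU⟩
        rw [map_commutatorElement, h2, ← map_commutatorElement]
        generalize (fun w => ⁅g, w⁆)^[k] x = a at hxU ⊢
        generalize (fun w => ⁅g, w⁆)^[k] y = b at hyU ⊢
        have hc : Commute (QuotientGroup.mk' V a) (QuotientGroup.mk' V ⁅g, b⁆) := by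
          rw [← commutatorElement_eq_one_iff_commute, ← map_commutatorElement, QuotientGroup.mk'_apply,
            QuotientGroup.eq_one_iff]
          exact hUU (commutator_mem_commutator hxU (comm_mem_of_mem hyU))
        rw [show ⁅g, a * b⁆ = ⁅g, a⁆ * (a * ⁅g, b⁆ * a⁻¹) by simp only [commutatorElement_def]; group]
        simp only [map_mul, map_inv]
        rw [hc.eq, mul_inv_cancel_right]
    obtain ⟨-, h2, -, -⟩ := hd k
    refine (QuotientGroup.eq_one_iff _).1 (h2.trans ?_)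
    exact (QuotientGroup.eq_one_iff _).2 (mul_mem hx.2 hy.2)
  inv_mem' := fun {x} hx => by
    refine ⟨inv_mem hx.1, ?_⟩
    have hd : ∀ k, (fun w => ⁅g, w⁆)^[k] x ∈ U ∧ (fun w => ⁅g, w⁆)^[k] x⁻¹ ∈ U ∧
        QuotientGroup.mk' V ((fun w => ⁅g, w⁆)^[k] x⁻¹) =
          QuotientGroup.mk' V (((fun w => ⁅g, w⁆)^[k] x)⁻¹) := by
      intro k
      induction k with
      | zero => exact ⟨hx.1, inv_mem hx.1, rfl⟩
      | succ k ih =>
        obtain ⟨hxU, hx'U, h2⟩ := ih
        simp only [Function.iterate_succ_apply']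
        refine ⟨comm_mem_of_mem hxU, comm_mem_of_mem hx'U, ?_⟩
        rw [map_commutatorElement, h2, ← map_commutatorElement]
        generalize (fun w => ⁅g, w⁆)^[k] x = a at hxU ⊢
        have hc : Commute (QuotientGroup.mk' V a) (QuotientGroup.mk' V ⁅g, a⁆⁻¹) := by
          rw [← commutatorElement_eq_one_iff_commute, ← map_commutatorElement, QuotientGroup.mk'_apply,
            QuotientGroup.eq_one_iff]
          exact hUU (commutator_mem_commutator hxU (inv_mem (comm_mem_of_mem hxU)))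
        rw [show ⁅g, a⁻¹⁆ = a⁻¹ * ⁅g, a⁆⁻¹ * a by simp only [commutatorElement_def]; group]
        simp only [map_mul, map_inv]
        rw [map_inv] at hc
        rw [mul_assoc, ← hc.eq, inv_mul_cancel_left]
    obtain ⟨-, -, h2⟩ := hd k
    refine (QuotientGroup.eq_one_iff _).1 (h2.trans ?_)
    exact (QuotientGroup.eq_one_iff _).2 (inv_mem hx.2)

theorem iterCommutator_le_of_iterate {U V : Subgroup G} [U.Normal] [V.Normal] (hUU : ⁅U, U⁆ ≤ V) {g : G} {n : ℕ}
    (h : ∀ x ∈ U, (fun w => ⁅g, w⁆)^[n] x ∈ V) : iterCommutator U (zpowers g) n ≤ V := by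
  have key : ∀ m, m ≤ n → iterCommutator U (zpowers g) m ≤ iterKer U V hUU g (n - m) := by
    intro m
    induction m with
    | zero => exact fun _ x hx => ⟨hx, h x hx⟩
    | succ m ih =>
      intro hm
      obtain ⟨k, hk⟩ : ∃ k, n - m = k + 1 := ⟨n - (m + 1), by omega⟩
      have ih' := ih (by omega)
      rw [hk] at ih'
      rw [show n - (m + 1) = k by omega]
      show ⁅iterCommutator U (zpowers g) m, zpowers g⁆ ≤ _
      rw [Subgroup.commutator_comm, Subgroup.commutator_le]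
      intro a ha x hx
      obtain ⟨hxU, hxk⟩ := ih' hx
      have hdx : ⁅g, x⁆ ∈ iterKer U V hUU g k := ⟨comm_mem_of_mem hxU, by
        rw [← Function.iterate_succ_apply (fun w => ⁅g, w⁆)]; exact hxk⟩
      have hinv : ∀ y ∈ iterKer U V hUU g k, g * y * g⁻¹ ∈ iterKer U V hUU g k := by
        intro y hy
        have h1 : ⁅g, y⁆ ∈ iterKer U V hUU g k := ⟨comm_mem_of_mem hy.1, by
          rw [← Function.iterate_succ_apply (fun w => ⁅g, w⁆), Function.iterate_succ_apply']
          exact comm_mem_of_mem hy.2⟩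
        have h2 := mul_mem h1 hy
        rwa [commutatorElement_def, inv_mul_cancel_right] at h2
      rw [← (isOfFinOrder_of_finite g).mem_powers_iff_mem_zpowers] at ha
      obtain ⟨e, rfl⟩ := ha
      induction e with
      | zero => simp
      | succ e ihe =>
        show ⁅g ^ (e + 1), x⁆ ∈ _
        rw [show ⁅g ^ (e + 1), x⁆ = g * ⁅g ^ e, x⁆ * g⁻¹ * ⁅g, x⁆ by
          rw [pow_succ']; simp only [commutatorElement_def]; group]
        exact mul_mem (hinv _ ihe) hdx
  intro x hx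
  have := (key n le_rfl hx).2
  rwa [Nat.sub_self] at this

/-- Degrees of unipotence add along products of commuting endomorphisms. -/
theorem degree_add {M : Type*} [AddCommGroup M] (a b : AddMonoid.End M) (hab : Commute a b) {i j : ℕ}
    (x : M) (ha : ((a - 1) ^ i) x = 0) (hb : ((b - 1) ^ j) x = 0) :
    ((b * a - 1) ^ (i + j - 1)) x = 0 := by
  have hdec : b * a - 1 = a * (b - 1) + (a - 1) := by
    rw [mul_sub, mul_one, hab.eq]; abel
  have hc3 : Commute a (b - 1) := hab.sub_right (Commute.one_right a)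
  have hc2 : Commute (a * (b - 1)) (a - 1) :=
    Commute.mul_left ((Commute.refl a).sub_right (Commute.one_right a))
      ((hc3.symm).sub_right (Commute.one_right _))
  rw [hdec, hc2.add_pow]
  let ev : AddMonoid.End M →+ M := { toFun := fun e => e x, map_zero' := rfl, map_add' := fun _ _ => rfl }
  show ev (∑ _ ∈ _, _) = 0
  rw [map_sum ev]
  refine Finset.sum_eq_zero fun m hm => ?_
  show ((a * (b - 1)) ^ m * (a - 1) ^ (i + j - 1 - m) * (Nat.choose (i + j - 1) m : AddMonoid.End M)) x = 0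
  rw [← Nat.cast_comm, ← nsmul_eq_mul]
  show Nat.choose (i + j - 1) m • (((a * (b - 1)) ^ m * (a - 1) ^ (i + j - 1 - m)) x) = 0
  rcases le_or_gt i (i + j - 1 - m) with h | h
  · obtain ⟨r, hr⟩ := Nat.exists_eq_add_of_le' h
    rw [hr, pow_add (a - 1)]
    show Nat.choose (i + j - 1) m • (((a * (b - 1)) ^ m) (((a - 1) ^ r) (((a - 1) ^ i) x))) = 0
    rw [ha, map_zero, map_zero, smul_zero]
  · obtain ⟨r, hr⟩ := Nat.exists_eq_add_of_le' (show j ≤ m by
      have := Finset.mem_range_succ_iff.1 hm; omega)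
    rw [(hc2.pow_pow _ _).eq, hc3.mul_pow, hr, pow_add (b - 1)]
    show Nat.choose (i + j - 1) (r + j) • (((a - 1) ^ (i + j - 1 - (r + j))) ((a ^ (r + j))
      (((b - 1) ^ r) (((b - 1) ^ j) x)))) = 0
    rw [hb, map_zero, map_zero, map_zero, smul_zero]

/-- If `g` has degree `i` on the chief factors inside `Q` and `j` inside `Z(Q)`, it has degree
`i + j - 1` on those inside `P`. -/
theorem factor_bound {P Q : Subgroup G} [P.Normal] [Q.Normal] (hP : IsPGroup p P) (hQP : Q ≤ P)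
    (hQ3 : ⁅P, Q⁆ ≤ Q ⊓ centralizer (Q : Set G))
    (hQ4 : P ⊓ centralizer (Q : Set G) ≤ Q) {g : G} {i j : ℕ} (hi : 1 ≤ i)
    (hQi : ∀ U V : Subgroup G, IsChiefFactor U V → U ≤ Q → iterCommutator U (zpowers g) i ≤ V)
    (hZj : ∀ U V : Subgroup G, IsChiefFactor U V → U ≤ Q ⊓ centralizer (Q : Set G) →
      iterCommutator U (zpowers g) j ≤ V) :
    ∀ U V : Subgroup G, IsChiefFactor U V → U ≤ P → iterCommutator U (zpowers g) (i + j - 1) ≤ V := by
  classical
  intro U V hUV hUP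
  haveI := hUV.2.1
  haveI := hUV.2.2.1
  have hUU : ⁅U, U⁆ ≤ V := (chiefFactor_pGroup hUV (hP.to_le hUP)).1
  obtain ⟨U₁, ⟨hU₁n, hU₁U, hU₁V⟩, hU₁min⟩ := Set.Finite.exists_minimal
    (s := {X : Subgroup G | X.Normal ∧ X ≤ U ∧ ¬ X ≤ V}) (Set.toFinite _) ⟨U, hUV.2.1, le_rfl, hUV.1.not_ge⟩
  haveI := hU₁n
  have hsmall : ∀ X : Subgroup G, X.Normal → X ≤ U₁ → X ≠ U₁ → X ≤ V := by
    intro X hX hle hne
    by_contra hXV
    exact hne (le_antisymm hle (hU₁min ⟨hX, hle.trans hU₁U, hXV⟩ hle))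
  refine iterCommutator_le_of_iterate hUU fun x hx => ?_
  suffices hmain : U₁ ≤ iterKer U V hUU g (i + j - 1) by
    have hVk : V ≤ iterKer U V hUU g (i + j - 1) := fun v hv => ⟨hUV.1.le hv, by
      generalize i + j - 1 = k
      induction k with
      | zero => exact hv
      | succ k ih => rw [Function.iterate_succ_apply']; exact comm_mem_of_mem ih⟩
    have hsup : U₁ ⊔ V = U := by
      rcases hUV.2.2.2 (U₁ ⊔ V) inferInstance le_sup_right (sup_le hU₁U hUV.1.le) with h | h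
      · exact absurd (h ▸ le_sup_left) hU₁V
      · exact h
    exact ((sup_le hmain hVk) (hsup.ge hx)).2
  by_cases hC : U₁ ≤ centralizer (Q : Set G)
  · intro x hx
    refine ⟨hU₁U hx, ?_⟩
    have hU₁Z : U₁ ≤ Q ⊓ centralizer (Q : Set G) := le_inf ((le_inf (hU₁U.trans hUP) hC).trans hQ4) hC
    have hch : IsChiefFactor U₁ (U₁ ⊓ V) := by
      refine ⟨lt_of_le_of_ne inf_le_left fun e => hU₁V (e ▸ inf_le_right), hU₁n, inferInstance,
        fun N hN hle hNU => ?_⟩
      by_cases hne : N = U₁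
      · exact Or.inr hne
      · exact Or.inl (le_antisymm (le_inf hNU (hsmall N hN hNU hne)) hle)
    exact (iterCommutator_antitone_le (show j ≤ i + j - 1 by omega) ((hZj _ _ hch hU₁Z).trans inf_le_right))
      (iterate_mem_iterCommutator hx _)
  -- a minimal normal subgroup of `Q` moved by `U₁`
  obtain ⟨A, ⟨hAn, hAQ, hAne⟩, hAmin⟩ := Set.Finite.exists_minimal
    (s := {A : Subgroup G | A.Normal ∧ A ≤ Q ∧ ⁅U₁, A⁆ ≠ ⊥}) (Set.toFinite _)
    ⟨Q, inferInstance, le_rfl, fun h => hC (commutator_eq_bot_iff_le_centralizer.1 h)⟩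
  haveI := hAn
  obtain ⟨A', ⟨hA'n, hA'A⟩, hA'max⟩ := Set.Finite.exists_maximal
    (s := {X : Subgroup G | X.Normal ∧ X < A}) (Set.toFinite _)
    ⟨⊥, inferInstance, bot_lt_iff_ne_bot.2 fun h => hAne (by rw [h, Subgroup.commutator_bot_right])⟩
  have hchA : IsChiefFactor A A' := ⟨hA'A, hAn, hA'n, fun N hN hle hNA => (eq_or_lt_of_le hNA).elim Or.inr
    fun h => Or.inl (le_antisymm (hA'max ⟨hN, h⟩ hle) hle)⟩
  have hA'c : ⁅U₁, A'⁆ = ⊥ := by
    by_contra h
    exact hA'A.ne (le_antisymm hA'A.le (hAmin ⟨hA'n, hA'A.le.trans hAQ, h⟩ hA'A.le))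
  set B := ⁅U₁, A⁆ with hB
  have hBZ : B ≤ Q ⊓ centralizer (Q : Set G) := (commutator_mono (hU₁U.trans hUP) hAQ).trans hQ3
  obtain ⟨B', ⟨hB'n, hB'B⟩, hB'max⟩ := Set.Finite.exists_maximal
    (s := {X : Subgroup G | X.Normal ∧ X < B}) (Set.toFinite _)
    ⟨⊥, inferInstance, bot_lt_iff_ne_bot.2 hAne⟩
  haveI := hB'n
  have hchB : IsChiefFactor B B' := ⟨hB'B, inferInstance, hB'n, fun N hN hle hNA => (eq_or_lt_of_le hNA).elim Or.inr
    fun h => Or.inl (le_antisymm (hB'max ⟨hN, h⟩ hle) hle)⟩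
  have hPB : ⁅P, B⁆ ≤ B' := commutator_le_of_chiefFactor hP hchB ((hBZ.trans inf_le_left).trans hQP)
  letI : CommGroup B :=
    { (inferInstance : Group B) with
      mul_comm := fun a b => Subtype.ext ((hBZ b.2).2 a (hBZ a.2).1) }
  let π : G → Additive (B ⧸ B'.subgroupOf B) :=
    fun z => if hz : z ∈ B then Additive.ofMul (QuotientGroup.mk' (B'.subgroupOf B) ⟨z, hz⟩) else 0
  have hπ : ∀ z (hz : z ∈ B), π z = Additive.ofMul (QuotientGroup.mk' (B'.subgroupOf B) ⟨z, hz⟩) :=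
    fun z hz => dif_pos hz
  have hπadd : ∀ z ∈ B, ∀ z' ∈ B, π (z * z') = π z + π z' := fun z hz z' hz' => by
    rw [hπ z hz, hπ z' hz', hπ _ (B.mul_mem hz hz'), ← ofMul_mul, ← map_mul]
    rfl
  have hπ0 : ∀ z ∈ B', π z = 0 := fun z hz => by
    rw [hπ z (hB'B.le hz), ofMul_eq_zero]
    exact (QuotientGroup.eq_one_iff _).2 (mem_subgroupOf.2 hz)
  have hcB : ∀ z ∈ B, ∀ k : G, k * z * k⁻¹ ∈ B := fun z hz k => (inferInstance : B.Normal).conj_mem z hz k
  have hconj : ∀ r ∈ P, ∀ z ∈ B, ∀ k : G, π (k * (r * z * r⁻¹) * k⁻¹) = π (k * z * k⁻¹) := by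
    intro r hr z hz k
    have h1 : ⁅r, z⁆ ∈ B' := hPB (commutator_mem_commutator hr hz)
    rw [show k * (r * z * r⁻¹) * k⁻¹ = (k * ⁅r, z⁆ * k⁻¹) * (k * z * k⁻¹) by
      simp only [commutatorElement_def]; group,
      hπadd _ (hcB _ (hB'B.le h1) k) _ (hcB z hz k), hπ0 _ (hB'n.conj_mem _ h1 k), zero_add]
  let φ : G → (G × G → Additive (B ⧸ B'.subgroupOf B)) :=
    fun x t => if t.1 ∈ A then π (t.2 * ⁅x, t.1⁆ * t.2⁻¹) else 0
  have hcA : ∀ x ∈ U₁, ∀ a ∈ A, ⁅x, a⁆ ∈ B := fun x hx a ha => commutator_mem_commutator hx ha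
  have hφadd : ∀ x ∈ U₁, ∀ y ∈ U₁, φ (x * y) = φ x + φ y := by
    intro x hx y hy
    funext t
    simp only [φ, Pi.add_apply]
    by_cases ha : t.1 ∈ A
    · rw [if_pos ha, if_pos ha, if_pos ha,
        show t.2 * ⁅x * y, t.1⁆ * t.2⁻¹ = (t.2 * (x * ⁅y, t.1⁆ * x⁻¹) * t.2⁻¹) * (t.2 * ⁅x, t.1⁆ * t.2⁻¹) by
          simp only [commutatorElement_def]; group,
        hπadd _ (hcB _ (hcB _ (hcA y hy _ ha) x) _) _ (hcB _ (hcA x hx _ ha) _),
        hconj x (hUP (hU₁U hx)) _ (hcA y hy _ ha) t.2, add_comm]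
    · rw [if_neg ha, if_neg ha, if_neg ha, add_zero]
  let Lσ : AddMonoid.End (G × G → Additive (B ⧸ B'.subgroupOf B)) := { toFun := fun f t => f (g⁻¹ * t.1 * g, t.2), map_zero' := rfl, map_add' := fun _ _ => rfl }
  let Lτ : AddMonoid.End (G × G → Additive (B ⧸ B'.subgroupOf B)) := { toFun := fun f t => f (t.1, t.2 * g), map_zero' := rfl, map_add' := fun _ _ => rfl }
  have hcomm : Commute Lσ Lτ := AddMonoidHom.ext fun f => rfl
  have hAconj : ∀ a, g⁻¹ * a * g ∈ A ↔ a ∈ A := fun a => by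
    constructor
    · intro h
      simpa [mul_assoc] using hAn.conj_mem _ h g
    · intro h
      simpa using hAn.conj_mem _ h g⁻¹
  have hL : ∀ x ∈ U₁, φ (g * x * g⁻¹) = Lτ (Lσ (φ x)) := by
    intro x hx
    funext t
    show (if t.1 ∈ A then _ else _) = if g⁻¹ * t.1 * g ∈ A then π (t.2 * g * ⁅x, g⁻¹ * t.1 * g⁆ * (t.2 * g)⁻¹) else 0
    by_cases ha : t.1 ∈ A
    · rw [if_pos ha, if_pos ((hAconj _).2 ha)]
      congr 1
      simp only [commutatorElement_def]
      group
    · rw [if_neg ha, if_neg fun h => ha ((hAconj _).1 h)]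
  have hd : ∀ x ∈ U₁, ⁅g, x⁆ ∈ U₁ ∧ φ ⁅g, x⁆ = (Lτ * Lσ - 1) (φ x) := by
    intro x hx
    have h1 : ⁅g, x⁆ ∈ U₁ := comm_mem_of_mem hx
    refine ⟨h1, ?_⟩
    have h2 := hφadd _ h1 x hx
    rw [show ⁅g, x⁆ * x = g * x * g⁻¹ by simp only [commutatorElement_def]; group, hL x hx] at h2
    show _ = Lτ (Lσ (φ x)) - φ x
    rw [h2, add_sub_cancel_right]
  -- nilpotency on the two sides
  have hτpow : ∀ m, ∀ x ∈ U₁, ∀ t : G × G, ((Lτ - 1) ^ m) (φ x) t =
      if t.1 ∈ A then π (t.2 * ((fun w => ⁅g, w⁆)^[m] ⁅x, t.1⁆) * t.2⁻¹) else 0 := by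
    intro m x hx
    induction m with
    | zero => exact fun t => rfl
    | succ m ih =>
      intro t
      rw [pow_succ']
      show ((Lτ - 1) ^ m) (φ x) (t.1, t.2 * g) - ((Lτ - 1) ^ m) (φ x) t = _
      rw [ih, ih]
      by_cases ha : t.1 ∈ A
      · simp only [if_pos ha, Function.iterate_succ_apply']
        have hb : (fun w => ⁅g, w⁆)^[m] ⁅x, t.1⁆ ∈ B := by
          clear ih
          induction m with
          | zero => exact hcA x hx _ ha
          | succ m ihm => rw [Function.iterate_succ_apply']; exact comm_mem_of_mem ihm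
        generalize (fun w => ⁅g, w⁆)^[m] ⁅x, t.1⁆ = b at hb ⊢
        rw [sub_eq_iff_eq_add, ← hπadd _ (hcB _ (comm_mem_of_mem hb) _) _ (hcB _ hb _)]
        congr 1
        simp only [commutatorElement_def]
        group
      · simp only [if_neg ha, sub_zero]
  have hσpow : ∀ m, ∀ x ∈ U₁, ∀ t : G × G, ((Lσ - 1) ^ m) (φ x) t =
      if t.1 ∈ A then π (t.2 * ⁅x, (fun w => ⁅g⁻¹, w⁆)^[m] t.1⁆ * t.2⁻¹) else 0 := by
    intro m x hx
    induction m with
    | zero => exact fun t => rfl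
    | succ m ih =>
      intro t
      rw [pow_succ']
      show ((Lσ - 1) ^ m) (φ x) (g⁻¹ * t.1 * g, t.2) - ((Lσ - 1) ^ m) (φ x) t = _
      rw [ih, ih]
      by_cases ha : t.1 ∈ A
      · have ha' : g⁻¹ * t.1 * g ∈ A := (hAconj _).2 ha
        simp only [if_pos ha, if_pos ha']
        have hit : ∀ a, a ∈ A → (fun w => ⁅g⁻¹, w⁆)^[m] a ∈ A := by
          intro a ha
          clear ih
          induction m with
          | zero => exact ha
          | succ m ihm => rw [Function.iterate_succ_apply']; exact comm_mem_of_mem ihm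
        have e : (fun w => ⁅g⁻¹, w⁆)^[m] (g⁻¹ * t.1 * g) = g⁻¹ * ((fun w => ⁅g⁻¹, w⁆)^[m] t.1) * g := by
          clear ih hit
          induction m with
          | zero => rfl
          | succ m ihm =>
            rw [Function.iterate_succ_apply', ihm, Function.iterate_succ_apply']
            simp only [commutatorElement_def]
            group
        rw [e, Function.iterate_succ_apply']
        have hw := hit _ ha
        generalize (fun w => ⁅g⁻¹, w⁆)^[m] t.1 = w at hw ⊢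
        rw [sub_eq_iff_eq_add, show g⁻¹ * w * g = ⁅g⁻¹, w⁆ * w by simp only [commutatorElement_def]; group,
          show t.2 * ⁅x, ⁅g⁻¹, w⁆ * w⁆ * t.2⁻¹ =
            (t.2 * ⁅x, ⁅g⁻¹, w⁆⁆ * t.2⁻¹) * (t.2 * (⁅g⁻¹, w⁆ * ⁅x, w⁆ * ⁅g⁻¹, w⁆⁻¹) * t.2⁻¹) by
            simp only [commutatorElement_def]; group,
          hπadd _ (hcB _ (hcA x hx _ (comm_mem_of_mem hw)) _) _ (hcB _ (hcB _ (hcA x hx _ hw) _) _),
          hconj _ (hQP (hAQ (comm_mem_of_mem hw))) _ (hcA x hx _ hw) t.2]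
      · simp only [if_neg ha, if_neg fun h => ha ((hAconj _).1 h), sub_zero]
  have hτ0 : ∀ x ∈ U₁, ((Lτ - 1) ^ j) (φ x) = 0 := by
    intro x hx
    funext t
    rw [hτpow j x hx t]
    split_ifs with ha
    · exact hπ0 _ (hB'n.conj_mem _ (hZj B B' hchB hBZ (iterate_mem_iterCommutator (hcA x hx _ ha) j)) _)
    · rfl
  have hσ0 : ∀ x ∈ U₁, ((Lσ - 1) ^ i) (φ x) = 0 := by
    intro x hx
    funext t
    rw [hσpow i x hx t]
    split_ifs with ha
    · have h1 : (fun w => ⁅g⁻¹, w⁆)^[i] t.1 ∈ A' := by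
        have := iterate_mem_iterCommutator (g := g⁻¹) ha i
        rw [Subgroup.zpowers_inv] at this
        exact hQi A A' hchA hAQ this
      have h2 : ⁅x, (fun w => ⁅g⁻¹, w⁆)^[i] t.1⁆ ∈ ⁅U₁, A'⁆ := commutator_mem_commutator hx h1
      rw [hA'c, mem_bot] at h2
      rw [h2]
      exact hπ0 _ (by simp)
    · rfl
  let W : Subgroup G :=
    { carrier := {x | x ∈ U₁ ∧ φ x = 0}
      one_mem' := ⟨U₁.one_mem, by
        funext t
        show (if t.1 ∈ A then _ else _) = _
        split_ifs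
        · exact hπ0 _ (by simp)
        · rfl⟩
      mul_mem' := fun {x y} hx hy => ⟨mul_mem hx.1 hy.1, by rw [hφadd x hx.1 y hy.1, hx.2, hy.2, add_zero]⟩
      inv_mem' := fun {x} hx => ⟨inv_mem hx.1, by
        have h := hφadd x hx.1 x⁻¹ (inv_mem hx.1)
        rw [mul_inv_cancel, hx.2, zero_add] at h
        rw [← h]
        funext t
        show (if t.1 ∈ A then _ else _) = _
        split_ifs
        · exact hπ0 _ (by simp)
        · rfl⟩ }
  haveI : W.Normal := ⟨fun x hx k => ⟨hU₁n.conj_mem x hx.1 k, by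
    funext t
    show (if t.1 ∈ A then _ else _) = _
    split_ifs with ha
    · have ha' : k⁻¹ * t.1 * k ∈ A := by simpa using hAn.conj_mem _ ha k⁻¹
      have h := congrFun hx.2 (k⁻¹ * t.1 * k, t.2 * k)
      rw [show φ x (k⁻¹ * t.1 * k, t.2 * k) =
        π (t.2 * k * ⁅x, k⁻¹ * t.1 * k⁆ * (t.2 * k)⁻¹) from if_pos ha'] at h
      refine Eq.trans ?_ h
      congr 1
      simp only [commutatorElement_def]
      group
    · rfl⟩⟩
  have hWV : W ≤ V := by
    refine hsmall W inferInstance (fun _ hx => hx.1) fun e => hB'B.not_ge ?_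
    rw [hB, commutator_le]
    intro x hx a ha
    have h := congrFun ((e.ge hx).2) (a, 1)
    rw [show φ x (a, 1) = π (1 * ⁅x, a⁆ * 1⁻¹) from if_pos ha, one_mul, inv_one, mul_one,
      hπ _ (hcA x hx a ha)] at h
    exact mem_subgroupOf.1 ((QuotientGroup.eq_one_iff _).1 (ofMul_eq_zero.1 h))
  intro x hx
  refine ⟨hU₁U hx, hWV ?_⟩
  have hall : ∀ n, (fun w => ⁅g, w⁆)^[n] x ∈ U₁ ∧
      φ ((fun w => ⁅g, w⁆)^[n] x) = ((Lτ * Lσ - 1) ^ n) (φ x) := by
    intro n
    induction n with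
    | zero => exact ⟨hx, rfl⟩
    | succ n ih =>
      rw [Function.iterate_succ_apply', pow_succ']
      obtain ⟨h1, h2⟩ := hd _ ih.1
      exact ⟨h1, by rw [h2, ih.2]; rfl⟩
  refine ⟨(hall _).1, ?_⟩
  rw [(hall _).2]
  exact degree_add Lσ Lτ hcomm (φ x) (hσ0 x hx) (hτ0 x hx)

end CfsgLib.Techniques
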