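import Mathlib

/-!
Averaging over the cosets of a subgroup for an action on a finite abelian group.
-/

set_option autoImplicit false

namespace CfsgLib.Techniques

variable {L : Type*} [Group L] [Finite L] {M : Type*} [CommGroup M] [MulDistribMulAction L M]

open Classical in
/-- The product of the translates of a `T`-fixed element over the cosets of `T`. -/
noncomputable def avg (T : Subgroup L) : (FixedPoints.subgroup ↥T M) →* M :=
  letI : Fintype (L ⧸ T) := Fintype.ofFinite _
  { toFun := fun c => ∏ q : L ⧸ T, q.out • (c : M)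
    map_one' := by simp
    map_mul' := fun a b => by simp [smul_mul', Finset.prod_mul_distrib] }

theorem smul_avg (T : Subgroup L) (c : FixedPoints.subgroup ↥T M) (l : L) : l • avg T c = avg T c := by
  classical
  letI : Fintype (L ⧸ T) := Fintype.ofFinite _
  show l • ∏ q : L ⧸ T, q.out • (c : M) = ∏ q : L ⧸ T, q.out • (c : M)
  rw [Finset.smul_prod']
  refine Fintype.prod_equiv (MulAction.toPerm l) _ _ fun q => ?_
  have hq : (QuotientGroup.mk (l * q.out) : L ⧸ T) = l • q := by
    conv_rhs => rw [← QuotientGroup.out_eq' q]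
    rfl
  obtain ⟨t, ht⟩ := QuotientGroup.mk_out_eq_mul T (l * q.out)
  rw [hq] at ht
  rw [MulAction.toPerm_apply, ht, mul_smul, mul_smul]
  congr 2
  exact (c.2 t).symm

theorem avg_eq_pow (T : Subgroup L) (c : FixedPoints.subgroup ↥T M) (h : ∀ l : L, l • (c : M) = c) :
    avg T c = (c : M) ^ T.index := by
  classical
  letI : Fintype (L ⧸ T) := Fintype.ofFinite _
  show ∏ q : L ⧸ T, q.out • (c : M) = _
  simp [h, Subgroup.index_eq_card, Nat.card_eq_fintype_card]

theorem avg_congr (T : Subgroup L) (c : FixedPoints.subgroup ↥T M) {N : Subgroup M}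
    (htriv : ∀ (l : L) (m : M), (l • m) * m⁻¹ ∈ N) :
    avg T c * ((c : M) ^ T.index)⁻¹ ∈ N := by
  classical
  letI : Fintype (L ⧸ T) := Fintype.ofFinite _
  have h : avg T c * ((c : M) ^ T.index)⁻¹ = ∏ q : L ⧸ T, (q.out • (c : M)) * (c : M)⁻¹ := by
    rw [Finset.prod_mul_distrib]
    simp only [Finset.prod_const, Finset.card_univ, inv_pow]
    congr 1
    rw [Subgroup.index_eq_card, Nat.card_eq_fintype_card]
  rw [h]
  exact Subgroup.prod_mem _ fun q _ => htriv _ _

end CfsgLib.Techniques
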