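import Mathlib
import Cfsg.Agent.Lib.Techniques.StableCentralQuotient

/-!
# Normalizer `p`-stability and quotients by centralized normal `p`-subgroups, every odd `p`

The proof for `p ≥ 5` writes a transvection as a product of two `p'`-elements.  Here we avoid
this: a lift of the transvection is corrected so as to commute with the involution `ζ` acting as
`-1` on the plane, and then it is quadratic on the subgroup generated by the elements that `ζ`
inverts.
-/

set_option autoImplicit false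
set_option linter.unusedSectionVars false

namespace CfsgLib.Techniques.CentralQuotientOdd

open Cfsg Subgroup CfsgLib.Techniques.CentralQuotient
open scoped commutatorElement MatrixGroups

universe u

variable {p : ℕ} [hp : Fact p.Prime]

section Plane

variable {W : Type*} [Group W] {f : W →* Multiplicative (Fin 2 → ZMod p)}

/-- `φ` induces `g` on the image of `f`. -/
def Act (f : W →* Multiplicative (Fin 2 → ZMod p)) (g : SL(2, ZMod p)) (φ : MulAut W) : Prop :=
  ∀ w, (f (φ w)).toAdd = g.1.mulVec (f w).toAdd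

theorem Act.mul {g h : SL(2, ZMod p)} {φ ψ : MulAut W} (hφ : Act f g φ) (hψ : Act f h ψ) :
    Act f (g * h) (φ * ψ) := fun w => by
  rw [MulAut.mul_apply, hφ, hψ, Matrix.mulVec_mulVec, Matrix.SpecialLinearGroup.coe_mul]

theorem Act.inv {g : SL(2, ZMod p)} {φ : MulAut W} (hφ : Act f g φ) : Act f g⁻¹ φ⁻¹ := fun w => by
  have h := hφ (φ⁻¹ w)
  rw [MulAut.apply_inv_self] at h
  rw [h, Matrix.mulVec_mulVec, ← Matrix.SpecialLinearGroup.coe_mul, inv_mul_cancel]
  simp

theorem Act.pow {g : SL(2, ZMod p)} {φ : MulAut W} (hφ : Act f g φ) :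
    ∀ n : ℕ, Act f (g ^ n) (φ ^ n)
  | 0 => fun w => by simp
  | n + 1 => by rw [pow_succ, pow_succ]; exact (hφ.pow n).mul hφ

theorem Act.map_ker {g : SL(2, ZMod p)} {φ : MulAut W} (hφ : Act f g φ) {y : W} (hy : f y = 1) :
    f (φ y) = 1 := Multiplicative.toAdd.injective (by rw [hφ, hy]; simp)

/-- A lift can be corrected inside any subgroup containing it so as to commute with the
involution `ζ` which acts as `-1`. -/
theorem exists_commuting_lift {g : SL(2, ZMod p)} {φ ζ : MulAut W} (hφ : Act f g φ)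
    (hζ : Good f negId ζ) (hζ2 : ζ * ζ = 1) {N M : ℕ} (hN : Nat.card f.ker = p ^ N)
    (hM : p ^ N = 2 * M + 1) (R : Subgroup (MulAut W)) (hφR : φ ∈ R) (hζR : ζ ∈ R) :
    ∃ υ ∈ R, Act f g υ ∧ ζ * υ = υ * ζ := by
  set c := φ⁻¹ * ζ * φ * ζ with hcdef
  have hc : Good f 1 c := by
    refine ⟨fun y hy => ?_, ?_⟩
    · rw [hcdef, MulAut.mul_apply, MulAut.mul_apply, MulAut.mul_apply, hζ.1 y hy,
        hζ.1 _ (hφ.map_ker hy), MulAut.inv_apply_self]
    · have h := ((hφ.inv.mul hζ.2).mul hφ).mul (hζ.2 : Act f negId ζ)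
      rwa [mul_assoc g⁻¹ negId g, negId_comm, ← mul_assoc, inv_mul_cancel, one_mul, negId_sq] at h
  have hcN : c ^ p ^ N = 1 := hN ▸ hc.pow_card
  have hζi : ζ⁻¹ = ζ := inv_eq_of_mul_eq_one_right hζ2
  have hcζ : ζ * c * ζ = c⁻¹ := by
    rw [hcdef]
    simp only [mul_inv_rev, inv_inv, hζi, mul_assoc, hζ2, mul_one]
  have hcsq : c ^ (M + 1) * c ^ (M + 1) = c := by
    rw [← pow_add, show M + 1 + (M + 1) = p ^ N + 1 by omega, pow_succ, hcN, one_mul]
  refine ⟨φ * c ^ (M + 1), R.mul_mem hφR (R.pow_mem (R.mul_mem (R.mul_mem (R.mul_mem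
    (R.inv_mem hφR) hζR) hφR) hζR) _), ?_, ?_⟩
  · have h := hφ.mul ((hc.pow (M + 1)).2 : Act f _ _)
    simpa using h
  · have h1 : ζ * c ^ (M + 1) * ζ = (c ^ (M + 1))⁻¹ := by
      have := conj_pow (a := ζ) (b := c) (i := M + 1)
      rw [hζi] at this
      rw [← this, hcζ, inv_pow]
    have h2 : ζ * φ * ζ = φ * c := by rw [hcdef]; group
    have h3 : ζ * (φ * c ^ (M + 1)) * ζ = φ * c ^ (M + 1) := by
      calc ζ * (φ * c ^ (M + 1)) * ζ = (ζ * φ * ζ) * (ζ * c ^ (M + 1) * ζ) := by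
            simp only [mul_assoc]; rw [← mul_assoc ζ ζ, hζ2, one_mul]
        _ = φ * c * (c ^ (M + 1))⁻¹ := by rw [h1, h2]
        _ = φ * c ^ (M + 1) := by
            rw [mul_assoc]; congr 1; rw [mul_inv_eq_iff_eq_mul, hcsq]
    calc ζ * (φ * c ^ (M + 1)) = ζ * (φ * c ^ (M + 1)) * ζ * ζ := by
          rw [mul_assoc _ ζ ζ, hζ2, mul_one]
      _ = _ := by rw [h3]

end Plane

/-- A natural plane over a centralized centre is a failure of `p`-stability. -/
theorem false_of_plane {G : Type u} [Group G] [Finite G] (hp2 : p ≠ 2)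
    (hst : IsNormalizerPStable p G) (W : Subgroup G) (hW : IsPGroup p W)
    (f : W →* Multiplicative (Fin 2 → ZMod p)) (hf : Function.Surjective f)
    (hcen : ∀ y : W, f y = 1 → ∀ w : W, y * w = w * y)
    (hact : ∀ g : SL(2, ZMod p), ∃ φ ∈ W.normalizerMonoidHom.range, Act f g φ)
    (hlift : ∀ g : SL(2, ZMod p), Nat.Coprime (orderOf g) p →
      ∃ φ ∈ W.normalizerMonoidHom.range, Good f g φ) : False := by
  set α := W.normalizerMonoidHom
  obtain ⟨N, hN⟩ := IsPGroup.iff_card.1 (hW.to_subgroup f.ker)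
  have hpodd : Odd p := hp.out.odd_of_ne_two hp2
  obtain ⟨M, hM⟩ := (hpodd.pow (n := N))
  have h2p : Nat.Coprime 2 p := Nat.coprime_two_left.mpr hpodd
  -- an involution acting as `-1`
  obtain ⟨φ₀, hφ₀S, hφ₀⟩ := hlift negId (Nat.Coprime.coprime_dvd_left
    (orderOf_dvd_of_pow_eq_one (by rw [pow_two, negId_sq])) h2p)
  set ζ := φ₀ ^ p ^ N with hζdef
  have hζ : Good f negId ζ := by
    have h := hφ₀.pow (p ^ N)
    rwa [hM, pow_succ, pow_mul, pow_two, negId_sq, one_pow, one_mul, ← hM] at h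
  have hζ2 : ζ * ζ = 1 := by
    have h : Good f 1 (φ₀ * φ₀) := by simpa [negId_sq] using hφ₀.mul hφ₀
    rw [hζdef, ← (Commute.refl φ₀).mul_pow, ← hN]
    exact h.pow_card
  have hζS : ζ ∈ α.range := pow_mem hφ₀S _
  -- a transvection and a rotation commuting with it
  obtain ⟨φu, hφuS, hφu⟩ := hact transv
  obtain ⟨υ, hυS, hυ, hcomm⟩ := exists_commuting_lift hφu hζ hζ2 hN hM α.range hφuS hζS
  obtain ⟨φr, hφrS, hφr⟩ := hact rot
  obtain ⟨ρ, hρS, hρ, hρcomm⟩ := exists_commuting_lift hφr hζ hζ2 hN hM α.range hφrS hζS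
  -- the subgroup generated by the inverted elements
  set S₄ : Subgroup W := closure {s : W | ζ s = s⁻¹} with hS₄
  have hinv : ∀ θ : MulAut W, ζ * θ = θ * ζ → ∀ x ∈ S₄, θ x ∈ S₄ := by
    intro θ hθ x hx
    have : S₄ ≤ S₄.comap θ.toMonoidHom := (closure_le _).2 fun s hs => subset_closure (by
      show ζ (θ s) = (θ s)⁻¹
      rw [← MulAut.mul_apply, hθ, MulAut.mul_apply, (hs : ζ s = s⁻¹), map_inv])
    exact this hx
  have hsq : ∀ r : W, r * r = 1 → r = 1 := fun r hr => by
    obtain ⟨k, hk⟩ := hW r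
    refine orderOf_eq_one_iff.1 (Nat.eq_one_of_dvd_coprimes (h2p.pow_right k)
      (orderOf_dvd_of_pow_eq_one (by rw [pow_two, hr])) (orderOf_dvd_of_pow_eq_one hk))
  have hsurj : ∀ v : Fin 2 → ZMod p, ∃ s ∈ S₄, (f s).toAdd = v := by
    intro v
    obtain ⟨w, hw⟩ := hf (Multiplicative.ofAdd v)
    set y₁ := w * ζ w with hy₁
    have hy₁f : f y₁ = 1 := by
      apply Multiplicative.toAdd.injective
      rw [hy₁, map_mul, toAdd_mul, hζ.2, negId_mulVec, add_neg_cancel, toAdd_one]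
    set y := (y₁⁻¹) ^ (M + 1) with hydef
    have hyf : f y = 1 := by rw [hydef, map_pow, map_inv, hy₁f, inv_one, one_pow]
    have hyy : y₁ * y * y = 1 := by
      have h1 : y₁ ^ p ^ N = 1 := by
        have := orderOf_dvd_iff_pow_eq_one.1 (orderOf_dvd_natCard f.ker (MonoidHom.mem_ker.2 hy₁f))
        rwa [hN] at this
      rw [mul_assoc, hydef, ← pow_add, show M + 1 + (M + 1) = p ^ N + 1 by omega, pow_succ, inv_pow,
        h1, inv_one, one_mul, mul_inv_cancel]
    refine ⟨w * y, subset_closure ?_, by rw [map_mul, hyf, mul_one, hw, toAdd_ofAdd]⟩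
    show ζ (w * y) = (w * y)⁻¹
    rw [map_mul, hζ.1 y hyf]
    refine eq_inv_of_mul_eq_one_right ?_
    calc w * y * (ζ w * y) = w * ζ w * y * y := by
          rw [mul_assoc w y, ← mul_assoc y, hcen y hyf (ζ w)]; group
      _ = 1 := hyy
  -- elements over the fixed line commute
  obtain ⟨u, hu⟩ := hf (Multiplicative.ofAdd (Pi.single 0 1))
  have hline : ∀ t : W, (f t).toAdd 1 = 0 → ∃ (i : ℕ) (y : W), f y = 1 ∧ t = y * u ^ i := by
    intro t ht
    refine ⟨((f t).toAdd 0).val, t * (u ^ ((f t).toAdd 0).val)⁻¹, ?_, by group⟩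
    apply Multiplicative.toAdd.injective
    rw [map_mul, map_inv, map_pow, hu, toAdd_mul, toAdd_inv, toAdd_pow, toAdd_ofAdd, toAdd_one]
    ext i
    fin_cases i
    · show (f t).toAdd 0 + -(((f t).toAdd 0).val • (Pi.single 0 1 : Fin 2 → ZMod p)) 0 = 0
      rw [Pi.smul_apply, Pi.single_eq_same, nsmul_one, ZMod.natCast_zmod_val, add_neg_cancel]
    · simpa using ht
  have hlinecomm : ∀ a b : W, (f a).toAdd 1 = 0 → (f b).toAdd 1 = 0 → a * b = b * a := by
    intro a b ha hb
    obtain ⟨i, y, hy, rfl⟩ := hline a ha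
    obtain ⟨j, z, hz, rfl⟩ := hline b hb
    have h1 : Commute y (z * u ^ j) := hcen y hy _
    have h2 : Commute (u ^ i) z := (hcen z hz _ : Commute z _).symm
    exact h1.mul_left (h2.mul_right ((Commute.refl u).pow_pow i j))
  have ht1 : ∀ w, (f (w⁻¹ * υ w)).toAdd 1 = 0 := fun w => by
    rw [map_mul, map_inv, toAdd_mul, toAdd_inv, hυ]
    simp [transv, Matrix.mulVec, dotProduct, Fin.sum_univ_two]
  -- the transvection is quadratic on the inverted elements
  have hζυ : ∀ x, ζ (υ x) = υ (ζ x) := fun x => DFunLike.congr_fun hcomm x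
  have hquad₀ : ∀ s, ζ s = s⁻¹ → υ (s⁻¹ * υ s) = s⁻¹ * υ s := by
    intro s hζs
    set t := s⁻¹ * υ s with htdef
    set r := t⁻¹ * υ t with hrdef
    have hrf : f r = 1 := by
      apply Multiplicative.toAdd.injective
      have h1 : (f t).toAdd = (transv : SL(2, ZMod p)).1.mulVec (f s).toAdd - (f s).toAdd := by
        rw [htdef, map_mul, map_inv, toAdd_mul, toAdd_inv, hυ, neg_add_eq_sub]
      rw [hrdef, map_mul, map_inv, toAdd_mul, toAdd_inv, hυ, h1, transv_quad, neg_add_cancel,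
        toAdd_one]
    have hυs : υ s = s * t := by rw [htdef, mul_inv_cancel_left]
    have hυt : υ t = t * r := by rw [hrdef, mul_inv_cancel_left]
    have hζt : ζ t = s * t⁻¹ * s⁻¹ := by
      rw [htdef, map_mul, map_inv, hζυ, hζs, inv_inv, map_inv, hυs]; group
    have h1 : υ (ζ t) = ζ t * r := by rw [← hζυ, hυt, map_mul, hζ.1 r hrf]
    rw [hζt, map_mul, map_mul, map_inv, map_inv, hυs, hυt] at h1
    have hrc : ∀ x, r⁻¹ * x = x * r⁻¹ := fun x => hcen r⁻¹ (by rw [map_inv, hrf, inv_one]) x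
    have h2 : r⁻¹ * (s * t⁻¹ * s⁻¹) = s * t⁻¹ * s⁻¹ * r := by
      calc r⁻¹ * (s * t⁻¹ * s⁻¹) = r⁻¹ * (s * t) * t⁻¹ * t⁻¹ * s⁻¹ := by group
        _ = (s * t) * r⁻¹ * t⁻¹ * t⁻¹ * s⁻¹ := by rw [hrc]
        _ = s * t * (t * r)⁻¹ * (s * t)⁻¹ := by group
        _ = _ := h1
    rw [← hcen r hrf (s * t⁻¹ * s⁻¹)] at h2
    have hr1 : r = 1 := hsq r (by
      have := mul_right_cancel h2
      conv_lhs => arg 1; rw [← this]
      exact inv_mul_cancel r)
    rw [hυt, hr1, mul_one]
  haveI : Finite W := inferInstance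
  have hquad : ∀ w ∈ S₄, υ (w⁻¹ * υ w) = w⁻¹ * υ w := by
    let A : Submonoid W :=
      { carrier := {w | υ (w⁻¹ * υ w) = w⁻¹ * υ w}
        one_mem' := by simp
        mul_mem' := by
          intro a b (ha : υ _ = _) (hb : υ _ = _)
          show υ _ = _
          set ta := a⁻¹ * υ a with hta
          set tb := b⁻¹ * υ b with htb
          have hυb : υ b = b * tb := by rw [htb, mul_inv_cancel_left]
          have e : (a * b)⁻¹ * υ (a * b) = b⁻¹ * ta * b * tb := by
            rw [map_mul, hta, htb]; group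
          have hc1 : (f (b⁻¹ * ta * b)).toAdd 1 = 0 := by
            simp [show (f ta).toAdd 1 = 0 from ht1 a]
          rw [e, map_mul, map_mul, map_mul, map_inv, ha, hb, hυb]
          calc (b * tb)⁻¹ * ta * (b * tb) * tb = tb⁻¹ * (b⁻¹ * ta * b * tb) * tb := by group
            _ = tb⁻¹ * (tb * (b⁻¹ * ta * b)) * tb := by rw [hlinecomm _ tb hc1 (ht1 b)]
            _ = _ := by group }
    intro w hw
    have hw' : w ∈ S₄.toSubmonoid := hw
    rw [hS₄, Subgroup.closure_toSubmonoid_of_finite] at hw'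
    exact Submonoid.closure_le (S := A) |>.2 (fun s hs => hquad₀ s hs) hw'
  -- back to `G`
  set W₄ : Subgroup G := S₄.map W.subtype with hW₄
  have hnorm : ∀ (n : normalizer (W : Set G)), ζ * α n = α n * ζ →
      (n : G) ∈ normalizer (W₄ : Set G) := by
    intro n hn
    refine mem_normalizer_fintype ?_
    rintro _ ⟨w, hw, rfl⟩
    exact ⟨α n w, hinv _ hn w hw, rfl⟩
  obtain ⟨n, hn⟩ := hυS
  obtain ⟨m, hm⟩ := hρS
  have hnN : (n : G) ∈ normalizer (W₄ : Set G) := hnorm n (hn ▸ hcomm)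
  have hmN : (m : G) ∈ normalizer (W₄ : Set G) := hnorm m (hm ▸ hρcomm)
  have hqG : ⁅⁅W₄, zpowers (n : G)⁆, zpowers (n : G)⁆ = ⊥ := by
    rw [commutator_eq_bot_iff_le_centralizer, commutator_le]
    rintro _ ⟨w, hw, rfl⟩ h hh
    obtain ⟨k, rfl⟩ : h ∈ Submonoid.powers (n : G) := mem_powers_iff_mem_zpowers.2 hh
    set x : W := w⁻¹ with hx
    have hxS : x ∈ S₄ := inv_mem hw
    have he : ⁅(w : G), (n : G) ^ k⁆ = ((x⁻¹ * υ x) ^ k : W) := by
      have h1 : (((υ ^ k) x : W) : G) = (n : G) ^ k * x * ((n : G) ^ k)⁻¹ := by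
        rw [← hn, ← map_pow]; rfl
      rw [pow_apply_of_fixed υ x (hquad x hxS) k] at h1
      rw [commutatorElement_def]
      calc (w : G) * (n : G) ^ k * (w : G)⁻¹ * ((n : G) ^ k)⁻¹ =
          (x : G)⁻¹ * ((n : G) ^ k * x * ((n : G) ^ k)⁻¹) := by simp [hx, mul_assoc]
        _ = _ := by rw [← h1]; push_cast; group
    show ⁅(w : G), (n : G) ^ k⁆ ∈ _
    rw [he]
    refine mem_centralizer_iff.2 fun j hj => ?_
    obtain ⟨i, rfl⟩ := mem_zpowers_iff.1 hj
    refine (Commute.zpow_left ?_ i).eq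
    have h2 : (n : G) * ((x⁻¹ * υ x) ^ k : W) * (n : G)⁻¹ = ((x⁻¹ * υ x) ^ k : W) := by
      have := congrArg Subtype.val (show υ ((x⁻¹ * υ x) ^ k) = (x⁻¹ * υ x) ^ k by
        rw [map_pow, hquad x hxS])
      generalize (x⁻¹ * υ x) ^ k = z at this ⊢
      rw [← hn] at this
      exact this
    exact mul_inv_eq_iff_eq_mul.1 h2
  have hW₄p : IsPGroup p W₄ := hW.to_le (map_subtype_le _)
  have hmem := hst W₄ hW₄p n hnN hqG
  set C := (centralizer (W₄ : Set G)).subgroupOf (normalizer (W₄ : Set G))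
  set n' : normalizer (W₄ : Set G) := ⟨n, hnN⟩
  set m' : normalizer (W₄ : Set G) := ⟨m, hmN⟩
  have hmem2 : QuotientGroup.mk' C (n' * (m' * n' * m'⁻¹)) ∈
      pCore p (normalizer (W₄ : Set G) ⧸ C) := by
    rw [map_mul, map_mul, map_mul, map_inv]
    exact mul_mem hmem ((pCore_normal p _).conj_mem _ hmem _)
  obtain ⟨k, hk⟩ := CfsgLib.Base.isPGroup_pCore p _ ⟨_, hmem2⟩
  have hk' : (n' * (m' * n' * m'⁻¹)) ^ p ^ k ∈ C := by
    rw [← QuotientGroup.eq_one_iff]
    have := congrArg Subtype.val hk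
    rwa [SubmonoidClass.coe_pow, OneMemClass.coe_one, ← map_pow] at this
  have hA := (hυ.mul ((hρ.mul hυ).mul hρ.inv)).pow (p ^ k)
  have h1 : ((transv : SL(2, ZMod p)) * (rot * transv * rot⁻¹)) ^ p ^ k = 1 := by
    refine Subtype.ext (Matrix.toLin'.injective (LinearMap.ext fun v => ?_))
    obtain ⟨s, hs, hsv⟩ := hsurj v
    have h := hA s
    have hfix : ((υ * (ρ * υ * ρ⁻¹)) ^ p ^ k) s = s := by
      rw [← hn, ← hm, ← map_inv, ← map_mul, ← map_mul, ← map_mul, ← map_pow]
      refine Subtype.ext ?_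
      have hmc := mem_centralizer_iff.1 (mem_subgroupOf.1 hk') (s : G) ⟨s, hs, rfl⟩
      show _ * (s : G) * _⁻¹ = (s : G)
      refine mul_inv_eq_iff_eq_mul.2 ?_
      simpa [n', m'] using hmc.symm
    rw [hfix, hsv] at h
    rw [Matrix.toLin'_apply, Matrix.toLin'_apply, Matrix.SpecialLinearGroup.coe_one, Matrix.one_mulVec]
    exact h.symm
  obtain ⟨h6, hne⟩ := transv_mul_conj (p := p)
  set g := (transv : SL(2, ZMod p)) * (rot * transv * rot⁻¹) with hg
  have h3 : g ^ 3 = 1 := by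
    rw [← orderOf_dvd_iff_pow_eq_one]
    have hd : orderOf g ∣ Nat.gcd (2 * 3) (p ^ k) :=
      Nat.dvd_gcd (orderOf_dvd_of_pow_eq_one h6) (orderOf_dvd_of_pow_eq_one h1)
    rw [Nat.Coprime.gcd_mul_left_cancel 3 (h2p.pow_right k)] at hd
    exact hd.trans (Nat.gcd_dvd_left _ _)
  have hne3 : g ^ 3 ≠ 1 := by
    intro h
    have hg6 : g = ordSix := by
      rw [hg, ← mul_assoc, mul_inv_eq_iff_eq_mul]
      refine Subtype.ext ?_
      simp only [Matrix.SpecialLinearGroup.coe_mul]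
      ext i j; fin_cases i <;> fin_cases j <;>
        simp [transv, rot, ordSix, Matrix.mul_apply, Fin.sum_univ_two]
    have h3n : (ordSix : SL(2, ZMod p)) ^ 3 = negId := by
      refine Subtype.ext ?_
      simp only [Matrix.SpecialLinearGroup.coe_pow]
      ext i j; fin_cases i <;> fin_cases j <;>
        simp [negId, ordSix, pow_succ, Matrix.mul_apply, Fin.sum_univ_two]
    rw [hg6, h3n] at h
    have h00 : (-1 : ZMod p) = 1 := by
      have := congrFun (congrFun (congrArg Subtype.val h) 0) 0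
      simpa [negId] using this
    have h2z : (2 : ZMod p) = 0 := by linear_combination -h00
    exact hp2 ((Nat.prime_dvd_prime_iff_eq hp.out Nat.prime_two).1
      ((ZMod.natCast_eq_zero_iff 2 p).1 (by exact_mod_cast h2z)))
  exact hne3 h3

variable {G : Type u} [Group G] [Finite G]

/-- A pair acting quadratically modulo `H` acts as a `p`-group on `B`. -/
theorem pair_centralizes (hp2 : p ≠ 2) (hst : IsNormalizerPStable p G) {H B : Subgroup G}
    (hB : IsPGroup p B) (hcen : ∀ d : G, Nat.Coprime (orderOf d) p → d ∈ centralizer (H : Set G))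
    {a b : G} (hX : closure ({a, b} : Set G) ≤ normalizer (B : Set G))
    (ha : ⁅⁅B, zpowers a⁆, zpowers a⁆ ≤ H) (hb : ⁅⁅B, zpowers b⁆, zpowers b⁆ ≤ H)
    {d : G} (hdX : d ∈ closure ({a, b} : Set G)) (hd : Nat.Coprime (orderOf d) p) :
    d ∈ centralizer (B : Set G) := by
  set X := closure ({a, b} : Set G) with hXdef
  by_contra hdB
  obtain ⟨W, ⟨hWB, hWX, hWbad⟩, hmin⟩ := Set.exists_min_image
    {U : Subgroup G | U ≤ B ∧ X ≤ normalizer (U : Set G) ∧
      ∃ d ∈ X, Nat.Coprime (orderOf d) p ∧ d ∉ centralizer (U : Set G)}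
    (fun U => Nat.card U) (Set.toFinite _) ⟨B, le_rfl, hX, d, hdX, hd, hdB⟩
  have hWp : IsPGroup p W := hB.to_le hWB
  set Mset : Set G := {e : G | e ∈ X ∧ Nat.Coprime (orderOf e) p}
  set Y : Subgroup G := W ⊓ centralizer Mset with hYdef
  have hMconj : ∀ x ∈ X, ∀ e ∈ Mset, x * e * x⁻¹ ∈ Mset := fun x hx e he =>
    ⟨mul_mem (mul_mem hx he.1) (inv_mem hx), by rw [orderOf_conj]; exact he.2⟩
  have hXC : X ≤ normalizer (centralizer Mset : Set G) := fun x hx => by
    refine mem_normalizer_fintype fun y hy => mem_centralizer_iff.2 fun e he => ?_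
    have := mem_centralizer_iff.1 hy _ (by simpa using hMconj x⁻¹ (inv_mem hx) e he)
    calc e * (x * y * x⁻¹) = x * (x⁻¹ * e * x * y) * x⁻¹ := by group
      _ = x * (y * (x⁻¹ * e * x)) * x⁻¹ := by rw [this]
      _ = _ := by group
  have hXY : X ≤ normalizer (Y : Set G) := (le_inf hWX hXC).trans (CfsgLib.PLocal.normalizer_inf_le _ _)
  have hprop : ∀ U : Subgroup G, U ≤ W → U ≠ W → X ≤ normalizer (U : Set G) → U ≤ Y := by
    intro U hUW hne hUX
    refine le_inf hUW fun u hu => mem_centralizer_iff.2 fun e he => ?_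
    by_contra hc
    exact hne (eq_of_le_of_card_ge hUW (hmin U ⟨hUW.trans hWB, hUX, e, he.1, he.2,
      fun h => hc ((mem_centralizer_iff.1 h u hu).symm)⟩))
  have hHY : H ⊓ W ≤ Y := fun h hh => ⟨hh.2, mem_centralizer_iff.2 fun e he =>
    (mem_centralizer_iff.1 (hcen e he.2) h hh.1).symm⟩
  haveI hW1 : Nontrivial W := (nontrivial_iff_ne_bot W).2 fun h => by
    obtain ⟨e, -, -, he⟩ := hWbad
    exact he (mem_centralizer_iff.2 fun w hw => by
      rw [h, SetLike.mem_coe, mem_bot] at hw; simp [hw])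
  -- the Frattini subgroup lies in `Y`
  have hF : (frattini W).map W.subtype ≤ Y := by
    refine hprop _ (map_subtype_le _) (fun h => ?_) fun x hx => ?_
    · refine CfsgLib.PGroups.frattini_ne_top (G := W) (map_injective W.subtype_injective ?_)
      rw [h, ← MonoidHom.range_eq_map, range_subtype]
    · rw [mem_normalizer_iff_map_conj_eq]
      have hchar := (inferInstance : (frattini W).Characteristic)
      show ((frattini W).map W.subtype).map (MulAut.conj x).toMonoidHom = _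
      rw [Subgroup.map_map, show (MulAut.conj x).toMonoidHom.comp W.subtype =
        W.subtype.comp (W.normalizerMonoidHom ⟨x, hWX hx⟩).toMonoidHom from rfl,
        ← Subgroup.map_map, characteristic_iff_map_eq.1 hchar]
  have hcomm : ∀ v ∈ W, ∀ w ∈ W, v * w * v⁻¹ * w⁻¹ ∈ Y := fun v hv w hw =>
    hF ⟨⁅(⟨v, hv⟩ : W), ⟨w, hw⟩⁆, CfsgLib.PGroups.commutator_le_frattini hWp
      (commutator_mem_commutator (mem_top _) (mem_top _)), rfl⟩
  -- the moved part generates `W`
  set U : Subgroup G := closure {v | ∃ w ∈ W, ∃ e ∈ Mset, v = w⁻¹ * (e * w * e⁻¹)} with hUdef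
  have hUW : U ≤ W := (closure_le _).2 (by
    rintro _ ⟨w, hw, e, he, rfl⟩
    exact mul_mem (inv_mem hw) ((mem_normalizer_iff.1 (hWX he.1) w).1 hw))
  have hU : U = W := by
    by_contra hne
    have hUY : U ≤ Y := by
      refine hprop U hUW hne fun x hx => mem_normalizer_fintype fun y hy => ?_
      suffices h : U ≤ U.comap (MulAut.conj x).toMonoidHom by
        simpa [MulAut.conj_apply] using h hy
      refine (closure_le _).2 ?_
      rintro _ ⟨w, hw, e, he, rfl⟩
      exact subset_closure ⟨x * w * x⁻¹, (mem_normalizer_iff.1 (hWX hx) w).1 hw, x * e * x⁻¹,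
        hMconj x hx e he, by simp only [MulEquiv.coe_toMonoidHom, MulAut.conj_apply]; group⟩
    obtain ⟨e, heX, he, hec⟩ := hWbad
    exact hec (mem_centralizer_of_layers hWp inf_le_left he
      (fun y hy => (mem_centralizer_iff.1 (mem_inf.1 hy).2 e (show e ∈ Mset from ⟨heX, he⟩))) fun w hw =>
      hUY (subset_closure ⟨w, hw, e, ⟨heX, he⟩, rfl⟩))
  -- so `Y` is central in `W`
  have hYcen : ∀ y ∈ Y, ∀ w ∈ W, y * w = w * y := by
    intro y hy w hw
    rw [← hU] at hw
    suffices h : U ≤ centralizer ({y} : Set G) from mem_centralizer_iff.1 (h hw) y rfl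
    refine (closure_le _).2 ?_
    rintro _ ⟨v, hv, e, he, rfl⟩
    refine mem_centralizer_iff.2 fun u hu => ?_
    rw [Set.mem_singleton_iff.1 hu]
    have hey : e * y = y * e := mem_centralizer_iff.1 (mem_inf.1 hy).2 e he
    have hec := mem_centralizer_iff.1 (mem_inf.1 (hcomm y hy.1 v hv)).2 e he
    have hey' : e⁻¹ * y = y * e⁻¹ := by
      calc e⁻¹ * y = e⁻¹ * (y * e) * e⁻¹ := by group
        _ = e⁻¹ * (e * y) * e⁻¹ := by rw [hey]
        _ = _ := by group
    have h1 : y * (e * v * e⁻¹) * y⁻¹ * (e * v * e⁻¹)⁻¹ = y * v * y⁻¹ * v⁻¹ := by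
      calc y * (e * v * e⁻¹) * y⁻¹ * (e * v * e⁻¹)⁻¹
          = (y * e) * v * (y * e)⁻¹ * e * v⁻¹ * e⁻¹ := by group
        _ = (e * y) * v * (e * y)⁻¹ * e * v⁻¹ * e⁻¹ := by rw [hey]
        _ = e * (y * v * y⁻¹ * v⁻¹) * e⁻¹ := by group
        _ = _ := by rw [hec, mul_inv_cancel_right]
    generalize e * v * e⁻¹ = w' at h1 ⊢
    calc y * (v⁻¹ * w') = v⁻¹ * (v * y * v⁻¹) * w' := by group
      _ = v⁻¹ * (y * v * y⁻¹ * v⁻¹)⁻¹ * y * w' := by group
      _ = v⁻¹ * (y * w' * y⁻¹ * w'⁻¹)⁻¹ * y * w' := by rw [h1]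
      _ = v⁻¹ * w' * y := by group
  -- the irreducible module `W / Y`
  set Y' : Subgroup W := Y.subgroupOf W with hY'
  haveI hY'n : Y'.Normal := ⟨fun y hy w => by
    rw [hY', mem_subgroupOf] at hy ⊢
    rw [show ((w * y * w⁻¹ : W) : G) = y from by
      push_cast; rw [← hYcen _ hy _ w.2, mul_inv_cancel_right]]
    exact hy⟩
  letI : CommGroup (W ⧸ Y') := { (inferInstance : Group (W ⧸ Y')) with
    mul_comm := fun u v => QuotientGroup.induction_on u fun u => QuotientGroup.induction_on v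
      fun v => by
        rw [← QuotientGroup.mk_mul, ← QuotientGroup.mk_mul, QuotientGroup.eq, hY', mem_subgroupOf]
        have := hcomm _ (inv_mem v.2) _ (inv_mem u.2)
        simp only [inv_inv] at this
        simpa [mul_assoc] using this }
  have hexp : ∀ v : W ⧸ Y', v ^ p = 1 := fun v => QuotientGroup.induction_on v fun v => by
    rw [← QuotientGroup.mk_pow, QuotientGroup.eq_one_iff, hY', mem_subgroupOf]
    exact hF ⟨v ^ p, CfsgLib.PGroups.pow_mem_frattini hWp v, rfl⟩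
  haveI : Nontrivial (W ⧸ Y') := by
    rw [QuotientGroup.nontrivial_iff, hY', Ne, subgroupOf_eq_top]
    intro hle
    obtain ⟨e, heX, he, hec⟩ := hWbad
    exact hec (mem_centralizer_iff.2 fun w hw =>
      (mem_centralizer_iff.1 (mem_inf.1 (hle hw)).2 e (show e ∈ Mset from ⟨heX, he⟩)).symm)
  let αW : X →* MulAut W := W.normalizerMonoidHom.comp (Subgroup.inclusion hWX)
  have hmapY : ∀ x : X, Y'.map (αW x).toMonoidHom = Y' := fun x => by
    apply map_injective W.subtype_injective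
    rw [Subgroup.map_map, hY', map_subgroupOf_eq_of_le inf_le_left,
      show W.subtype.comp (αW x).toMonoidHom = (MulAut.conj (x : G)).toMonoidHom.comp W.subtype
        from rfl, ← Subgroup.map_map, map_subgroupOf_eq_of_le inf_le_left]
    exact mem_normalizer_iff_map_conj_eq.1 (hXY x.2)
  let α : X →* MulAut (W ⧸ Y') :=
    { toFun := fun x => QuotientGroup.congr Y' Y' (αW x) (hmapY x)
      map_one' := MulEquiv.ext fun v => QuotientGroup.induction_on v fun v => by
        show QuotientGroup.mk (αW 1 v) = QuotientGroup.mk v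
        rw [map_one]; rfl
      map_mul' := fun x y => MulEquiv.ext fun v => QuotientGroup.induction_on v fun v => by
        show QuotientGroup.mk (αW (x * y) v) = QuotientGroup.mk (αW x (αW y v))
        rw [map_mul]; rfl }
  have hαmk : ∀ (x : X) (v : W), α x (QuotientGroup.mk v) = QuotientGroup.mk (αW x v) :=
    fun _ _ => rfl
  have hquad : ∀ (x : G) (hx : x ∈ X), ⁅⁅B, zpowers x⁆, zpowers x⁆ ≤ H → ∀ v : W ⧸ Y',
      α ⟨x, hx⟩ (α ⟨x, hx⟩ v) * v = α ⟨x, hx⟩ v * α ⟨x, hx⟩ v := by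
    intro x hx hq v
    induction v using QuotientGroup.induction_on with | _ v =>
    set c := v * (αW ⟨x, hx⟩ v)⁻¹ with hcdef
    have hcG : (c : G) = ⁅(v : G), x⁆ := by
      rw [commutatorElement_def, hcdef]
      show (v : G) * (x * v * x⁻¹)⁻¹ = _
      group
    have hm : ⁅(c : G), x⁆ ∈ Y := by
      refine hHY ⟨hq ?_, ?_⟩
      · rw [hcG]
        exact commutator_mem_commutator (commutator_mem_commutator (hWB v.2) (mem_zpowers x))
          (mem_zpowers x)
      · rw [SetLike.mem_coe, commutatorElement_def,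
          show (c : G) * x * (c : G)⁻¹ * x⁻¹ = c * (x * (c : G)⁻¹ * x⁻¹) by group]
        exact mul_mem c.2 ((mem_normalizer_iff.1 (hWX hx) _).1 (inv_mem c.2))
    have h1 : (QuotientGroup.mk (c * (αW ⟨x, hx⟩ c)⁻¹) : W ⧸ Y') = 1 := by
      rw [QuotientGroup.eq_one_iff, hY', mem_subgroupOf]
      rw [commutatorElement_def] at hm
      show (c : G) * (x * c * x⁻¹)⁻¹ ∈ Y
      simpa [mul_assoc] using hm
    rw [hcdef, map_mul, map_inv, QuotientGroup.mk_mul, QuotientGroup.mk_mul, QuotientGroup.mk_inv,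
      QuotientGroup.mk_inv, QuotientGroup.mk_mul, QuotientGroup.mk_inv] at h1
    rw [hαmk, hαmk]
    generalize (QuotientGroup.mk v : W ⧸ Y') = V0 at h1 ⊢
    generalize (QuotientGroup.mk (αW ⟨x, hx⟩ v) : W ⧸ Y') = V1 at h1 ⊢
    generalize (QuotientGroup.mk (αW ⟨x, hx⟩ (αW ⟨x, hx⟩ v)) : W ⧸ Y') = V2 at h1 ⊢
    rw [mul_inv_eq_one, mul_inv_eq_iff_eq_mul, mul_right_comm, eq_mul_inv_iff_mul_eq] at h1
    rw [mul_comm, h1]
  have haX : a ∈ X := subset_closure (Or.inl rfl)
  have hbX : b ∈ X := subset_closure (Or.inr rfl)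
  have hgen : closure ({⟨a, haX⟩, ⟨b, hbX⟩} : Set X) = ⊤ := by
    apply map_injective X.subtype_injective
    rw [MonoidHom.map_closure, ← MonoidHom.range_eq_map, range_subtype, Set.image_pair]
    rfl
  obtain ⟨ψ, hψ, hadd, hplane⟩ := CfsgLib.PLocal.exists_plane_of_action (p := p) hp2 hexp α
    hgen (hquad a haX ha) (hquad b hbX hb)
    (fun U' hU' => by
      set V : Subgroup G := (U'.comap (QuotientGroup.mk' Y')).map W.subtype with hV
      by_cases hVW : V = W
      · refine Or.inr (eq_top_iff.2 fun v _ => QuotientGroup.induction_on v fun v => ?_)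
        have hv : (v : G) ∈ V := hVW.symm ▸ v.2
        obtain ⟨w, hw, hwv⟩ := hv
        exact (Subtype.ext hwv : w = v) ▸ hw
      · refine Or.inl ((Subgroup.eq_bot_iff_forall _).2 fun v => ?_)
        refine QuotientGroup.induction_on v fun v hv => ?_
        rw [QuotientGroup.eq_one_iff, hY', mem_subgroupOf]
        refine hprop V (map_subtype_le _) hVW (fun x hx => mem_normalizer_fintype ?_)
          (mem_map_of_mem _ (mem_comap.2 hv))
        rintro _ ⟨w, hw, rfl⟩
        exact ⟨αW ⟨x, hx⟩ w, hU' ⟨x, hx⟩ _ hw, rfl⟩)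
    (by
      obtain ⟨e, heX, he, hec⟩ := hWbad
      refine ⟨⟨e, heX⟩, fun h1 => hec (mem_centralizer_of_layers hWp inf_le_left he
        (fun y hy => (mem_centralizer_iff.1 (mem_inf.1 hy).2 e (show e ∈ Mset from ⟨heX, he⟩))) fun w hw => ?_)⟩
      have h2 := DFunLike.congr_fun h1 (QuotientGroup.mk ⟨w, hw⟩)
      rw [hαmk, MulAut.one_apply, eq_comm, QuotientGroup.eq, hY', mem_subgroupOf] at h2
      exact h2)
  -- the preimage of the plane
  let ψh : Multiplicative (Fin 2 → ZMod p) →* W ⧸ Y' :=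
    MonoidHom.mk' (fun v => ψ v.toAdd) fun u v => hadd _ _
  have hψh : Function.Injective ψh := fun u v h => Multiplicative.toAdd.injective (hψ h)
  let P' : Subgroup W := ψh.range.comap (QuotientGroup.mk' Y')
  let W₃ : Subgroup G := P'.map W.subtype
  have hW₃ : W₃ ≤ W := map_subtype_le _
  have hmemP : ∀ w : W₃, QuotientGroup.mk' Y' (Subgroup.inclusion hW₃ w) ∈ ψh.range := by
    rintro ⟨_, w, hw, rfl⟩
    exact hw
  let e := MonoidHom.ofInjective hψh
  let f : W₃ →* Multiplicative (Fin 2 → ZMod p) := e.symm.toMonoidHom.comp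
    (((QuotientGroup.mk' Y').comp (Subgroup.inclusion hW₃)).codRestrict ψh.range hmemP)
  have hfψ : ∀ w : W₃, ψh (f w) = QuotientGroup.mk (Subgroup.inclusion hW₃ w) := fun w =>
    congrArg Subtype.val (e.apply_symm_apply _)
  have hact : ∀ g : SL(2, ZMod p), ∃ φ ∈ W₃.normalizerMonoidHom.range, Act f g φ := by
    intro g
    obtain ⟨m, hmact⟩ := hplane g
    have hmN : (m : G) ∈ normalizer (W₃ : Set G) := by
      refine mem_normalizer_fintype ?_
      rintro _ ⟨w, ⟨v, hv⟩, rfl⟩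
      refine ⟨αW m w, ⟨Multiplicative.ofAdd (g.1.mulVec v.toAdd), ?_⟩, rfl⟩
      show ψ (g.1.mulVec v.toAdd) = QuotientGroup.mk (αW m w)
      rw [← hαmk, ← hmact]
      exact congrArg (α m) hv
    refine ⟨W₃.normalizerMonoidHom ⟨(m : G), hmN⟩, ⟨_, rfl⟩, fun w => ?_⟩
    have h1 : ψh (f (W₃.normalizerMonoidHom ⟨(m : G), hmN⟩ w)) =
        ψh (Multiplicative.ofAdd (g.1.mulVec (f w).toAdd)) := by
      rw [hfψ]
      show _ = ψ (g.1.mulVec (f w).toAdd)
      rw [← hmact, show ψ (f w).toAdd = ψh (f w) from rfl, hfψ, hαmk]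
      rfl
    exact congrArg Multiplicative.toAdd (hψh h1)
  refine false_of_plane hp2 hst W₃ (hWp.to_le hW₃) f ?_ ?_ hact ?_
  · intro v
    obtain ⟨w, hw⟩ := QuotientGroup.mk_surjective (ψh v)
    refine ⟨⟨w, mem_map_of_mem _ (show w ∈ P' from ⟨v, hw.symm⟩)⟩, hψh ?_⟩
    rw [hfψ]; exact hw
  · intro y hy w
    have h1 := hfψ y
    rw [hy, map_one, eq_comm, QuotientGroup.eq_one_iff, hY', mem_subgroupOf] at h1
    exact Subtype.ext (hYcen y h1 w (hW₃ w.2))
  intro g hg
  obtain ⟨h, hh⟩ := hplane g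
  have hpowh : ∀ (j : ℕ) (v : Fin 2 → ZMod p), α (h ^ j) (ψ v) = ψ ((g ^ j).1.mulVec v) := by
    intro j
    induction j with
    | zero => intro v; simp
    | succ j ih =>
      intro v
      rw [pow_succ, map_mul, MulAut.mul_apply, hh, ih, Matrix.mulVec_mulVec,
        ← Matrix.SpecialLinearGroup.coe_mul, ← pow_succ]
  set A := p ^ (orderOf h).factorization p
  have hcopA : Nat.Coprime A (orderOf g) := (hg.symm).pow_left _
  obtain ⟨k, hk⟩ := exists_pow_eq_self_of_coprime hcopA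
  set m := (h ^ A) ^ k with hmdef
  have hm : Nat.Coprime (orderOf (m : G)) p := by
    rw [Subgroup.orderOf_coe]
    refine Nat.Coprime.coprime_dvd_left (orderOf_pow_dvd k) ?_
    rw [orderOf_pow_of_dvd (pow_ne_zero _ hp.out.ne_zero) (Nat.ordProj_dvd _ _)]
    exact ((Nat.coprime_ordCompl hp.out (orderOf_pos h).ne').symm)
  have hmact : ∀ v, α m (ψ v) = ψ (g.1.mulVec v) := fun v => by
    rw [hmdef, ← pow_mul, hpowh, pow_mul, hk]
  have hmN : (m : G) ∈ normalizer (W₃ : Set G) := by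
    refine mem_normalizer_fintype ?_
    rintro _ ⟨w, ⟨v, hv⟩, rfl⟩
    refine ⟨αW m w, ⟨Multiplicative.ofAdd (g.1.mulVec v.toAdd), ?_⟩, rfl⟩
    show ψ (g.1.mulVec v.toAdd) = QuotientGroup.mk (αW m w)
    rw [← hαmk, ← hmact]
    exact congrArg (α m) hv
  refine ⟨W₃.normalizerMonoidHom ⟨(m : G), hmN⟩, ⟨_, rfl⟩, fun y hy => ?_, fun w => ?_⟩
  · have h1 := hfψ y
    rw [hy, map_one, eq_comm, QuotientGroup.eq_one_iff, hY', mem_subgroupOf] at h1
    refine Subtype.ext ?_
    show (m : G) * y * (m : G)⁻¹ = y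
    exact mul_inv_eq_iff_eq_mul.2 (mem_centralizer_iff.1 (mem_inf.1 h1).2 _ (show (m : G) ∈ Mset from ⟨m.2, hm⟩))
  · have h1 : ψh (f (W₃.normalizerMonoidHom ⟨(m : G), hmN⟩ w)) =
        ψh (Multiplicative.ofAdd (g.1.mulVec (f w).toAdd)) := by
      rw [hfψ]
      show _ = ψ (g.1.mulVec (f w).toAdd)
      rw [← hmact, show ψ (f w).toAdd = ψh (f w) from rfl, hfψ, hαmk]
      rfl
    exact congrArg Multiplicative.toAdd (hψh h1)

/-- **Normalizer `p`-stability passes to quotients by normal `p`-subgroups centralized by all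
`p'`-elements**, for every odd `p`. -/
theorem isNormalizerPStable_quotient (hp2 : p ≠ 2) (hst : IsNormalizerPStable p G) (H : Subgroup G)
    [H.Normal] (hH : IsPGroup p H)
    (hcen : ∀ d : G, Nat.Coprime (orderOf d) p → d ∈ centralizer (H : Set G)) :
    IsNormalizerPStable p (G ⧸ H) := by
  intro Bq hBq gq hgq hq
  set π := QuotientGroup.mk' H with hπ
  have hπs : Function.Surjective π := QuotientGroup.mk'_surjective H
  set B := Bq.comap π with hBdef
  have hB : IsPGroup p B := hBq.comap_of_ker_isPGroup π (by rwa [QuotientGroup.ker_mk'])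
  have hBmap : B.map π = Bq := map_comap_eq_self_of_surjective hπs Bq
  have hN : normalizer (B : Set G) = (normalizer (Bq : Set (G ⧸ H))).comap π :=
    (comap_normalizer_eq_of_surjective Bq hπs).symm
  obtain ⟨a, rfl⟩ := hπs gq
  have hq' : ∀ x : G, ⁅⁅Bq, zpowers (π x)⁆, zpowers (π x)⁆ = ⊥ →
      ⁅⁅B, zpowers x⁆, zpowers x⁆ ≤ H := by
    intro x hx
    rw [← QuotientGroup.ker_mk' H, ← Subgroup.map_eq_bot_iff, map_commutator, map_commutator,
      MonoidHom.map_zpowers, hBmap]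
    exact hx
  refine CfsgLib.OddOrder.mem_pCore_of_pairs _ fun q => ?_
  obtain ⟨⟨gb, hgb⟩, rfl⟩ := QuotientGroup.mk_surjective q
  obtain ⟨g, rfl⟩ := hπs gb
  set Nq := normalizer (Bq : Set (G ⧸ H))
  set Cq := (centralizer (Bq : Set (G ⧸ H))).subgroupOf Nq
  let ρ : normalizer (B : Set G) →* Nq ⧸ Cq :=
    (QuotientGroup.mk' Cq).comp ((π.comp (normalizer (B : Set G)).subtype).codRestrict Nq
      fun x =>
        mem_comap.1 ((SetLike.ext_iff.1 hN _).1 x.2))
  have haN : a ∈ normalizer (B : Set G) := by rw [hN, mem_comap]; exact hgq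
  have hgN : g ∈ normalizer (B : Set G) := by rw [hN, mem_comap]; exact hgb
  set aN : normalizer (B : Set G) := ⟨a, haN⟩
  set bN : normalizer (B : Set G) := ⟨g, hgN⟩ * aN * (⟨g, hgN⟩)⁻¹
  have hρ : (closure ({aN, bN} : Set (normalizer (B : Set G)))).map ρ =
      closure ({ρ aN, ρ ⟨g, hgN⟩ * ρ aN * (ρ ⟨g, hgN⟩)⁻¹} : Set (Nq ⧸ Cq)) := by
    rw [MonoidHom.map_closure, Set.image_pair, map_mul, map_mul, map_inv]
  have hxy : IsPGroup p ((closure ({aN, bN} : Set (normalizer (B : Set G)))).map ρ) := by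
    rintro ⟨_, y, hy, rfl⟩
    have hyX : (y : G) ∈ closure ({a, g * a * g⁻¹} : Set G) := by
      have := mem_map_of_mem (normalizer (B : Set G)).subtype hy
      rwa [MonoidHom.map_closure, Set.image_pair] at this
    refine ⟨(orderOf (y : G)).factorization p, Subtype.ext ?_⟩
    show ρ y ^ p ^ _ = 1
    rw [← map_pow]
    refine (QuotientGroup.eq_one_iff _).2 (mem_subgroupOf.2 ?_)
    set j := (orderOf (y : G)).factorization p
    have hcop : Nat.Coprime (orderOf ((y : G) ^ p ^ j)) p := by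
      rw [orderOf_pow_of_dvd (pow_ne_zero _ hp.out.ne_zero) (Nat.ordProj_dvd _ _)]
      exact (Nat.coprime_ordCompl hp.out (orderOf_pos _).ne').symm
    have hX : closure ({a, g * a * g⁻¹} : Set G) ≤ normalizer (B : Set G) := by
      rw [closure_le, Set.insert_subset_iff, Set.singleton_subset_iff]
      exact ⟨haN, mul_mem (mul_mem hgN haN) (inv_mem hgN)⟩
    have hyC := pair_centralizes hp2 hst hB hcen hX (hq' a hq) (hq' _ (by
      rw [map_mul, map_mul, map_inv]
      exact CfsgLib.OddOrder.quad_conj hgb hq)) (pow_mem hyX _) hcop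
    rw [← hBmap]
    refine mem_centralizer_iff.2 ?_
    rintro _ ⟨v, hv, rfl⟩
    show π v * π ((y : G) ^ p ^ j) = π ((y : G) ^ p ^ j) * π v
    rw [← map_mul, ← map_mul, mem_centralizer_iff.1 hyC v hv]
  rw [hρ] at hxy
  exact hxy

end CfsgLib.Techniques.CentralQuotientOdd
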