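import Cfsg.Agent.Lib.Transfer.NormalPComplement

/-!
`O^p(G)` and a Sylow subgroup generate `G`.
-/

set_option autoImplicit false

namespace CfsgLib.Techniques

theorem pResidual_sup_eq_top {G : Type*} [Group G] [Finite G] {p : ℕ} [hp : Fact p.Prime]
    {R : Subgroup G} (hR : ¬ p ∣ R.index) : Cfsg.pResidual p G ⊔ R = ⊤ := by
  obtain ⟨n, hn⟩ := CfsgLib.Transfer.exists_index_pResidual (p := p) (G := G)
  rw [← Subgroup.index_eq_one]
  have h1 : (Cfsg.pResidual p G ⊔ R).index ∣ p ^ n := hn ▸ Subgroup.index_dvd_of_le le_sup_left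
  have h2 : (Cfsg.pResidual p G ⊔ R).index ∣ R.index := Subgroup.index_dvd_of_le le_sup_right
  exact Nat.eq_one_of_dvd_coprimes
    (Nat.Coprime.pow_left n ((Nat.Prime.coprime_iff_not_dvd hp.out).2 hR)) h1 h2

end CfsgLib.Techniques
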