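import Cfsg.Agent.Lib.Techniques.SylIn
import Cfsg.Agent.Lib.PGroups.Basic
import Cfsg.Prelude.Def_LocalEven

/-!
Kernels of the action on sets of chief factors, and complete reducibility of chief factors for
subnormal subgroups.
-/

set_option autoImplicit false
set_option linter.unusedSectionVars false

namespace CfsgLib.Techniques

open Cfsg Subgroup
open scoped commutatorElement

variable {G : Type*} [Group G]

/-- The elements acting trivially on the chief factors selected by `C`. -/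
def factorKer (C : Subgroup G → Subgroup G → Prop) : Subgroup G where
  carrier := {g | ∀ U V : Subgroup G, IsChiefFactor U V → C U V → ∀ x ∈ U, ⁅g, x⁆ ∈ V}
  one_mem' := fun U V _ _ x _ => by simp
  mul_mem' := fun {a b} ha hb U V hUV hC x hx => by
    haveI := hUV.2.2.1
    haveI := hUV.2.1
    have hbx : b * x * b⁻¹ ∈ U := hUV.2.1.conj_mem x hx b
    have h1 := ha U V hUV hC _ hbx
    have h2 := hb U V hUV hC x hx
    rw [show ⁅a * b, x⁆ = ⁅a, b * x * b⁻¹⁆ * ⁅b, x⁆ by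
      simp only [commutatorElement_def]; group]
    exact mul_mem h1 h2
  inv_mem' := fun {a} ha U V hUV hC x hx => by
    have hax : a⁻¹ * x * a ∈ U := by simpa using hUV.2.1.conj_mem x hx a⁻¹
    have h1 := ha U V hUV hC _ hax
    rw [show ⁅a⁻¹, x⁆ = ⁅a, a⁻¹ * x * a⁆⁻¹ by simp only [commutatorElement_def]; group]
    exact inv_mem h1

theorem mem_factorKer {C : Subgroup G → Subgroup G → Prop} {g : G} :
    g ∈ factorKer C ↔ ∀ U V : Subgroup G, IsChiefFactor U V → C U V → ∀ x ∈ U, ⁅g, x⁆ ∈ V := Iff.rfl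

instance factorKer_normal (C : Subgroup G → Subgroup G → Prop) : (factorKer C).Normal := by
  constructor
  intro k hk g U V hUV hC x hx
  have hgx : g⁻¹ * x * g ∈ U := by simpa using hUV.2.1.conj_mem x hx g⁻¹
  rw [show ⁅g * k * g⁻¹, x⁆ = g * ⁅k, g⁻¹ * x * g⁆ * g⁻¹ by
    simp only [commutatorElement_def]; group]
  exact hUV.2.2.1.conj_mem _ (hk U V hUV hC _ hgx) g

variable [Finite G] {p : ℕ} [Fact p.Prime]

/-- An element of order prime to `p` stabilising a chief series between `Z` and the `p`-group `Y`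
and centralising `Z` centralises `Y`. -/
theorem centralizes_of_factors {Y Z : Subgroup G} [Y.Normal] [Z.Normal] (hY : IsPGroup p Y) (hZY : Z ≤ Y)
    {c : G} (hc : (orderOf c).Coprime p) (hZ : c ∈ centralizer (Z : Set G))
    (h : ∀ U V : Subgroup G, IsChiefFactor U V → Z ≤ V → U ≤ Y → ∀ x ∈ U, ⁅c, x⁆ ∈ V) :
    c ∈ centralizer (Y : Set G) := by
  suffices key : ∀ U : Subgroup G, U.Normal → Z ≤ U → U ≤ Y → c ∈ centralizer (U : Set G) from
    key Y inferInstance hZY le_rfl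
  intro U
  induction hd : Nat.card U using Nat.strong_induction_on generalizing U with
  | _ d ih =>
    intro hUn hZU hUY
    rcases eq_or_lt_of_le hZU with rfl | hlt
    · exact hZ
    obtain ⟨V, ⟨hVn, hZV, hVU⟩, hmax⟩ := Set.Finite.exists_maximal
      (s := {V : Subgroup G | V.Normal ∧ Z ≤ V ∧ V < U}) (Set.toFinite _) ⟨Z, inferInstance, le_rfl, hlt⟩
    have hUV : IsChiefFactor U V := by
      refine ⟨hVU, hUn, hVn, fun N hN hVN hNU => ?_⟩
      rcases eq_or_lt_of_le hNU with h' | h'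
      · exact Or.inr h'
      · exact Or.inl (le_antisymm (hmax ⟨hN, hZV.trans hVN, h'⟩ hVN) hVN)
    have hcV : c ∈ centralizer (V : Set G) :=
      ih _ (hd ▸ card_lt_of_lt hVU) V rfl hVn hZV (hVU.le.trans hUY)
    intro x hx
    set v := ⁅c, x⁆ with hv
    have hvV : v ∈ V := h U V hUV hZV hUY x hx
    have hpow : ∀ n : ℕ, c ^ n * x * (c ^ n)⁻¹ = v ^ n * x := by
      intro n
      induction n with
      | zero => simp
      | succ n ihn =>
        have hcv : c * v ^ n = v ^ n * c := (hcV _ (pow_mem hvV n)).symm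
        rw [pow_succ', mul_inv_rev, show c * c ^ n * x * ((c ^ n)⁻¹ * c⁻¹) = c * (c ^ n * x * (c ^ n)⁻¹) * c⁻¹ by group,
          ihn, ← mul_assoc, hcv, pow_succ, hv, commutatorElement_def]
        group
    have h1 := hpow (orderOf c)
    rw [pow_orderOf_eq_one, one_mul, inv_one, mul_one, right_eq_mul] at h1
    obtain ⟨k, hk⟩ := IsPGroup.iff_orderOf.1 hY ⟨v, hUY (hVU.le hvV)⟩
    rw [Subgroup.orderOf_mk] at hk
    have h2 : orderOf v = 1 :=
      Nat.eq_one_of_dvd_coprimes (Nat.Coprime.pow_left k hc.symm) (hk ▸ dvd_refl _) (orderOf_dvd_of_pow_eq_one h1)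
    have h3 : ⁅c, x⁆ = 1 := orderOf_eq_one_iff.1 h2
    exact (commutatorElement_eq_one_iff_mul_comm.1 h3).symm

/-- A subgroup all of whose elements of order prime to `p` are trivial is a `p`-group. -/
theorem isPGroup_of_pPrime_trivial {K : Subgroup G} (h : ∀ c ∈ K, (orderOf c).Coprime p → c = 1) :
    IsPGroup p K := by
  rw [IsPGroup.iff_orderOf]
  intro k
  obtain ⟨a, m, hm, hord⟩ := Nat.exists_eq_pow_mul_and_not_dvd (orderOf_pos (k : G)).ne' p
    (Fact.out : p.Prime).ne_one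
  have h1 : ((k : G) ^ (p ^ a)) = 1 := by
    refine h _ (pow_mem k.2 _) ?_
    refine Nat.Coprime.coprime_dvd_left (orderOf_dvd_of_pow_eq_one (n := m) ?_)
      ((Nat.Prime.coprime_iff_not_dvd Fact.out).2 hm).symm
    rw [← pow_mul, ← hord, pow_orderOf_eq_one]
  obtain ⟨b, -, hb⟩ := (Nat.dvd_prime_pow Fact.out).1 (orderOf_dvd_of_pow_eq_one h1)
  exact ⟨b, by rw [← Subgroup.orderOf_coe, hb]⟩

/-- Every invariant subgroup between `V` and `U` has an invariant complement. -/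
def SectionCR (L U V : Subgroup G) : Prop :=
  ∀ W : Subgroup G, V ≤ W → W ≤ U → L ≤ normalizer (W : Set G) →
    ∃ W' : Subgroup G, V ≤ W' ∧ W' ≤ U ∧ L ≤ normalizer (W' : Set G) ∧ W ⊓ W' = V ∧ W ⊔ W' = U

theorem le_normalizer_sup {L A B : Subgroup G} (hA : L ≤ normalizer (A : Set G))
    (hB : L ≤ normalizer (B : Set G)) : L ≤ normalizer ((A ⊔ B : Subgroup G) : Set G) :=
  le_normalizer_iff_cj.2 fun l hl => by
    rw [cj, Subgroup.map_sup]
    exact congrArg₂ (· ⊔ ·) (le_normalizer_iff_cj.1 hA l hl) (le_normalizer_iff_cj.1 hB l hl)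

theorem le_normalizer_inf {L A B : Subgroup G} (hA : L ≤ normalizer (A : Set G))
    (hB : L ≤ normalizer (B : Set G)) : L ≤ normalizer ((A ⊓ B : Subgroup G) : Set G) :=
  le_normalizer_iff_cj.2 fun l hl => by
    rw [cj_inf, le_normalizer_iff_cj.1 hA l hl, le_normalizer_iff_cj.1 hB l hl]

theorem sectionCR_top {U V : Subgroup G} (h : IsChiefFactor U V) : SectionCR ⊤ U V := by
  intro W hVW hWU hW
  have hn : W.Normal := normalizer_eq_top_iff.1 (top_le_iff.1 hW)
  rcases h.2.2.2 W hn hVW hWU with rfl | rfl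
  · exact ⟨U, h.1.le, le_rfl, by rw [normalizer_eq_top_iff.2 h.2.1], inf_eq_left.2 h.1.le,
      sup_eq_right.2 h.1.le⟩
  · exact ⟨V, le_rfl, h.1.le, by rw [normalizer_eq_top_iff.2 h.2.2.1], inf_eq_right.2 h.1.le,
      sup_eq_left.2 h.1.le⟩

/-- Clifford: complete reducibility passes to normal subgroups. -/
theorem SectionCR.normal {L N U V : Subgroup G} (hVU : V ≤ U) (hLU : L ≤ normalizer (U : Set G))
    (hLV : L ≤ normalizer (V : Set G)) (hUU : ⁅U, U⁆ ≤ V)
    (h : SectionCR L U V) (hNL : N ≤ L) (hn : L ≤ normalizer (N : Set G)) : SectionCR N U V := by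
  intro W hVW hWU hW
  set mins : Set (Subgroup G) := {X | (V < X ∧ X ≤ U ∧ N ≤ normalizer (X : Set G)) ∧
    ∀ Y : Subgroup G, V < Y → N ≤ normalizer (Y : Set G) → Y ≤ X → Y = X} with hmins
  set Soc := V ⊔ sSup mins with hSoc
  have hSocU : Soc ≤ U := sup_le hVU (sSup_le fun X hX => hX.1.2.1)
  have hexmin : ∀ Y : Subgroup G, V < Y → Y ≤ U → N ≤ normalizer (Y : Set G) → ∃ X ∈ mins, X ≤ Y := by
    intro Y hY hYU hYN
    obtain ⟨X, ⟨hX1, hX2, hX3⟩, hXmin⟩ := Set.Finite.exists_minimal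
      (s := {X : Subgroup G | V < X ∧ X ≤ Y ∧ N ≤ normalizer (X : Set G)}) (Set.toFinite _) ⟨Y, hY, le_rfl, hYN⟩
    exact ⟨X, ⟨⟨hX1, hX2.trans hYU, hX3⟩, fun Z hZ hZN hZX =>
      le_antisymm hZX (hXmin ⟨hZ, hZX.trans hX2, hZN⟩ hZX)⟩, hX2⟩
  have hSocL : L ≤ normalizer (Soc : Set G) := by
    rw [le_normalizer_iff_cj]
    intro l hl
    refine Subgroup.eq_of_le_of_card_ge ?_ (card_cj l Soc).ge
    rw [cj, Subgroup.map_sup]
    refine sup_le ((le_normalizer_iff_cj.1 hLV l hl).le.trans le_sup_left) ?_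
    rw [Subgroup.map_le_iff_le_comap]
    refine sSup_le fun X hX => Subgroup.map_le_iff_le_comap.1 ((le_sSup ?_ : cj l X ≤ sSup mins).trans le_sup_right)
    have hinv : ∀ (l : G) (Y : Subgroup G), l ∈ L → N ≤ normalizer (Y : Set G) → N ≤ normalizer (cj l Y : Set G) := by
      intro l Y hl hY
      rw [← cj_normalizer]
      have := cj_mono (g := l) hY
      rwa [mem_normalizer_iff_cj.1 (hn hl)] at this
    refine ⟨⟨lt_of_le_of_ne ?_ ?_, ?_, hinv l X hl hX.1.2.2⟩, fun Y hY hYN hYX => ?_⟩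
    · rw [← le_normalizer_iff_cj.1 hLV l hl]; exact cj_mono hX.1.1.le
    · intro e
      have h1 := congrArg (cj l⁻¹) e
      rw [cj_inv_cj, le_normalizer_iff_cj.1 hLV _ (inv_mem hl)] at h1
      exact hX.1.1.ne h1
    · rw [← le_normalizer_iff_cj.1 hLU l hl]; exact cj_mono hX.1.2.1
    · have h1 := hX.2 (cj l⁻¹ Y) ?_ (hinv _ Y (inv_mem hl) hYN) ?_
      · rw [← h1, cj_cj_inv]
      · refine lt_of_le_of_ne ?_ ?_
        · rw [← le_normalizer_iff_cj.1 hLV _ (inv_mem hl)]; exact cj_mono hY.le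
        · intro e
          have h2 := congrArg (cj l) e
          rw [cj_cj_inv, le_normalizer_iff_cj.1 hLV l hl] at h2
          exact hY.ne h2
      · rw [← cj_inv_cj l X]; exact cj_mono hYX
  have hSocEq : Soc = U := by
    obtain ⟨C, hVC, hCU, hCL, hCi, hCs⟩ := h Soc le_sup_left hSocU hSocL
    rcases eq_or_lt_of_le hVC with rfl | hlt
    · rwa [sup_eq_left.2 (le_sup_left : V ≤ Soc)] at hCs
    · exfalso
      obtain ⟨X, hX, hXC⟩ := hexmin C hlt hCU (hNL.trans hCL)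
      exact hX.1.1.not_ge ((le_inf ((le_sSup hX).trans le_sup_right) hXC).trans hCi.le)
  obtain ⟨W', ⟨hVW', hW'U, hW'N, hi⟩, hmax⟩ := Set.Finite.exists_maximal
    (s := {W' : Subgroup G | V ≤ W' ∧ W' ≤ U ∧ N ≤ normalizer (W' : Set G) ∧ W ⊓ W' = V}) (Set.toFinite _)
    ⟨V, le_rfl, hVU, hNL.trans hLV, inf_eq_right.2 hVW⟩
  have hUn : ∀ Y : Subgroup G, V ≤ Y → Y ≤ U → U ≤ normalizer (Y : Set G) := by
    intro Y hVY hYU u hu
    refine mem_normalizer_iff.2 fun y => ?_
    have key : ∀ u ∈ U, ∀ y ∈ Y, u * y * u⁻¹ ∈ Y := fun u hu y hy => by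
      have := Y.mul_mem (hVY (hUU (commutator_mem_commutator hu (hYU hy)))) hy
      simpa [commutatorElement_def] using this
    exact ⟨key u hu y, fun hy => by simpa [mul_assoc] using key u⁻¹ (inv_mem hu) _ hy⟩
  refine ⟨W', hVW', hW'U, hW'N, hi, le_antisymm (sup_le hWU hW'U) ?_⟩
  by_contra hne
  obtain ⟨X, hX, hXne⟩ : ∃ X ∈ mins, ¬ X ≤ W ⊔ W' := by
    by_contra hcon
    push Not at hcon
    exact hne (hSocEq ▸ sup_le (hVW.trans le_sup_left) (sSup_le hcon))
  have hXi : X ⊓ (W ⊔ W') = V := by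
    rcases eq_or_lt_of_le (le_inf hX.1.1.le (hVW.trans le_sup_left) : V ≤ X ⊓ (W ⊔ W')) with e | hlt
    · exact e.symm
    · exact absurd (inf_eq_left.1 (hX.2 _ hlt (le_normalizer_inf hX.1.2.2 (le_normalizer_sup hW hW'N)) inf_le_left)) hXne
  have hle := hmax (y := W' ⊔ X) ⟨hVW'.trans le_sup_left, sup_le hW'U hX.1.2.1,
    le_normalizer_sup hW'N hX.1.2.2, le_antisymm ?_ (le_inf hVW (hVW'.trans le_sup_left))⟩ le_sup_left
  · exact hXne ((le_sup_right.trans hle).trans le_sup_right)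
  rintro w ⟨hw, hw2⟩
  replace hw2 : w ∈ ((W' ⊔ X : Subgroup G) : Set G) := hw2
  rw [coe_mul_of_right_le_normalizer_left _ _ (hX.1.2.1.trans (hUn W' hVW' hW'U))] at hw2
  obtain ⟨w', hw', x, hx, rfl⟩ := hw2
  replace hw : w' * x ∈ W := hw
  have hxV : x ∈ V := by
    rw [← hXi]
    refine ⟨hx, ?_⟩
    have := mul_mem (inv_mem ((le_sup_right : W' ≤ W ⊔ W') hw')) ((le_sup_left : W ≤ W ⊔ W') hw)
    simpa using this
  have : w' ∈ W ⊓ W' := ⟨by simpa using mul_mem hw (inv_mem (hVW hxV)), hw'⟩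
  rw [hi] at this
  exact mul_mem this hxV

/-- Complete reducibility of chief factors for a subgroup between a normal subgroup `R` and `K`
when `K / R` is a `p`-group. -/
theorem sectionCR_of_pQuotient {R K U V : Subgroup G} [R.Normal] [K.Normal] (hUV : IsChiefFactor U V)
    (hUU : ⁅U, U⁆ ≤ V) (hKR : IsPGroup p (K.map (QuotientGroup.mk' R))) {H : Subgroup G} (hRH : R ≤ H)
    (hHK : H ≤ K) : SectionCR H U V := by
  have hnU : ∀ L : Subgroup G, L ≤ normalizer (U : Set G) := fun L => by rw [normalizer_eq_top_iff.2 hUV.2.1]; exact le_top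
  have hnV : ∀ L : Subgroup G, L ≤ normalizer (V : Set G) := fun L => by rw [normalizer_eq_top_iff.2 hUV.2.2.1]; exact le_top
  obtain ⟨L, ⟨hHL, hLK, hL⟩, hmin⟩ := Set.Finite.exists_minimal
    (s := {L : Subgroup G | H ≤ L ∧ L ≤ K ∧ SectionCR L U V}) (Set.toFinite _)
    ⟨K, hHK, le_rfl, (sectionCR_top hUV).normal hUV.1.le (hnU _) (hnV _) hUU le_top
      (by rw [normalizer_eq_top_iff.2 (inferInstance : K.Normal)])⟩
  rcases eq_or_lt_of_le hHL with rfl | hlt
  · exact hL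
  exfalso
  set π := QuotientGroup.mk' R with hπ
  have hcm : ∀ Y : Subgroup G, R ≤ Y → (Y.map π).comap π = Y := fun Y hY => by
    rw [Subgroup.comap_map_eq, hπ, QuotientGroup.ker_mk', sup_eq_left.2 hY]
  have hlt' : H.map π < L.map π := lt_of_le_of_ne (map_mono hlt.le) fun e => hlt.ne (by
    rw [← hcm H hRH, e, hcm L (hRH.trans hlt.le)])
  have hn := lt_inf_normalizer' (p := p) (hKR.to_le (map_mono hLK)) hlt'
  obtain ⟨M, ⟨hMH, hMlt⟩, hMmax⟩ := Set.Finite.exists_maximal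
    (s := {M : Subgroup (G ⧸ R) | H.map π ≤ M ∧ M < L.map π}) (Set.toFinite _) ⟨_, le_rfl, hlt'⟩
  have hMn := lt_inf_normalizer' (p := p) (hKR.to_le (map_mono hLK)) hMlt
  have hMeq : L.map π ⊓ normalizer (M : Set (G ⧸ R)) = L.map π := by
    by_contra hne
    exact hMn.not_ge (hMmax ⟨hMH.trans hMn.le, lt_of_le_of_ne inf_le_left hne⟩ hMn.le)
  set M' := M.comap π with hM'
  have hM'L : M' ≤ L := by rw [← hcm L (hRH.trans hlt.le)]; exact comap_mono hMlt.le
  have hLn : L ≤ normalizer (M' : Set G) := fun l hl => mem_normalizer_iff.2 fun x => by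
    have h1 : π l ∈ normalizer (M : Set (G ⧸ R)) := inf_eq_left.1 hMeq ⟨l, hl, rfl⟩
    simpa [hM'] using mem_normalizer_iff.1 h1 (π x)
  have h2 := hmin (y := M') ⟨by rw [← hcm H hRH]; exact comap_mono hMH, hM'L.trans hLK,
    hL.normal hUV.1.le (hnU _) (hnV _) hUU hM'L hLn⟩ hM'L
  refine hMlt.ne (le_antisymm hMlt.le ?_)
  rw [map_le_iff_le_comap]
  exact h2

end CfsgLib.Techniques
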