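import Cfsg.Prelude.Def_ConjugacyFunctors
import Cfsg.Agent.Lib.Techniques.SylIn

/-!
Conjugacy functors: equivariance, the functor induced by an isomorphism-invariant functor, and
well-placed subgroups.
-/

set_option autoImplicit false

namespace CfsgLib.Techniques

open Cfsg Subgroup

section Basic

variable {G : Type*} [Group G] {p : ℕ} {W : Subgroup G → Subgroup G}

theorem functor_le (hW : IsConjugacyFunctor p W) {P : Subgroup G} (hP : IsPGroup p P) : W P ≤ P :=
  (hW P hP).1

theorem functor_ne_bot (hW : IsConjugacyFunctor p W) {P : Subgroup G} (hP : IsPGroup p P)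
    (h : P ≠ ⊥) : W P ≠ ⊥ := (hW P hP).2.1 h

theorem functor_cj (hW : IsConjugacyFunctor p W) {P : Subgroup G} (hP : IsPGroup p P) (g : G) :
    W (cj g P) = cj g (W P) := (hW P hP).2.2 g

theorem normalizer_le_normalizer_functor (hW : IsConjugacyFunctor p W) {P : Subgroup G}
    (hP : IsPGroup p P) : normalizer (P : Set G) ≤ normalizer (W P : Set G) := by
  intro g hg
  rw [mem_normalizer_iff_cj] at hg ⊢
  rw [← functor_cj hW hP, hg]

theorem le_normalizer_functor (hW : IsConjugacyFunctor p W) {P : Subgroup G} (hP : IsPGroup p P) :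
    P ≤ normalizer (W P : Set G) :=
  le_normalizer.trans (normalizer_le_normalizer_functor hW hP)

theorem cj_normalizer_functor (hW : IsConjugacyFunctor p W) {P : Subgroup G} (hP : IsPGroup p P)
    (g : G) : cj g (normalizer (W P : Set G)) = normalizer (W (cj g P) : Set G) := by
  rw [cj_normalizer, functor_cj hW hP]

end Basic

section Induced

universe u

variable {G X : Type u} [Group G] [Group X] {p : ℕ} {W : ∀ (Q : Type u) [Group Q], Subgroup Q}

/-- An isomorphism-invariant functor commutes with homomorphisms that are injective on `P`. -/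
theorem inducedFunctor_map [Finite G] (hW : IsCharPFunctor.{u} p W) {P : Subgroup G}
    (hP : IsPGroup p P) (f : G →* X) (hf : ∀ x ∈ P, f x = 1 → x = 1) :
    inducedFunctor W (P.map f) = (inducedFunctor W P).map f := by
  have hinj : Function.Injective (f.subgroupMap P) := by
    rw [injective_iff_map_eq_one]
    intro x hx
    exact Subtype.ext (hf x x.2 (congrArg Subtype.val hx))
  let e : P ≃* P.map f := MulEquiv.ofBijective (f.subgroupMap P) ⟨hinj, f.subgroupMap_surjective P⟩
  unfold inducedFunctor
  rw [← hW.2 P (P.map f) hP e, Subgroup.map_map, Subgroup.map_map]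
  rfl

theorem inducedFunctor_map_of_injective [Finite G] (hW : IsCharPFunctor.{u} p W) {P : Subgroup G}
    (hP : IsPGroup p P) {f : G →* X} (hf : Function.Injective f) :
    inducedFunctor W (P.map f) = (inducedFunctor W P).map f :=
  inducedFunctor_map hW hP f fun _ _ h => hf (h.trans f.map_one.symm)

theorem inducedFunctor_le (W : ∀ (Q : Type u) [Group Q], Subgroup Q) (P : Subgroup G) :
    inducedFunctor W P ≤ P := map_subtype_le _

theorem isConjugacyFunctor_induced [Finite G] (hW : IsCharPFunctor.{u} p W) :
    IsConjugacyFunctor p (inducedFunctor (G := G) W) := by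
  refine fun P hP => ⟨inducedFunctor_le W P, fun hne => ?_, fun g => ?_⟩
  · unfold inducedFunctor
    rw [Ne, Subgroup.map_eq_bot_iff_of_injective _ P.subtype_injective]
    exact hW.1 P hP ((Subgroup.nontrivial_iff_ne_bot P).2 hne)
  · exact inducedFunctor_map_of_injective hW hP (MulAut.conj g).injective

end Induced

section WellPlaced

variable {G : Type*} [Group G] [Finite G] {p : ℕ} [Fact p.Prime] {W : Subgroup G → Subgroup G}
  {S : Subgroup G}

/-- `S ∩ N(U)` is a Sylow subgroup of `N(U)`. -/
def Extremal (p : ℕ) (S U : Subgroup G) : Prop :=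
  ¬ p ∣ (S ⊓ normalizer (U : Set G)).relIndex (normalizer (U : Set G))

theorem Extremal.sylIn {U : Subgroup G} (hS : SylIn p S ⊤) (h : Extremal p S U) :
    SylIn p (S ⊓ normalizer (U : Set G)) (normalizer (U : Set G)) :=
  ⟨inf_le_right, hS.isPGroup.to_le inf_le_left, h⟩

theorem le_inf_normalizer_self {U : Subgroup G} (hU : U ≤ S) :
    U ≤ S ⊓ normalizer (U : Set G) := le_inf hU le_normalizer

theorem cj_inf_normalizer_le {U : Subgroup G} {g : G}
    (hg : cj g (S ⊓ normalizer (U : Set G)) ≤ S) :
    cj g (S ⊓ normalizer (U : Set G)) ≤ S ⊓ normalizer (cj g U : Set G) := by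
  refine le_inf hg ?_
  rw [← cj_normalizer]
  exact cj_mono inf_le_right

/-- Any subgroup of `S` can be moved to an extremal one with its normalizer in `S`. -/
theorem exists_extremal_conj (hS : SylIn p S ⊤) {U : Subgroup G} (hU : U ≤ S) :
    ∃ g : G, cj g (S ⊓ normalizer (U : Set G)) ≤ S ∧ cj g U ≤ S ∧ Extremal p S (cj g U) := by
  obtain ⟨R, hR, hle⟩ := exists_sylIn_ge (p := p) (V := S ⊓ normalizer (U : Set G))
    (H := normalizer (U : Set G)) (hS.isPGroup.to_le inf_le_left) inf_le_right
  obtain ⟨g, -, hg⟩ := hS.exists_conj hR.isPGroup le_top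
  have h1 : cj g (S ⊓ normalizer (U : Set G)) ≤ S := (cj_mono hle).trans hg
  refine ⟨g, h1, (cj_mono (le_inf_normalizer_self hU)).trans h1, ?_⟩
  have h2 := hR.cj' g
  rw [cj_normalizer] at h2
  have h3 : S ⊓ normalizer (cj g U : Set G) = cj g R :=
    h2.eq_of_le (hS.isPGroup.to_le inf_le_left) (le_inf hg h2.le) inf_le_right
  unfold Extremal
  rw [h3]
  exact h2.not_dvd

theorem functorTower_le (hS : IsPGroup p S) (hW : IsConjugacyFunctor p W) {T : Subgroup G}
    (hT : T ≤ S) : ∀ i, functorTower W S T i ≤ S
  | 0 => hT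
  | _ + 1 => (functor_le hW (hS.to_le inf_le_left)).trans inf_le_left

theorem inf_normalizer_functorTower_mono (hS : IsPGroup p S) (hW : IsConjugacyFunctor p W)
    (T : Subgroup G) {i j : ℕ} (hij : i ≤ j) :
    S ⊓ normalizer (functorTower W S T i : Set G) ≤ S ⊓ normalizer (functorTower W S T j : Set G) := by
  induction hij with
  | refl => exact le_rfl
  | @step k _ ih =>
    refine ih.trans (le_inf inf_le_left ?_)
    exact le_normalizer_functor hW (hS.to_le inf_le_left)

theorem functorTower_add (T : Subgroup G) (i : ℕ) :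
    ∀ j, functorTower W S (functorTower W S T i) j = functorTower W S T (i + j)
  | 0 => rfl
  | j + 1 => by
    show W _ = W _
    rw [functorTower_add T i j]
    rfl

/-- Transporting a tower by an element keeping the last normalizer inside `S`. -/
theorem functorTower_cj (hS : SylIn p S ⊤) (hW : IsConjugacyFunctor p W) {T : Subgroup G} {n : ℕ}
    {h : G} (hh : cj h (S ⊓ normalizer (functorTower W S T n : Set G)) ≤ S)
    (hext : ∀ i < n, Extremal p S (functorTower W S T i)) :
    ∀ i ≤ n, functorTower W S (cj h T) i = cj h (functorTower W S T i) ∧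
      (i < n → Extremal p S (functorTower W S (cj h T) i)) := by
  have key : ∀ i < n, functorTower W S (cj h T) i = cj h (functorTower W S T i) →
      S ⊓ normalizer (functorTower W S (cj h T) i : Set G) =
        cj h (S ⊓ normalizer (functorTower W S T i : Set G)) ∧
      Extremal p S (functorTower W S (cj h T) i) := by
    intro i hi he
    have h1 : cj h (S ⊓ normalizer (functorTower W S T i : Set G)) ≤ S :=
      (cj_mono (inf_normalizer_functorTower_mono hS.isPGroup hW T hi.le)).trans hh
    have h2 := ((hext i hi).sylIn hS).cj' h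
    rw [cj_normalizer, ← he] at h2
    have h3 := h2.eq_of_le (hS.isPGroup.to_le inf_le_left) (le_inf h1 h2.le) inf_le_right
    refine ⟨h3, ?_⟩
    unfold Extremal
    rw [h3]
    exact h2.not_dvd
  intro i
  induction i with
  | zero => exact fun _ => ⟨rfl, fun h0 => (key 0 h0 rfl).2⟩
  | succ i ih =>
    intro hi
    obtain ⟨he, -⟩ := ih (by omega)
    have he' : functorTower W S (cj h T) (i + 1) = cj h (functorTower W S T (i + 1)) := by
      show W _ = cj h (W _)
      rw [(key i (by omega) he).1, functor_cj hW (hS.isPGroup.to_le inf_le_left)]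
    exact ⟨he', fun h1 => (key _ h1 he').2⟩

theorem exists_extremal_levels (hS : SylIn p S ⊤) (hW : IsConjugacyFunctor p W) {T : Subgroup G}
    (hT : T ≤ S) (n : ℕ) :
    ∃ g : G, cj g (S ⊓ normalizer (T : Set G)) ≤ S ∧ cj g T ≤ S ∧
      ∀ i < n, Extremal p S (functorTower W S (cj g T) i) := by
  induction n with
  | zero => exact ⟨1, by simp, by simpa using hT, fun i hi => absurd hi (Nat.not_lt_zero i)⟩
  | succ n ih =>
    obtain ⟨g, hg1, hg2, hg3⟩ := ih
    set T' := cj g T with hT'
    obtain ⟨h, hh, -, hext⟩ := exists_extremal_conj hS (functorTower_le hS.isPGroup hW hg2 n)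
    have htr := functorTower_cj hS hW hh hg3
    have h0 : cj h (S ⊓ normalizer (T' : Set G)) ≤ S :=
      (cj_mono (inf_normalizer_functorTower_mono hS.isPGroup hW T' (Nat.zero_le n))).trans hh
    refine ⟨h * g, ?_, ?_, ?_⟩
    · rw [cj_mul]
      exact (cj_mono (cj_inf_normalizer_le hg1)).trans h0
    · rw [cj_mul]
      exact (cj_mono (le_inf_normalizer_self hg2)).trans h0
    · intro i hi
      rw [cj_mul]
      rcases Nat.lt_succ_iff_lt_or_eq.1 hi with hi' | rfl
      · exact (htr i hi'.le).2 hi'
      · rw [(htr i le_rfl).1]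
        exact hext

/-- Every subgroup of `S` has a well-placed conjugate, by an element moving its normalizer into `S`. -/
theorem exists_wellPlaced_conj (hS : SylIn p S ⊤) (hW : IsConjugacyFunctor p W) {T : Subgroup G}
    (hT : T ≤ S) :
    ∃ g : G, cj g (S ⊓ normalizer (T : Set G)) ≤ S ∧ IsWellPlaced p W S (cj g T) := by
  classical
  letI := Fintype.ofFinite G
  by_contra hcon
  push Not at hcon
  have hb : ∀ g : G, ∃ i, cj g (S ⊓ normalizer (T : Set G)) ≤ S → cj g T ≤ S →
      ¬ Extremal p S (functorTower W S (cj g T) i) := by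
    intro g
    by_cases h1 : cj g (S ⊓ normalizer (T : Set G)) ≤ S ∧ cj g T ≤ S
    · have := hcon g h1.1
      simp only [IsWellPlaced, h1.2, true_and, not_forall, not_not] at this
      obtain ⟨i, hi⟩ := this
      exact ⟨i, fun _ _ h => h hi⟩
    · exact ⟨0, fun a b => absurd ⟨a, b⟩ h1⟩
  choose f hf using hb
  obtain ⟨g, hg1, hg2, hg3⟩ := exists_extremal_levels hS hW hT (Finset.univ.sup f + 1)
  exact hf g hg1 hg2 (hg3 (f g) (Nat.lt_succ_of_le (Finset.le_sup (Finset.mem_univ g))))

theorem IsWellPlaced.extremal {T : Subgroup G} (h : IsWellPlaced p W S T) : Extremal p S T := h.2 0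

theorem IsWellPlaced.next {T : Subgroup G} (hS : IsPGroup p S) (hW : IsConjugacyFunctor p W)
    (h : IsWellPlaced p W S T) :
    IsWellPlaced p W S (W (S ⊓ normalizer (T : Set G))) :=
  ⟨(functor_le hW (hS.to_le inf_le_left)).trans inf_le_left, fun i => by
    have := h.2 (1 + i)
    rwa [← functorTower_add] at this⟩

end WellPlaced

end CfsgLib.Techniques
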