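import Mathlib

/-!
An element of order dividing `p` acting with norm zero centralises the abelian `p'`-groups it
normalises in a faithful action on an elementary abelian `p`-group.
-/

set_option autoImplicit false
set_option linter.unusedSectionVars false

namespace CfsgLib.Techniques

open Subgroup
open scoped commutatorElement

variable {Γ : Type*} [Group Γ] [Finite Γ] {M : Type*} [AddCommGroup M] {p : ℕ} [Fact p.Prime]

theorem centralizes_of_norm_eq_zero (ρ : Γ →* AddMonoid.End M) (hρ : Function.Injective ρ) {u : Γ}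
    (hu : u ^ p = 1) (hN : ∀ x : M, ∑ i ∈ Finset.range p, ρ (u ^ i) x = 0)
    (hM : ∀ x : M, p • x = 0) {K : Subgroup Γ} (hK : ∀ a ∈ K, ∀ b ∈ K, a * b = b * a)
    (hKu : u ∈ normalizer (K : Set Γ)) {m : ℕ} (hm : p.Coprime m) (hKm : ∀ k ∈ K, k ^ m = 1)
    {k : Γ} (hk : k ∈ K) : k * u = u * k := by
  classical
  have hconj : ∀ a ∈ K, u * a * u⁻¹ ∈ K := fun a ha => (mem_normalizer_iff.1 hKu a).1 ha
  have hcomK : ∀ a ∈ K, ⁅a, u⁆ ∈ K := fun a ha => by
    rw [show ⁅a, u⁆ = a * (u * a⁻¹ * u⁻¹) by rw [commutatorElement_def]; group]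
    exact K.mul_mem ha (hconj _ (inv_mem ha))
  let D : Subgroup Γ :=
    { carrier := {x | ∃ a ∈ K, ⁅a, u⁆ = x}
      one_mem' := ⟨1, one_mem K, by simp⟩
      mul_mem' := by
        rintro _ _ ⟨a, ha, rfl⟩ ⟨b, hb, rfl⟩
        refine ⟨a * b, mul_mem ha hb, ?_⟩
        rw [show ⁅a * b, u⁆ = a * ⁅b, u⁆ * a⁻¹ * ⁅a, u⁆ by simp only [commutatorElement_def]; group,
          hK a ha _ (hcomK b hb), mul_inv_cancel_right]
        exact hK _ (hcomK b hb) _ (hcomK a ha)
      inv_mem' := by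
        rintro _ ⟨a, ha, rfl⟩
        refine ⟨a⁻¹, inv_mem ha, ?_⟩
        rw [show ⁅a⁻¹, u⁆ = a⁻¹ * ⁅a, u⁆⁻¹ * a by simp only [commutatorElement_def]; group,
          hK _ (inv_mem ha) _ (inv_mem (hcomK a ha)), inv_mul_cancel_right] }
  have hDK : ∀ x ∈ D, x ∈ K := by
    rintro _ ⟨a, ha, rfl⟩
    exact hcomK a ha
  have hDu : ∀ x ∈ D, ∀ j : ℕ, u ^ j * x * (u ^ j)⁻¹ ∈ D := by
    intro x hx j
    induction j with
    | zero => simpa using hx
    | succ j ih =>
      obtain ⟨a, ha, he⟩ := ih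
      refine ⟨u * a * u⁻¹, hconj a ha, ?_⟩
      calc ⁅u * a * u⁻¹, u⁆ = u * ⁅a, u⁆ * u⁻¹ := by simp only [commutatorElement_def]; group
        _ = u ^ (j + 1) * x * (u ^ (j + 1))⁻¹ := by rw [he, pow_succ']; group
  have hfix : ∀ d ∈ D, d * u = u * d → d = 1 := by
    rintro d ⟨a, ha, rfl⟩ hd
    have hpm : ⁅a, u⁆ ^ m = 1 := hKm _ (hcomK a ha)
    have h1 : a * u * a⁻¹ = ⁅a, u⁆ * u := by simp only [commutatorElement_def]; group
    have h2 := congrArg (· ^ p) h1
    simp only [conj_pow, (show Commute ⁅a, u⁆ u from hd).mul_pow, hu, mul_one] at h2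
    rw [mul_inv_cancel] at h2
    exact orderOf_eq_one_iff.1
      (Nat.eq_one_of_dvd_coprimes hm (orderOf_dvd_of_pow_eq_one h2.symm) (orderOf_dvd_of_pow_eq_one hpm))
  have hshift : ∀ d ∈ D, ∀ i : ℕ, ⁅d, u ^ i⁆ ∈ D := fun d hd i => by
    rw [show ⁅d, u ^ i⁆ = d * (u ^ i * d⁻¹ * (u ^ i)⁻¹) by simp only [commutatorElement_def]; group]
    exact mul_mem hd (hDu _ (inv_mem hd) i)
  letI : Fintype D := Fintype.ofFinite _
  set e : AddMonoid.End M := ∑ d : D, ρ (d : Γ) with he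
  have hesum : ∀ i, 0 < i → i < p → ∑ d : D, ρ ((d : Γ) * u ^ i * (d : Γ)⁻¹) = e * ρ (u ^ i) := by
    intro i hi hip
    obtain ⟨c, hc⟩ := exists_pow_eq_self_of_coprime (n := i) (x := u)
      (Nat.Coprime.coprime_dvd_right (orderOf_dvd_of_pow_eq_one hu)
        ((Nat.Prime.coprime_iff_not_dvd Fact.out).2 fun hd => by
          have := Nat.le_of_dvd hi hd; omega).symm)
    let f : D → D := fun d => ⟨⁅(d : Γ), u ^ i⁆, hshift d d.2 i⟩
    have hf : Function.Injective f := by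
      intro d d' hdd
      have h1 : ⁅(d : Γ), u ^ i⁆ = ⁅(d' : Γ), u ^ i⁆ := congrArg Subtype.val hdd
      have h3 : ((d' : Γ)⁻¹ * d) * u ^ i = u ^ i * ((d' : Γ)⁻¹ * d) := by
        simp only [commutatorElement_def] at h1
        calc ((d' : Γ)⁻¹ * d) * u ^ i = (d' : Γ)⁻¹ * ((d : Γ) * u ^ i * (d : Γ)⁻¹ * (u ^ i)⁻¹) * u ^ i * d := by group
          _ = (d' : Γ)⁻¹ * ((d' : Γ) * u ^ i * (d' : Γ)⁻¹ * (u ^ i)⁻¹) * u ^ i * d := by rw [h1]
          _ = u ^ i * ((d' : Γ)⁻¹ * d) := by group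
      have h4 := hfix _ (mul_mem (inv_mem d'.2) d.2)
        (hc ▸ ((show Commute _ (u ^ i) from h3).pow_right c).eq)
      exact Subtype.ext (inv_mul_eq_one.1 h4).symm
    rw [he, Finset.sum_mul]
    refine Fintype.sum_bijective f (Finite.injective_iff_bijective.1 hf) _ _ fun d => ?_
    rw [← map_mul]
    congr 1
    simp only [f, commutatorElement_def]
    group
  have hNe : ∑ i ∈ Finset.range p, ρ (u ^ i) = 0 :=
    AddMonoidHom.ext fun x => by
      let ev : AddMonoid.End M →+ M := { toFun := fun e => e x, map_zero' := rfl, map_add' := fun _ _ => rfl }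
      show ev (∑ _ ∈ _, _) = 0
      rw [map_sum ev]
      exact hN x
  have hp : p = p - 1 + 1 := (Nat.sub_add_cancel (Fact.out : p.Prime).one_le).symm
  have h0 : ∑ i ∈ Finset.range p, ∑ d : D, ρ ((d : Γ) * u ^ i * (d : Γ)⁻¹) = 0 := by
    rw [Finset.sum_comm]
    refine Finset.sum_eq_zero fun d _ => ?_
    simp only [map_mul, ← Finset.mul_sum, ← Finset.sum_mul, hNe, mul_zero, zero_mul]
  have h1 : ∑ i ∈ Finset.range p, e * ρ (u ^ i) = 0 := by rw [← Finset.mul_sum, hNe, mul_zero]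
  rw [hp, Finset.sum_range_succ'] at h0 h1
  rw [Finset.sum_congr rfl fun i hi => hesum (i + 1) i.succ_pos (by
    have := Finset.mem_range.1 hi; omega)] at h0
  rw [← h1] at h0
  replace h0 : ((Fintype.card D : ℕ) : AddMonoid.End M) = e := by
    simpa using add_left_cancel h0
  have hcop : p.Coprime (Fintype.card D) := by
    rw [← Nat.card_eq_fintype_card]
    refine (Nat.Prime.coprime_iff_not_dvd Fact.out).2 fun hd => ?_
    obtain ⟨x, hx⟩ := exists_prime_orderOf_dvd_card' p hd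
    have h2 : orderOf (x : Γ) ∣ m := orderOf_dvd_of_pow_eq_one (hKm _ (hDK _ x.2))
    rw [Subgroup.orderOf_coe, hx] at h2
    exact (Nat.Prime.coprime_iff_not_dvd Fact.out).1 hm h2
  have hD : ∀ d ∈ D, d = 1 := by
    intro d hd
    refine hρ (AddMonoidHom.ext fun x => ?_)
    rw [map_one]
    have h2 : ρ d * e = e := by
      rw [he, Finset.mul_sum]
      exact Fintype.sum_equiv (Equiv.mulLeft (⟨d, hd⟩ : D)) _ _ fun d' => (map_mul ρ _ _).symm
    rw [← h0] at h2
    have h5 := DFunLike.congr_fun h2 x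
    change ρ d ((Fintype.card D : ℕ) • x) = (Fintype.card D : ℕ) • x at h5
    rw [map_nsmul, ← sub_eq_zero, ← nsmul_sub] at h5
    show ρ d x = x
    rw [← sub_eq_zero]
    have h6 : addOrderOf (ρ d x - x) = 1 :=
      Nat.eq_one_of_dvd_coprimes hcop (addOrderOf_dvd_of_nsmul_eq_zero (hM _))
        (addOrderOf_dvd_of_nsmul_eq_zero h5)
    exact AddMonoid.addOrderOf_eq_one_iff.1 h6
  exact commutatorElement_eq_one_iff_mul_comm.1 (hD _ ⟨k, hk, rfl⟩)

end CfsgLib.Techniques
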