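import Cfsg.Agent.Lib.Techniques.LocalGlobal
import Cfsg.Agent.Lib.Base.Cores

/-!
Sections of a group, and transport of control statements along injective homomorphisms.
-/

set_option autoImplicit false
set_option linter.unusedSectionVars false

namespace CfsgLib.Techniques

open Cfsg Subgroup

universe u

/-- `Pr` holds for every section of `G`. -/
def SectionsSatisfy (G : Type u) [Group G] (Pr : ∀ (X : Type u) [Group X], Prop) : Prop :=
  ∀ (X : Type u) [Group X] (K : Subgroup G) (f : K →* X), Function.Surjective f → Pr X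

variable {G X : Type u} [Group G] [Group X] {Pr : ∀ (Y : Type u) [Group Y], Prop}

theorem SectionsSatisfy.self (h : SectionsSatisfy G Pr) : Pr G :=
  h G ⊤ (Subgroup.topEquiv : (⊤ : Subgroup G) ≃* G).toMonoidHom
    (Subgroup.topEquiv : (⊤ : Subgroup G) ≃* G).surjective

theorem SectionsSatisfy.of_surjective (h : SectionsSatisfy G Pr) {K : Subgroup G} (f : K →* X)
    (hf : Function.Surjective f) : SectionsSatisfy X Pr := by
  intro Y _ L g hg
  let e : L.comap f ≃* (L.comap f).map K.subtype :=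
    Subgroup.equivMapOfInjective _ _ K.subtype_injective
  refine h Y ((L.comap f).map K.subtype)
    ((g.comp (f.subgroupComap L)).comp e.symm.toMonoidHom) ?_
  simp only [MonoidHom.coe_comp]
  exact (hg.comp (f.subgroupComap_surjective_of_surjective L hf)).comp e.symm.surjective

theorem SectionsSatisfy.subgroup (h : SectionsSatisfy G Pr) (K : Subgroup G) : SectionsSatisfy K Pr :=
  h.of_surjective (MonoidHom.id K) Function.surjective_id

theorem SectionsSatisfy.quotient (h : SectionsSatisfy G Pr) (N : Subgroup G) [N.Normal] :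
    SectionsSatisfy (G ⧸ N) Pr :=
  h.of_surjective (K := ⊤) ((QuotientGroup.mk' N).comp (⊤ : Subgroup G).subtype)
    ((QuotientGroup.mk'_surjective N).comp fun g => ⟨⟨g, mem_top g⟩, rfl⟩)

theorem SectionsSatisfy.imp {Pr' : ∀ (Y : Type u) [Group Y], Prop} [Finite G]
    (h : SectionsSatisfy G Pr) (himp : ∀ (Y : Type u) [Group Y] [Finite Y], Pr Y → Pr' Y) :
    SectionsSatisfy G Pr' := fun Y _ K f hf =>
  haveI : Finite Y := Finite.of_surjective f hf
  himp Y (h Y K f hf)

/-- The statements over `K ⧸ R` give all sections, for predicates invariant under isomorphism. -/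
theorem sectionsSatisfy_of_quotients [Finite G]
    (hiso : ∀ (Y Z : Type u) [Group Y] [Group Z] [Finite Y] [Finite Z], (Y ≃* Z) → Pr Y → Pr Z)
    (h : ∀ (K R : Subgroup G) [_hR : (R.subgroupOf K).Normal], Pr (K ⧸ R.subgroupOf K)) :
    SectionsSatisfy G Pr := by
  intro Y _ K f hf
  haveI : Finite Y := Finite.of_surjective f hf
  have e : (f.ker.map K.subtype).subgroupOf K = f.ker :=
    Subgroup.comap_map_eq_self_of_injective K.subtype_injective _
  haveI : ((f.ker.map K.subtype).subgroupOf K).Normal := by rw [e]; infer_instance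
  exact hiso _ _ ((QuotientGroup.quotientMulEquivOfEq e).trans
    (QuotientGroup.quotientKerEquivOfSurjective f hf)) (h K _)

theorem quotient_of_sectionsSatisfy (h : SectionsSatisfy G Pr) (K R : Subgroup G)
    [(R.subgroupOf K).Normal] : Pr (K ⧸ R.subgroupOf K) :=
  h _ K (QuotientGroup.mk' _) (QuotientGroup.mk'_surjective _)

/-- The functors induced by a set of isomorphism-invariant functors. -/
def indFam (G : Type u) [Group G] (𝓦 : Set (∀ (Q : Type u) [Group Q], Subgroup Q)) :
    Set (Subgroup G → Subgroup G) :=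
  (fun W => inducedFunctor (G := G) W) '' 𝓦

theorem mem_normalizer_map_iff {f : G →* X} (hf : Function.Injective f) {A : Subgroup G} {g : G} :
    f g ∈ normalizer (A.map f : Set X) ↔ g ∈ normalizer (A : Set G) := by
  rw [mem_normalizer_iff_cj, mem_normalizer_iff_cj]
  have e : cj (f g) (A.map f) = (cj g A).map f := by
    rw [cj, cj, Subgroup.map_map, Subgroup.map_map]
    congr 1
    ext a
    simp
  rw [e, (Subgroup.map_injective hf).eq_iff]

variable {p : ℕ} [Fact p.Prime] [Finite G] [Finite X]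

theorem SylIn.map_injective {T H : Subgroup G} (h : SylIn p T H) {f : G →* X}
    (hf : Function.Injective f) : SylIn p (T.map f) (H.map f) :=
  ⟨Subgroup.map_mono h.le, h.isPGroup.map f, by
    rw [Subgroup.relIndex_map_map_of_injective _ _ hf]; exact h.not_dvd⟩

variable {𝓦 : Set (∀ (Q : Type u) [Group Q], Subgroup Q)}

theorem map_inf_normalizer_induced {W : ∀ (Q : Type u) [Group Q], Subgroup Q}
    (hW : IsCharPFunctor.{u} p W) {f : G →* X} (hf : Function.Injective f) {T H : Subgroup G}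
    (hT : IsPGroup p T) :
    (H ⊓ normalizer (inducedFunctor W T : Set G)).map f =
      H.map f ⊓ normalizer (inducedFunctor W (T.map f) : Set X) := by
  rw [inducedFunctor_map_of_injective hW hT hf]
  ext y
  constructor
  · rintro ⟨x, hx, rfl⟩
    exact ⟨⟨x, hx.1, rfl⟩, (mem_normalizer_map_iff hf).2 hx.2⟩
  · rintro ⟨⟨x, hx, rfl⟩, hy⟩
    exact ⟨x, ⟨hx, (mem_normalizer_map_iff hf).1 hy⟩, rfl⟩

theorem familyFusion_map (h𝓦 : ∀ W ∈ 𝓦, IsCharPFunctor.{u} p W) {f : G →* X}
    (hf : Function.Injective f) {H : Subgroup G}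
    (h : FamilyControlsStrongFusionIn p (indFam G 𝓦) H) :
    FamilyControlsStrongFusionIn p (indFam X 𝓦) (H.map f) := by
  obtain ⟨T, h1, h2, h3, h4⟩ := h
  refine ⟨T.map f, Subgroup.map_mono h1, h2.map f,
    by rw [Subgroup.relIndex_map_map_of_injective _ _ hf]; exact h3, ?_⟩
  intro A y hy hA hyA
  obtain ⟨x, hx, rfl⟩ := hy
  obtain ⟨n, c, hc0, hst, hin, hlast⟩ := h4 (f ⁻¹' A) x hx
    (fun a ha => by
      obtain ⟨b, hb, e⟩ := hA ha
      rwa [← hf e])
    (by
      rintro _ ⟨a, ha, rfl⟩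
      obtain ⟨b, hb, e⟩ := hyA ⟨f a, ha, rfl⟩
      have : b = x * a * x⁻¹ := hf (by rw [e]; simp)
      show x * a * x⁻¹ ∈ T
      rwa [← this])
  refine ⟨n, fun i => f (c i), by simp [hc0], fun i => ?_, fun i => ?_, ?_⟩
  · obtain ⟨_, ⟨W, hW, rfl⟩, hi⟩ := hst i
    refine ⟨_, ⟨W, hW, rfl⟩, ?_⟩
    simp only
    rw [← map_inf_normalizer_induced (h𝓦 W hW) hf h2, ← map_inv, ← map_mul]
    exact ⟨_, hi, rfl⟩
  · rintro _ ⟨a, ha, rfl⟩
    obtain ⟨b, -, rfl⟩ := hA ha
    exact ⟨_, hin i ⟨b, ha, rfl⟩, by simp⟩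
  · intro a ha
    obtain ⟨b, -, rfl⟩ := hA ha
    simpa using congrArg f (hlast b ha)

theorem familyTransfer_map (h𝓦 : ∀ W ∈ 𝓦, IsCharPFunctor.{u} p W) {f : G →* X}
    (hf : Function.Injective f) {H : Subgroup G}
    (h : FamilyControlsTransferIn p (indFam G 𝓦) H) :
    FamilyControlsTransferIn p (indFam X 𝓦) (H.map f) := by
  obtain ⟨T, h1, h2, h3, h4⟩ := h
  refine ⟨T.map f, Subgroup.map_mono h1, h2.map f,
    by rw [Subgroup.relIndex_map_map_of_injective _ _ hf]; exact h3, ?_⟩
  have h5 := congrArg (Subgroup.map f) h4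
  rw [Subgroup.map_inf _ _ _ hf, Subgroup.map_commutator] at h5
  rw [h5]
  simp only [indFam, iSup_image, Subgroup.map_iSup]
  refine iSup_congr fun W => iSup_congr fun hW => ?_
  rw [Subgroup.map_inf _ _ _ hf, Subgroup.map_commutator, map_inf_normalizer_induced (h𝓦 W hW) hf h2]

theorem familyFusion_congr (h𝓦 : ∀ W ∈ 𝓦, IsCharPFunctor.{u} p W) (e : G ≃* X)
    (h : FamilyControlsStrongFusionIn p (indFam G 𝓦) ⊤) :
    FamilyControlsStrongFusionIn p (indFam X 𝓦) ⊤ := by
  have := familyFusion_map h𝓦 (f := e.toMonoidHom) e.injective h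
  rwa [Subgroup.map_top_of_surjective _ e.surjective] at this

theorem familyTransfer_congr (h𝓦 : ∀ W ∈ 𝓦, IsCharPFunctor.{u} p W) (e : G ≃* X)
    (h : FamilyControlsTransferIn p (indFam G 𝓦) ⊤) :
    FamilyControlsTransferIn p (indFam X 𝓦) ⊤ := by
  have := familyTransfer_map h𝓦 (f := e.toMonoidHom) e.injective h
  rwa [Subgroup.map_top_of_surjective _ e.surjective] at this

theorem familyFusion_subgroup (h𝓦 : ∀ W ∈ 𝓦, IsCharPFunctor.{u} p W) {K : Subgroup G}
    (h : FamilyControlsStrongFusionIn p (indFam K 𝓦) ⊤) :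
    FamilyControlsStrongFusionIn p (indFam G 𝓦) K := by
  have := familyFusion_map h𝓦 (f := K.subtype) K.subtype_injective h
  rwa [← MonoidHom.range_eq_map, K.range_subtype] at this

theorem familyTransfer_subgroup (h𝓦 : ∀ W ∈ 𝓦, IsCharPFunctor.{u} p W) {K : Subgroup G}
    (h : FamilyControlsTransferIn p (indFam K 𝓦) ⊤) :
    FamilyControlsTransferIn p (indFam G 𝓦) K := by
  have := familyTransfer_map h𝓦 (f := K.subtype) K.subtype_injective h
  rwa [← MonoidHom.range_eq_map, K.range_subtype] at this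

theorem isConjugacyFunctor_indFam (h𝓦 : ∀ W ∈ 𝓦, IsCharPFunctor.{u} p W) :
    ∀ V ∈ indFam G 𝓦, IsConjugacyFunctor p V := by
  rintro _ ⟨W, hW, rfl⟩
  exact isConjugacyFunctor_induced (h𝓦 W hW)

/-- Constrained: `C(O_p(X)) ≤ O_p(X)`. -/
def Constrained (p : ℕ) (X : Type u) [Group X] : Prop :=
  centralizer ((pCore p X : Subgroup X) : Set X) ≤ pCore p X

end CfsgLib.Techniques
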