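import Cfsg.Agent.Lib.Techniques.Stable
import Cfsg.Agent.Lib.Techniques.NormKill
import Cfsg.Agent.Lib.Techniques.ChiefFactor
import Cfsg.Agent.Lib.Techniques.FactorKernel
import Cfsg.Agent.Lib.Techniques.FactorBound
import Cfsg.Agent.Lib.Transfer.NormalPComplement

/-!
Groups whose `O^p` is abelian modulo a normal `p`-subgroup are `p`-stable for odd `p`.
-/

set_option autoImplicit false
set_option linter.unusedSectionVars false

namespace CfsgLib.Techniques

open Cfsg Subgroup CfsgLib.Transfer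
open scoped commutatorElement

variable {p : ℕ} [Fact p.Prime]

/-- The derived subgroup of `O^p` is a `p`-group. -/
def ResidualAbelianModP (p : ℕ) (G : Type*) [Group G] : Prop :=
  IsPGroup p ↥⁅pResidual p G, pResidual p G⁆

theorem residualAbelianModP_of_surjective {G X : Type*} [Group G] [Finite G] [Group X] (f : G →* X)
    (hf : Function.Surjective f) (h : ResidualAbelianModP p G) : ResidualAbelianModP p X := by
  show IsPGroup p ↥⁅pResidual p X, pResidual p X⁆
  rw [← pResidual_map_of_surjective f hf, ← Subgroup.map_commutator]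
  exact IsPGroup.map h f

theorem residualAbelianModP_subgroup {G : Type*} [Group G] (U : Subgroup G)
    (h : ResidualAbelianModP p G) : ResidualAbelianModP p U := by
  refine IsPGroup.of_equiv (IsPGroup.to_le h ?_)
    (Subgroup.equivMapOfInjective _ U.subtype U.subtype_injective).symm
  rw [Subgroup.map_commutator]
  exact commutator_mono (map_pResidual_le U.subtype) (map_pResidual_le U.subtype)

/-- In a group whose `O^p` is abelian modulo a `p`-group, an element of norm zero on a chief
`p`-factor centralises it. -/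
theorem commutator_mem_of_norm {N : Type*} [Group N] [Finite N] (hE : ResidualAbelianModP p N)
    {U V : Subgroup N} (hUV : IsChiefFactor U V) (hUp : IsPGroup p U) {g : N}
    (hit : iterCommutator U (zpowers g) (p - 1) ≤ V) : ∀ x ∈ U, ⁅g, x⁆ ∈ V := by
  classical
  haveI := hUV.2.1
  haveI := hUV.2.2.1
  obtain ⟨hUU, hexp⟩ := chiefFactor_pGroup hUV hUp
  set C0 := factorKer (fun U' V' : Subgroup N => U' = U ∧ V' = V) with hC0
  have hmemC : ∀ c, c ∈ C0 ↔ ∀ x ∈ U, ⁅c, x⁆ ∈ V := fun c =>
    ⟨fun hc => hc U V hUV ⟨rfl, rfl⟩, fun hc U' V' _ hUV' => by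
      obtain ⟨rfl, rfl⟩ := hUV'
      exact hc⟩
  rw [← hmemC]
  set π := QuotientGroup.mk' V with hπ
  set Ub := U.map π with hUb
  haveI : Ub.Normal := hUV.2.1.map π (QuotientGroup.mk'_surjective V)
  letI : CommGroup Ub :=
    { (inferInstance : Group Ub) with
      mul_comm := by
        rintro ⟨_, a, ha, rfl⟩ ⟨_, b, hb, rfl⟩
        refine Subtype.ext ?_
        show π a * π b = π b * π a
        rw [← commutatorElement_eq_one_iff_mul_comm, ← map_commutatorElement]
        exact (QuotientGroup.eq_one_iff _).2 (hUU (commutator_mem_commutator ha hb)) }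
  let σ0 : N →* MulAut Ub := (MulAut.conjNormal (H := Ub)).comp π
  have hker : ∀ a, σ0 a = 1 ↔ a ∈ C0 := by
    intro a
    rw [hmemC]
    constructor
    · intro ha x hx
      have h1 : ((MulAut.conjNormal (π a) ⟨π x, x, hx, rfl⟩ : Ub) : N ⧸ V) = π x :=
        congrArg Subtype.val (DFunLike.congr_fun ha (⟨π x, x, hx, rfl⟩ : Ub))
      rw [MulAut.conjNormal_apply] at h1
      refine (QuotientGroup.eq_one_iff _).1 ?_
      show π ⁅a, x⁆ = 1
      rw [map_commutatorElement, commutatorElement_def, h1, mul_inv_cancel]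
    · intro ha
      refine MulEquiv.ext fun x => ?_
      obtain ⟨_, w, hw, rfl⟩ := x
      refine Subtype.ext ?_
      show (MulAut.conjNormal (π a) ⟨π w, _⟩ : N ⧸ V) = π w
      rw [MulAut.conjNormal_apply]
      have h1 : π ⁅a, w⁆ = 1 := (QuotientGroup.eq_one_iff _).2 (ha w hw)
      rw [map_commutatorElement, commutatorElement_def, mul_inv_eq_one] at h1
      exact h1
  set q := QuotientGroup.mk' C0 with hq
  have hqs := QuotientGroup.mk'_surjective C0
  let σ : N ⧸ C0 →* MulAut Ub := QuotientGroup.lift C0 σ0 fun a ha => (hker a).2 ha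
  have hσ : Function.Injective σ := by
    intro a b hab
    obtain ⟨a, rfl⟩ := hqs a
    obtain ⟨b, rfl⟩ := hqs b
    replace hab : σ0 a = σ0 b := hab
    refine QuotientGroup.eq.2 ((hker _).1 ?_)
    rw [map_mul, ← hab, ← map_mul, inv_mul_cancel, map_one]
  let toEnd : MulAut Ub →* AddMonoid.End (Additive Ub) :=
    { toFun := fun e => e.toMonoidHom.toAdditive
      map_one' := AddMonoidHom.ext fun x => rfl
      map_mul' := fun a b => AddMonoidHom.ext fun x => rfl }
  have htoEnd : Function.Injective toEnd := fun a b hab =>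
    MulEquiv.ext fun x => congrArg Additive.toMul (DFunLike.congr_fun hab (Additive.ofMul x))
  -- no normal `p`-subgroups
  have hOp : ∀ L : Subgroup (N ⧸ C0), L.Normal → IsPGroup p L → L = ⊥ := by
    intro L hL hLp
    haveI : Nontrivial Ub := by
      rw [Subgroup.nontrivial_iff_ne_bot, hUb, Ne, Subgroup.map_eq_bot_iff, hπ, QuotientGroup.ker_mk']
      exact hUV.1.not_ge
    have hdvd : p ∣ Nat.card Ub := (hUp.map π).card_eq_or_dvd.resolve_left (Finite.one_lt_card).ne'
    let a : L →* MulAut Ub := σ.comp L.subtype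
    have hR : IsPGroup p a.range := by
      rw [MonoidHom.range_eq_map]
      exact (hLp.to_subgroup ⊤).map a
    have h1 : (1 : Ub) ∈ MulAction.fixedPoints a.range Ub := fun r => map_one (r : MulAut Ub)
    obtain ⟨z, hz, hzne⟩ := hR.exists_fixed_point_of_prime_dvd_card_of_fixed_point (α := Ub) hdvd h1
    let W : Subgroup N :=
      { carrier := {x | x ∈ U ∧ ∀ l ∈ L.comap q, π x * π l = π l * π x}
        one_mem' := ⟨U.one_mem, fun l _ => by simp⟩
        mul_mem' := fun {x y} hx hy => ⟨mul_mem hx.1 hy.1, fun l hl => by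
          rw [map_mul, mul_assoc, hy.2 l hl, ← mul_assoc, hx.2 l hl, mul_assoc]⟩
        inv_mem' := fun {x} hx => ⟨inv_mem hx.1, fun l hl => by
          rw [map_inv]
          exact ((show Commute (π x) (π l) from hx.2 l hl).inv_left).eq⟩ }
    haveI := hL
    haveI : W.Normal := ⟨fun x hx k => ⟨hUV.2.1.conj_mem x hx.1 k, fun l hl => by
      have hl' : k⁻¹ * l * k⁻¹⁻¹ ∈ L.comap q := (inferInstance : (L.comap q).Normal).conj_mem l hl k⁻¹
      have h3 := hx.2 _ hl'
      simp only [map_mul, map_inv] at h3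
      rw [map_mul, map_mul, map_inv]
      calc π k * π x * (π k)⁻¹ * π l = π k * (π x * ((π k)⁻¹ * π l * (π k)⁻¹⁻¹)) * (π k)⁻¹ := by group
        _ = π k * ((π k)⁻¹ * π l * (π k)⁻¹⁻¹ * π x) * (π k)⁻¹ := by rw [h3]
        _ = π l * (π k * π x * (π k)⁻¹) := by group⟩⟩
    have hVW : V ≤ W := fun v hv => ⟨hUV.1.le hv, fun l _ => by
      rw [show π v = 1 from (QuotientGroup.eq_one_iff v).2 hv, one_mul, mul_one]⟩
    rcases hUV.2.2.2 W inferInstance hVW (fun x hx => hx.1) with he | he
    · exfalso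
      obtain ⟨w, hw, hwe⟩ := z.2
      have hwW : w ∈ W := ⟨hw, fun l hl => by
        have h5 : σ0 l z = z := hz ⟨a ⟨q l, hl⟩, ⟨⟨q l, hl⟩, rfl⟩⟩
        have h6 : ((MulAut.conjNormal (π l) z : Ub) : N ⧸ V) = z := congrArg Subtype.val h5
        rw [MulAut.conjNormal_apply, ← hwe] at h6
        calc π w * π l = π l * π w * (π l)⁻¹ * π l := by rw [h6]
          _ = π l * π w := by group⟩
      rw [he] at hwW
      refine hzne (Subtype.ext ?_)
      show (1 : N ⧸ V) = (z : N ⧸ V)
      rw [← hwe]
      exact ((QuotientGroup.eq_one_iff w).2 hwW).symm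
    · rw [eq_bot_iff]
      intro y hy
      obtain ⟨l, rfl⟩ := hqs y
      refine mem_bot.2 ((QuotientGroup.eq_one_iff l).2 ((hmemC l).2 fun x hx => ?_))
      refine (QuotientGroup.eq_one_iff _).1 ?_
      show π ⁅l, x⁆ = 1
      rw [map_commutatorElement, commutatorElement_eq_one_iff_mul_comm]
      exact ((he.ge hx).2 l hy).symm
  -- `O^p` is an abelian group of exponent prime to `p`
  set R := pResidual p (N ⧸ C0) with hR
  haveI : R.Normal := pResidual_normal
  have hRR : ⁅R, R⁆ = ⊥ := hOp _ inferInstance (residualAbelianModP_of_surjective q hqs hE)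
  have hRab : ∀ a ∈ R, ∀ b ∈ R, a * b = b * a := fun a ha b hb =>
    commutatorElement_eq_one_iff_mul_comm.1 (mem_bot.1 (hRR ▸ commutator_mem_commutator ha hb))
  set m := ordCompl[p] (Nat.card (N ⧸ C0)) with hm
  have hcard : Nat.card (N ⧸ C0) ≠ 0 := Nat.card_pos.ne'
  have hmc : p.Coprime m := (Nat.Prime.coprime_iff_not_dvd Fact.out).2 (Nat.not_dvd_ordCompl Fact.out hcard)
  have hRm : ∀ x ∈ R, x ^ m = 1 := by
    have : ∀ x, x ∈ R → x ∈ R ∧ x ^ m = 1 := by
      intro x hx
      induction hx using Subgroup.closure_induction with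
      | mem x hx =>
        refine ⟨subset_closure hx, orderOf_dvd_iff_pow_eq_one.1 ?_⟩
        refine (Nat.Coprime.pow_right ((Nat.card (N ⧸ C0)).factorization p) (hx : (orderOf x).Coprime p)).dvd_of_dvd_mul_left ?_
        rw [hm, Nat.ordProj_mul_ordCompl_eq_self]
        exact orderOf_dvd_natCard _
      | one => exact ⟨R.one_mem, one_pow m⟩
      | mul x y _ _ ihx ihy =>
        exact ⟨R.mul_mem ihx.1 ihy.1, by
          rw [(show Commute x y from hRab x ihx.1 y ihy.1).mul_pow, ihx.2, ihy.2, one_mul]⟩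
      | inv x _ ihx => exact ⟨R.inv_mem ihx.1, by rw [inv_pow, ihx.2, inv_one]⟩
    exact fun x hx => (this x hx).2
  set u := q g with hu
  have hN : ∀ x : Additive Ub, ∑ i ∈ Finset.range p, toEnd.comp σ (u ^ i) x = 0 := by
    intro x
    obtain ⟨⟨_, w, hw, rfl⟩, rfl⟩ := Additive.ofMul.surjective x
    let a : N → Additive Ub := fun z => if hz : z ∈ U then Additive.ofMul ⟨π z, z, hz, rfl⟩ else 0
    have hit' : iterCommutator U (zpowers g⁻¹) (p - 1) ≤ V := by rw [zpowers_inv]; exact hit
    have h0 := sum_conj_eq_zero (a := a) hexp hit' (fun y hy z hz => by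
        simp only [a, dif_pos hy, dif_pos hz, dif_pos (mul_mem hy hz)]
        rw [← ofMul_mul]
        exact congrArg Additive.ofMul (Subtype.ext (map_mul π y z)))
      (fun v hv => by
        simp only [a, dif_pos (hUV.1.le hv), ofMul_eq_zero]
        exact Subtype.ext ((QuotientGroup.eq_one_iff v).2 hv)) hw
    refine Eq.trans (Finset.sum_congr rfl fun i _ => ?_) h0
    rw [hu, ← map_pow]
    have hz : ((g⁻¹) ^ i)⁻¹ * w * (g⁻¹) ^ i ∈ U := by
      simpa using hUV.2.1.conj_mem w hw ((g⁻¹) ^ i)⁻¹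
    show Additive.ofMul (MulAut.conjNormal (π (g ^ i)) ⟨π w, _⟩) = a _
    simp only [a, dif_pos hz]
    refine congrArg Additive.ofMul (Subtype.ext ?_)
    rw [MulAut.conjNormal_apply]
    show π (g ^ i) * π w * (π (g ^ i))⁻¹ = π (((g⁻¹) ^ i)⁻¹ * w * (g⁻¹) ^ i)
    simp [inv_pow]
  have hM : ∀ x : Additive Ub, p • x = 0 := by
    intro x
    obtain ⟨⟨_, w, hw, rfl⟩, rfl⟩ := Additive.ofMul.surjective x
    refine congrArg Additive.ofMul (Subtype.ext ?_)
    show (π w) ^ p = 1
    rw [← map_pow]
    exact (QuotientGroup.eq_one_iff _).2 (hexp w hw)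
  have hρ : Function.Injective (toEnd.comp σ) := htoEnd.comp hσ
  have hup : u ^ p = 1 := by
    refine hρ ?_
    rw [map_one, map_pow]
    have h0 : ∑ i ∈ Finset.range p, toEnd.comp σ u ^ i = 0 := by
      refine AddMonoidHom.ext fun x => ?_
      let ev : AddMonoid.End (Additive Ub) →+ Additive Ub :=
        { toFun := fun e => e x, map_zero' := rfl, map_add' := fun _ _ => rfl }
      show ev (∑ _ ∈ _, _) = 0
      rw [map_sum ev]
      simp only [← map_pow]
      exact hN x
    have := geom_sum_mul (toEnd.comp σ u) p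
    rw [h0, zero_mul] at this
    exact sub_eq_zero.1 this.symm
  have huR : ∀ k ∈ R, k * u = u * k := fun k hk =>
    centralizes_of_norm_eq_zero (toEnd.comp σ) hρ hup hN hM hRab (by rw [normalizer_eq_top]; exact mem_top _)
      hmc hRm hk
  set C := centralizer (R : Set (N ⧸ C0)) with hC
  have hCn : (⊤ : Subgroup (N ⧸ C0)) ≤ normalizer (C : Set (N ⧸ C0)) := by
    rw [le_normalizer_iff_cj]
    intro a _
    refine Subgroup.eq_of_le_of_card_ge ?_ (card_cj a C).ge
    rw [cj_le_iff]
    intro c hc b hb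
    have hb' : a⁻¹ * b * a ∈ R := by
      have := (inferInstance : R.Normal).conj_mem b hb a⁻¹
      rwa [inv_inv] at this
    calc b * (a * c * a⁻¹) = a * ((a⁻¹ * b * a) * c) * a⁻¹ := by group
      _ = a * (c * (a⁻¹ * b * a)) * a⁻¹ := by rw [hc _ hb']
      _ = a * c * a⁻¹ * b := by group
  have huC : u ∈ C := fun k hk => huR k hk
  obtain ⟨S, hS, huS⟩ := exists_sylIn_ge (p := p) (V := zpowers u) (H := C) (by
    refine IsPGroup.iff_card.2 ?_
    rw [Nat.card_zpowers]
    exact ((Nat.dvd_prime_pow Fact.out).1 (orderOf_dvd_of_pow_eq_one (n := p ^ 1) (by rw [pow_one]; exact hup))).imp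
      fun _ h => h.2) (zpowers_le.2 huC)
  have hRC : R ≤ C := fun a ha b hb => hRab b hb a ha
  have hsup : R ⊔ S = C := by
    refine le_antisymm (sup_le hRC hS.le) (relIndex_eq_one.1 ?_)
    have h1 : (R ⊔ S).relIndex C ∣ S.relIndex C :=
      Dvd.intro_left _ (relIndex_mul_relIndex S (R ⊔ S) C le_sup_right (sup_le hRC hS.le))
    have h2 : (R ⊔ S).relIndex C ∣ R.index :=
      (Dvd.intro_left _ (relIndex_mul_relIndex R (R ⊔ S) C le_sup_left (sup_le hRC hS.le))).trans
        (relIndex_dvd_index_of_normal R C)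
    obtain ⟨k, hk⟩ := exists_index_pResidual (G := N ⧸ C0) (p := p)
    rw [hk] at h2
    exact Nat.eq_one_of_dvd_coprimes (Nat.Coprime.pow_left k ((Nat.Prime.coprime_iff_not_dvd Fact.out).2 hS.not_dvd)) h2 h1
  have hCS : C ≤ normalizer (S : Set (N ⧸ C0)) := by
    rw [← hsup]
    refine sup_le (fun r hr => ?_) le_normalizer
    refine (centralizer_le_normalizer _) fun s hs => ?_
    exact ((hS.le hs) r hr).symm
  haveI : S.Normal := by
    rw [← normalizer_eq_top_iff, eq_top_iff, le_normalizer_iff_cj]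
    intro a _
    have h1 : SylIn p (cj a S) C := by
      have := hS.cj' a
      rwa [le_normalizer_iff_cj.1 hCn a (mem_top a)] at this
    obtain ⟨k, hk, he⟩ := hS.exists_conj_eq h1
    have h2 := congrArg (cj k⁻¹) he
    rwa [cj_inv_cj, le_normalizer_iff_cj.1 hCS _ (inv_mem hk)] at h2
  have hu1 : u = 1 := by
    have := hOp S inferInstance hS.isPGroup
    rw [this, zpowers_le, mem_bot] at huS
    exact huS
  exact (QuotientGroup.eq_one_iff g).1 hu1

theorem isNormalizerPStable_of_residualAbelian {G : Type*} [Group G] [Finite G] (hp : p ≠ 2)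
    (hE : ResidualAbelianModP p G) : IsNormalizerPStable p G := by
  intro P hP g hg hq
  set N := normalizer (P : Set G) with hN
  refine (mk_mem_pCore_iff hg).2 ?_
  set P' := P.subgroupOf N with hP'
  haveI : P'.Normal := normal_in_normalizer
  have hP'p : IsPGroup p P' := hP.comap_subtype
  set C0 := factorKer (fun U _ : Subgroup N => U ≤ P') with hC0
  have hq' : ⁅⁅P', zpowers (⟨g, hg⟩ : N)⁆, zpowers (⟨g, hg⟩ : N)⁆ = ⊥ := by
    refine (Subgroup.map_eq_bot_iff_of_injective _ (f := N.subtype) N.subtype_injective).1 ?_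
    rw [Subgroup.map_commutator, Subgroup.map_commutator, MonoidHom.map_zpowers,
      map_subgroupOf_eq_of_le (show P ≤ N from le_normalizer)]
    exact hq
  have h2 : 2 ≤ p - 1 := by have := (Fact.out : p.Prime).two_le; omega
  have hgC : (⟨g, hg⟩ : N) ∈ C0 := by
    intro U V hUV hU
    haveI := hUV.2.2.1
    exact commutator_mem_of_norm (residualAbelianModP_subgroup N hE) hUV (hP'p.to_le hU)
      (iterCommutator_antitone_le h2 (((iterCommutator_mono hU le_rfl 2).trans hq'.le).trans bot_le))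
  refine ⟨C0.map N.subtype, ⟨⟨g, hg⟩, hgC, rfl⟩, fun c hc => ?_, map_subtype_le _, ?_, ?_⟩
  · refine ⟨⟨c, centralizer_le_normalizer _ hc⟩, fun U V hUV hU x hx => ?_, rfl⟩
    have h1 : ⁅(⟨c, centralizer_le_normalizer _ hc⟩ : N), x⁆ = 1 := by
      rw [commutatorElement_eq_one_iff_mul_comm]
      exact Subtype.ext (hc (x : G) (hU hx)).symm
    rw [h1]
    exact one_mem V
  · refine le_trans ?_ (Subgroup.le_normalizer_map N.subtype)
    rw [normalizer_eq_top_iff.2 (inferInstance : C0.Normal), ← MonoidHom.range_eq_map, N.range_subtype]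
  · rintro _ ⟨l, hl, rfl⟩
    obtain ⟨a, m, hm, hord⟩ := Nat.exists_eq_pow_mul_and_not_dvd (orderOf_pos l).ne' p
      (Fact.out : p.Prime).ne_one
    have hcop : (orderOf (l ^ p ^ a)).Coprime p := by
      refine Nat.Coprime.coprime_dvd_left (orderOf_dvd_of_pow_eq_one (n := m) ?_)
        ((Nat.Prime.coprime_iff_not_dvd Fact.out).2 hm).symm
      rw [← pow_mul, ← hord, pow_orderOf_eq_one]
    refine ⟨a, fun x hx => ?_⟩
    have h1 := centralizes_of_factors (Y := P') (Z := (⊥ : Subgroup N)) hP'p bot_le hcop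
      (fun y hy => by rw [SetLike.mem_coe, mem_bot] at hy; simp [hy])
      (fun U V hUV _ hU => (pow_mem hl _ : l ^ p ^ a ∈ C0) U V hUV hU)
    exact congrArg Subtype.val (h1 (⟨x, le_normalizer hx⟩ : N) (mem_subgroupOf.2 hx))

end CfsgLib.Techniques
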