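import Mathlib.Algebra.BigOperators.Group.Finset.Basic
import Mathlib.GroupTheory.OrderOfElement
import Mathlib.GroupTheory.SpecificGroups.Cyclic
import Mathlib.Data.ZMod.Basic
import Cfsg.Agent.Lib.Base.FrobeniusSolutions

/-!
Counting elements by their order.
-/

set_option autoImplicit false

open Finset

namespace CfsgLib.Techniques.OrderClasses

variable (G : Type*) [Group G] [Finite G]

/-- The number of elements of order `m`. -/
noncomputable def cnt (m : ℕ) : ℕ := Nat.card {g : G // orderOf g = m}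

theorem cnt_one : cnt G 1 = 1 := by
  rw [cnt, Nat.card_eq_one_iff_unique]
  exact ⟨⟨fun a b => Subtype.ext (by rw [orderOf_eq_one_iff.1 a.2, orderOf_eq_one_iff.1 b.2])⟩,
    ⟨⟨1, orderOf_one⟩⟩⟩

theorem cnt_ne_zero {m : ℕ} (h : cnt G m ≠ 0) : ∃ g : G, orderOf g = m := by
  by_contra hc
  push Not at hc
  haveI : IsEmpty {g : G // orderOf g = m} := ⟨fun g => hc g.1 g.2⟩
  exact h Nat.card_of_isEmpty

theorem cnt_pos {g : G} {m : ℕ} (hg : orderOf g = m) : 0 < cnt G m :=
  haveI : Nonempty {g : G // orderOf g = m} := ⟨⟨g, hg⟩⟩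
  Nat.card_pos

theorem dvd_card_of_cnt {m : ℕ} (h : cnt G m ≠ 0) : m ∣ Nat.card G := by
  obtain ⟨g, rfl⟩ := cnt_ne_zero G h
  exact orderOf_dvd_natCard g

theorem totient_dvd_cnt (m : ℕ) : Nat.totient m ∣ cnt G m := by
  classical
  haveI := Fintype.ofFinite G
  have hc : cnt G m = #{x : G | orderOf x = m} := by
    rw [cnt, Nat.card_eq_fintype_card, Fintype.card_subtype]
  rw [hc, Finset.card_eq_sum_card_image (fun g => Subgroup.zpowers g)]
  refine Finset.dvd_sum fun C hC => ?_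
  obtain ⟨g, hg, rfl⟩ := Finset.mem_image.1 hC
  have hgm : orderOf g = m := (Finset.mem_filter.1 hg).2
  have hcard : Nat.card (Subgroup.zpowers g) = m := by rw [Nat.card_zpowers, hgm]
  have h1 : #{a : Subgroup.zpowers g | orderOf a = m} = Nat.totient m :=
    IsCyclic.card_orderOf_eq_totient (by rw [← Nat.card_eq_fintype_card, hcard])
  refine dvd_of_eq (h1.symm.trans ?_)
  refine Finset.card_bij' (fun a _ => (a : G))
    (fun x hx => (⟨x, (Finset.mem_filter.1 hx).2 ▸ Subgroup.mem_zpowers x⟩ : Subgroup.zpowers g))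
    ?_ ?_ ?_ ?_
  · intro a ha
    have ho : orderOf (a : G) = m := by
      rw [Subgroup.orderOf_coe]; exact (Finset.mem_filter.1 ha).2
    refine Finset.mem_filter.2 ⟨Finset.mem_filter.2 ⟨Finset.mem_univ _, ho⟩, ?_⟩
    exact Subgroup.eq_of_le_of_card_ge ((Subgroup.zpowers_le).2 a.2)
      (by rw [Nat.card_zpowers, Nat.card_zpowers, ho, hgm])
  · intro x hx
    refine Finset.mem_filter.2 ⟨Finset.mem_univ _, ?_⟩
    rw [← Subgroup.orderOf_coe]
    exact (Finset.mem_filter.1 (Finset.mem_filter.1 hx).1).2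
  · intro a _; rfl
  · intro x _; rfl

theorem sum_cnt {N : ℕ} (hN : N ≠ 0) :
    ∑ d ∈ N.divisors, cnt G d = Nat.card {g : G // g ^ N = 1} := by
  classical
  haveI := Fintype.ofFinite G
  rw [Nat.card_eq_fintype_card, Fintype.card_subtype]
  refine Eq.trans ?_ (Eq.trans (sum_card_orderOf_eq_card_pow_eq_one (G := G) hN) (by congr!))
  refine Finset.sum_congr rfl fun d _ => ?_
  rw [cnt, Nat.card_eq_fintype_card, Fintype.card_subtype]

theorem sum_cnt_cast {p N : ℕ} (hN : N ≠ 0) (hp : p ∣ N) (hd : N ∣ Nat.card G) :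
    ∑ d ∈ N.divisors, (cnt G d : ZMod p) = 0 := by
  rw [← Nat.cast_sum, sum_cnt G hN, ZMod.natCast_eq_zero_iff]
  exact hp.trans (CfsgLib.Base.Solutions.dvd_card_pow_eq_one hd)

/-- Frobenius' theorem, one order at a time. -/
theorem cnt_mul_add {p : ℕ} (hp : p.Prime) (d : ℕ) (hpd : ¬ p ∣ d) (hd : p * d ∣ Nat.card G) :
    (cnt G (p * d) : ZMod p) + (cnt G d : ZMod p) = 0 := by
  classical
  induction d using Nat.strong_induction_on with
  | _ d ih =>
    have hd0 : d ≠ 0 := fun e => hpd (e ▸ dvd_zero p)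
    have hdec : (p * d).divisors = d.divisors ∪ d.divisors.image (p * ·) := by
      ext e
      simp only [Nat.mem_divisors, Finset.mem_union, Finset.mem_image]
      constructor
      · rintro ⟨he, -⟩
        by_cases hpe : p ∣ e
        · obtain ⟨k, rfl⟩ := hpe
          exact Or.inr ⟨k, ⟨(Nat.mul_dvd_mul_iff_left hp.pos).1 he, hd0⟩, rfl⟩
        · exact Or.inl ⟨((hp.coprime_iff_not_dvd.2 hpe).symm).dvd_of_dvd_mul_left he, hd0⟩
      · rintro (⟨he, -⟩ | ⟨k, ⟨hk, -⟩, rfl⟩)
        · exact ⟨he.mul_left p, mul_ne_zero hp.ne_zero hd0⟩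
        · exact ⟨Nat.mul_dvd_mul_left p hk, mul_ne_zero hp.ne_zero hd0⟩
    have hdis : Disjoint d.divisors (d.divisors.image (p * ·)) := by
      rw [Finset.disjoint_left]
      intro e he hei
      obtain ⟨k, -, rfl⟩ := Finset.mem_image.1 hei
      exact hpd ((dvd_mul_right p k).trans (Nat.dvd_of_mem_divisors he))
    have h0 := sum_cnt_cast G (p := p) (mul_ne_zero hp.ne_zero hd0) (dvd_mul_right p d) hd
    rw [hdec, Finset.sum_union hdis,
      Finset.sum_image (fun a _ b _ e => Nat.eq_of_mul_eq_mul_left hp.pos e),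
      ← Finset.sum_add_distrib,
      Finset.sum_eq_single_of_mem d (Nat.mem_divisors_self d hd0)] at h0
    · rwa [add_comm] at h0
    · intro e he hne
      have hed := Nat.dvd_of_mem_divisors he
      rw [add_comm]
      exact ih e (lt_of_le_of_ne (Nat.le_of_dvd (Nat.pos_of_ne_zero hd0) hed) hne)
        (fun h => hpd (h.trans hed)) ((Nat.mul_dvd_mul_left p hed).trans hd)

theorem cnt_prime {p : ℕ} (hp : p.Prime) (hd : p ∣ Nat.card G) : (cnt G p : ZMod p) = -1 := by
  have h := cnt_mul_add G hp 1 hp.not_dvd_one (by rwa [mul_one])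
  rw [mul_one, cnt_one, Nat.cast_one] at h
  exact eq_neg_of_add_eq_zero_left h

theorem cnt_mul {p d : ℕ} (hp : p.Prime) (hpd : ¬ p ∣ d) (hd : p * d ∣ Nat.card G) :
    (cnt G (p * d) : ZMod p) = -(cnt G d : ZMod p) :=
  eq_neg_of_add_eq_zero_left (cnt_mul_add G hp d hpd hd)

theorem cnt_sq_cast {p k : ℕ} (hp : p.Prime) (hk : p * p ∣ k) : (cnt G k : ZMod p) = 0 := by
  rw [ZMod.natCast_eq_zero_iff]
  refine dvd_trans ?_ (totient_dvd_cnt G k)
  refine dvd_trans ?_ (Nat.totient_dvd_of_dvd hk)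
  rw [← pow_two, Nat.totient_prime_pow hp two_pos]
  exact dvd_mul_of_dvd_left (dvd_pow_self p (by norm_num)) _

theorem even_cnt {m : ℕ} (hm : 2 < m) : Even (cnt G m) :=
  even_iff_two_dvd.2 ((even_iff_two_dvd.1 (Nat.totient_even hm)).trans (totient_dvd_cnt G m))

end CfsgLib.Techniques.OrderClasses
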