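import Cfsg.Agent.Lib.Techniques.Invariance
import Cfsg.Agent.Lib.Techniques.Sections
import Cfsg.Agent.Lib.Transfer.Fusion
import Cfsg.Agent.Lib.PGroups.Basic

/-!
Quotients of order `p` from control of transfer.
-/

set_option autoImplicit false
set_option linter.unusedSectionVars false

namespace CfsgLib.Techniques

open Cfsg Subgroup
open scoped commutatorElement

universe u

variable {G : Type u} [Group G] [Finite G] {p : ℕ} [Fact p.Prime]

/-- A Sylow subgroup outside the derived group gives a normal subgroup of index `p`. -/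
theorem exists_index_eq_of_not_le_commutator (S : Sylow p G) (h : ¬ (S : Subgroup G) ≤ commutator G) :
    ∃ N : Subgroup G, N.Normal ∧ N.index = p := by
  obtain ⟨s, hs, hsG⟩ := SetLike.not_le_iff_exists.1 h
  set m := ordCompl[p] (Nat.card (Abelianization G)) with hm
  let f : Abelianization G →* Abelianization G := powMonoidHom m
  have hcard : Nat.card (Abelianization G) ≠ 0 := Nat.card_pos.ne'
  have hR : IsPGroup p f.range := by
    rintro ⟨_, x, rfl⟩
    refine ⟨(Nat.card (Abelianization G)).factorization p, Subtype.ext ?_⟩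
    show (x ^ m) ^ (p ^ (Nat.card (Abelianization G)).factorization p) = 1
    rw [← pow_mul, mul_comm, hm, Nat.ordProj_mul_ordCompl_eq_self]
    exact pow_card_eq_one'
  have hne : f.range ≠ ⊥ := by
    intro hbot
    refine hsG ?_
    have h1 : Abelianization.of s ^ m = 1 := by
      have h2 : f (Abelianization.of s) ∈ f.range := ⟨_, rfl⟩
      rw [hbot, mem_bot] at h2
      exact h2
    obtain ⟨k, hk⟩ := IsPGroup.iff_orderOf.1 S.isPGroup' ⟨s, hs⟩
    rw [Subgroup.orderOf_mk] at hk
    have h3 : orderOf (Abelianization.of s) = 1 :=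
      Nat.eq_one_of_dvd_coprimes (Nat.Coprime.pow_left k
        ((Nat.Prime.coprime_iff_not_dvd Fact.out).2 (Nat.not_dvd_ordCompl Fact.out hcard)))
        (hk ▸ orderOf_map_dvd Abelianization.of s) (orderOf_dvd_of_pow_eq_one h1)
    exact (QuotientGroup.eq_one_iff s).1 (orderOf_eq_one_iff.1 h3)
  haveI : Nontrivial f.range := (Subgroup.nontrivial_iff_ne_bot _).2 hne
  obtain ⟨M, hM, -⟩ : ∃ M : Subgroup f.range, IsCoatom M ∧ ⊥ ≤ M :=
    (eq_top_or_exists_le_coatom (⊥ : Subgroup f.range)).resolve_left bot_ne_top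
  haveI := CfsgLib.PGroups.normal_of_isCoatom hR hM
  refine ⟨M.comap (f.rangeRestrict.comp Abelianization.of), inferInstance, ?_⟩
  rw [index_comap_of_surjective (f := f.rangeRestrict.comp Abelianization.of) M
    ((f.rangeRestrict_surjective).comp (QuotientGroup.mk'_surjective _))]
  exact CfsgLib.PGroups.index_eq_of_isCoatom hR hM

variable {W : ∀ (Q : Type u) [Group Q], Subgroup Q}

theorem sylow_comm_lt {S : Subgroup G} (hS : IsPGroup p S) (hne : S ≠ ⊥) : ¬ S ≤ ⁅S, S⁆ := by
  intro h
  haveI : Nontrivial S := (Subgroup.nontrivial_iff_ne_bot _).2 hne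
  have hnil : Group.IsNilpotent S := hS.isNilpotent
  refine (IsSolvable.commutator_lt_top_of_nontrivial S).ne (Subgroup.map_injective S.subtype_injective ?_)
  rw [map_subtype_commutator, ← MonoidHom.range_eq_map, Subgroup.range_subtype]
  exact le_antisymm (commutator_le_self S) h

/-- If a functor controls transfer in every section and the `p'`-elements normalising a Sylow subgroup
centralise it, there is a quotient of order `p`. -/
theorem exists_index_eq_of_controls (hW : IsCharPFunctor.{u} p W)
    (hsec : SectionsSatisfy G (fun X _ => ControlsTransferIn p (inducedFunctor (G := X) W) ⊤))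
    (S : Sylow p G) (hS : (S : Subgroup G) ≠ ⊥)
    (hN : ∀ g ∈ normalizer ((S : Subgroup G) : Set G), (orderOf g).Coprime p →
      g ∈ centralizer ((S : Subgroup G) : Set G)) :
    ∃ N : Subgroup G, N.Normal ∧ N.index = p := by
  induction hd : Nat.card G using Nat.strong_induction_on generalizing G with
  | _ d ih =>
  refine exists_index_eq_of_not_le_commutator S fun hle => ?_
  have hSp := S.isPGroup'
  have hF := isConjugacyFunctor_induced (G := G) hW
  have hS' := sylIn_top S
  -- the transfer equality for `S`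
  obtain ⟨T, -, hTp, hTd, hT⟩ := hsec.self
  obtain ⟨k, -, hk⟩ := hS'.exists_conj_eq (T' := T) ⟨le_top, hTp, hTd⟩
  have htr := congrArg (cj k) hT
  have hktop : cj k (⊤ : Subgroup G) = ⊤ := cj_eq_self_of_mem (mem_top k)
  simp only [top_inf_eq, cj_inf, cj_commutator, cj_normalizer, ← functor_cj hF hTp, hk, hktop] at htr
  rw [← commutator_def, inf_eq_left.2 hle] at htr
  set WS := inducedFunctor W (S : Subgroup G) with hWS
  set N := normalizer (WS : Set G) with hNdef
  have hWSle : WS ≤ S := functor_le hF hSp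
  have hSN : (S : Subgroup G) ≤ N := le_normalizer_functor hF hSp
  have hNSN : normalizer ((S : Subgroup G) : Set G) ≤ N := normalizer_le_normalizer_functor hF hSp
  have hSle : (S : Subgroup G) ≤ ⁅N, N⁆ := htr.le.trans inf_le_right
  have hWSne : WS ≠ ⊥ := functor_ne_bot hF hSp hS
  haveI hWn : (WS.subgroupOf N).Normal := normal_in_normalizer
  set q := QuotientGroup.mk' (WS.subgroupOf N) with hq
  have hq' : Function.Surjective q := QuotientGroup.mk'_surjective _
  set SN : Sylow p N := S.subtype hSN with hSNdef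
  by_cases heq : (S : Subgroup G) ≤ WS
  · -- the Sylow subgroup is normal in `N`
    have hWSeq : WS = S := le_antisymm hWSle heq
    have hcoe : (SN : Subgroup N) = (S : Subgroup G).subgroupOf N := Sylow.coe_subtype S hSN
    have hfus : ∀ x ∈ (SN : Subgroup N), ∀ g : N, g * x * g⁻¹ ∈ (SN : Subgroup N) →
        ∃ k ∈ (SN : Subgroup N), k * x * k⁻¹ = g * x * g⁻¹ := by
      intro x hx g _
      have hgN : (g : G) ∈ normalizer ((S : Subgroup G) : Set G) := by rw [← hWSeq]; exact g.2
      obtain ⟨a, m, hm, hord⟩ := Nat.exists_eq_pow_mul_and_not_dvd (orderOf_pos (g : G)).ne' p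
        (Fact.out : p.Prime).ne_one
      have hcop : Nat.Coprime (p ^ a) m :=
        Nat.Coprime.pow_left a ((Nat.Prime.coprime_iff_not_dvd Fact.out).2 hm)
      obtain ⟨u, v, huv⟩ : ∃ u v : ℤ, u * (p ^ a : ℕ) + v * m = 1 :=
        ⟨Nat.gcdA (p ^ a) m, Nat.gcdB (p ^ a) m, by
          have := Nat.gcd_eq_gcd_ab (p ^ a) m
          rw [hcop.gcd_eq_one] at this
          push_cast at this ⊢
          linarith⟩
      set r := (g : G) ^ (u * (p ^ a : ℕ)) with hr
      set s := (g : G) ^ (v * m) with hs
      have hrC : r ∈ centralizer ((S : Subgroup G) : Set G) := by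
        refine hN r (zpow_mem hgN _) ?_
        refine Nat.Coprime.coprime_dvd_left ?_ ((Nat.Prime.coprime_iff_not_dvd Fact.out).2 hm).symm
        refine orderOf_dvd_of_pow_eq_one ?_
        rw [hr, ← zpow_natCast, ← zpow_mul, show u * ((p ^ a : ℕ) : ℤ) * m = ((orderOf (g : G) : ℕ) : ℤ) * u by
          rw [hord]; push_cast; ring, zpow_mul, zpow_natCast, pow_orderOf_eq_one, one_zpow]
      have hsS : s ∈ (S : Subgroup G) := by
        have hsp : IsPGroup p (zpowers s) := by
          refine IsPGroup.iff_card.2 ?_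
          rw [Nat.card_zpowers]
          refine ((Nat.dvd_prime_pow Fact.out).1 (orderOf_dvd_of_pow_eq_one (n := p ^ a) ?_)).imp fun _ h => h.2
          rw [hs, ← zpow_natCast, ← zpow_mul, show v * (m : ℤ) * ((p ^ a : ℕ) : ℤ) = ((orderOf (g : G) : ℕ) : ℤ) * v by
            rw [hord]; push_cast; ring, zpow_mul, zpow_natCast, pow_orderOf_eq_one, one_zpow]
        have hsN : zpowers s ≤ normalizer ((S : Subgroup G) : Set G) := zpowers_le.2 (zpow_mem hgN _)
        obtain ⟨c, hc, hcle⟩ := ((sylIn_top S).mono le_normalizer le_top).exists_conj hsp hsN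
        have h1 := cj_mono (g := c⁻¹) hcle
        rw [cj_inv_cj, mem_normalizer_iff_cj.1 (inv_mem hc)] at h1
        exact h1 (mem_zpowers s)
      refine ⟨⟨s, hSN hsS⟩, by rw [hcoe]; exact mem_subgroupOf.2 hsS, Subtype.ext ?_⟩
      show s * (x : G) * s⁻¹ = g * (x : G) * (g : G)⁻¹
      rw [hcoe] at hx
      have hg : (g : G) = s * r := by rw [hs, hr, ← zpow_add, add_comm, huv, zpow_one]
      rw [hg, mul_inv_rev, show s * r * (x : G) * (r⁻¹ * s⁻¹) = s * (r * (x : G) * r⁻¹) * s⁻¹ by group,
        ← hrC _ (mem_subgroupOf.1 hx), mul_inv_cancel_right]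
    have h1 := CfsgLib.Transfer.commutator_inf_eq_of_fusion SN le_rfl hfus
    have h2 := congrArg (Subgroup.map N.subtype) h1
    rw [Subgroup.map_inf _ _ _ N.subtype_injective, Subgroup.map_inf _ _ _ N.subtype_injective,
      map_subtype_commutator, Subgroup.map_commutator, hcoe, map_subgroupOf_eq_of_le hSN,
      inf_eq_right.2 hSle] at h2
    exact sylow_comm_lt hSp hS (h2.le.trans inf_le_left)
  · -- induction in `N ⧸ W S`
    have hlt : Nat.card (N ⧸ WS.subgroupOf N) < d := by
      rw [← hd]
      refine lt_of_lt_of_le ?_ (Subgroup.card_le_card_group N)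
      rw [Subgroup.card_eq_card_quotient_mul_card_subgroup (WS.subgroupOf N)]
      refine lt_mul_of_one_lt_right Nat.card_pos ?_
      rw [Nat.card_congr (Subgroup.subgroupOfEquivOfLe (hWSle.trans hSN)).toEquiv, Subgroup.one_lt_card_iff_ne_bot]
      exact hWSne
    set Sb : Sylow p (N ⧸ WS.subgroupOf N) := SN.mapSurjective hq' with hSb
    have hcoe : (SN : Subgroup N) = (S : Subgroup G).subgroupOf N := Sylow.coe_subtype S hSN
    have hSbcoe : (Sb : Subgroup (N ⧸ WS.subgroupOf N)) = ((S : Subgroup G).subgroupOf N).map q := by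
      rw [hSb, Sylow.coe_mapSurjective, hcoe]
    have hcomap : (((S : Subgroup G).subgroupOf N).map q).comap q = (S : Subgroup G).subgroupOf N := by
      rw [Subgroup.comap_map_eq, hq, QuotientGroup.ker_mk', sup_eq_left]
      exact fun x hx => hWSle hx
    have hSbne : (Sb : Subgroup (N ⧸ WS.subgroupOf N)) ≠ ⊥ := by
      rw [hSbcoe, Ne, Subgroup.map_eq_bot_iff, hq, QuotientGroup.ker_mk']
      intro h
      exact heq fun x hx => mem_subgroupOf.1 (h (x := ⟨x, hSN hx⟩) (mem_subgroupOf.2 hx))
    have hNb : ∀ g ∈ normalizer ((Sb : Subgroup (N ⧸ WS.subgroupOf N)) : Set (N ⧸ WS.subgroupOf N)),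
        (orderOf g).Coprime p → g ∈ centralizer ((Sb : Subgroup (N ⧸ WS.subgroupOf N)) : Set (N ⧸ WS.subgroupOf N)) := by
      intro g hg hgp
      obtain ⟨y, rfl⟩ := hq' g
      obtain ⟨a, m, hm, hord⟩ := Nat.exists_eq_pow_mul_and_not_dvd (orderOf_pos (y : G)).ne' p
        (Fact.out : p.Prime).ne_one
      -- replace `y` by its power of order prime to `p`
      obtain ⟨e, he⟩ := exists_pow_eq_self_of_coprime (n := p ^ a) (x := q y)
        (Nat.Coprime.pow_left a hgp.symm)
      set z := (y ^ (p ^ a)) ^ e with hz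
      have hqz : q z = q y := by rw [hz, map_pow, map_pow, he]
      have hzN : (z : G) ∈ normalizer ((S : Subgroup G) : Set G) := by
        have h1 : z ∈ normalizer (((S : Subgroup G).subgroupOf N : Subgroup N) : Set N) := by
          have h2 : z ∈ (normalizer ((Sb : Subgroup (N ⧸ WS.subgroupOf N)) : Set (N ⧸ WS.subgroupOf N))).comap q := by
            rw [mem_comap, hqz]; exact hg
          rw [hSbcoe, comap_normalizer_eq_of_surjective _ hq', hcomap] at h2
          exact h2
        rw [mem_normalizer_iff] at h1 ⊢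
        intro x
        constructor
        · intro hx
          exact mem_subgroupOf.1 ((h1 ⟨x, hSN hx⟩).1 (mem_subgroupOf.2 hx))
        · intro hx
          have hxN : x ∈ N := by
            have := N.mul_mem (N.mul_mem (N.inv_mem z.2) (hSN hx)) z.2
            simpa [mul_assoc] using this
          exact mem_subgroupOf.1 ((h1 ⟨x, hxN⟩).2 (mem_subgroupOf.2 hx))
      have hzo : (orderOf (z : G)).Coprime p := by
        refine Nat.Coprime.coprime_dvd_left ?_ ((Nat.Prime.coprime_iff_not_dvd Fact.out).2 hm).symm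
        refine orderOf_dvd_of_pow_eq_one ?_
        rw [hz, SubmonoidClass.coe_pow, SubmonoidClass.coe_pow, ← pow_mul, ← pow_mul,
          show p ^ a * (e * m) = orderOf (y : G) * e by rw [hord]; ring, pow_mul, pow_orderOf_eq_one, one_pow]
      intro x hx
      rw [hSbcoe] at hx
      obtain ⟨w, hw, rfl⟩ := hx
      rw [← hqz, ← map_mul, ← map_mul]
      exact congrArg q (Subtype.ext (hN z hzN hzo w hw))
    obtain ⟨M, hMn, hMi⟩ := ih _ hlt (((hsec.subgroup N).quotient _)) Sb hSbne hNb rfl
    haveI := hMn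
    have hcyc : IsCyclic ((N ⧸ WS.subgroupOf N) ⧸ M) := by
      haveI : Fact (Nat.card ((N ⧸ WS.subgroupOf N) ⧸ M)).Prime := ⟨by
        rw [← Subgroup.index_eq_card, hMi]; exact Fact.out⟩
      exact isCyclic_of_prime_card rfl
    have hcomM : commutator N ≤ M.comap q := by
      intro x hx
      rw [mem_comap, ← QuotientGroup.eq_one_iff]
      letI : CommGroup ((N ⧸ WS.subgroupOf N) ⧸ M) := IsCyclic.commGroup
      exact Abelianization.commutator_subset_ker ((QuotientGroup.mk' M).comp q) hx
    have hSM : (Sb : Subgroup (N ⧸ WS.subgroupOf N)) ≤ M := by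
      rw [hSbcoe, map_le_iff_le_comap]
      refine le_trans ?_ hcomM
      intro x hx
      obtain ⟨x', hx', e⟩ : (x : G) ∈ (commutator N).map N.subtype := by
        rw [map_subtype_commutator]; exact hSle (mem_subgroupOf.1 hx)
      exact Subtype.ext e ▸ hx'
    have h3 : M.index ∣ (Sb : Subgroup (N ⧸ WS.subgroupOf N)).index := Subgroup.index_dvd_of_le hSM
    rw [hMi] at h3
    exact Sb.not_dvd_index h3

end CfsgLib.Techniques
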