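import Cfsg.Prelude.Def_ClassificationK
import Cfsg.Agent.Lib.Components.FStar
import Cfsg.Agent.Lib.PGroups.SymplecticType

/-!
# Neighbours in a symplectic configuration

`z`, `x` are involutions, `Q`, `Q'` are self-centralizing normal 2-subgroups of their centralizers
of symplectic type and exponent dividing `4`, and `x ∈ Q`.  Some element of `Q'` takes `z` to `zx`.
-/

set_option autoImplicit false

namespace CfsgLib.Techniques.SymplecticNeighbour

open scoped commutatorElement

variable {G : Type*} [Group G]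

/-- What is used about `Q = F*(C(z))`. -/
structure Setting (Q : Subgroup G) (z : G) : Prop where
  invol : z * z = 1
  ne_one : z ≠ 1
  comm : ∀ q ∈ Q, q * z = z * q
  norm : ∀ c, c * z = z * c → ∀ q ∈ Q, c * q * c⁻¹ ∈ Q
  self : ∀ c, c * z = z * c → (∀ q ∈ Q, q * c = c * q) → c ∈ Q
  commEl : ∀ a ∈ Q, ∀ b ∈ Q, a * b * a⁻¹ = b ∨ a * b * a⁻¹ = z * b
  center : ∀ u ∈ Q, u * u = 1 → (∀ q ∈ Q, q * u = u * q) → u = 1 ∨ u = z
  four : ∀ q ∈ Q, q ^ 4 = 1

namespace Setting

variable {Q : Subgroup G} {z : G} (A : Setting Q z)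
include A

theorem mem : z ∈ Q := A.self z rfl A.comm

theorem sq {q : G} (hq : q ∈ Q) : q * q = 1 ∨ q * q = z := by
  refine A.center _ (mul_mem hq hq) ?_ fun v hv => mul_inv_eq_iff_eq_mul.1 ?_
  · rw [← A.four q hq]; simp [pow_succ, mul_assoc]
  · rw [← conj_mul]
    rcases A.commEl v hv q hq with h | h <;> rw [h]
    rw [mul_assoc, ← mul_assoc q, A.comm q hq, ← mul_assoc, ← mul_assoc, A.invol, one_mul]

theorem conj (g : G) : Setting (Q.map (MulAut.conj g).toMonoidHom) (g * z * g⁻¹) := by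
  have hm : ∀ y, y ∈ Q.map (MulAut.conj g).toMonoidHom ↔ g⁻¹ * y * g ∈ Q := fun y => by
    constructor
    · rintro ⟨t, ht, rfl⟩
      simpa [mul_assoc] using ht
    · exact fun h => ⟨_, h, by simp [mul_assoc]⟩
  have hc : ∀ a b : G, a * b = b * a ↔ (g⁻¹ * a * g) * (g⁻¹ * b * g) = (g⁻¹ * b * g) * (g⁻¹ * a * g) :=
    fun a b => by
      rw [show g⁻¹ * a * g * (g⁻¹ * b * g) = g⁻¹ * (a * b) * g by group,
        show g⁻¹ * b * g * (g⁻¹ * a * g) = g⁻¹ * (b * a) * g by group, mul_left_inj, mul_right_inj]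
  have hz : g⁻¹ * (g * z * g⁻¹) * g = z := by group
  refine ⟨by rw [conj_mul, A.invol]; simp, fun h => A.ne_one (by simpa using h), ?_, ?_, ?_, ?_, ?_, ?_⟩
  · intro q hq
    rw [hc, hz]
    exact A.comm _ ((hm q).1 hq)
  · intro c hcz q hq
    rw [hc, hz] at hcz
    rw [hm]
    have := A.norm _ hcz _ ((hm q).1 hq)
    simpa [mul_assoc] using this
  · intro c hcz h
    rw [hc, hz] at hcz
    rw [hm]
    refine A.self _ hcz fun q hq => ?_
    have h1 := (hc _ _).1 (h (g * q * g⁻¹) ((hm _).2 (by simpa [mul_assoc] using hq)))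
    simpa [mul_assoc] using h1
  · intro a ha b hb
    rcases A.commEl _ ((hm a).1 ha) _ ((hm b).1 hb) with h | h
    · left; simpa [mul_assoc] using congrArg (fun t => g * t * g⁻¹) h
    · right; simpa [mul_assoc] using congrArg (fun t => g * t * g⁻¹) h
  · intro u hu huu h
    rcases A.center _ ((hm u).1 hu)
        (by simpa [mul_assoc] using congrArg (fun t => g⁻¹ * t * g) huu)
        (fun q hq => by
          have h1 := (hc _ _).1 (h (g * q * g⁻¹) ((hm _).2 (by simpa [mul_assoc] using hq)))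
          simpa [mul_assoc] using h1) with h' | h'
    · left; simpa [mul_assoc] using congrArg (fun t => g * t * g⁻¹) h'
    · right; simpa [mul_assoc] using congrArg (fun t => g * t * g⁻¹) h'
  · intro q hq
    obtain ⟨p, hp, rfl⟩ := hq
    rw [← map_pow, A.four p hp, map_one]

theorem moves {x : G} (hx : x ∈ Q) (hxx : x * x = 1) (hx1 : x ≠ 1) (hxz : x ≠ z) :
    ∃ q ∈ Q, q * x * q⁻¹ = z * x := by
  by_contra hno
  push Not at hno
  rcases A.center x hx hxx fun q hq =>
      mul_inv_eq_iff_eq_mul.1 ((A.commEl q hq x hx).resolve_right (hno q hq)) with h | h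
  exacts [hx1 h, hxz h]

/-- If all elements of `Q` centralizing `x` square to `1` and commute, then `C(z)` is a 2-group. -/
theorem pow_eq_one_of_elementary {x : G} (hx : x ∈ Q) (hxx : x * x = 1) (hx1 : x ≠ 1) (hxz : x ≠ z)
    (hE : ∀ a ∈ Q, a * x = x * a → a * a = 1)
    (hab : ∀ a ∈ Q, a * x = x * a → ∀ b ∈ Q, b * x = x * b → a * b = b * a)
    {c : G} (hc : c * z = z * c) : c ^ 32 = 1 := by
  obtain ⟨q, hq, hqx⟩ := A.moves hx hxx hx1 hxz
  have hzx : z * x = x * z := (A.comm x hx).symm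
  have hfour : ∀ a ∈ Q, a * x = x * a → a = 1 ∨ a = z ∨ a = x ∨ a = z * x := by
    intro a ha hax
    have hcen : ∀ u ∈ Q, u * x = x * u → q * u * q⁻¹ = u → u = 1 ∨ u = z := by
      intro u hu hux hqu
      refine A.center u hu (hE u hu hux) fun v hv => ?_
      rcases A.commEl v hv x hx with h | h
      · exact hab v hv (mul_inv_eq_iff_eq_mul.1 h) u hu hux
      · have h1 : (q⁻¹ * v) * x = x * (q⁻¹ * v) := by
          apply mul_inv_eq_iff_eq_mul.1
          calc (q⁻¹ * v) * x * (q⁻¹ * v)⁻¹ = q⁻¹ * (v * x * v⁻¹) * q := by group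
            _ = q⁻¹ * (q * x * q⁻¹) * q := by rw [h, hqx]
            _ = x := by group
        have h2 := hab _ (mul_mem (inv_mem hq) hv) h1 u hu hux
        have h3 : q * u = u * q := mul_inv_eq_iff_eq_mul.1 hqu
        calc v * u = q * (q⁻¹ * v * u) := by group
          _ = q * u * (q⁻¹ * v) := by rw [h2, mul_assoc]
          _ = u * v := by rw [h3]; group
    rcases A.commEl q hq a ha with h | h
    · rcases hcen a ha hax h with h' | h'
      exacts [Or.inl h', Or.inr (Or.inl h')]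
    · have h1 : q * (a * x) * q⁻¹ = a * x := by
        rw [← conj_mul, h, hqx, mul_assoc z, ← mul_assoc a, A.comm a ha, mul_assoc, ← mul_assoc z z,
          A.invol, one_mul]
      rcases hcen (a * x) (mul_mem ha hx) (by rw [mul_assoc, hxx, ← mul_assoc, ← hax, mul_assoc, hxx]) h1
        with h' | h'
      · exact Or.inr (Or.inr (Or.inl (by rw [← mul_one a, ← hxx, ← mul_assoc, h', one_mul])))
      · exact Or.inr (Or.inr (Or.inr (by rw [← mul_one a, ← hxx, ← mul_assoc, h'])))
  obtain ⟨r, hr, hrr⟩ : ∃ r ∈ Q, r * r = z := by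
    by_contra hno
    push Not at hno
    have hsq : ∀ v ∈ Q, v * v = 1 := fun v hv => (A.sq hv).resolve_right (hno v hv)
    have h : q * x = x * q := by
      calc q * x = (q * x)⁻¹ := (inv_eq_of_mul_eq_one_right (hsq _ (mul_mem hq hx))).symm
        _ = x⁻¹ * q⁻¹ := mul_inv_rev _ _
        _ = x * q := by rw [inv_eq_of_mul_eq_one_right hxx, inv_eq_of_mul_eq_one_right (hsq q hq)]
    rw [h, mul_inv_cancel_right] at hqx
    exact A.ne_one (mul_eq_right.1 hqx.symm)
  have hrx : r * x * r⁻¹ = z * x := (A.commEl r hr x hx).resolve_left fun h => A.ne_one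
    (hrr.symm.trans (hE r hr (mul_inv_eq_iff_eq_mul.1 h)))
  have hdec : ∀ v ∈ Q, ∃ a, (a = 1 ∨ a = z ∨ a = x ∨ a = z * x) ∧ (v = a ∨ v = r * a) := by
    intro v hv
    rcases A.commEl v hv x hx with h | h
    · exact ⟨v, hfour v hv (mul_inv_eq_iff_eq_mul.1 h), Or.inl rfl⟩
    · refine ⟨r⁻¹ * v, hfour _ (mul_mem (inv_mem hr) hv) ?_, Or.inr (by group)⟩
      apply mul_inv_eq_iff_eq_mul.1
      calc (r⁻¹ * v) * x * (r⁻¹ * v)⁻¹ = r⁻¹ * (v * x * v⁻¹) * r := by group
        _ = r⁻¹ * (r * x * r⁻¹) * r := by rw [h, hrx]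
        _ = x := by group
  have hrx2 : r * x * (r * x) = 1 := by
    calc r * x * (r * x) = (r * x * r⁻¹) * (r * r) * x := by group
      _ = z * (x * z) * x := by rw [hrx, hrr]; group
      _ = 1 := by rw [← hzx, ← mul_assoc, A.invol, one_mul, hxx]
  have hrz : r * z = z * r := A.comm r hr
  have e1 : ∀ t, z * (z * t) = t := fun t => by rw [← mul_assoc, A.invol, one_mul]
  have e2 : ∀ t, r * (z * t) = z * (r * t) := fun t => by rw [← mul_assoc, hrz, mul_assoc]
  have hcz : ∀ d, d * z = z * d → d * z * d⁻¹ = z := fun d hd => mul_inv_eq_iff_eq_mul.2 hd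
  -- conjugation by `c` on `r`
  have hcr : ∀ d, d * z = z * d → d * r * d⁻¹ = r ∨ d * r * d⁻¹ = z * r := by
    intro d hd
    have hs : (d * r * d⁻¹) * (d * r * d⁻¹) = z := by rw [conj_mul, hrr, hcz d hd]
    obtain ⟨a, ha, h | h⟩ := hdec _ (A.norm d hd r hr)
    · exfalso
      rw [h] at hs
      rcases ha with rfl | rfl | rfl | rfl
      · rw [one_mul] at hs; exact A.ne_one hs.symm
      · rw [A.invol] at hs; exact A.ne_one hs.symm
      · rw [hxx] at hs; exact A.ne_one hs.symm
      · rw [mul_assoc, ← mul_assoc x, ← hzx, mul_assoc, e1, hxx] at hs; exact A.ne_one hs.symm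
    · rcases ha with rfl | rfl | rfl | rfl
      · left; rwa [mul_one] at h
      · right; rwa [hrz] at h
      · rw [h, hrx2] at hs; exact absurd hs.symm A.ne_one
      · have hcm : Commute (r * x) z := A.comm _ (mul_mem hr hx)
        rw [h, e2, hcm.mul_mul_mul_comm, A.invol, hrx2, one_mul] at hs
        exact absurd hs.symm A.ne_one
  set d := c * c with hd
  have hdz : d * z = z * d := (Commute.mul_left hc hc : Commute (c * c) z)
  have hdr : d * r * d⁻¹ = r := by
    rw [hd, show c * c * r * (c * c)⁻¹ = c * (c * r * c⁻¹) * c⁻¹ by group]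
    rcases hcr c hc with h | h <;> rw [h]
    · exact h
    · rw [← conj_mul, h, hcz c hc, e1]
  have hdd : d * d * x * (d * d)⁻¹ = x ∨ d * d * x * (d * d)⁻¹ = z * x := by
    rw [show d * d * x * (d * d)⁻¹ = d * (d * x * d⁻¹) * d⁻¹ by group]
    have hinj : ∀ t, d * x * d⁻¹ = d * t * d⁻¹ → x = t := fun t h =>
      mul_left_cancel (mul_right_cancel h)
    obtain ⟨a, ha, h | h⟩ := hdec _ (A.norm d hdz x hx)
    · rcases ha with ha | ha | ha | ha <;> rw [ha] at h
      · exact absurd (by simpa using h) hx1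
      · exact absurd (hinj z (h.trans (hcz d hdz).symm)) hxz
      · rw [h]; exact Or.inl h
      · rw [h, ← conj_mul, hcz d hdz, h, e1]; exact Or.inl rfl
    · rcases ha with ha | ha | ha | ha <;> rw [ha] at h
      · have h' := hinj r (by rw [h, mul_one, hdr])
        rw [h', hrr] at hxx
        exact absurd hxx A.ne_one
      · have h' := hinj (r * z) (by rw [h, ← conj_mul, hdr, hcz d hdz])
        rw [h', mul_assoc, ← mul_assoc z, ← hrz, mul_assoc, A.invol, mul_one, hrr] at hxx
        exact absurd hxx A.ne_one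
      · rw [h, ← conj_mul, hdr, h, ← mul_assoc, hrr]; exact Or.inr rfl
      · rw [h, ← conj_mul, hdr, ← conj_mul, hcz d hdz, h]
        simp only [e2, e1]
        rw [← mul_assoc, hrr]
        exact Or.inr rfl
  set e := d * d * (d * d) with he
  have hex : e * x * e⁻¹ = x := by
    rw [he, show d * d * (d * d) * x * (d * d * (d * d))⁻¹ =
      (d * d) * ((d * d) * x * (d * d)⁻¹) * (d * d)⁻¹ by group]
    rcases hdd with h | h
    · rw [h, h]
    · rw [h, ← conj_mul, h, hcz _ (Commute.mul_left hdz hdz : Commute (d * d) z), e1]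
  have her : e * r = r * e := by
    have h : Commute d r := mul_inv_eq_iff_eq_mul.1 hdr
    exact ((h.mul_left h).mul_left (h.mul_left h))
  have hez : e * z = z * e := by
    have h : Commute d z := hdz
    exact ((h.mul_left h).mul_left (h.mul_left h))
  have hex' : e * x = x * e := mul_inv_eq_iff_eq_mul.1 hex
  have heQ : e ∈ Q := A.self e hez fun v hv => by
    obtain ⟨a, ha, hv'⟩ := hdec v hv
    have hea : Commute e a := by
      rcases ha with rfl | rfl | rfl | rfl
      exacts [Commute.one_right _, hez, hex', Commute.mul_right hez hex']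
    rcases hv' with rfl | rfl
    exacts [hea.symm, ((Commute.mul_right her hea : Commute e (r * a))).symm]
  rw [← A.four e heQ, he, hd]
  simp only [← pow_two, ← pow_mul]
  norm_num

end Setting

/-- Some element of `Q'` takes `z` to `z x`. -/
theorem exists_move {Q Q' : Subgroup G} {z x : G} (A : Setting Q z) (B : Setting Q' x)
    (hx : x ∈ Q) (hxz : x ≠ z)
    (h2 : (∀ c, c * z = z * c → ∃ k : ℕ, c ^ 2 ^ k = 1) → z ∈ Q') :
    ∃ y ∈ Q', y * z * y⁻¹ = z * x := by
  by_contra hno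
  push Not at hno
  have hzx : z * x = x * z := (A.comm x hx).symm
  have hzi : z⁻¹ = z := inv_eq_of_mul_eq_one_right A.invol
  have hxi : x⁻¹ = x := inv_eq_of_mul_eq_one_right B.invol
  have hxx : ∀ t, x * (x * t) = t := fun t => by rw [← mul_assoc, B.invol, one_mul]
  have hzQ' : z ∉ Q' := by
    intro h
    rcases B.center z h A.invol fun y hy => mul_inv_eq_iff_eq_mul.1
      ((B.commEl y hy z h).resolve_right fun e => hno y hy (e.trans hzx.symm)) with e | e
    exacts [A.ne_one e, hxz e.symm]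
  obtain ⟨q, hq, hqx⟩ := A.moves hx B.invol B.ne_one hxz
  -- `Q ∩ Q' = ⟨x⟩`
  have hR : ∀ r ∈ Q, r ∈ Q' → r = 1 ∨ r = x := by
    intro r hr hr'
    have hcA : ∀ a ∈ Q, a * x = x * a → a * r = r * a := by
      intro a ha hax
      refine mul_inv_eq_iff_eq_mul.1 ((A.commEl a ha r hr).resolve_right fun e => hzQ' ?_)
      have := B.norm a hax r hr'
      rw [e] at this
      exact (mul_mem_cancel_right hr').1 this
    have hu : ∀ u ∈ Q, u ∈ Q' → (∀ a ∈ Q, a * x = x * a → a * u = u * a) →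
        q * u = u * q → u = 1 := by
      intro u hu hu' hua hqu
      have huu : u * u = 1 := (A.sq hu).resolve_right fun e => hzQ' (e ▸ mul_mem hu' hu')
      refine (A.center u hu huu fun v hv => ?_).resolve_right fun e => hzQ' (e ▸ hu')
      rcases A.commEl v hv x hx with h | h
      · exact hua v hv (mul_inv_eq_iff_eq_mul.1 h)
      · have h1 : (q⁻¹ * v) * x = x * (q⁻¹ * v) := by
          apply mul_inv_eq_iff_eq_mul.1
          calc (q⁻¹ * v) * x * (q⁻¹ * v)⁻¹ = q⁻¹ * (v * x * v⁻¹) * q := by group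
            _ = q⁻¹ * (q * x * q⁻¹) * q := by rw [h, hqx]
            _ = x := by group
        have h2 := hua _ (mul_mem (inv_mem hq) hv) h1
        calc v * u = q * (q⁻¹ * v * u) := by group
          _ = q * u * (q⁻¹ * v) := by rw [h2, mul_assoc]
          _ = u * v := by rw [hqu]; group
    rcases A.commEl q hq r hr with h | h
    · exact Or.inl (hu r hr hr' hcA (mul_inv_eq_iff_eq_mul.1 h))
    · have h' : q * (r * x) = r * x * q := by
        apply mul_inv_eq_iff_eq_mul.1
        rw [← conj_mul, h, hqx, mul_assoc z, ← mul_assoc r, A.comm r hr, mul_assoc, ← mul_assoc z z,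
          A.invol, one_mul]
      have h1 := hu _ (mul_mem hr hx) (mul_mem hr' B.mem)
        (fun a ha hax => by rw [← mul_assoc, hcA a ha hax, mul_assoc, hax, ← mul_assoc]) h'
      exact Or.inr (by rw [← mul_one r, ← B.invol, ← mul_assoc, h1, one_mul])
  -- `[y, z]` is an involution centralizing `z`
  have hd : ∀ y ∈ Q', y * z * y⁻¹ * z ∈ Q' ∧
      (y * z * y⁻¹ * z) * (y * z * y⁻¹ * z) = 1 ∧ Commute (y * z * y⁻¹ * z) z := by
    intro y hy
    have hmem : y * z * y⁻¹ * z ∈ Q' := by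
      have := mul_mem hy (B.norm z hzx _ (inv_mem hy))
      rwa [hzi, ← mul_assoc, ← mul_assoc] at this
    set d := y * z * y⁻¹ * z with hd
    have hinv : z * d * z = d⁻¹ := by
      rw [hd, mul_inv_rev, mul_inv_rev, mul_inv_rev, inv_inv, hzi]
      simp only [mul_assoc]
      rw [A.invol, mul_one]
    have hsq : d * d = 1 := by
      refine (B.sq hmem).resolve_right fun e => hno d hmem ?_
      calc d * z * d⁻¹ = d * z * (z * d * z) := by rw [hinv]
        _ = d * (z * z) * d * z := by group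
        _ = z * x := by rw [A.invol, mul_one, e, hzx]
    refine ⟨hmem, hsq, ?_⟩
    show d * z = z * d
    calc d * z = (z * d * z) * z := by rw [hinv, inv_eq_of_mul_eq_one_right hsq]
      _ = z * d := by rw [mul_assoc, A.invol, mul_one]
  have hAP : ∀ a ∈ Q, a * x = x * a → ∀ p ∈ Q', Commute p z →
      a * p * a⁻¹ = p ∨ a * p * a⁻¹ = x * p := by
    intro a ha hax p hp hpz
    have h1 : a * p * a⁻¹ * p⁻¹ ∈ Q' := mul_mem (B.norm a hax p hp) (inv_mem hp)
    have h2 : a * p * a⁻¹ * p⁻¹ ∈ Q := by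
      rw [show a * p * a⁻¹ * p⁻¹ = a * (p * a⁻¹ * p⁻¹) by group]
      exact mul_mem ha (A.norm p hpz _ (inv_mem ha))
    rcases hR _ h2 h1 with h | h
    · exact Or.inl (mul_inv_eq_one.1 h)
    · exact Or.inr (mul_inv_eq_iff_eq_mul.1 h)
  -- an element of `Q'` centralizing `C_{Q'}(z)` centralizes `z`
  have hCP : ∀ y ∈ Q', (∀ p ∈ Q', Commute p z → Commute y p) → Commute y z := by
    intro y hy hyP
    obtain ⟨hdmem, hdd, -⟩ := hd y hy
    have hcen : ∀ u ∈ Q', u * (y * z * y⁻¹ * z) = (y * z * y⁻¹ * z) * u := by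
      intro u hu
      obtain ⟨hwmem, hww, hwz⟩ := hd u hu
      have hyw : Commute y (u * z * u⁻¹ * z) := hyP _ hwmem hwz
      set w := u * z * u⁻¹ * z with hw
      have hu' : z * u * z = w * u := by
        rw [← inv_eq_of_mul_eq_one_right hww, hw, mul_inv_rev, mul_inv_rev, mul_inv_rev, inv_inv,
          hzi]
        group
      obtain ⟨j, hj, hjj⟩ : ∃ j, y * u * y⁻¹ = j * u ∧ (j = 1 ∨ j = x) := by
        rcases B.commEl y hy u hu with h | h
        exacts [⟨1, by rw [one_mul, h], Or.inl rfl⟩, ⟨x, h, Or.inr rfl⟩]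
      have hjc : ∀ t ∈ Q', t * j = j * t := fun t ht => by
        rcases hjj with rfl | rfl
        exacts [by simp, B.comm t ht]
      have hjz : z * j * z = j := by
        rcases hjj with rfl | rfl
        · simpa using A.invol
        · rw [hzx, mul_assoc, A.invol, mul_one]
      have hj2 : j * j = 1 := by rcases hjj with rfl | rfl; exacts [one_mul 1, B.invol]
      have h1 : y * (z * u * z) * y⁻¹ = j * (z * u * z) := by
        rw [hu', ← conj_mul, hj, mul_inv_eq_iff_eq_mul.2 hyw.eq, ← mul_assoc, hjc w hwmem,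
          mul_assoc]
      have h2 : (z * y * z) * u * (z * y * z)⁻¹ = j * u := by
        calc (z * y * z) * u * (z * y * z)⁻¹ = z * (y * (z * u * z) * y⁻¹) * z := by
              rw [mul_inv_rev, mul_inv_rev, hzi]; group
          _ = z * j * z * (u * (z * z)) := by rw [h1]; group
          _ = j * u := by rw [hjz, A.invol, mul_one]
      have hsQ : z * y * z ∈ Q' := by
        have := B.norm z hzx y hy
        rwa [hzi] at this
      have h3 : (z * y * z)⁻¹ * u * (z * y * z) = j * u := by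
        calc (z * y * z)⁻¹ * u * (z * y * z)
            = (z * y * z)⁻¹ * (j * ((z * y * z) * u * (z * y * z)⁻¹)) * (z * y * z) := by
              rw [h2, ← mul_assoc j j, hj2, one_mul]
          _ = j * u := by
              rw [← mul_assoc _ j, hjc _ (inv_mem hsQ)]; group
      have h4 : (y * z * y⁻¹ * z) * u * (y * z * y⁻¹ * z)⁻¹ = u := by
        rw [show y * z * y⁻¹ * z = y * (z * y * z)⁻¹ by
          rw [mul_inv_rev, mul_inv_rev, hzi]; group]
        calc y * (z * y * z)⁻¹ * u * (y * (z * y * z)⁻¹)⁻¹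
            = y * ((z * y * z)⁻¹ * u * (z * y * z)) * y⁻¹ := by group
          _ = j * (y * u * y⁻¹) := by rw [h3, ← mul_assoc y, hjc y hy]; group
          _ = u := by rw [hj, ← mul_assoc, hj2, one_mul]
      exact (mul_inv_eq_iff_eq_mul.1 h4).symm
    rcases B.center _ hdmem hdd hcen with h | h
    · have h' := eq_inv_of_mul_eq_one_left h
      rw [hzi] at h'
      exact mul_inv_eq_iff_eq_mul.1 h'
    · refine absurd ?_ (hno y hy)
      calc y * z * y⁻¹ = (y * z * y⁻¹ * z) * z := by rw [mul_assoc _ z z, A.invol, mul_one]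
        _ = z * x := by rw [h, hzx]
  -- `[C_Q(x), Q']` centralizes `z`
  have heP : ∀ a ∈ Q, a * x = x * a → ∀ y ∈ Q', Commute (a * y * a⁻¹ * y⁻¹) z := by
    intro a ha hax y hy
    refine hCP _ (mul_mem (B.norm a hax y hy) (inv_mem hy)) fun p hp hpz => ?_
    obtain ⟨j, hj, hjj⟩ : ∃ j, y * p * y⁻¹ = j * p ∧ (j = 1 ∨ j = x) := by
      rcases B.commEl y hy p hp with h | h
      exacts [⟨1, by rw [one_mul, h], Or.inl rfl⟩, ⟨x, h, Or.inr rfl⟩]
    obtain ⟨k, hk, hkk⟩ : ∃ k, a * p * a⁻¹ = k * p ∧ (k = 1 ∨ k = x) := by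
      rcases hAP a ha hax p hp hpz with h | h
      exacts [⟨1, by rw [one_mul, h], Or.inl rfl⟩, ⟨x, h, Or.inr rfl⟩]
    have hcen : ∀ {i}, (i = 1 ∨ i = x) → (∀ t ∈ Q', t * i = i * t) ∧ i * i = 1 ∧
        a * i * a⁻¹ = i := by
      rintro i (rfl | rfl)
      exacts [⟨by simp, one_mul 1, by simp⟩,
        ⟨B.comm, B.invol, mul_inv_eq_iff_eq_mul.2 hax⟩]
    obtain ⟨hjc, hj2, hja⟩ := hcen hjj
    obtain ⟨hkc, hk2, hka⟩ := hcen hkk
    set f := a * y * a⁻¹ with hf
    have hfQ : f ∈ Q' := B.norm a hax y hy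
    have h1 : f * p * f⁻¹ = j * p := by
      calc f * p * f⁻¹ = f * (k * (a * p * a⁻¹)) * f⁻¹ := by rw [hk, ← mul_assoc k, hk2, one_mul]
        _ = k * (f * (a * p * a⁻¹) * f⁻¹) := by rw [← mul_assoc f k, hkc f hfQ]; group
        _ = k * (a * (y * p * y⁻¹) * a⁻¹) := by rw [hf]; group
        _ = k * (j * (k * p)) := by rw [hj, ← conj_mul, hja, hk]
        _ = j * p := by
          have hjk : k * j = j * k := by
            rcases hjj with e | e <;> rcases hkk with e' | e' <;> simp [e, e']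
          rw [← mul_assoc k, hjk, mul_assoc, ← mul_assoc k k, hk2, one_mul]
    have h2 : y⁻¹ * p * y = j * p := by
      calc y⁻¹ * p * y = y⁻¹ * (j * (y * p * y⁻¹)) * y := by rw [hj, ← mul_assoc j, hj2, one_mul]
        _ = j * p := by rw [← mul_assoc _ j, hjc _ (inv_mem hy)]; group
    refine mul_inv_eq_iff_eq_mul.1 ?_
    calc f * y⁻¹ * p * (f * y⁻¹)⁻¹ = f * (y⁻¹ * p * y) * f⁻¹ := by group
      _ = j * (f * p * f⁻¹) := by rw [h2, ← mul_assoc f j, hjc f hfQ]; group
      _ = p := by rw [h1, ← mul_assoc, hj2, one_mul]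
  -- `z` cannot be a square or a commutator in `C_Q(x)`
  have hS : ¬ ∀ y ∈ Q', z * y * z⁻¹ = y ∨ z * y * z⁻¹ = x * y := by
    intro h
    have hall : ∀ y ∈ Q', y * z = z * y := fun y hy => by
      rcases h y hy with e | e
      · exact (mul_inv_eq_iff_eq_mul.1 e).symm
      · refine absurd ?_ (hno y hy)
        have e' : z * y = x * y * z := mul_inv_eq_iff_eq_mul.1 e
        calc y * z * y⁻¹ = x * (x * y * z) * y⁻¹ := by rw [← mul_assoc x, ← mul_assoc x, B.invol, one_mul]
          _ = z * x := by rw [← e', hzx]; group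
    exact hzQ' (B.self z hzx hall)
  have hcen : ∀ {k}, (k = 1 ∨ k = x) → (∀ t ∈ Q', t * k = k * t) ∧
      ∀ a, a * x = x * a → a * k * a⁻¹ = k := by
    rintro k (rfl | rfl)
    exacts [⟨by simp, by simp⟩, ⟨B.comm, fun a hax => mul_inv_eq_iff_eq_mul.2 hax⟩]
  have hmul : ∀ {i k}, (i = 1 ∨ i = x) → (k = 1 ∨ k = x) → i * k = 1 ∨ i * k = x := by
    rintro i k (rfl | rfl) (rfl | rfl) <;> simp [B.invol]
  have hmove : ∀ a ∈ Q, a * x = x * a → ∀ e ∈ Q', Commute e z →
      ∃ k, (k = 1 ∨ k = x) ∧ a * e * a⁻¹ = k * e := fun a ha hax e he hez => by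
    rcases hAP a ha hax e he hez with h | h
    exacts [⟨1, Or.inl rfl, by rw [one_mul, h]⟩, ⟨x, Or.inr rfl, h⟩]
  have hact : ∀ a ∈ Q, a * x = x * a → ∀ y ∈ Q',
      ∃ e ∈ Q', Commute e z ∧ a * y * a⁻¹ = e * y := fun a ha hax y hy =>
    ⟨_, mul_mem (B.norm a hax y hy) (inv_mem hy), heP a ha hax y hy, by group⟩
  have hor : ∀ {i y t}, (i = 1 ∨ i = x) → t = i * y → t = y ∨ t = x * y := by
    rintro i y t (rfl | rfl) h
    exacts [Or.inl (h.trans (one_mul y)), Or.inr h]
  by_cases hsq : ∃ a ∈ Q, a * x = x * a ∧ a * a = z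
  · obtain ⟨a, ha, hax, haa⟩ := hsq
    refine hS fun y hy => ?_
    obtain ⟨e, he, hez, hey⟩ := hact a ha hax y hy
    obtain ⟨k, hk, hke⟩ := hmove a ha hax e he hez
    have : z * y * z⁻¹ = k * (e * e) * y := by
      rw [← haa, show a * a * y * (a * a)⁻¹ = a * (a * y * a⁻¹) * a⁻¹ by group, hey, ← conj_mul, hke,
        hey]
      group
    exact hor (hmul hk (B.sq he)) this
  by_cases hab : ∃ a ∈ Q, a * x = x * a ∧ ∃ b ∈ Q, b * x = x * b ∧ a * b * a⁻¹ = z * b
  · obtain ⟨a, ha, hax, b, hb, hbx, habz⟩ := hab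
    refine hS fun y hy => ?_
    have hy0 : (b * a)⁻¹ * y * (b * a) ∈ Q' := by
      have hcx : Commute (b * a) x := Commute.mul_left hbx hax
      have := B.norm (b * a)⁻¹ hcx.inv_left.eq y hy
      rwa [inv_inv] at this
    set w := (b * a)⁻¹ * y * (b * a) with hw
    obtain ⟨ea, hea, heaz, hya⟩ := hact a ha hax w hy0
    obtain ⟨eb, heb, hebz, hyb⟩ := hact b hb hbx w hy0
    obtain ⟨k, hk, hke⟩ := hmove a ha hax eb heb hebz
    obtain ⟨l, hl, hle⟩ := hmove b hb hbx ea hea heaz
    have h1 : z * y * z⁻¹ = k * (eb * ea) * w := by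
      have hz' : z = a * b * (b * a)⁻¹ := by
        calc z = z * b * b⁻¹ := by group
          _ = a * b * (b * a)⁻¹ := by rw [← habz]; group
      calc z * y * z⁻¹ = a * (b * w * b⁻¹) * a⁻¹ := by rw [hz', hw]; group
        _ = k * (eb * ea) * w := by rw [hyb, ← conj_mul, hke, hya]; group
    have h2 : y = l * (ea * eb) * w := by
      calc y = b * (a * w * a⁻¹) * b⁻¹ := by rw [hw]; group
        _ = l * (ea * eb) * w := by rw [hya, ← conj_mul, hle, hyb]; group
    obtain ⟨j, hj, hje⟩ : ∃ j, (j = 1 ∨ j = x) ∧ eb * ea = j * (ea * eb) := by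
      rcases B.commEl eb heb ea hea with h | h
      · exact ⟨1, Or.inl rfl, by rw [one_mul]; exact mul_inv_eq_iff_eq_mul.1 h⟩
      · exact ⟨x, Or.inr rfl, by rw [← mul_assoc]; exact mul_inv_eq_iff_eq_mul.1 h⟩
    refine hor (hmul (hmul hk hj) hl) ?_
    have hl2 : l * l = 1 := by rcases hl with rfl | rfl; exacts [one_mul 1, B.invol]
    rw [h1, hje, h2]
    calc k * (j * (ea * eb)) * w = k * j * (l * l) * (ea * eb) * w := by rw [hl2]; group
      _ = _ := by group
  push Not at hsq hab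
  refine hzQ' (h2 fun c hc => ⟨5, A.pow_eq_one_of_elementary hx B.invol B.ne_one hxz
    (fun a ha hax => (A.sq ha).resolve_right (hsq a ha hax))
    (fun a ha hax b hb hbx => mul_inv_eq_iff_eq_mul.1
      ((A.commEl a ha b hb).resolve_right (hab a ha hax b hb hbx))) hc⟩)

/-- In a 2-group of symplectic type and exponent dividing `4`, commutators are central involutions
or trivial. -/
theorem commutator_central {T : Type*} [Group T] [Finite T] (hT : Cfsg.IsOfSymplecticType T)
    (h4 : ∀ t : T, t ^ 4 = 1) (a b : T) :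
    ⁅a, b⁆ ∈ Subgroup.center T ∧ ⁅a, b⁆ * ⁅a, b⁆ = 1 := by
  haveI : Fact (Nat.Prime 2) := ⟨Nat.prime_two⟩
  have hord : ∀ {S : Subgroup T} (r : S), orderOf r ≤ 4 := fun r =>
    Nat.le_of_dvd (by norm_num) (orderOf_dvd_of_pow_eq_one (Subtype.ext (h4 r)))
  obtain ⟨E, R, hER, hsup, hE, hR⟩ := CfsgLib.PGroups.symplectic_type hT.1 hT.2
  have hcyc : IsCyclic R := by
    refine hR.resolve_right ?_
    rintro ⟨-, h16, ⟨m, ⟨e⟩⟩ | ⟨m, ⟨e⟩⟩ | ⟨n, hn, hcard, r, -, hr, -⟩⟩
    · rw [Nat.card_congr e.toEquiv, DihedralGroup.nat_card] at h16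
      have h := hord (e.symm (DihedralGroup.r 1))
      rw [e.symm.orderOf_eq, DihedralGroup.orderOf_r_one] at h
      omega
    · haveI : Finite (QuaternionGroup m) := Finite.of_equiv _ e.toEquiv
      haveI : NeZero m := ⟨fun h => by
        subst h
        haveI : Infinite (QuaternionGroup 0) :=
          Infinite.of_injective (fun i : ℤ => QuaternionGroup.a (n := 0) i) fun i j h =>
            QuaternionGroup.a.inj h
        exact not_finite (QuaternionGroup 0)⟩
      rw [Nat.card_congr e.toEquiv, Nat.card_eq_fintype_card, QuaternionGroup.card] at h16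
      have h := hord (e.symm (QuaternionGroup.a 1))
      rw [e.symm.orderOf_eq, QuaternionGroup.orderOf_a_one] at h
      omega
    · have h := hord r
      rw [hr] at h
      have h8 : (2 : ℕ) ^ 3 ≤ 2 ^ n := Nat.pow_le_pow_right (by norm_num) hn
      omega
  have hR' : ∀ r ∈ R, ∀ s ∈ R, r * s = s * r := fun r hr s hs => by
    letI := hcyc.commGroup
    exact congrArg Subtype.val (mul_comm (⟨r, hr⟩ : R) ⟨s, hs⟩)
  have hdec : ∀ t : T, ∃ e ∈ E, ∃ r ∈ R, t = e * r := by
    intro t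
    have hn : E ≤ Subgroup.normalizer (R : Set T) := fun e he =>
      Subgroup.centralizer_le_normalizer _
        (Subgroup.mem_centralizer_iff.2 fun r hr => (hER e he r hr).symm)
    have ht : t ∈ ((E ⊔ R : Subgroup T) : Set T) := by rw [hsup]; trivial
    rw [Subgroup.coe_mul_of_left_le_normalizer_right _ _ hn] at ht
    obtain ⟨e, he, r, hr, h⟩ := ht
    exact ⟨e, he, r, hr, h.symm⟩
  obtain ⟨e, he, r, hr, rfl⟩ := hdec a
  obtain ⟨f, hf, s, hs, rfl⟩ := hdec b
  have hab : ⁅e * r, f * s⁆ = ⁅e, f⁆ := by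
    have h1 : Commute r (f * s) := Commute.mul_right (hER f hf r hr).symm (hR' r hr s hs)
    have h2 : Commute e s := hER e he s hs
    calc ⁅e * r, f * s⁆ = e * (r * (f * s) * r⁻¹) * e⁻¹ * (f * s)⁻¹ := by
          rw [commutatorElement_def]; group
      _ = e * f * (s * e⁻¹) * s⁻¹ * f⁻¹ := by rw [h1.eq, mul_inv_cancel_right]; group
      _ = ⁅e, f⁆ := by rw [h2.inv_left.symm.eq, commutatorElement_def]; group
  rw [hab]
  rcases hE with rfl | hE
  · rw [Subgroup.mem_bot.1 he, commutatorElement_one_left]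
    exact ⟨one_mem _, one_mul 1⟩
  have hc := CfsgLib.PGroups.Extraspecial.commutator_mem_center hE
    (⟨e, he⟩ : E) (⟨f, hf⟩ : E)
  refine ⟨Subgroup.mem_center_iff.2 fun t => ?_, ?_⟩
  · obtain ⟨g, hg, u, hu, rfl⟩ := hdec t
    have h1 : Commute g ⁅e, f⁆ := congrArg Subtype.val (Subgroup.mem_center_iff.1 hc ⟨g, hg⟩)
    have h2 : Commute u ⁅e, f⁆ :=
      (hER _ (mul_mem (mul_mem (mul_mem he hf) (inv_mem he)) (inv_mem hf)) u hu).symm
    exact h1.mul_left h2
  · have h := pow_card_eq_one' (G := Subgroup.center E) (x := ⟨_, hc⟩)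
    rw [hE.2, pow_two] at h
    exact congrArg (fun x : Subgroup.center E => ((x : E) : T)) h

/-- The generalized Fitting subgroup of `C(z)` provides the setting. -/
theorem setting_fstar [Finite G] {z : G} (hz : orderOf z = 2)
    (hQ : Cfsg.IsOfSymplecticType
      ↥(Cfsg.generalizedFittingSubgroup ↥(Subgroup.centralizer ({z} : Set G))))
    (h4 : ∀ q ∈ (Cfsg.generalizedFittingSubgroup ↥(Subgroup.centralizer ({z} : Set G))).map
      (Subgroup.centralizer ({z} : Set G)).subtype, q ^ 4 = 1) :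
    Setting ((Cfsg.generalizedFittingSubgroup ↥(Subgroup.centralizer ({z} : Set G))).map
      (Subgroup.centralizer ({z} : Set G)).subtype) z := by
  set C := Subgroup.centralizer ({z} : Set G) with hC
  set F : Subgroup ↥C := Cfsg.generalizedFittingSubgroup ↥C with hF
  haveI hFc : F.Characteristic := CfsgLib.Components.fstar_characteristic
  have hmem : ∀ c, c ∈ C ↔ c * z = z * c := fun c => Subgroup.mem_centralizer_singleton_iff
  have hzz : z * z = 1 := by rw [← pow_two, ← hz, pow_orderOf_eq_one]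
  have hz1 : z ≠ 1 := fun h => by rw [h, orderOf_one] at hz; omega
  have h4' : ∀ t : F, t ^ 4 = 1 := fun t => Subtype.ext (Subtype.ext (h4 _ ⟨t.1, t.2, rfl⟩))
  have hcent : ∀ u : F, u * u = 1 → u ∈ Subgroup.center F →
      ((u : C) : G) = 1 ∨ ((u : C) : G) = z := by
    intro u hu huc
    haveI := hQ.2 (Subgroup.center F) inferInstance inferInstance
    have hzF : (⟨z, (hmem z).2 rfl⟩ : C) ∈ F := CfsgLib.Components.centralizer_fstar_le
      (Subgroup.mem_centralizer_iff.2 fun y _ => Subtype.ext ((hmem y).1 y.2))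
    have hzc : (⟨_, hzF⟩ : F) ∈ Subgroup.center F := Subgroup.mem_center_iff.2 fun y =>
      Subtype.ext (Subtype.ext ((hmem _).1 (y : C).2))
    haveI : Fact (Nat.Prime 2) := ⟨Nat.prime_two⟩
    have hzo : orderOf (⟨_, hzc⟩ : Subgroup.center F) = 2 := by
      rw [Subgroup.orderOf_mk, Subgroup.orderOf_mk, Subgroup.orderOf_mk, hz]
    have := CfsgLib.PLocal.isCyclic_mem_zpowers_of_pow_eq_one (G := Subgroup.center F)
      (hQ.1.to_subgroup _) hzo (y := ⟨u, huc⟩) (Subtype.ext (by rw [SubmonoidClass.coe_pow, pow_two]; exact hu))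
    obtain ⟨k, hk⟩ := this
    have hk' : z ^ k = ((u : C) : G) :=
      congrArg (fun x : Subgroup.center F => (((x : F) : C) : G)) hk
    rcases Int.even_or_odd k with ⟨j, rfl⟩ | ⟨j, rfl⟩
    · left; rw [← hk', zpow_add, ← (Commute.refl z).mul_zpow, hzz, one_zpow]
    · right; rw [← hk', zpow_add, zpow_one, two_mul, zpow_add, ← (Commute.refl z).mul_zpow, hzz,
        one_zpow, one_mul]
  refine ⟨hzz, hz1, ?_, ?_, ?_, ?_, ?_, h4⟩
  · rintro _ ⟨q, -, rfl⟩
    exact (hmem _).1 q.2
  · rintro c hc _ ⟨q, hq, rfl⟩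
    exact ⟨⟨c, (hmem c).2 hc⟩ * q * ⟨c, (hmem c).2 hc⟩⁻¹,
      Subgroup.Normal.conj_mem inferInstance q hq _, rfl⟩
  · intro c hc h
    exact ⟨⟨c, (hmem c).2 hc⟩, CfsgLib.Components.centralizer_fstar_le
      (Subgroup.mem_centralizer_iff.2 fun y hy => Subtype.ext (h _ ⟨y, hy, rfl⟩)), rfl⟩
  · rintro _ ⟨a, ha, rfl⟩ _ ⟨b, hb, rfl⟩
    obtain ⟨hc, hsq⟩ := commutator_central hQ h4' (⟨a, ha⟩ : F) ⟨b, hb⟩
    rcases hcent _ hsq hc with h | h
    · left; exact mul_inv_eq_one.1 h
    · right; exact mul_inv_eq_iff_eq_mul.1 h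
  · rintro _ ⟨u, hu, rfl⟩ huu h
    exact hcent ⟨u, hu⟩ (Subtype.ext (Subtype.ext huu))
      (Subgroup.mem_center_iff.2 fun y => Subtype.ext (Subtype.ext (h _ ⟨y.1, y.2, rfl⟩)))

end CfsgLib.Techniques.SymplecticNeighbour
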