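import Cfsg.Agent.Lib.Transfer.Alperin
import Cfsg.Agent.Lib.PLocal.Frattini

/-!
# Alperin's fusion theorem with `p`-elements as conjugating factors
-/

set_option autoImplicit false

open Subgroup
open scoped Pointwise

namespace CfsgLib.Techniques

open CfsgLib.Transfer

variable {G : Type*} [Group G] [Finite G] {p : ℕ}

/-- A chain of tame conjugations in which each factor is a `p`-element or normalizes `P`. -/
inductive PChain (P : Sylow p G) : Set G → G → Prop
  | nil (A : Set G) : PChain P A 1
  | cons {A : Set G} {g : G} (Q : Sylow p G) (x : G)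
      (hxN : x ∈ normalizer (((P : Subgroup G) ⊓ (Q : Subgroup G) : Subgroup G) : Set G))
      (hP : ¬ p ∣ ((P : Subgroup G) ⊓
        normalizer (((P : Subgroup G) ⊓ (Q : Subgroup G) : Subgroup G) : Set G)).relIndex
        (normalizer (((P : Subgroup G) ⊓ (Q : Subgroup G) : Subgroup G) : Set G)))
      (hQ : ¬ p ∣ ((Q : Subgroup G) ⊓
        normalizer (((P : Subgroup G) ⊓ (Q : Subgroup G) : Subgroup G) : Set G)).relIndex
        (normalizer (((P : Subgroup G) ⊓ (Q : Subgroup G) : Subgroup G) : Set G)))
      (hpel : (Q : Subgroup G) = (P : Subgroup G) ∨ ∃ k : ℕ, orderOf x = p ^ k)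
      (hA : A ⊆ (((P : Subgroup G) ⊓ (Q : Subgroup G) : Subgroup G) : Set G))
      (h : PChain P ((fun a => x⁻¹ * a * x) '' A) g) : PChain P A (x * g)

variable {P : Sylow p G}

theorem PChain.mono {A B : Set G} {g : G} (h : PChain P A g) (hBA : B ⊆ A) :
    PChain P B g := by
  induction h generalizing B with
  | nil A => exact .nil B
  | cons Q x hxN hP hQ hp hA _ ih =>
    exact .cons Q x hxN hP hQ hp (hBA.trans hA) (ih (Set.image_mono hBA))

theorem PChain.append {A : Set G} {g k : G} (h : PChain P A g)
    (h' : PChain P ((fun a => g⁻¹ * a * g) '' A) k) : PChain P A (g * k) := by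
  induction h with
  | nil A => simpa using h'
  | @cons A g Q x hxN hP hQ hp hA _ ih =>
    rw [mul_assoc]
    refine .cons Q x hxN hP hQ hp hA (ih ?_)
    convert h' using 1
    rw [Set.image_image]
    congr 1
    funext a
    group

/-- An Alperin chain can be refined into one with `p`-elements as factors. -/
theorem pChain_aux [hp : Fact p.Prime] (P : Sylow p G) (n : ℕ) : ∀ (D : Subgroup G) (g : G),
    Nat.card G - Nat.card D < n → D ≤ (P : Subgroup G) →
    (∀ a ∈ D, g⁻¹ * a * g ∈ (P : Subgroup G)) → PChain P (D : Set G) g := by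
  induction n with
  | zero => intro D g h; omega
  | succ n ih =>
    intro D g hn hDP hDg
    have key : ∀ (A : Set G) (k : G), FusionChain P A k →
        ∀ D' : Subgroup G, A = (D' : Set G) → Nat.card D' = Nat.card D → PChain P A k := by
      intro A k h
      induction h with
      | nil A => exact fun _ _ _ => .nil A
      | @cons A k Q x hxN hP hQ hA _ ihc =>
        intro D' hAD hcard
        have hrest : PChain P ((fun a => x⁻¹ * a * x) '' A) k := by
          refine ihc (D'.map (MulAut.conj x⁻¹).toMonoidHom) ?_
            (by rw [card_map_of_injective (MulAut.conj x⁻¹).injective, hcard])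
          subst hAD
          ext u
          simp
        refine PChain.append ?_ hrest
        set E : Subgroup G := (P : Subgroup G) ⊓ (Q : Subgroup G) with hE
        have hD'E : D' ≤ E := fun a ha => hA (hAD ▸ ha)
        by_cases hEP : (P : Subgroup G) ≤ (Q : Subgroup G)
        · have hPQ : (Q : Subgroup G) = (P : Subgroup G) := P.3 Q.2 hEP
          rw [← mul_one x]
          exact .cons Q x hxN hP hQ (Or.inl hPQ) hA (.nil _)
        have hlt : E < (P : Subgroup G) :=
          lt_of_le_of_ne inf_le_left fun e => hEP (e ▸ inf_le_right)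
        -- the subgroup generated by the `p`-elements of the normalizer
        set N : Subgroup G := normalizer (E : Set G) with hN
        let K : Subgroup G := closure {u : G | u ∈ N ∧ ∃ j, orderOf u = p ^ j}
        have hK : ∀ u ∈ K, u ∈ N ∧ PChain P (E : Set G) u ∧ u⁻¹ ∈ N ∧
            PChain P (E : Set G) u⁻¹ := by
          intro u hu
          refine Subgroup.closure_induction ?_ ?_ ?_ ?_ hu
          · intro w hw
            refine ⟨hw.1, ?_, inv_mem hw.1, ?_⟩
            · rw [← mul_one w]
              exact .cons Q w hw.1 hP hQ (Or.inr hw.2) le_rfl (.nil _)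
            · rw [← mul_one w⁻¹]
              exact .cons Q w⁻¹ (inv_mem hw.1) hP hQ (Or.inr (orderOf_inv w ▸ hw.2)) le_rfl (.nil _)
          · exact ⟨one_mem _, .nil _, by simp, by simpa using PChain.nil (P := P) (E : Set G)⟩
          · intro a b _ _ ha hb
            have himg : ∀ c ∈ N, (fun v => c⁻¹ * v * c) '' (E : Set G) ⊆ (E : Set G) := by
              rintro c hc _ ⟨v, hv, rfl⟩
              exact (mem_set_normalizer_iff''.mp hc v).mp hv
            refine ⟨mul_mem ha.1 hb.1, ha.2.1.append (hb.2.1.mono (himg a ha.1)),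
              inv_mem (mul_mem ha.1 hb.1), ?_⟩
            rw [mul_inv_rev]
            exact hb.2.2.2.append (ha.2.2.2.mono (himg b⁻¹ hb.2.2.1))
          · intro a _ ha
            exact ⟨ha.2.2.1, ha.2.2.2, by simpa using ha.1, by simpa using ha.2.1⟩
        have hKN : K ≤ N := fun u hu => (hK u hu).1
        haveI : (K.subgroupOf N).Normal := by
          refine ⟨fun u hu c => ?_⟩
          rw [mem_subgroupOf] at hu ⊢
          have hmap : K.map (MulAut.conj (c : G)).toMonoidHom ≤ K := by
            rw [MonoidHom.map_closure, closure_le]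
            rintro _ ⟨w, ⟨hwN, j, hj⟩, rfl⟩
            exact subset_closure ⟨mul_mem (mul_mem c.2 hwN) (inv_mem c.2), j, by
              rw [← hj]; exact orderOf_injective (MulAut.conj (c : G)).toMonoidHom
                (MulAut.conj (c : G)).injective w⟩
          exact hmap ⟨(u : G), hu, rfl⟩
        -- the Frattini argument inside `N`
        have hPNK : (P : Subgroup G) ⊓ N ≤ K := fun u hu => subset_closure ⟨hu.2, by
          obtain ⟨j, hj⟩ := IsPGroup.iff_orderOf.mp P.isPGroup' ⟨u, hu.1⟩
          exact ⟨j, by rw [← hj, Subgroup.orderOf_mk]⟩⟩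
        let S₀ : Sylow p N := (P.2.to_le (inf_le_left : (P : Subgroup G) ⊓ N ≤ _)).comap_subtype.toSylow
          (by
            have : ((P : Subgroup G) ⊓ N).relIndex N = (((P : Subgroup G) ⊓ N).subgroupOf N).index := rfl
            rw [this] at hP
            exact hP)
        obtain ⟨d, hd, m, hm, hdm⟩ := CfsgLib.PLocal.exists_mul_normalizer S₀ (K.subgroupOf N)
          ⟨x, hxN⟩
        rw [mem_subgroupOf] at hd
        have hxdm : x = (d : G) * (m : G) := congrArg Subtype.val hdm
        rw [hxdm]
        refine ((hK d hd).2.1.mono (fun a ha => hA ha)).append ?_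
        have hstep : PChain P (((P : Subgroup G) ⊓ N : Subgroup G) : Set G) m := by
          refine ih _ m ?_ inf_le_left ?_
          · have h1 := card_lt_card_of_lt (CfsgLib.Transfer.lt_inf_normalizer P.2 hlt)
            have h2 := card_le_of_le hD'E
            have h3 := card_le_card_group ((P : Subgroup G) ⊓ N)
            rw [← hN] at h1
            omega
          · intro a ha
            have hmem : (⟨a, ha.2⟩ : N) ∈ (S₀ : Subgroup N) ⊓ K.subgroupOf N :=
              ⟨ha, mem_subgroupOf.mpr (hPNK ha)⟩
            exact (((mem_set_normalizer_iff''.mp hm) ⟨a, ha.2⟩).mp hmem).1.1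
        refine hstep.mono ?_
        rintro _ ⟨a, ha, rfl⟩
        refine ⟨?_, ?_⟩
        · exact ((mem_set_normalizer_iff''.mp (hK d hd).1 a).mp (hA ha)).1
        · show (d : G)⁻¹ * a * (d : G) ∈ N
          exact N.mul_mem (N.mul_mem (N.inv_mem (hK d hd).1) (le_normalizer (hA ha))) (hK d hd).1
    exact key _ _ (fusionChain P hDP hDg) D rfl rfl

/-- **Alperin's fusion theorem** with `p`-elements. -/
theorem pChain [hp : Fact p.Prime] (P : Sylow p G) {A : Set G} {g : G}
    (hA : A ⊆ (P : Subgroup G)) (hg : ∀ a ∈ A, g⁻¹ * a * g ∈ (P : Subgroup G)) :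
    PChain P A g :=
  (pChain_aux P _ ((P : Subgroup G) ⊓ ((g • P : Sylow p G) : Subgroup G)) g (Nat.lt_succ_self _)
    inf_le_left (fun a ha => mem_coe_smul_sylow_iff.mp ha.2)).mono
    fun a ha => ⟨hA ha, mem_coe_smul_sylow_iff.mpr (hg a ha)⟩

end CfsgLib.Techniques
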