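import Cfsg.Agent.Lib.Small.SUThreeSylow
import Cfsg.Agent.Lib.Base.Cores

/-!
The automorphism group of a Sylow 2-subgroup of `SU(3, 2 ^ n)`, in parameters: every automorphism
induces `c ↦ l * τ c` on the first coordinate, and the kernel consists of the central automorphisms.
-/

set_option autoImplicit false
set_option linter.style.haveILetI false

namespace CfsgLib.Techniques.AutSU3Syl

open CfsgLib.Involutions.U34

variable {F : Type*} [Field F] {σ : F →+* F} {T : Type*} [Group T] (d : Param σ T)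

/-- The first coordinate. -/
noncomputable def pfst (t : T) : F := Classical.choose (d.surj t)

/-- The second coordinate. -/
noncomputable def psnd (t : T) : F := Classical.choose (Classical.choose_spec (d.surj t))

theorem spec (t : T) : ∃ h, d.el (pfst d t) (psnd d t) h = t :=
  Classical.choose_spec (Classical.choose_spec (d.surj t))

theorem pfst_el {c b : F} (h) : pfst d (d.el c b h) = c := by
  obtain ⟨h', e⟩ := spec d (d.el c b h)
  exact (d.inj _ _ _ _ _ _ e).1

theorem psnd_el {c b : F} (h) : psnd d (d.el c b h) = b := by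
  obtain ⟨h', e⟩ := spec d (d.el c b h)
  exact (d.inj _ _ _ _ _ _ e).2

theorem rel (t : T) : psnd d t + σ (psnd d t) = pfst d t * σ (pfst d t) :=
  (spec d t).1

theorem el_eq (t : T) : d.el (pfst d t) (psnd d t) (rel d t) = t := (spec d t).2

theorem ext' {t u : T} (h1 : pfst d t = pfst d u) (h2 : psnd d t = psnd d u) : t = u := by
  rw [← el_eq d t, ← el_eq d u]
  congr 1

theorem mul_coord (t u : T) : pfst d (t * u) = pfst d t + pfst d u ∧
    psnd d (t * u) = psnd d t + psnd d u + σ (pfst d t) * pfst d u := by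
  obtain ⟨h, e⟩ := d.mul _ _ (rel d t) _ _ (rel d u)
  rw [el_eq d t, el_eq d u] at e
  exact ⟨by rw [e, pfst_el], by rw [e, psnd_el]⟩

theorem pfst_mul (t u : T) : pfst d (t * u) = pfst d t + pfst d u := (mul_coord d t u).1

theorem psnd_mul (t u : T) : psnd d (t * u) = psnd d t + psnd d u + σ (pfst d t) * pfst d u :=
  (mul_coord d t u).2

theorem pfst_one : pfst d (1 : T) = 0 := by simpa using pfst_mul d 1 1

theorem psnd_one : psnd d (1 : T) = 0 := by simpa [pfst_one] using psnd_mul d 1 1

variable (h2 : (2 : F) = 0) (hinv : ∀ x, σ (σ x) = x) {x : F} (hx : x + σ x = 1)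

include h2 in
theorem add_self_zero (a : F) : a + a = 0 := by linear_combination a * h2

include h2 in
theorem fix_of_rel {b : F} (h : b + σ b = 0) : σ b = b := by linear_combination h - b * h2

include h2 hx in
theorem mem_center_iff {t : T} : t ∈ Subgroup.center T ↔ pfst d t = 0 := by
  have hsx : σ x = x + 1 := by linear_combination hx - x * h2
  rw [Subgroup.mem_center_iff]
  constructor
  · intro hc
    have key : ∀ c' b' h', σ (pfst d t) * c' = σ c' * pfst d t := fun c' b' h' => by
      have h := congrArg (psnd d) (hc (d.el c' b' h'))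
      rw [psnd_mul, psnd_mul, pfst_el, psnd_el] at h
      linear_combination -h
    have h1 := key 1 x (by rw [hx, map_one, mul_one])
    rw [mul_one, map_one, one_mul] at h1
    have hn : x * σ x * x + σ (x * σ x * x) = x * σ x := by
      have : σ (x * σ x) = x * σ x := by
        rw [map_mul, hsx, map_add, map_one, hsx]; linear_combination (x + 1) * h2
      rw [map_mul, this]; linear_combination (x * σ x) * hx
    have h3 := key x _ hn
    rw [h1, hsx] at h3
    linear_combination -h3
  · intro h g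
    exact ext' d (by rw [pfst_mul, pfst_mul, add_comm]) (by rw [psnd_mul, psnd_mul, h]; simp; ring)

include hinv hx in
theorem sect_rel (c : F) : c * σ c * x + σ (c * σ c * x) = c * σ c := by
  simp only [map_mul, hinv]
  linear_combination (c * σ c) * hx

/-- A section of the first coordinate. -/
def sect (c : F) : T := d.el c (c * σ c * x) (sect_rel hinv hx c)

theorem pfst_sect (c : F) : pfst d (sect d hinv hx c) = c := pfst_el d _

include h2 in
theorem zrel {b : F} (hb : σ b = b) : b + σ b = 0 * σ 0 := by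
  rw [hb, zero_mul]; exact add_self_zero h2 b

/-- The central elements. -/
def zel {b : F} (hb : σ b = b) : T := d.el 0 b (zrel h2 hb)

include h2 in
theorem exists_zel {t : T} (ht : pfst d t = 0) : σ (psnd d t) = psnd d t := by
  have := rel d t
  rw [ht, zero_mul] at this
  exact fix_of_rel h2 this

include h2 in
theorem psnd_sq (t : T) : psnd d (t * t) = σ (pfst d t) * pfst d t := by
  rw [psnd_mul, add_self_zero h2, zero_add]

section Induced

variable (φ : MulAut T)

include h2 hx in
theorem pfst_phi_zero {t : T} (ht : pfst d t = 0) : pfst d (φ t) = 0 := by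
  rw [← mem_center_iff d h2 hx] at ht ⊢
  rw [Subgroup.mem_center_iff] at ht ⊢
  intro g
  obtain ⟨u, rfl⟩ := φ.surjective g
  rw [← map_mul, ← map_mul, ht u]

/-- The map induced on the first coordinate. -/
noncomputable def ff (c : F) : F := pfst d (φ (sect d hinv hx c))

include h2 in
theorem pfst_phi (t : T) : pfst d (φ t) = ff d hinv hx φ (pfst d t) := by
  set u := sect d hinv hx (pfst d t)
  have hu : pfst d u = pfst d t := pfst_el d _
  have hi : pfst d (u⁻¹ * t) = 0 := by
    have h := pfst_mul d u (u⁻¹ * t)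
    rw [mul_inv_cancel_left, hu] at h
    linear_combination -h
  have h3 := pfst_mul d (φ u) (φ (u⁻¹ * t))
  rw [← map_mul, mul_inv_cancel_left, pfst_phi_zero d h2 hx φ hi, add_zero] at h3
  exact h3

include h2 in
theorem ff_add (a b : F) :
    ff d hinv hx φ (a + b) = ff d hinv hx φ a + ff d hinv hx φ b := by
  have h := pfst_phi d h2 hinv hx φ (sect d hinv hx a * sect d hinv hx b)
  rw [map_mul, pfst_mul, pfst_mul, pfst_sect, pfst_sect] at h
  exact h.symm

include h2 in
theorem ff_zero : ff d hinv hx φ 0 = 0 := by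
  have := ff_add d h2 hinv hx φ 0 0
  rw [add_zero] at this
  linear_combination -this

include h2 in
theorem ff_inj {a b : F} (h : ff d hinv hx φ a = ff d hinv hx φ b) : a = b := by
  have h0 : ff d hinv hx φ (a + b) = 0 := by
    rw [ff_add d h2 hinv hx, h, add_self_zero h2]
  have h1 : pfst d (φ.symm (φ (sect d hinv hx (a + b)))) = 0 :=
    pfst_phi_zero d h2 hx φ.symm h0
  rw [MulEquiv.symm_apply_apply, pfst_sect] at h1
  linear_combination h1 - b * h2

/-- The map induced on the centre. -/
noncomputable def gg (b : F) : F :=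
  letI := _root_.Classical.propDecidable (σ b = b)
  if hb : σ b = b then psnd d (φ (zel d h2 hb)) else 0

include h2 in
theorem gg_eq {t : T} (ht : pfst d t = 0) : gg d h2 φ (psnd d t) = psnd d (φ t) := by
  have hf := exists_zel d h2 ht
  rw [gg, dif_pos hf]
  congr 1
  congr 1
  exact ext' d (by rw [zel, pfst_el, ht]) (by rw [zel, psnd_el])

include hx in
theorem gg_add {a b : F} (ha : σ a = a) (hb : σ b = b) :
    gg d h2 φ (a + b) = gg d h2 φ a + gg d h2 φ b := by
  have e1 : pfst d (zel d h2 ha * zel d h2 hb) = 0 := by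
    rw [pfst_mul, zel, zel, pfst_el, pfst_el, add_zero]
  have e := gg_eq d h2 φ e1
  have e2 : psnd d (zel d h2 ha * zel d h2 hb) = a + b := by
    simp [psnd_mul, zel, psnd_el, pfst_el]
  have e3 : pfst d (φ (zel d h2 ha)) = 0 := pfst_phi_zero d h2 hx φ (pfst_el d _)
  rw [e2, map_mul, psnd_mul, e3, map_zero, zero_mul, add_zero] at e
  rw [e, gg, dif_pos ha, gg, dif_pos hb]

include hinv hx in
theorem gg_norm (c : F) :
    gg d h2 φ (σ c * c) = σ (ff d hinv hx φ c) * ff d hinv hx φ c := by
  set t := sect d hinv hx c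
  have ht : pfst d t = c := pfst_el d _
  have h0 : pfst d (t * t) = 0 := by rw [pfst_mul, add_self_zero h2]
  have e := gg_eq d h2 φ h0
  rw [psnd_sq d h2, ht, map_mul, psnd_sq d h2] at e
  exact e

include hinv hx in
theorem gg_polar (c e : F) : gg d h2 φ (σ c * e + σ e * c) =
    σ (ff d hinv hx φ c) * ff d hinv hx φ e + σ (ff d hinv hx φ e) * ff d hinv hx φ c := by
  set f := ff d hinv hx φ
  have hf : ∀ c, σ (σ c * c) = σ c * c := fun c => by rw [map_mul, hinv, mul_comm]
  have hfx : σ (σ c * e + σ e * c) = σ c * e + σ e * c := by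
    rw [map_add, map_mul, map_mul, hinv, hinv]; ring
  have h := gg_norm d h2 hinv hx φ (c + e)
  have hsum : σ (c + e) * (c + e) = σ c * c + (σ e * e + (σ c * e + σ e * c)) := by
    rw [map_add]; ring
  rw [hsum, gg_add d h2 hx φ (hf c) (by rw [map_add, hf e, hfx]), gg_add d h2 hx φ (hf e) hfx,
    gg_norm d h2 hinv hx φ c, gg_norm d h2 hinv hx φ e, ff_add d h2 hinv hx, map_add] at h
  linear_combination h

end Induced

include h2 in
/-- A linear map fixing `1` compatible with trace and norm is multiplicative. -/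
theorem hom_of_polar (f g : F → F) (hinv : ∀ x, σ (σ x) = x) (hx : x + σ x = 1)
    (hadd : ∀ a b, f (a + b) = f a + f b) (hinj : Function.Surjective f)
    (hn : ∀ c, g (σ c * c) = σ (f c) * f c)
    (hp : ∀ c e, g (σ c * e + σ e * c) = σ (f c) * f e + σ (f e) * f c)
    (h1 : f 1 = 1) : ∀ a b, f (a * b) = f a * f b := by
  have hf0 : f 0 = 0 := by have := hadd 0 0; rw [add_zero] at this; linear_combination -this
  have hg0 : g 0 = 0 := by simpa [hf0] using hn 0
  have hfix : ∀ a, σ a = a → σ (f a) = f a := fun a ha => by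
    have h := hp a 1
    rw [ha, h1, map_one, one_mul, mul_one, mul_one, one_mul, add_self_zero h2, hg0] at h
    linear_combination -h - f a * h2
  have hga : ∀ a, σ a = a → ∀ b, σ b = b → g (a * b) = f a * g b := fun a ha b hb => by
    have e1 := hp a (b * x)
    have e2 := hp 1 (b * x)
    have ez : σ a * (b * x) + σ (b * x) * a = a * b := by
      rw [map_mul, ha, hb]; linear_combination (a * b) * hx
    have ez' : σ 1 * (b * x) + σ (b * x) * 1 = b := by
      rw [map_mul, map_one, hb]; linear_combination b * hx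
    rw [ez, hfix a ha] at e1
    rw [ez', h1, map_one] at e2
    rw [e1, e2]; ring
  have hg1 : g 1 = 1 := by
    have := hn 1; rwa [map_one, one_mul, h1, map_one, one_mul] at this
  have hgf : ∀ a, σ a = a → g a = f a := fun a ha => by
    have := hga a ha 1 (map_one σ); rwa [mul_one, hg1, mul_one] at this
  have hKK : ∀ a, σ a = a → ∀ b, σ b = b → f (a * b) = f a * f b := fun a ha b hb => by
    rw [← hgf _ (by rw [map_mul, ha, hb]), hga a ha b hb, hgf b hb]
  have htr : ∀ c, f (σ c) = σ (f c) := fun c => by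
    have h := hp 1 c
    rw [hgf (σ 1 * c + σ c * 1) (by
      rw [map_add, map_mul, map_mul, map_one, map_one, hinv]; ring), h1, map_one,
      one_mul, one_mul, mul_one, mul_one, hadd] at h
    linear_combination h
  have hsemi : ∀ a, σ a = a → ∀ c, f (a * c) = f a * f c := fun a ha c => by
    have key : ∀ e, σ (f (a * c) + f a * f c) * e + σ e * (f (a * c) + f a * f c) = 0 := by
      intro e
      obtain ⟨c', rfl⟩ := hinj e
      have e1 := hp (a * c) c'
      have e2 := hp c c'
      have hfx : σ (σ c * c' + σ c' * c) = σ c * c' + σ c' * c := by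
        rw [map_add, map_mul, map_mul, hinv, hinv]; ring
      have ez : σ (a * c) * c' + σ c' * (a * c) = a * (σ c * c' + σ c' * c) := by
        rw [map_mul, ha]; ring
      rw [ez, hga a ha _ hfx, e2] at e1
      rw [map_add, map_mul σ (f a), hfix a ha]
      linear_combination -e1 + (f a * (σ (f c) * f c' + σ (f c') * f c)) * h2
    set y := f (a * c) + f a * f c with hy
    have k1 := key 1
    rw [map_one, mul_one, one_mul] at k1
    have k2 := key x
    rw [fix_of_rel h2 (by linear_combination k1)] at k2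
    have : y = 0 := by linear_combination k2 - y * hx
    rw [hy] at this
    linear_combination this - (f a * f c) * h2
  have hx2 : f (x * x) = f x * f x := by
    have hN : σ (σ x * x) = σ x * x := by rw [map_mul, hinv, mul_comm]
    have e : x * x = x + σ x * x := by linear_combination x * hx + (- x * σ x) * h2
    have e' : f x + σ (f x) = 1 := by rw [← htr, ← hadd, hx, h1]
    have eN : f (σ x * x) = σ (f x) * f x := by rw [← hgf _ hN, hn]
    rw [e, hadd, eN]
    linear_combination (-(f x)) * e' + (f x * σ (f x)) * h2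
  intro u v
  have hdec : ∀ v : F, ∃ a b, σ a = a ∧ σ b = b ∧ v = a + b * x := fun v => by
    refine ⟨v + (v + σ v) * x, v + σ v, ?_, ?_, ?_⟩
    · simp only [map_add, map_mul, hinv]
      linear_combination (v + σ v) * hx + (σ v - (v + σ v) * x) * h2
    · rw [map_add, hinv, add_comm]
    · linear_combination (-(v + σ v) * x) * h2
  obtain ⟨a, b, ha, hb, rfl⟩ := hdec u
  obtain ⟨c, e, hc, he, rfl⟩ := hdec v
  have hmul : ∀ {a b}, σ a = a → σ b = b → σ (a * b) = a * b := fun ha hb => by
    rw [map_mul, ha, hb]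
  have e1 : (a + b * x) * (c + e * x) = a * c + (a * e + b * c) * x + (b * e) * (x * x) := by ring
  rw [e1, hadd, hadd, hsemi (a * e + b * c) (by rw [map_add, hmul ha he, hmul hb hc]),
    hsemi (b * e) (hmul hb he), hadd (a * e), hKK a ha c hc, hKK a ha e he, hKK b hb c hc,
    hKK b hb e he, hx2, hadd, hadd, hsemi b hb, hsemi e he]
  ring

section Count

set_option linter.unusedSectionVars false

variable [Finite F] {n : ℕ}

/-- The semilinear automorphisms. -/
noncomputable def slAut (l : Fˣ) (τ : F ≃+* F) (hc : ∀ a, σ (τ a) = τ (σ a)) : MulAut T :=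
  let fwd : T → T := fun t => d.el ((l : F) * τ (pfst d t))
    ((l : F) * σ (l : F) * τ (psnd d t)) (by
      have := congrArg τ (rel d t)
      rw [map_add, map_mul, ← hc, ← hc] at this
      rw [map_mul σ ((l : F) * σ (l : F)), map_mul σ (l : F) (σ (l : F)), map_mul σ (l : F)]
      by_cases hh : σ (σ (l : F)) = (l : F)
      · rw [hh]; linear_combination ((l : F) * σ (l : F)) * this
      · exact absurd (hinv _) hh)
  have hmul : ∀ t u, fwd (t * u) = fwd t * fwd u := fun t u => by
    refine ext' d ?_ ?_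
    · simp only [fwd, pfst_el, pfst_mul, map_add, mul_add]
    · simp only [fwd, pfst_el, psnd_el, psnd_mul, map_add, map_mul, mul_add, hc]
      ring
  have hinj : Function.Injective fwd := fun t u h => by
    obtain ⟨e1, e2⟩ := d.inj _ _ _ _ _ _ h
    have hs : (l : F) * σ (l : F) ≠ 0 := mul_ne_zero l.ne_zero (by simp)
    exact ext' d (τ.injective (mul_left_cancel₀ l.ne_zero e1))
      (τ.injective (mul_left_cancel₀ hs e2))
  MulEquiv.ofBijective (⟨⟨fwd, by
      have := hmul 1 1
      rw [mul_one] at this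
      exact mul_eq_left.1 this.symm⟩, hmul⟩ : T →* T)
    (@Finite.injective_iff_bijective T (Finite.of_injective (fun t => (pfst d t, psnd d t))
      fun _ _ h => ext' d (congrArg Prod.fst h) (congrArg Prod.snd h)) fwd |>.1 hinj)

theorem pfst_slAut (l : Fˣ) (τ : F ≃+* F) (hc : ∀ a, σ (τ a) = τ (σ a)) (t : T) :
    pfst d (slAut d hinv l τ hc t) = (l : F) * τ (pfst d t) := pfst_el d _

/-- The group of semilinear permutations of `F` is the image. -/
noncomputable def piHom : MulAut T →* Equiv.Perm F where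
  toFun φ := Equiv.ofBijective (ff d hinv hx φ)
    (Finite.injective_iff_bijective.1 fun _ _ => ff_inj d h2 hinv hx φ)
  map_one' := Equiv.ext fun c => pfst_sect d hinv hx c
  map_mul' φ ψ := Equiv.ext fun c => by
    show pfst d (φ (ψ (sect d hinv hx c))) = _
    rw [pfst_phi d h2 hinv hx φ]
    rfl

theorem piHom_apply (φ : MulAut T) (c : F) :
    piHom d h2 hinv hx φ c = ff d hinv hx φ c := rfl

variable {q : ℕ} (hpow : ∀ a, σ a = a ^ q)

include hpow in
theorem comm_of_pow (τ : F ≃+* F) (a : F) : σ (τ a) = τ (σ a) := by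
  rw [hpow, hpow, map_pow]

/-- The parameters of the image. -/
noncomputable def slMap (p : Fˣ × (F ≃+* F)) : (piHom d h2 hinv hx).range :=
  ⟨piHom d h2 hinv hx (slAut d hinv p.1 p.2 (comm_of_pow hpow p.2)), _, rfl⟩

include h2 hpow in
theorem piHom_slAut (l : Fˣ) (τ : F ≃+* F) (c : F) :
    piHom d h2 hinv hx (slAut d hinv l τ (comm_of_pow hpow τ)) c = (l : F) * τ c := by
  rw [piHom_apply, ff, pfst_slAut, pfst_sect]

include h2 hpow in
theorem piHom_form (φ : MulAut T) :
    ∃ (l : Fˣ) (τ : F ≃+* F), ∀ c, piHom d h2 hinv hx φ c = (l : F) * τ c := by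
  have hne : ff d hinv hx φ 1 ≠ 0 := by
    rw [← ff_zero d h2 hinv hx φ]
    exact fun h => one_ne_zero (ff_inj d h2 hinv hx φ h)
  let l : Fˣ := Units.mk0 _ hne
  set ψ := slAut d hinv l⁻¹ (RingEquiv.refl F) (comm_of_pow hpow _) * φ with hψ
  set f := ff d hinv hx ψ with hf
  have hfc : ∀ c, f c = (l : F)⁻¹ * ff d hinv hx φ c := fun c => by
    have h := pfst_slAut d hinv l⁻¹ (RingEquiv.refl F) (comm_of_pow hpow _)
      (φ (sect d hinv hx c))
    rw [Units.val_inv_eq_inv_val, RingEquiv.refl_apply] at h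
    exact h
  have hb : Function.Bijective f :=
    Finite.injective_iff_bijective.1 fun _ _ => ff_inj d h2 hinv hx ψ
  have h1 : f 1 = 1 := by rw [hfc]; exact inv_mul_cancel₀ hne
  have hm := hom_of_polar h2 f (gg d h2 ψ) hinv hx (ff_add d h2 hinv hx ψ) hb.2
    (gg_norm d h2 hinv hx ψ) (gg_polar d h2 hinv hx ψ) h1
  let τ : F ≃+* F := { Equiv.ofBijective f hb with
    map_mul' := hm
    map_add' := ff_add d h2 hinv hx ψ }
  refine ⟨l, τ, fun c => ?_⟩
  show ff d hinv hx φ c = (l : F) * f c
  rw [hfc, ← mul_assoc, mul_inv_cancel₀ l.ne_zero, one_mul]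

include h2 hpow in
theorem card_range : Nat.card (piHom d h2 hinv hx).range = Nat.card Fˣ * Nat.card (F ≃+* F) := by
  rw [← Nat.card_prod]
  refine (Nat.card_congr (Equiv.ofBijective (slMap d h2 hinv hx hpow) ⟨?_, ?_⟩)).symm
  · rintro ⟨l, τ⟩ ⟨l', τ'⟩ h
    have key : ∀ c, (l : F) * τ c = (l' : F) * τ' c := fun c => by
      have := congrArg (fun e : (piHom d h2 hinv hx).range => (e : Equiv.Perm F) c) h
      simp only [slMap] at this
      rwa [piHom_slAut d h2 hinv hx hpow, piHom_slAut d h2 hinv hx hpow] at this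
    have hl : l = l' := Units.ext (by simpa using key 1)
    subst hl
    exact Prod.ext rfl (RingEquiv.ext fun c => mul_left_cancel₀ l.ne_zero (key c))
  · rintro ⟨_, φ, rfl⟩
    obtain ⟨l, τ, h⟩ := piHom_form d h2 hinv hx hpow φ
    exact ⟨(l, τ), Subtype.ext (Equiv.ext fun c => by
      rw [h c]; exact piHom_slAut d h2 hinv hx hpow l τ c)⟩

/-- The fixed subgroup of `σ`. -/
def fixAdd (σ : F →+* F) : AddSubgroup F where
  carrier := {a | σ a = a}
  zero_mem' := map_zero σ
  add_mem' := by intro a b ha hb; simp only [Set.mem_ofPred_eq] at *; rw [map_add, ha, hb]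
  neg_mem' := by intro a ha; simp only [Set.mem_ofPred_eq] at *; rw [map_neg, ha]

/-- The central automorphism of a homomorphism to the fixed field. -/
noncomputable def cAut (ψ : F →+ fixAdd σ) : MulAut T :=
  let fwd : T → T := fun t => d.el (pfst d t) (psnd d t + ψ (pfst d t)) (by
    rw [map_add, (ψ (pfst d t)).2]
    linear_combination rel d t + (ψ (pfst d t) : F) * h2)
  have hmul : ∀ t u, fwd (t * u) = fwd t * fwd u := fun t u => by
    refine ext' d ?_ ?_
    · simp only [fwd, pfst_el, pfst_mul]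
    · simp only [fwd, pfst_el, psnd_el, psnd_mul, pfst_mul, map_add, AddSubgroup.coe_add]
      ring
  have hone : fwd 1 = 1 := by
    have := hmul 1 1
    rw [mul_one] at this
    exact mul_eq_left.1 this.symm
  have hsq : ∀ t, fwd (fwd t) = t := fun t => by
    refine ext' d ?_ ?_
    · simp only [fwd, pfst_el]
    · simp only [fwd, pfst_el, psnd_el]
      linear_combination (ψ (pfst d t) : F) * h2
  { toFun := fwd, invFun := fwd, left_inv := hsq, right_inv := hsq, map_mul' := hmul }

theorem psnd_cAut (ψ : F →+ fixAdd σ) (t : T) :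
    psnd d (cAut d h2 ψ t) = psnd d t + ψ (pfst d t) := psnd_el d _

theorem pfst_cAut (ψ : F →+ fixAdd σ) (t : T) : pfst d (cAut d h2 ψ t) = pfst d t := pfst_el d _

theorem cAut_comm (ψ χ : F →+ fixAdd σ) :
    cAut d h2 ψ * cAut d h2 χ = cAut d h2 χ * cAut d h2 ψ :=
  MulEquiv.ext fun t => ext' d (by simp [MulAut.mul_apply, pfst_cAut])
    (by simp [MulAut.mul_apply, psnd_cAut, pfst_cAut]; ring)

theorem cAut_sq (ψ : F →+ fixAdd σ) : cAut d h2 ψ ^ 2 = 1 := by
  rw [sq]
  refine MulEquiv.ext fun t => ext' d (by simp [MulAut.mul_apply, pfst_cAut]) ?_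
  simp only [MulAut.mul_apply, psnd_cAut, pfst_cAut, MulAut.one_apply]
  linear_combination (ψ (pfst d t) : F) * h2

include h2 hinv hx in
theorem cAut_mem_ker (ψ : F →+ fixAdd σ) : cAut d h2 ψ ∈ (piHom d h2 hinv hx).ker :=
  Equiv.ext fun c => by rw [piHom_apply, ff, pfst_cAut, pfst_sect]; rfl

include h2 hinv hx in
theorem mem_ker_iff_exists {φ : MulAut T} :
    φ ∈ (piHom d h2 hinv hx).ker ↔ ∃ ψ, cAut d h2 ψ = φ := by
  refine ⟨fun h => ?_, fun ⟨ψ, e⟩ => e ▸ cAut_mem_ker d h2 hinv hx ψ⟩
  have hf : ∀ t, pfst d (φ t) = pfst d t := fun t => by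
    rw [pfst_phi d h2 hinv hx φ, ← piHom_apply d h2 hinv hx, (MonoidHom.mem_ker).1 h]; rfl
  have hz : ∀ t, pfst d t = 0 → φ t = t := fun t ht => by
    refine ext' d (hf t) ?_
    have hb : σ (psnd d t) = psnd d t := exists_zel d h2 ht
    haveI : CharP F 2 := CharTwo.of_one_ne_zero_of_two_eq_zero one_ne_zero h2
    obtain ⟨r, hr⟩ : ∃ r, r * r = psnd d t :=
      ⟨(frobeniusEquiv F 2).symm (psnd d t), by rw [← sq, frobeniusEquiv_symm_pow_p]⟩
    have hrf : σ r = r := by
      have : σ r * σ r = r * r := by rw [← map_mul, hr, hb]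
      exact frobenius_inj F 2 (by simpa [frobenius_def, sq] using this)
    have e := gg_norm d h2 hinv hx φ r
    rw [hrf, hr, gg_eq d h2 φ ht] at e
    rw [e, ff, hf, pfst_sect, hrf, hr]
  let D : F → F := fun c => psnd d (φ (sect d hinv hx c)) + psnd d (sect d hinv hx c)
  have hD : ∀ t, psnd d (φ t) = psnd d t + D (pfst d t) := fun t => by
    set u := sect d hinv hx (pfst d t)
    have hu : pfst d u = pfst d t := pfst_el d _
    have hi : pfst d (u⁻¹ * t) = 0 := by
      have h := pfst_mul d u (u⁻¹ * t)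
      rw [mul_inv_cancel_left, hu] at h
      linear_combination -h
    have h3 := psnd_mul d (φ u) (φ (u⁻¹ * t))
    rw [← map_mul, mul_inv_cancel_left, hz _ hi, hf u] at h3
    have h4 := psnd_mul d u (u⁻¹ * t)
    rw [mul_inv_cancel_left] at h4
    show _ = psnd d t + (psnd d (φ u) + psnd d u)
    linear_combination h3 - h4 - (psnd d u) * h2
  have hDf : ∀ c, σ (D c) = D c := fun c => by
    have a := rel d (φ (sect d hinv hx c))
    rw [hf] at a
    apply fix_of_rel h2
    simp only [D, map_add]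
    linear_combination a + rel d (sect d hinv hx c) +
      (pfst d (sect d hinv hx c) * σ (pfst d (sect d hinv hx c))) * h2
  have hDa : ∀ a b, D (a + b) = D a + D b := fun a b => by
    have h := hD (sect d hinv hx a * sect d hinv hx b)
    rw [map_mul, psnd_mul, psnd_mul, pfst_mul, hf, hf, hD, hD, pfst_sect, pfst_sect] at h
    linear_combination -h
  refine ⟨AddMonoidHom.mk' (fun c => ⟨D c, hDf c⟩) fun a b => Subtype.ext (hDa a b),
    MulEquiv.ext fun t => ext' d (by rw [pfst_cAut, hf]) ?_⟩
  rw [psnd_cAut, hD]; rfl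

include h2 hinv hx in
theorem card_ker : Nat.card (piHom d h2 hinv hx).ker = Nat.card (F →+ fixAdd σ) := by
  refine (Nat.card_congr (Equiv.ofBijective (fun ψ => (⟨cAut d h2 ψ,
    cAut_mem_ker d h2 hinv hx ψ⟩ : (piHom d h2 hinv hx).ker)) ⟨?_, ?_⟩)).symm
  · intro ψ χ h
    refine AddMonoidHom.ext fun c => Subtype.ext ?_
    have := congrArg (fun e : (piHom d h2 hinv hx).ker => psnd d (e.1 (sect d hinv hx c))) h
    simp only [psnd_cAut, pfst_sect] at this
    exact add_left_cancel this
  · rintro ⟨φ, h⟩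
    obtain ⟨ψ, e⟩ := (mem_ker_iff_exists d h2 hinv hx).1 h
    exact ⟨ψ, Subtype.ext e⟩

end Count

theorem card_addHom_fix [Finite F] {n : ℕ} (h2 : (2 : F) = 0)
    (hF : Nat.card F = (2 ^ n) ^ 2) (hpow : ∀ a, σ a = a ^ 2 ^ n) :
    Nat.card (F →+ fixAdd σ) = 2 ^ (2 * n ^ 2) := by
  haveI : Fact (Nat.Prime 2) := ⟨Nat.prime_two⟩
  haveI : CharP F 2 := CharTwo.of_one_ne_zero_of_two_eq_zero one_ne_zero h2
  letI : Algebra (ZMod 2) F := ZMod.algebra F 2
  letI : Module (ZMod 2) (fixAdd σ) :=
    AddCommGroup.zmodModule fun a => by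
      rw [two_nsmul]; exact Subtype.ext (add_self_zero h2 _)
  haveI : Module.Finite (ZMod 2) F := Module.Finite.of_finite
  haveI : Module.Finite (ZMod 2) (fixAdd σ) := Module.Finite.of_finite
  have e : (F →+ fixAdd σ) ≃ (F →ₗ[ZMod 2] fixAdd σ) :=
    { toFun := fun f => f.toZModLinearMap 2
      invFun := fun f => f.toAddMonoidHom
      left_inv := fun f => by ext; rfl
      right_inv := fun f => by ext; rfl }
  have hK : Nat.card (fixAdd σ) = 2 ^ n := Classical.fixed_card_eq hF hpow
  have h1 : Nat.card F = 2 ^ Module.finrank (ZMod 2) F := by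
    rw [Module.natCard_eq_pow_finrank (K := ZMod 2), Nat.card_zmod]
  have h3 : Nat.card (fixAdd σ) = 2 ^ Module.finrank (ZMod 2) (fixAdd σ) := by
    rw [Module.natCard_eq_pow_finrank (K := ZMod 2), Nat.card_zmod]
  rw [hF, ← pow_mul] at h1
  rw [hK] at h3
  rw [Nat.card_congr e, Module.natCard_eq_pow_finrank (K := ZMod 2), Nat.card_zmod,
    Module.finrank_linearMap, ← Nat.pow_right_injective le_rfl h1,
    ← Nat.pow_right_injective le_rfl h3]
  ring_nf

theorem card_ringAut [Finite F] {n : ℕ} (h2 : (2 : F) = 0)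
    (hF : Nat.card F = (2 ^ n) ^ 2) : Nat.card (F ≃+* F) = 2 * n := by
  haveI : Fact (Nat.Prime 2) := ⟨Nat.prime_two⟩
  haveI : CharP F 2 := CharTwo.of_one_ne_zero_of_two_eq_zero one_ne_zero h2
  letI : Algebra (ZMod 2) F := ZMod.algebra F 2
  haveI : Module.Finite (ZMod 2) F := Module.Finite.of_finite
  have h1 : Nat.card F = 2 ^ Module.finrank (ZMod 2) F := by
    rw [Module.natCard_eq_pow_finrank (K := ZMod 2), Nat.card_zmod]
  rw [hF, ← pow_mul] at h1
  have e : (F ≃+* F) ≃ (F ≃ₐ[ZMod 2] F) :=
    { toFun := fun τ => AlgEquiv.ofRingEquiv (f := τ) (fun a => by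
        exact RingHom.congr_fun (Subsingleton.elim ((τ : F →+* F).comp (algebraMap (ZMod 2) F))
          (algebraMap (ZMod 2) F)) a)
      invFun := fun τ => τ.toRingEquiv
      left_inv := fun τ => rfl
      right_inv := fun τ => rfl }
  rw [Nat.card_congr e, IsGalois.card_aut_eq_finrank, ← Nat.pow_right_injective le_rfl h1]
  ring

include d in
/-- The automorphism group of the Sylow 2-subgroup. -/
theorem main [Finite F] {n : ℕ} (hn : n ≠ 0) (hF : Nat.card F = (2 ^ n) ^ 2)
    (hσ : Classical.Unitary.UFrob σ (2 ^ n)) :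
    Cfsg.IsElementaryAbelian 2 (Cfsg.pCore 2 (MulAut T)) ∧
      Nat.card (Cfsg.pCore 2 (MulAut T)) = 2 ^ (2 * n ^ 2) ∧
      Nat.card (MulAut T) = 2 ^ (2 * n ^ 2) * (2 * n * ((2 ^ n) ^ 2 - 1)) := by
  haveI : Fact (Nat.Prime 2) := ⟨Nat.prime_two⟩
  have h2 : (2 : F) = 0 := Small.SUThree.two_eq_zero hn hF
  obtain ⟨x, hx⟩ := Classical.Unitary.exists_trace hσ
  haveI : Finite T := Finite.of_injective (fun t => (pfst d t, psnd d t))
    fun _ _ h => ext' d (congrArg Prod.fst h) (congrArg Prod.snd h)
  set π := piHom d h2 hσ.invol hx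
  have hk : Nat.card π.ker = 2 ^ (2 * n ^ 2) := by
    rw [card_ker, card_addHom_fix h2 hF hσ.pow]
  have hkp : IsPGroup 2 π.ker := IsPGroup.of_card hk
  have hcore : Cfsg.pCore 2 (MulAut T) = π.ker := by
    refine le_antisymm (fun φ hφ => ?_) (CfsgLib.Base.le_pCore hkp)
    obtain ⟨l, τ, hlt⟩ := piHom_form d h2 hσ.invol hx hσ.pow φ
    obtain ⟨k, hk'⟩ := CfsgLib.Base.isPGroup_pCore 2 (MulAut T) ⟨φ, hφ⟩
    have hlt' : ∀ c, π φ c = (l : F) * τ c := hlt
    have hτ : ∀ μ : Fˣ, τ (μ : F) = (μ : F) := fun μ => by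
      set m := slAut d hσ.invol μ (RingEquiv.refl F) (comm_of_pow hσ.pow _)
      have hP : (Cfsg.pCore 2 (MulAut T)).Normal := inferInstance
      have hc : φ * (m * φ⁻¹ * m⁻¹) ∈ Cfsg.pCore 2 (MulAut T) :=
        mul_mem hφ (hP.conj_mem _ (inv_mem hφ) m)
      obtain ⟨j, hj⟩ := CfsgLib.Base.isPGroup_pCore 2 (MulAut T) ⟨_, hc⟩
      set r : F := τ (μ : F) * (μ : F)⁻¹
      have hr : ∀ c, π (φ * (m * φ⁻¹ * m⁻¹)) c = r * c := fun c => by
        have hm : ∀ c, π m c = (μ : F) * c := fun c => by
          exact piHom_slAut d h2 hσ.invol hx hσ.pow μ (RingEquiv.refl F) c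
        have hmi : (π m⁻¹) c = (μ : F)⁻¹ * c := by
          rw [map_inv, Equiv.Perm.inv_eq_iff_eq, hm, ← mul_assoc, mul_inv_cancel₀ μ.ne_zero,
            one_mul]
        obtain ⟨e, he⟩ : ∃ e, π φ e = (μ : F)⁻¹ * c := (π φ).surjective _
        have hfi : (π φ⁻¹) ((μ : F)⁻¹ * c) = e := by
          rw [map_inv, Equiv.Perm.inv_eq_iff_eq, he]
        rw [hlt' e] at he
        simp only [map_mul π, Equiv.Perm.mul_apply, hmi, hfi, hm, hlt', r]
        rw [map_mul τ]
        linear_combination (τ (μ : F)) * he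
      have hrp : ∀ i c, π ((φ * (m * φ⁻¹ * m⁻¹)) ^ i) c = r ^ i * c := fun i => by
        induction i with
        | zero => simp
        | succ i ih =>
          intro c
          rw [pow_succ', map_mul, Equiv.Perm.mul_apply, ih, hr]
          ring
      have h1 := hrp (2 ^ j) 1
      have hj' : (φ * (m * φ⁻¹ * m⁻¹)) ^ 2 ^ j = 1 := by simpa using congrArg Subtype.val hj
      rw [hj', mul_one] at h1; simp at h1
      haveI : CharP F 2 := CharTwo.of_one_ne_zero_of_two_eq_zero one_ne_zero h2
      have hr1 : r = 1 := iterateFrobenius_inj F 2 j (by simp [iterateFrobenius_def, ← h1])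
      have := congrArg (· * (μ : F)) hr1
      simpa [r, mul_assoc] using this
    have hid : ∀ c, π φ c = (l : F) * c := fun c => by
      rcases eq_or_ne c 0 with rfl | hc
      · rw [hlt]; simp
      · rw [hlt]; exact congrArg _ (hτ (Units.mk0 c hc))
    have hlp : ∀ i c, π (φ ^ i) c = (l : F) ^ i * c := fun i => by
      induction i with
      | zero => simp
      | succ i ih =>
        intro c
        rw [pow_succ', map_mul, Equiv.Perm.mul_apply, ih, hid]
        ring
    have h1 := hlp (2 ^ k) 1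
    have hk2 : φ ^ 2 ^ k = 1 := by simpa using congrArg Subtype.val hk'
    rw [hk2, mul_one] at h1; simp at h1
    haveI : CharP F 2 := CharTwo.of_one_ne_zero_of_two_eq_zero one_ne_zero h2
    have hl1 : (l : F) = 1 := iterateFrobenius_inj F 2 k (by simp [iterateFrobenius_def, ← h1])
    exact MonoidHom.mem_ker.2 (Equiv.ext fun c => by rw [hid, hl1, one_mul]; rfl)
  rw [hcore]
  refine ⟨⟨⟨⟨fun a b => Subtype.ext ?_⟩⟩, fun a ha => ?_⟩, hk, ?_⟩
  · obtain ⟨ψ, e1⟩ := (mem_ker_iff_exists d h2 hσ.invol hx).1 a.2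
    obtain ⟨χ, e2⟩ := (mem_ker_iff_exists d h2 hσ.invol hx).1 b.2
    show (a : MulAut T) * b = b * a
    rw [← e1, ← e2, cAut_comm]
  · obtain ⟨ψ, e⟩ := (mem_ker_iff_exists d h2 hσ.invol hx).1 ha
    rw [← e, cAut_sq]
  · have hi : π.ker.index = Nat.card π.range := Subgroup.index_ker π
    rw [← π.ker.card_mul_index, hi, hk, card_range d h2 hσ.invol hx hσ.pow,
      card_ringAut h2 hF, Nat.card_units, hF]
    ring

end CfsgLib.Techniques.AutSU3Syl
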