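import Cfsg.Agent.Lib.Techniques.CentralLocalGlobal

/-!
Glauberman's local-to-global theorems for a functor containing the centre and a central functor.
-/

set_option autoImplicit false
set_option linter.unusedSectionVars false

namespace CfsgLib.Techniques

open Cfsg Subgroup

variable {G : Type*} [Group G]

theorem cj_centralizer (m : G) (K : Subgroup G) :
    cj m (centralizer (K : Set G)) = centralizer ((cj m K : Subgroup G) : Set G) := by
  ext x
  rw [mem_cj, Subgroup.mem_centralizer_iff, Subgroup.mem_centralizer_iff]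
  constructor
  · intro h k hk
    have := h _ (mem_cj.1 hk)
    calc k * x = m * ((m⁻¹ * k * m) * (m⁻¹ * x * m)) * m⁻¹ := by group
      _ = m * ((m⁻¹ * x * m) * (m⁻¹ * k * m)) * m⁻¹ := by rw [this]
      _ = x * k := by group
  · intro h k hk
    have := h _ (conj_mem_cj (g := m).2 hk)
    calc k * (m⁻¹ * x * m) = m⁻¹ * (m * k * m⁻¹ * x) * m := by group
      _ = m⁻¹ * (x * (m * k * m⁻¹)) * m := by rw [this]
      _ = m⁻¹ * x * m * k := by group

/-- The two kinds of steps inside `H`. -/
def centralSteps (W V : Subgroup G → Subgroup G) (T H : Subgroup G) : Set (Subgroup G) :=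
  {H ⊓ normalizer ((W T : Subgroup G) : Set G), H ⊓ centralizer ((V T : Subgroup G) : Set G)}

theorem lc_eq_rc_inv (g a : G) : lc g a = g⁻¹⁻¹ * a * g⁻¹ := by simp [lc]

/-- From a list of steps to a link. -/
theorem link_of_list {T : Subgroup G} {𝓝 : Set (Subgroup G)} {X : Set G} {a c : G}
    (hX : X ⊆ T) (hc : c ∈ centralizer X) {n : ℕ} {b : Fin n → G}
    (hb : ∀ i, ∃ N ∈ 𝓝, b i ∈ N) (ha : a = c * (List.ofFn b).prod)
    (hpre : ∀ k : ℕ, k ≤ n → (fun x => (((List.ofFn b).take k).prod)⁻¹ * x *
      ((List.ofFn b).take k).prod) '' ((fun x => c⁻¹ * x * c) '' X) ⊆ T) :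
    Link T 𝓝 X a⁻¹ := by
  have hcX : ∀ x ∈ X, c⁻¹ * x * c = x := fun x hx => by
    rw [mul_assoc, Subgroup.mem_centralizer_iff.1 hc x hx, inv_mul_cancel_left]
  have himg : (fun x => c⁻¹ * x * c) '' X = X := by rw [Set.image_congr hcX, Set.image_id']
  rw [himg] at hpre
  have key : ∀ k : ℕ, k ≤ n → Link T 𝓝 X (((List.ofFn b).take k).prod)⁻¹ := by
    intro k
    induction k with
    | zero => exact fun _ => .agree hX fun x _ => by simp [lc]
    | succ k ih =>
      intro hk
      obtain ⟨N, hN, hbN⟩ := hb ⟨k, hk⟩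
      have e : ((List.ofFn b).take (k + 1)).prod = ((List.ofFn b).take k).prod * b ⟨k, hk⟩ := by
        rw [List.prod_take_succ _ _ (by simpa using hk)]
        simp
      rw [e, mul_inv_rev]
      refine (ih (by omega)).comp (Link.single hN (inv_mem hbN) (ih (by omega)).image_subset ?_)
      rw [Set.image_image]
      rintro _ ⟨x, hx, rfl⟩
      have h2 := hpre (k + 1) hk ⟨x, hx, rfl⟩
      rw [e] at h2
      simpa [lc, mul_assoc] using h2
  refine (key n le_rfl).congr fun x hx => ?_
  rw [ha, List.take_of_length_le (by simp)]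
  show (c * (List.ofFn b).prod)⁻¹ * x * (c * (List.ofFn b).prod)⁻¹⁻¹ =
    ((List.ofFn b).prod)⁻¹ * x * ((List.ofFn b).prod)⁻¹⁻¹
  rw [inv_inv, inv_inv]
  calc _ = ((List.ofFn b).prod)⁻¹ * (c⁻¹ * x * c) * (List.ofFn b).prod := by group
    _ = _ := by rw [hcX x hx]

/-- From a link to a list of steps. -/
theorem list_of_link {T : Subgroup G} {𝓝 : Set (Subgroup G)} {X : Set G} {g : G}
    (h : Link T 𝓝 X g) : ∃ (n : ℕ) (b : Fin n → G), (∀ i, ∃ N ∈ 𝓝, b i ∈ N) ∧
      (∀ k : ℕ, k ≤ n → ∀ x ∈ X,
        (((List.ofFn b).take k).prod)⁻¹ * x * ((List.ofFn b).take k).prod ∈ T) ∧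
      ∀ x ∈ X, lc g x = ((List.ofFn b).prod)⁻¹ * x * (List.ofFn b).prod := by
  induction h with
  | @agree A g hA h =>
    exact ⟨0, Fin.elim0, fun i => i.elim0, fun k _ x hx => by simpa using hA hx,
      fun x hx => by simpa using h x hx⟩
  | @step A g x g' N hN hx hA h' h ih =>
    obtain ⟨n, b, hb, hpre, hlast⟩ := ih
    refine ⟨n + 1, Fin.cons x⁻¹ b, ?_, ?_, ?_⟩
    · intro i
      refine Fin.cases ?_ (fun j => ?_) i
      · exact ⟨N, hN, by simpa using hx⟩
      · simpa using hb j
    · intro k hk y hy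
      cases k with
      | zero => simpa using hA hy
      | succ k =>
        have := hpre k (by omega) (lc x y) ⟨y, hy, rfl⟩
        simpa [List.ofFn_succ, lc, mul_assoc] using this
    · intro y hy
      rw [h y hy, hlast _ ⟨y, hy, rfl⟩]
      simp [List.ofFn_succ, lc, mul_assoc]

variable [Finite G] {p : ℕ} [Fact p.Prime]

/-- Control of strong fusion by `N(W T)` and `C(V T)` in `H`, for a Sylow subgroup `T` of `H`. -/
def CFusionAt (W V : Subgroup G → Subgroup G) (T H : Subgroup G) : Prop :=
  ∀ (X : Set G) (y : G), X ⊆ T → y ∈ H → lc y '' X ⊆ T → Link T (centralSteps W V T H) X y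

theorem Link.transport {T : Subgroup G} {𝓝 𝓝' : Set (Subgroup G)} (m : G)
    (hN : ∀ N ∈ 𝓝, cj m N ∈ 𝓝') {A : Set G} {g : G} (h : Link T 𝓝 A g) :
    Link (cj m T) 𝓝' (lc m '' A) (m * g * m⁻¹) := by
  have hsub : ∀ {B : Set G}, B ⊆ T → lc m '' B ⊆ cj m T := fun hB => Set.image_mono hB
  induction h with
  | @agree A g hA h =>
    refine .agree (hsub hA) ?_
    rintro _ ⟨a, ha, rfl⟩
    rw [← lc_mul, inv_mul_cancel_right, lc_mul, h a ha]
  | @step A g x g' N hN' hx hA h' h ih =>
    refine .step (hN N hN') (conj_mem_cj.2 hx) (hsub hA) (g' := m * g' * m⁻¹) ?_ ?_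
    · convert ih using 1
      rw [Set.image_image, Set.image_image]
      exact Set.image_congr fun a _ => by rw [← lc_mul, inv_mul_cancel_right, lc_mul]
    · rintro _ ⟨a, ha, rfl⟩
      rw [← lc_mul, inv_mul_cancel_right, lc_mul, h a ha]
      simp [lc, mul_assoc]

theorem cFusionAt_cj {W V : Subgroup G → Subgroup G} (hW : IsConjugacyFunctor p W)
    (hV : IsConjugacyFunctor p V) {T H : Subgroup G} (hT : IsPGroup p T) (m : G)
    (h : CFusionAt W V T H) : CFusionAt W V (cj m T) (cj m H) := by
  intro X y hX hy hyX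
  have hN : ∀ N ∈ centralSteps W V T H, cj m N ∈ centralSteps W V (cj m T) (cj m H) := by
    rintro N (rfl | rfl)
    · left
      rw [cj_inf, cj_normalizer_functor hW hT]
    · right
      rw [Set.mem_singleton_iff, functor_cj hV hT, cj_inf, cj_centralizer]
  have hback : ∀ {B : Set G}, B ⊆ cj m T → lc m⁻¹ '' B ⊆ T := by
    rintro B hB _ ⟨b, hb, rfl⟩
    simpa [lc] using mem_cj.1 (hB hb)
  have h1 := (h (lc m⁻¹ '' X) (m⁻¹ * y * m) (hback hX) (mem_cj.1 hy) ?_).transport m hN
  · rw [Set.image_image] at h1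
    simpa [← lc_mul, mul_assoc] using h1
  · have e : lc (m⁻¹ * y * m) '' (lc m⁻¹ '' X) = lc m⁻¹ '' (lc y '' X) := by
      rw [Set.image_image, Set.image_image]
      exact Set.image_congr fun a _ => by rw [← lc_mul, ← lc_mul]; congr 1; group
    rw [e]
    exact hback hyX

variable {S : Subgroup G} {W V : Subgroup G → Subgroup G}

/-- Local control of strong fusion by `W` and `V` gives global control. -/
theorem cFusionAt_of_local (hS : SylIn p S ⊤) (hW : IsConjugacyFunctor p W)
    (hV : IsConjugacyFunctor p V) (hWZ : ∀ {T : Subgroup G}, IsPGroup p T → ctr T ≤ W T)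
    (hVmono : ∀ {T : Subgroup G}, IsPGroup p T → ctr S ≤ ctr T → V S ≤ V T)
    (hloc : ∀ H : Subgroup G, ctr S ≤ H → H ≤ S →
      ∃ T, SylIn p T (normalizer (H : Set G)) ∧ CFusionAt W V T (normalizer (H : Set G))) :
    CFusionAt W V S ⊤ := by
  let 𝓝 := centralSteps W V S ⊤
  have D : CentralData S (Link S 𝓝)
      (fun U => ∀ (A : Set G), ∀ y ∈ normalizer (U : Set G),
        A ⊆ (S ⊓ normalizer (U : Set G) : Subgroup G) →
        lc y '' A ⊆ (S ⊓ normalizer (U : Set G) : Subgroup G) → Link S 𝓝 A y) W p :=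
    { mono := fun h hB => h.mono hB
      comp := fun h h' => h.comp h'
      inv := fun h => h.inv
      fix := fun c hA h => .agree hA h
      mid := fun {U} hQ hUS y hy => hQ _ y hy (le_inf hUS le_normalizer)
        (by rw [image_lc, mem_normalizer_iff_cj.1 hy]; exact le_inf hUS le_normalizer)
      move := by
        intro U V' g hgU hg hgood hQ A y hy hA hyA
        have hgy : g * y * g⁻¹ ∈ normalizer (U : Set G) := by
          rw [← hgU, ← cj_normalizer]; exact conj_mem_cj.2 hy
        have hle : cj g (S ⊓ normalizer (V' : Set G)) ≤ S ⊓ normalizer (U : Set G) :=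
          hgU ▸ cj_inf_normalizer_le hg
        have him : ∀ {B : Set G}, B ⊆ (S ⊓ normalizer (V' : Set G) : Subgroup G) →
            lc g '' B ⊆ (S ⊓ normalizer (U : Set G) : Subgroup G) :=
          fun hB => (Set.image_mono hB).trans hle
        have e : lc (g * y * g⁻¹) '' (lc g '' A) = lc g '' (lc y '' A) := by
          simp only [Set.image_image]
          exact Set.image_congr fun a _ => by rw [← lc_mul, inv_mul_cancel_right, lc_mul]
        have h2 := hQ (lc g '' A) _ hgy (him hA) (e ▸ him hyA)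
        have h3 : Link S 𝓝 (lc g '' (lc y '' A)) g⁻¹ := (hgood.mono hyA).inv
        have h4 := ((hgood.mono hA).comp h2).comp (k := g⁻¹) (by
          rw [show lc (g * y * g⁻¹ * g) '' A = lc g '' (lc y '' A) by
            rw [inv_mul_cancel_right, Set.image_image]; exact Set.image_congr fun a _ => lc_mul g y a]
          exact h3)
        rwa [show g⁻¹ * (g * y * g⁻¹ * g) = y by group] at h4
      ext := by
        intro U hLU hEU hUS hQ A y hy hA hyA
        set T := S ⊓ normalizer (U : Set G) with hT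
        have hTp : IsPGroup p T := hS.isPGroup.to_le inf_le_left
        obtain ⟨H, g, hZH, hHS, rfl⟩ := hLU
        obtain ⟨T₀, hT₀, hf⟩ := hloc H hZH hHS
        have hT₁ := hT₀.cj' g
        have hf₁ := cFusionAt_cj hW hV hT₀.isPGroup g hf
        rw [cj_normalizer] at hT₁ hf₁
        obtain ⟨k, hk, hkT⟩ := (hEU.sylIn hS).exists_conj_eq hT₁
        have hf₂ := cFusionAt_cj hW hV hT₁.isPGroup k hf₁
        rw [hkT, cj_eq_self_of_mem hk] at hf₂
        have hl := hf₂ A y hA hy hyA
        clear hy hA hyA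
        induction hl with
        | @agree A y hA h => exact .agree (hA.trans (inf_le_left : T ≤ S)) h
        | @step A y x y' N hN hx hA h' h ih =>
          have hTS : (T : Set G) ⊆ S := fun a ha => ha.1
          have hx1 : Link S 𝓝 A x := by
            rcases hN with rfl | rfl
            · by_cases hTS' : T = S
              · refine Link.single (Or.inl rfl) ⟨mem_top _, ?_⟩ (hA.trans hTS) (h'.subset.trans hTS)
                rw [← hTS']; exact hx.2
              · have hle : T ≤ S ⊓ normalizer (W T : Set G) :=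
                  le_inf inf_le_left (le_normalizer_functor hW hTp)
                exact hQ hTS' A x hx.2 (hA.trans hle) (h'.subset.trans hle)
            · refine Link.single (Or.inr rfl) ⟨mem_top _, ?_⟩ (hA.trans hTS) (h'.subset.trans hTS)
              exact centralizer_le (SetLike.coe_subset_coe.2 (hVmono hTp
                (ctr_le_ctr (ctr_le_inf_normalizer hUS) inf_le_left))) hx.2
          exact (hx1.comp ih).congr fun a ha => by rw [lc_mul]; exact h a ha
      center_le := hWZ
      functor := hW }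
  intro X y hX _ hyX
  refine (D.good hS (closure X) ((closure_le _).2 hX) y ?_).mono subset_closure
  rw [Subgroup.map_le_iff_le_comap, closure_le]
  intro a ha
  exact hyX ⟨a, ha, rfl⟩

/-- Control of transfer by `N(W T)` and `C(V T)` in `H`. -/
def cTransferTarget (W V : Subgroup G → Subgroup G) (T H : Subgroup G) : Subgroup G :=
  (T ⊓ ⁅H ⊓ normalizer ((W T : Subgroup G) : Set G), H ⊓ normalizer ((W T : Subgroup G) : Set G)⁆) ⊔
    (T ⊓ ⁅H ⊓ centralizer ((V T : Subgroup G) : Set G), H ⊓ centralizer ((V T : Subgroup G) : Set G)⁆)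

theorem cTransferTarget_le (W V : Subgroup G → Subgroup G) (T H : Subgroup G) :
    cTransferTarget W V T H ≤ T ⊓ ⁅H, H⁆ :=
  sup_le (inf_le_inf_left _ (commutator_mono inf_le_left inf_le_left))
    (inf_le_inf_left _ (commutator_mono inf_le_left inf_le_left))

/-- The target is the product of its two parts. -/
theorem mem_cTransferTarget (hW : IsConjugacyFunctor p W) {T H : Subgroup G} (hT : IsPGroup p T)
    (hTH : T ≤ H) (x : G) :
    x ∈ cTransferTarget W V T H ↔
      ∃ a ∈ T ⊓ ⁅H ⊓ normalizer ((W T : Subgroup G) : Set G),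
          H ⊓ normalizer ((W T : Subgroup G) : Set G)⁆,
        ∃ b ∈ T ⊓ ⁅H ⊓ centralizer ((V T : Subgroup G) : Set G),
          H ⊓ centralizer ((V T : Subgroup G) : Set G)⁆, x = a * b := by
  set A := T ⊓ ⁅H ⊓ normalizer ((W T : Subgroup G) : Set G),
    H ⊓ normalizer ((W T : Subgroup G) : Set G)⁆ with hA
  set B := T ⊓ ⁅H ⊓ centralizer ((V T : Subgroup G) : Set G),
    H ⊓ centralizer ((V T : Subgroup G) : Set G)⁆
  have hn : B ≤ normalizer (A : Set G) := by
    rw [le_normalizer_iff_cj]
    intro t ht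
    rw [hA, cj_inf, cj_eq_self_of_mem ht.1, cj_commutator,
      cj_eq_self_of_mem (show t ∈ H ⊓ normalizer ((W T : Subgroup G) : Set G) from
        ⟨hTH ht.1, le_normalizer_functor hW hT ht.1⟩)]
  rw [cTransferTarget, ← SetLike.mem_coe, coe_mul_of_right_le_normalizer_left A B hn, Set.mem_mul]
  constructor
  · rintro ⟨a, ha, b, hb, rfl⟩; exact ⟨a, ha, b, hb, rfl⟩
  · rintro ⟨a, ha, b, hb, rfl⟩; exact ⟨a, ha, b, hb, rfl⟩

theorem cTransferTarget_cj (hW : IsConjugacyFunctor p W) (hV : IsConjugacyFunctor p V)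
    {T H : Subgroup G} (hT : IsPGroup p T) (m : G) :
    cj m (cTransferTarget W V T H) = cTransferTarget W V (cj m T) (cj m H) := by
  have e : ∀ K : Subgroup G, cj m (centralizer (K : Set G)) = centralizer ((cj m K : Subgroup G) : Set G) :=
    cj_centralizer m
  unfold cTransferTarget
  rw [cj, Subgroup.map_sup]
  simp only [cj_inf, cj_commutator, cj_normalizer_functor hW hT, e, functor_cj hV hT]

/-- Local control of transfer by `W` and `V` gives global control. -/
theorem cTransfer_of_local (hS : SylIn p S ⊤) (hW : IsConjugacyFunctor p W)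
    (hV : IsConjugacyFunctor p V) (hWZ : ∀ {T : Subgroup G}, IsPGroup p T → ctr T ≤ W T)
    (hVmono : ∀ {T : Subgroup G}, IsPGroup p T → ctr S ≤ ctr T → V S ≤ V T)
    (hloc : ∀ H : Subgroup G, ctr S ≤ H → H ≤ S →
      ∃ T, SylIn p T (normalizer (H : Set G)) ∧
        T ⊓ ⁅normalizer (H : Set G), normalizer (H : Set G)⁆ ≤
          cTransferTarget W V T (normalizer (H : Set G))) :
    S ⊓ ⁅(⊤ : Subgroup G), ⊤⁆ ≤ cTransferTarget W V S ⊤ := by
  set X := cTransferTarget W V S ⊤ with hX
  have D : CentralData S (fun A g => ∀ a ∈ A, a ∈ S ∧ lc g a ∈ S ∧ a⁻¹ * lc g a ∈ X)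
      (fun U => S ⊓ normalizer (U : Set G) ⊓ ⁅normalizer (U : Set G), normalizer (U : Set G)⁆ ≤ X)
      W p :=
    { mono := fun h hB a ha => h a (hB ha)
      comp := fun {A g k} h h' a ha => by
        obtain ⟨h1, -, h3⟩ := h a ha
        obtain ⟨-, h5, h6⟩ := h' _ ⟨a, ha, rfl⟩
        refine ⟨h1, by rw [lc_mul]; exact h5, ?_⟩
        rw [lc_mul, show a⁻¹ * lc k (lc g a) = (a⁻¹ * lc g a) * ((lc g a)⁻¹ * lc k (lc g a)) by group]
        exact mul_mem h3 h6
      inv := fun {A g} h => by
        rintro _ ⟨a, ha, rfl⟩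
        obtain ⟨h1, h2, h3⟩ := h a ha
        refine ⟨h2, by rwa [lc_inv_lc], ?_⟩
        rw [lc_inv_lc, show (lc g a)⁻¹ * a = (a⁻¹ * lc g a)⁻¹ by group]
        exact inv_mem h3
      fix := fun c hA h a ha => by
        rw [h a ha, inv_mul_cancel]
        exact ⟨hA ha, hA ha, one_mem _⟩
      mid := fun {U} hQ hUS y hy a ha => by
        have hyU : lc y a ∈ U := (Subgroup.mem_normalizer_iff.1 hy a).1 ha
        have haN : a ∈ normalizer (U : Set G) := le_normalizer ha
        refine ⟨hUS ha, hUS hyU, hQ ⟨⟨S.mul_mem (S.inv_mem (hUS ha)) (hUS hyU),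
          (normalizer (U : Set G)).mul_mem ((normalizer (U : Set G)).inv_mem haN) (le_normalizer hyU)⟩, ?_⟩⟩
        have := commutator_mem_commutator (inv_mem haN) hy
        simpa [commutatorElement_def, lc, mul_assoc] using this
      move := by
        intro U V' g hgU hg hgood hQ a ha
        obtain ⟨-, h2, h3⟩ := hgood a ha.1
        have h4 : lc g a ∈ X := by
          refine hQ ⟨?_, ?_⟩
          · exact hgU ▸ cj_inf_normalizer_le hg (conj_mem_cj.2 ha.1)
          · have := conj_mem_cj (g := g).2 ha.2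
            rwa [cj_commutator, cj_normalizer, hgU] at this
        have h5 := mul_mem h4 (inv_mem h3)
        simpa [lc, mul_assoc] using h5
      ext := by
        intro U hLU hEU hUS hQ
        set T := S ⊓ normalizer (U : Set G) with hT
        have hTp : IsPGroup p T := hS.isPGroup.to_le inf_le_left
        obtain ⟨H, g, hZH, hHS, rfl⟩ := hLU
        obtain ⟨T₀, hT₀, hf⟩ := hloc H hZH hHS
        have hT₁ := hT₀.cj' g
        have hf₁ := cj_mono (g := g) hf
        rw [cj_inf, cj_commutator, cTransferTarget_cj hW hV hT₀.isPGroup, cj_normalizer] at hf₁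
        rw [cj_normalizer] at hT₁
        obtain ⟨k, hk, hkT⟩ := (hEU.sylIn hS).exists_conj_eq hT₁
        have hf₂ := cj_mono (g := k) hf₁
        rw [cj_inf, cj_commutator, cTransferTarget_cj hW hV hT₁.isPGroup, hkT,
          cj_eq_self_of_mem hk] at hf₂
        refine hf₂.trans (sup_le ?_ ?_)
        · by_cases hTS : T = S
          · refine le_trans ?_ le_sup_left
            rw [← hT, hTS]
            exact inf_le_inf_left _ (commutator_mono (le_inf le_top inf_le_right) (le_inf le_top inf_le_right))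
          · refine le_trans ?_ (hQ hTS)
            exact inf_le_inf (le_inf inf_le_left (le_normalizer_functor hW hTp))
              (commutator_mono inf_le_right inf_le_right)
        · refine le_trans ?_ le_sup_right
          have hc := centralizer_le (SetLike.coe_subset_coe.2 (hVmono hTp
            (ctr_le_ctr (ctr_le_inf_normalizer hUS) inf_le_left)))
          exact inf_le_inf inf_le_left (commutator_mono (le_inf le_top (inf_le_right.trans hc))
            (le_inf le_top (inf_le_right.trans hc)))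
      center_le := hWZ
      functor := hW }
  have key : ∀ a ∈ S, ∀ g : G, lc g a ∈ S → a⁻¹ * lc g a ∈ X := fun a ha g hga => by
    refine (D.good hS (zpowers a) ((zpowers_le).2 ha) g ?_ a (mem_zpowers a)).2.2
    rw [Subgroup.map_le_iff_le_comap, zpowers_le]
    exact hga
  obtain ⟨P, hP⟩ := hS.to_sylow
  subst hP
  rw [inf_comm, ← commutator_def, commutator_inf_eq_focalSubgroup, focalSubgroup_def, closure_le]
  rintro z ⟨hz, x, hx, u, rfl⟩
  have hmem : lc u x⁻¹ ∈ (P : Subgroup G) := by
    have := mul_mem (inv_mem hx) hz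
    rw [commutatorElement_def] at this
    simpa [lc, mul_assoc] using this
  have h1 := key x⁻¹ (inv_mem hx) u hmem
  simpa [commutatorElement_def, lc, mul_assoc] using h1

end CfsgLib.Techniques

namespace CfsgLib.Techniques

open Cfsg Subgroup

/-- The monotonicity hypothesis for a central functor, in the form used above. -/
theorem functor_mono_ctr {G : Type*} [Group G] [Finite G] {p : ℕ} [Fact p.Prime] {S : Subgroup G}
    (hS : IsPGroup p S) {V : Subgroup G → Subgroup G} (hV : IsConjugacyFunctor p V)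
    (hVmono : ∀ H K : Subgroup G, IsPGroup p ↥H → IsPGroup p ↥K → H ≠ ⊥ → K ≠ ⊥ →
      H ⊓ centralizer ((H : Subgroup G) : Set G) ≤ K ⊓ centralizer ((K : Subgroup G) : Set G) →
        V H ≤ V K) {T : Subgroup G} (hT : IsPGroup p T) (h : ctr S ≤ ctr T) : V S ≤ V T := by
  by_cases hS0 : S = ⊥
  · exact ((functor_le hV hS).trans (le_of_eq hS0)).trans bot_le
  refine hVmono S T hS hT hS0 (fun hT0 => ?_) h
  haveI : Nontrivial S := (nontrivial_iff_ne_bot S).2 hS0
  haveI := hS.center_nontrivial
  obtain ⟨z, hz, hz1⟩ : ∃ z ∈ center S, z ≠ 1 := by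
    obtain ⟨⟨z, hz⟩, hne⟩ := exists_ne (1 : center S)
    exact ⟨z, hz, fun e => hne (Subtype.ext e)⟩
  have hzT : (z : G) ∈ ctr T := h ⟨z.2, Subgroup.mem_centralizer_iff.2 fun s hs =>
    congrArg Subtype.val (Subgroup.mem_center_iff.1 hz ⟨s, hs⟩)⟩
  rw [hT0] at hzT
  exact hz1 (Subtype.ext (mem_bot.1 hzT.1))

end CfsgLib.Techniques
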