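import Cfsg.Agent.Lib.Techniques.LocalGlobal

/-!
Local to global for a functor containing the centre and a central functor: only the normalizers
of the conjugates of subgroups containing the centre of the Sylow subgroup are needed.
-/

set_option autoImplicit false
set_option linter.unusedSectionVars false

namespace CfsgLib.Techniques

open Cfsg Subgroup

variable {G : Type*} [Group G]

/-- The centre of a subgroup, as a subgroup of the whole group. -/
abbrev ctr (H : Subgroup G) : Subgroup G := H ⊓ centralizer (H : Set G)

/-- `U` is conjugate to a subgroup of `S` containing the centre of `S`. -/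
def CLoc (S U : Subgroup G) : Prop := ∃ (H : Subgroup G) (g : G), ctr S ≤ H ∧ H ≤ S ∧ U = cj g H

theorem CLoc.of_le {S U : Subgroup G} (h : ctr S ≤ U) (hU : U ≤ S) : CLoc S U :=
  ⟨U, 1, h, hU, (cj_one U).symm⟩

theorem CLoc.conj {S U : Subgroup G} (h : CLoc S U) (g : G) : CLoc S (cj g U) := by
  obtain ⟨H, k, h1, h2, rfl⟩ := h
  exact ⟨H, g * k, h1, h2, (cj_mul g k H).symm⟩

/-- The data of the induction. -/
structure CentralData (S : Subgroup G) (Good : Set G → G → Prop) (Q : Subgroup G → Prop)
    (W : Subgroup G → Subgroup G) (p : ℕ) : Prop where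
  mono : ∀ {A B : Set G} {g : G}, Good A g → B ⊆ A → Good B g
  comp : ∀ {A : Set G} {g k : G}, Good A g → Good (lc g '' A) k → Good A (k * g)
  inv : ∀ {A : Set G} {g : G}, Good A g → Good (lc g '' A) g⁻¹
  fix : ∀ {A : Set G} (c : G), A ⊆ S → (∀ a ∈ A, lc c a = a) → Good A c
  mid : ∀ {U : Subgroup G}, Q U → U ≤ S → ∀ y ∈ normalizer (U : Set G), Good (U : Set G) y
  move : ∀ {U V : Subgroup G} (g : G), cj g V = U → cj g (S ⊓ normalizer (V : Set G)) ≤ S →
    Good ((S ⊓ normalizer (V : Set G) : Subgroup G) : Set G) g → Q U → Q V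
  ext : ∀ {U : Subgroup G}, CLoc S U → Extremal p S U → U ≤ S →
    (S ⊓ normalizer (U : Set G) ≠ S → Q (W (S ⊓ normalizer (U : Set G)))) → Q U
  center_le : ∀ {T : Subgroup G}, IsPGroup p T → ctr T ≤ W T
  functor : IsConjugacyFunctor p W

variable [Finite G] {p : ℕ} [Fact p.Prime] {S : Subgroup G} {W : Subgroup G → Subgroup G}

/-- `Z(S) ≤ Z(T)` for `Z(S) ≤ T ≤ S`. -/
theorem ctr_le_ctr {T : Subgroup G} (h : ctr S ≤ T) (hT : T ≤ S) : ctr S ≤ ctr T :=
  le_inf h (inf_le_right.trans (centralizer_le (SetLike.coe_subset_coe.2 hT)))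

theorem ctr_le_inf_normalizer {U : Subgroup G} (hU : U ≤ S) :
    ctr S ≤ S ⊓ normalizer (U : Set G) :=
  le_inf inf_le_left ((inf_le_right.trans (centralizer_le (SetLike.coe_subset_coe.2 hU))).trans
    (centralizer_le_normalizer _))

theorem CentralData.good (hS : SylIn p S ⊤) {Good : Set G → G → Prop} {Q : Subgroup G → Prop}
    (D : CentralData S Good Q W p) :
    ∀ (R : Subgroup G), R ≤ S → ∀ g : G, cj g R ≤ S → Good R g := by
  suffices h : ∀ d : ℕ,
      (∀ (R : Subgroup G), R ≤ S → Nat.card S - Nat.card R = d → ∀ g : G, cj g R ≤ S → Good R g) ∧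
      (∀ V : Subgroup G, CLoc S V → V ≤ S →
        Nat.card S - Nat.card (S ⊓ normalizer (V : Set G) : Subgroup G) = d → Q V) from
    fun R hR => (h _).1 R hR rfl
  intro d
  induction d using Nat.strong_induction_on with
  | _ d ih =>
    have hcard : ∀ {A : Subgroup G}, A ≤ S → Nat.card A ≤ Nat.card S :=
      fun hA => Subgroup.card_le_of_le hA
    have hext : ∀ U : Subgroup G, CLoc S U → Extremal p S U → U ≤ S →
        Nat.card S - Nat.card (S ⊓ normalizer (U : Set G) : Subgroup G) ≤ d → Q U := by
      intro U hLU hEU hUS hUd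
      refine D.ext hLU hEU hUS fun hne => ?_
      set T := S ⊓ normalizer (U : Set G) with hT
      have hTp : IsPGroup p T := hS.isPGroup.to_le inf_le_left
      have hlt : T < S ⊓ normalizer (T : Set G) :=
        lt_inf_normalizer' hS.isPGroup (lt_of_le_of_ne inf_le_left hne)
      have hle : S ⊓ normalizer (T : Set G) ≤ S ⊓ normalizer (W T : Set G) :=
        inf_le_inf_left _ (normalizer_le_normalizer_functor D.functor hTp)
      have h1 : Nat.card T < Nat.card (S ⊓ normalizer (W T : Set G) : Subgroup G) :=
        (card_lt_of_lt hlt).trans_le (Subgroup.card_le_of_le hle)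
      have h2 := hcard (inf_le_left : S ⊓ normalizer (W T : Set G) ≤ S)
      have hWT : W T ≤ S := (functor_le D.functor hTp).trans inf_le_left
      refine (ih _ ?_).2 (W T) (CLoc.of_le ?_ hWT) hWT rfl
      · omega
      · exact (ctr_le_ctr (ctr_le_inf_normalizer hUS) inf_le_left).trans (D.center_le hTp)
    have hP : ∀ (R : Subgroup G), R ≤ S → Nat.card S - Nat.card R = d →
        ∀ g : G, cj g R ≤ S → Good R g := by
      intro R hR hRd g hg
      have bigger : ∀ V : Subgroup G, V ≤ S → Nat.card R < Nat.card V → ∀ k : G, cj k V ≤ S →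
          Good V k := by
        intro V hV hlt k hk
        have := hcard hV
        exact (ih _ (by omega)).1 V hV rfl k hk
      by_cases hLR : CLoc S R
      · rcases eq_or_lt_of_le hR with rfl | hlt
        · have hgR : g ∈ normalizer (R : Set G) :=
            mem_normalizer_iff_cj.2 (Subgroup.eq_of_le_of_card_ge hg (by rw [card_cj]))
          refine D.mid (hext R hLR ?_ le_rfl ?_) le_rfl g hgR
          · unfold Extremal
            rw [inf_eq_left.2 le_normalizer]
            exact (hS.mono le_normalizer le_top).not_dvd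
          · rw [inf_eq_left.2 le_normalizer]; omega
        · have key : ∀ V : Subgroup G, V ≤ S → Nat.card V = Nat.card R →
              ∀ k : G, cj k (S ⊓ normalizer (V : Set G)) ≤ S → Good V k := by
            intro V hV hVc k hk
            have hVlt : V < S := lt_of_le_of_ne hV fun he =>
              hlt.ne (Subgroup.eq_of_le_of_card_ge hR (by rw [← hVc, he]))
            have hgrow := lt_inf_normalizer' hS.isPGroup hVlt
            exact D.mono (bigger _ inf_le_left (hVc ▸ card_lt_of_lt hgrow) k hk) hgrow.le
          obtain ⟨g1, hg1, hUS, hE1⟩ := exists_extremal_conj hS hR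
          set R' := cj g R with hR'
          set U := cj g1 R with hU
          have hgrowU : Nat.card R < Nat.card (S ⊓ normalizer (U : Set G) : Subgroup G) := by
            have hlt' : U < S := lt_of_le_of_ne hUS fun he =>
              hlt.ne (Subgroup.eq_of_le_of_card_ge hR (by rw [← he, hU, card_cj]))
            have := card_lt_of_lt (lt_inf_normalizer' hS.isPGroup hlt')
            rwa [hU, card_cj] at this
          have hQU : Q U := by
            refine hext _ (hLR.conj g1) hE1 hUS ?_
            have := hcard (inf_le_left : S ⊓ normalizer (U : Set G) ≤ S)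
            omega
          set a := g1 * g⁻¹ with ha
          have haU : cj a R' = U := by rw [ha, hR', ← cj_mul, inv_mul_cancel_right]
          have hleN : cj a (S ⊓ normalizer (R' : Set G)) ≤ normalizer (U : Set G) :=
            (cj_mono (G := G) (g := a) (inf_le_right : S ⊓ normalizer (R' : Set G) ≤ _)).trans
              (le_of_eq (by rw [cj_normalizer, haU]))
          obtain ⟨k, hk, hkle⟩ := SylIn.exists_conj (p := p)
            (T := S ⊓ normalizer (U : Set G)) (H := normalizer (U : Set G))
            (hE1.sylIn hS) (isPGroup_cj (hS.isPGroup.to_le inf_le_left)) hleN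
          have hka : cj (k * a) (S ⊓ normalizer (R' : Set G)) ≤ S := by
            rw [cj_mul]; exact hkle.trans inf_le_left
          have hG1 : Good R g1 := key R hR rfl g1 hg1
          have hG2 : Good R' (k * a) := key R' hg (by rw [hR', card_cj]) _ hka
          have hU2 : cj (k * a) R' = U := by rw [cj_mul, haU, mem_normalizer_iff_cj.1 hk]
          have hinv := D.inv hG2
          have hG3 : Good U ((k * a)⁻¹ * k) := by
            refine D.comp (D.mid hQU hUS k hk) ?_
            rw [image_lc, mem_normalizer_iff_cj.1 hk, ← hU2, ← image_lc]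
            exact hinv
          have := D.comp hG1 (k := (k * a)⁻¹ * k) (by rw [image_lc]; exact hG3)
          have e : (k * a)⁻¹ * k * g1 = g := by rw [ha]; group
          rwa [e] at this
      · -- adjoin the centre of `S`
        set R' := cj g R with hR'
        set Z := ctr S with hZ
        have hZR : ¬ Z ≤ R := fun h => hLR (CLoc.of_le h hR)
        have hZR' : ¬ Z ≤ R' := fun h => hLR (by
          have := (CLoc.of_le h hg).conj g⁻¹
          rwa [hR', cj_inv_cj] at this)
        set C := centralizer (R' : Set G) with hC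
        have hZp : IsPGroup p Z := hS.isPGroup.to_le inf_le_left
        have hZC : Z ≤ C := inf_le_right.trans (centralizer_le (SetLike.coe_subset_coe.2 hg))
        have hZC' : cj g Z ≤ C := by
          rw [cj_le_iff]
          intro z hz
          rw [hC, Subgroup.mem_centralizer_iff]
          intro r hr
          have h := Subgroup.mem_centralizer_iff.1 (centralizer_le (SetLike.coe_subset_coe.2 hR) hz.2)
            (g⁻¹ * r * g) (mem_cj.1 hr)
          calc r * (g * z * g⁻¹) = g * ((g⁻¹ * r * g) * z) * g⁻¹ := by group
            _ = g * (z * (g⁻¹ * r * g)) * g⁻¹ := by rw [h]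
            _ = g * z * g⁻¹ * r := by group
        obtain ⟨T, hT, hZT⟩ := exists_sylIn_ge hZp hZC
        obtain ⟨c, hc, hcT⟩ := hT.exists_conj (isPGroup_cj hZp) hZC'
        have hRT : IsPGroup p ↥(R' ⊔ T) := IsPGroup.to_sup_of_normal_left' (hS.isPGroup.to_le hg)
          hT.isPGroup ((hT.le.trans (centralizer_le_normalizer _)))
        obtain ⟨h, -, hh⟩ := hS.exists_conj hRT le_top
        have hcR' : cj c R' = R' :=
          mem_normalizer_iff_cj.1 (centralizer_le_normalizer _ hc)
        have hG1 : Good R' h := D.mono (bigger (R' ⊔ Z) (sup_le hg inf_le_left) ?_ h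
          ((cj_mono (sup_le_sup_left hZT _)).trans hh)) (SetLike.coe_subset_coe.2 le_sup_left)
        swap
        · rw [← card_cj g R, ← hR']
          exact card_lt_of_lt (left_lt_sup.2 hZR')
        have hG2 : Good R (h * c * g) := by
          refine D.mono (bigger (R ⊔ Z) (sup_le hR inf_le_left) (card_lt_of_lt (left_lt_sup.2 hZR))
            (h * c * g) ?_) (SetLike.coe_subset_coe.2 le_sup_left)
          rw [mul_assoc, cj_mul]
          refine (cj_mono ?_).trans hh
          rw [cj_mul]
          simp only [cj, Subgroup.map_sup]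
          exact sup_le_sup hcR'.le hcT
        have himg : lc (h * c * g) '' (R : Set G) = lc h '' (R' : Set G) := by
          rw [image_lc, image_lc, mul_assoc, cj_mul, cj_mul, hcR']
        have hG3 := D.comp hG2 (k := h⁻¹) (himg ▸ D.inv hG1)
        have hG4 : Good R' c⁻¹ := D.fix c⁻¹ hg fun a ha => by
          show c⁻¹ * a * c⁻¹⁻¹ = a
          rw [inv_inv, mul_assoc, Subgroup.mem_centralizer_iff.1 hc a ha, inv_mul_cancel_left]
        have hG5 := D.comp hG3 (k := c⁻¹) (by
          rw [image_lc, show h⁻¹ * (h * c * g) = c * g by group, cj_mul, hcR']; exact hG4)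
        rwa [show c⁻¹ * (h⁻¹ * (h * c * g)) = g by group] at hG5
    refine ⟨hP, fun V hLV hV hVd => ?_⟩
    obtain ⟨g, hg, hUS, hE⟩ := exists_extremal_conj hS hV
    have h1 := Subgroup.card_le_of_le (cj_inf_normalizer_le hg)
    rw [card_cj] at h1
    exact D.move g rfl hg (hP _ inf_le_left hVd g hg) (hext _ (hLV.conj g) hE hUS (by omega))

end CfsgLib.Techniques
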