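import Mathlib

/-!
Transfer of a central involution of a Sylow 2-subgroup into a cyclic group.

If a linear character `χ` of a Sylow 2-subgroup `X` is nontrivial on a central involution `u` of
`X` and takes the same value on all conjugates of `u` under the normalizer of `X`, then the group
has a subgroup of index two.
-/

set_option autoImplicit false
set_option linter.style.haveILetI false

namespace CfsgLib.Techniques.CentralTransfer

open Subgroup MulAction Function

theorem exists_index_two_of_cyclic {G A : Type*} [Group G] [CommGroup A] [IsCyclic A]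
    (φ : G →* A) [Finite φ.range] {g : G} (h1 : φ g ≠ 1) (h2 : φ g * φ g = 1) :
    ∃ H : Subgroup G, H.index = 2 := by
  haveI : IsCyclic φ.range := inferInstance
  refine ⟨((powMonoidHom 2 : φ.range →* φ.range).range).comap φ.rangeRestrict, ?_⟩
  rw [index_comap_of_surjective _ φ.rangeRestrict_surjective, IsCyclic.index_powMonoidHom_range]
  refine Nat.gcd_eq_right ?_
  have h : orderOf (φ.rangeRestrict g) = 2 := by
    refine orderOf_eq_prime ?_ ?_
    · apply Subtype.ext
      simpa [pow_two] using h2
    · intro h
      exact h1 (congrArg Subtype.val h)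
  exact h ▸ orderOf_dvd_natCard _

theorem exists_index_two {G A : Type*} [Group G] [Finite G] [CommGroup A] [IsCyclic A] [Finite A]
    (X : Sylow 2 G) (χ : ↥(X : Subgroup G) →* A) (u : ↥(X : Subgroup G)) (hu : u * u = 1)
    (hc : ∀ x : ↥(X : Subgroup G), x * u = u * x) (h1 : χ u ≠ 1)
    (huniq : ∀ a : A, a * a = 1 → a = 1 ∨ a = χ u)
    (hfix : ∀ g ∈ normalizer ((X : Subgroup G) : Set G), ∀ w : ↥(X : Subgroup G),
      (w : G) = g⁻¹ * u * g → χ w = χ u) :
    ∃ H : Subgroup G, H.index = 2 := by
  classical
  have huG : (u : G) * u = 1 := congrArg Subtype.val hu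
  have hχ2 : χ u * χ u = 1 := by rw [← map_mul, hu, map_one]
  let val : G → A := fun g =>
    if h : g⁻¹ * (u : G) * g ∈ (X : Subgroup G) then χ ⟨_, h⟩ else 1
  have hval : ∀ g : G, ∀ y : ↥(X : Subgroup G), val (g * y) = val g := by
    intro g y
    have e : (g * (y : G))⁻¹ * u * (g * y) = (y : G)⁻¹ * (g⁻¹ * u * g) * y := by group
    by_cases h : g⁻¹ * (u : G) * g ∈ (X : Subgroup G)
    · have h' : (g * (y : G))⁻¹ * u * (g * y) ∈ (X : Subgroup G) := by
        rw [e]; exact mul_mem (mul_mem (inv_mem y.2) h) y.2
      simp only [val, dif_pos h, dif_pos h']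
      rw [show (⟨_, h'⟩ : ↥(X : Subgroup G)) = y⁻¹ * ⟨_, h⟩ * y from Subtype.ext e]
      rw [map_mul, map_mul, map_inv, mul_comm, mul_inv_cancel_left]
    · have h' : ¬ (g * (y : G))⁻¹ * u * (g * y) ∈ (X : Subgroup G) := fun h' =>
        h (by
          rw [show g⁻¹ * (u : G) * g = (y : G) * ((g * (y : G))⁻¹ * u * (g * y)) * (y : G)⁻¹ by group]
          exact mul_mem (mul_mem y.2 h') (inv_mem y.2))
      simp only [val, dif_neg h, dif_neg h']
  let valQ : G ⧸ (X : Subgroup G) → A := fun q => val q.out
  have hvalQ : ∀ g : G, valQ (g : G ⧸ (X : Subgroup G)) = val g := by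
    intro g
    obtain ⟨y, hy⟩ := QuotientGroup.mk_out_eq_mul (X : Subgroup G) g
    simp only [valQ]
    rw [hy, hval]
  have hfixed : ∀ q : G ⧸ (X : Subgroup G), (u : G) • q = q ↔
      q.out⁻¹ * (u : G) * q.out ∈ (X : Subgroup G) := by
    intro q
    conv_lhs => rw [← QuotientGroup.out_eq' q]
    rw [MulAction.Quotient.smul_mk, QuotientGroup.eq, smul_eq_mul, mul_inv_rev,
      inv_eq_of_mul_eq_one_right huG]
  -- the sub-action of good cosets
  let T : SubMulAction ↥(X : Subgroup G) (G ⧸ (X : Subgroup G)) :=
    { carrier := {q | valQ q = χ u}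
      smul_mem' := fun y q hq => by
        show valQ (y • q) = χ u
        rw [show y • q = (((y : G) * q.out : G) : G ⧸ (X : Subgroup G)) by
          conv_lhs => rw [← QuotientGroup.out_eq' q]
          rfl, hvalQ]
        have e : ((y : G) * q.out)⁻¹ * u * ((y : G) * q.out) = q.out⁻¹ * u * q.out := by
          have : (y : G)⁻¹ * u * y = u := by
            rw [mul_assoc, ← show ((y : G) * u = u * y) from congrArg Subtype.val (hc y)]
            group
          calc _ = q.out⁻¹ * ((y : G)⁻¹ * u * y) * q.out := by group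
            _ = _ := by rw [this]
        simp only [val, valQ] at hq ⊢
        simp only [e]
        exact hq }
  have hXodd : ¬ 2 ∣ (X : Subgroup G).index := X.not_dvd_index
  have hTodd : ¬ 2 ∣ Nat.card T := by
    have key : ∀ q ∈ fixedPoints ↥(X : Subgroup G) (G ⧸ (X : Subgroup G)), q ∈ T := by
      intro q hq
      show valQ q = χ u
      have hn : q.out ∈ normalizer ((X : Subgroup G) : Set G) := by
        rw [← Sylow.mem_fixedPoints_mul_left_cosets_iff_mem_normalizer, QuotientGroup.out_eq']
        exact hq
      have hm : q.out⁻¹ * (u : G) * q.out ∈ (X : Subgroup G) := by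
        have := (mem_normalizer_iff.1 (inv_mem hn) u).1 u.2
        rwa [inv_inv] at this
      simp only [valQ, val, dif_pos hm]
      exact hfix _ hn _ rfl
    have e : fixedPoints ↥(X : Subgroup G) T ≃ fixedPoints ↥(X : Subgroup G) (G ⧸ (X : Subgroup G)) :=
      { toFun := fun t => ⟨t.1.1, fun y => congrArg Subtype.val (t.2 y)⟩
        invFun := fun q => ⟨⟨q.1, key q.1 q.2⟩, fun y => Subtype.ext (q.2 y)⟩
        left_inv := fun t => rfl
        right_inv := fun q => rfl }
    have a1 := X.isPGroup'.card_modEq_card_fixedPoints T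
    have a2 := X.isPGroup'.card_modEq_card_fixedPoints (G ⧸ (X : Subgroup G))
    intro hd
    refine hXodd (Nat.modEq_zero_iff_dvd.1 (a2.trans ?_))
    rw [← Nat.card_congr e]
    exact a1.symm.trans (Nat.modEq_zero_iff_dvd.2 hd)
  -- the orbit formula
  haveI : Fintype (Quotient (orbitRel (zpowers (u : G)) (G ⧸ (X : Subgroup G)))) := Fintype.ofFinite _
  have hV : χ.transfer (u : G) = χ u ^ Nat.card T := by
    rw [MonoidHom.transfer_eq_prod_quotient_orbitRel_zpowers_quot]
    set F : Quotient (orbitRel (zpowers (u : G)) (G ⧸ (X : Subgroup G))) → A := fun o => valQ o.out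
    have hterm : ∀ o : Quotient (orbitRel (zpowers (u : G)) (G ⧸ (X : Subgroup G))),
        χ ⟨o.out.out⁻¹ * (u : G) ^ minimalPeriod ((u : G) • ·) o.out * o.out.out,
          QuotientGroup.out_conj_pow_minimalPeriod_mem (X : Subgroup G) (u : G) o.out⟩ = F o := by
      intro o
      show _ = valQ o.out
      generalize o.out = q at *
      by_cases hq : (u : G) • q = q
      · have h := (hfixed q).1 hq
        simp only [valQ, val, dif_pos h]
        congr 1
        apply Subtype.ext
        show q.out⁻¹ * (u : G) ^ minimalPeriod ((u : G) • ·) q * q.out = _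
        rw [minimalPeriod_eq_one_iff_isFixedPt.2 hq, pow_one]
      · have h : ¬ q.out⁻¹ * (u : G) * q.out ∈ (X : Subgroup G) := fun h => hq ((hfixed q).2 h)
        simp only [valQ, val, dif_neg h]
        have hper : minimalPeriod ((u : G) • ·) q = 2 := by
          refine minimalPeriod_eq_prime ?_ hq
          show (u : G) • (u : G) • q = q
          rw [smul_smul, huG, one_smul]
        convert map_one χ
        rw [OneMemClass.coe_one, hper, pow_two, huG, mul_one, inv_mul_cancel]
    rw [Finset.prod_congr rfl fun o _ => hterm o]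
    have hF : ∀ o, F o = if F o = χ u then χ u else 1 := by
      intro o
      split_ifs with h
      · exact h
      · by_cases hm : (o.out).out⁻¹ * (u : G) * (o.out).out ∈ (X : Subgroup G)
        · simp only [F, valQ, val, dif_pos hm] at h ⊢
          have h2 : χ ⟨_, hm⟩ * χ ⟨_, hm⟩ = 1 := by
            rw [← map_mul, show (⟨_, hm⟩ : ↥(X : Subgroup G)) * ⟨_, hm⟩ = 1 from Subtype.ext (by
              show (o.out).out⁻¹ * (u : G) * (o.out).out * ((o.out).out⁻¹ * u * (o.out).out) = 1
              calc _ = (o.out).out⁻¹ * ((u : G) * u) * (o.out).out := by group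
                _ = 1 := by rw [huG, mul_one, inv_mul_cancel]), map_one]
          exact (huniq _ h2).resolve_right h
        · simp only [F, valQ, val, dif_neg hm]
    rw [Finset.prod_congr rfl fun o _ => hF o, Finset.prod_ite, Finset.prod_const, Finset.prod_const_one,
      mul_one]
    congr 1
    haveI := Fintype.ofFinite T
    rw [Nat.card_eq_fintype_card, ← Finset.card_univ]
    refine Finset.card_bij (fun o ho => ⟨o.out, (Finset.mem_filter.1 ho).2⟩) (fun _ _ => Finset.mem_univ _)
      (fun a _ b _ h => ?_) (fun t _ => ?_)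
    · have h' : a.out = b.out := congrArg Subtype.val h
      rw [← a.out_eq, ← b.out_eq, h']
    · have ht : (u : G) • (t : G ⧸ (X : Subgroup G)) = t := by
        refine (hfixed _).2 ?_
        by_contra hm
        have : valQ (t : G ⧸ (X : Subgroup G)) = χ u := t.2
        simp only [valQ, val, dif_neg hm] at this
        exact h1 this.symm
      refine ⟨Quotient.mk'' (t : G ⧸ (X : Subgroup G)), ?_, ?_⟩
      all_goals
        have he : (Quotient.mk'' (t : G ⧸ (X : Subgroup G)) :
            Quotient (orbitRel (zpowers (u : G)) (G ⧸ (X : Subgroup G)))).out = t := by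
          have hr := Quotient.mk_out (s := orbitRel (zpowers (u : G)) (G ⧸ (X : Subgroup G))) (t : G ⧸ (X : Subgroup G))
          obtain ⟨⟨w, hw⟩, hwt⟩ := orbitRel_apply.1 hr
          obtain ⟨k, rfl⟩ := mem_zpowers_iff.1 hw
          rw [← hwt]
          exact MulAction.fixedBy_subset_fixedBy_zpow _ _ k ht
      · exact Finset.mem_filter.2 ⟨Finset.mem_univ _, by simp only [F]; rw [he]; exact t.2⟩
      · exact Subtype.ext he
  have hodd : χ u ^ Nat.card T = χ u := by
    obtain ⟨m, hm⟩ := Nat.odd_iff.2 (Nat.two_dvd_ne_zero.1 hTodd)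
    rw [hm, pow_succ, pow_mul, pow_two, hχ2, one_pow, one_mul]
  rw [hodd] at hV
  exact exists_index_two_of_cyclic χ.transfer (g := (u : G)) (by rw [hV]; exact h1) (by rw [hV]; exact hχ2)

end CfsgLib.Techniques.CentralTransfer
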