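import Cfsg.Agent.Lib.Techniques.Functors

/-!
Conjugation families: the inductive form and Alperin-type criterion.
-/

set_option autoImplicit false

namespace CfsgLib.Techniques

open Cfsg Subgroup

variable {G : Type*} [Group G] {𝓕 : Set (Subgroup G)}

/-- Conjugation on the right. -/
def rc (g a : G) : G := g⁻¹ * a * g

theorem rc_mul (g h a : G) : rc (g * h) a = rc h (rc g a) := by
  simp [rc, mul_assoc]

@[simp] theorem rc_one (a : G) : rc 1 a = a := by simp [rc]

theorem image_rc_mul (g h : G) (X : Set G) : rc (g * h) '' X = rc h '' (rc g '' X) := by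
  rw [Set.image_image]
  simp_rw [rc_mul]

theorem image_rc_one (X : Set G) : rc 1 '' X = X := by
  simp only [rc_one, Set.image_id']

/-- A conjugation performed step by step inside normalizers of members of `𝓕`. -/
inductive RChain (𝓕 : Set (Subgroup G)) : Set G → G → Prop
  | refl (X : Set G) : RChain 𝓕 X 1
  | step {X : Set G} {x g : G} {U : Subgroup G} (hU : U ∈ 𝓕) (hX : X ⊆ U)
      (hx : x ∈ normalizer (U : Set G)) (h : RChain 𝓕 (rc x '' X) g) : RChain 𝓕 X (x * g)

theorem RChain.mono {X : Set G} {g : G} (h : RChain 𝓕 X g) :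
    ∀ {Y : Set G}, Y ⊆ X → RChain 𝓕 Y g := by
  induction h with
  | refl X => exact fun {Y} _ => .refl Y
  | step hU hX hx _ ih => exact fun {Y} hY => .step hU (hY.trans hX) hx (ih (Set.image_mono hY))

theorem RChain.append {X : Set G} {g k : G} (h : RChain 𝓕 X g) :
    RChain 𝓕 (rc g '' X) k → RChain 𝓕 X (g * k) := by
  induction h with
  | refl X => intro h2; rwa [image_rc_one, ← one_mul k] at h2
  | step hU hX hx _ ih =>
    intro h2
    rw [mul_assoc]
    exact .step hU hX hx (ih (by rwa [← image_rc_mul]))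

theorem RChain.single {X : Set G} {x : G} {U : Subgroup G} (hU : U ∈ 𝓕) (hX : X ⊆ U)
    (hx : x ∈ normalizer (U : Set G)) : RChain 𝓕 X x := by
  have := RChain.step hU hX hx (RChain.refl (𝓕 := 𝓕) _)
  rwa [mul_one] at this

theorem image_rc_subset_of_mem_normalizer {X : Set G} {x : G} {U : Subgroup G} (hX : X ⊆ U)
    (hx : x ∈ normalizer (U : Set G)) : rc x '' X ⊆ U := by
  rintro _ ⟨a, ha, rfl⟩
  have := (Subgroup.mem_normalizer_iff.1 (inv_mem hx) a).1 (hX ha)
  simpa [rc] using this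

theorem RChain.inv {X : Set G} {g : G} (h : RChain 𝓕 X g) : RChain 𝓕 (rc g '' X) g⁻¹ := by
  induction h with
  | refl X => rw [inv_one, image_rc_one]; exact .refl X
  | @step X x g U hU hX hx _ ih =>
    rw [mul_inv_rev]
    refine RChain.append (by rwa [image_rc_mul]) ?_
    rw [← image_rc_mul, mul_inv_cancel_right]
    exact RChain.single hU (image_rc_subset_of_mem_normalizer hX hx) (inv_mem hx)

theorem RChain.to_list {X : Set G} {g : G} (h : RChain 𝓕 X g) :
    ∃ (n : ℕ) (T : Fin n → Subgroup G) (x : Fin n → G), (List.ofFn x).prod = g ∧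
      (∀ i, T i ∈ 𝓕) ∧ (∀ i, x i ∈ normalizer (T i : Set G)) ∧
      (∀ h : 0 < n, X ⊆ T ⟨0, h⟩) ∧
      ∀ (i : Fin n) (h : i.val + 1 < n),
        rc (((List.ofFn x).take (i.val + 1)).prod) '' X ⊆ T ⟨i.val + 1, h⟩ := by
  induction h with
  | refl X =>
    exact ⟨0, Fin.elim0, Fin.elim0, by simp, fun i => i.elim0, fun i => i.elim0,
      fun h => absurd h (lt_irrefl 0), fun i => i.elim0⟩
  | @step X x g U hU hX hx _ ih =>
    obtain ⟨n, T, xs, hp, hT, hxs, h0, hst⟩ := ih
    refine ⟨n + 1, Fin.cons U T, Fin.cons x xs, ?_, ?_, ?_, fun _ => hX, ?_⟩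
    · simp [List.ofFn_succ, hp]
    · exact Fin.cases hU hT
    · exact Fin.cases hx hxs
    · intro i hi
      rcases i with ⟨i, hi'⟩
      have e : ∀ k (hk : k + 1 < n + 1),
          (Fin.cons U T : Fin (n + 1) → Subgroup G) ⟨k + 1, hk⟩ = T ⟨k, Nat.lt_of_succ_lt_succ hk⟩ :=
        fun k hk => Fin.cons_succ (α := fun _ => Subgroup G) U T ⟨k, Nat.lt_of_succ_lt_succ hk⟩
      rw [e]
      cases i with
      | zero => simpa [List.ofFn_succ] using h0 (by simpa using hi)
      | succ j =>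
        have h2 := hst ⟨j, by simp only at hi; omega⟩ (by simp only at hi ⊢; omega)
        simpa [List.ofFn_succ, image_rc_mul] using h2

theorem RChain.of_list : ∀ (n : ℕ) (T : Fin n → Subgroup G) (x : Fin n → G) (X : Set G),
    (∀ i, T i ∈ 𝓕) → (∀ i, x i ∈ normalizer (T i : Set G)) → (∀ h : 0 < n, X ⊆ T ⟨0, h⟩) →
    (∀ (i : Fin n) (h : i.val + 1 < n),
      rc (((List.ofFn x).take (i.val + 1)).prod) '' X ⊆ T ⟨i.val + 1, h⟩) →
    RChain 𝓕 X (List.ofFn x).prod
  | 0, _, x, X, _, _, _, _ => by simpa using RChain.refl X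
  | n + 1, T, x, X, hT, hx, h0, hst => by
    rw [List.ofFn_succ, List.prod_cons]
    refine RChain.step (hT 0) (h0 (Nat.succ_pos n)) (hx 0)
      (RChain.of_list n (fun i => T i.succ) (fun i => x i.succ) _ (fun i => hT _) (fun i => hx _) ?_ ?_)
    · intro h
      have := hst 0 (by simpa using h)
      simpa [List.ofFn_succ] using this
    · intro i h
      have := hst i.succ (by simpa using h)
      simpa [List.ofFn_succ, image_rc_mul] using this

theorem isConjugationFamily_iff {S : Subgroup G} : IsConjugationFamily 𝓕 S ↔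
    (∀ T ∈ 𝓕, T ≤ S) ∧ ∀ (A : Set G) (g : G), A.Nonempty → A ⊆ S → rc g '' A ⊆ S → RChain 𝓕 A g := by
  refine and_congr_right fun _ => ⟨fun h A g h1 h2 h3 => ?_, fun h A g h1 h2 h3 => (h A g h1 h2 h3).to_list⟩
  obtain ⟨n, T, x, hp, hT, hx, h0, hst⟩ := h A g h1 h2 h3
  exact hp ▸ RChain.of_list n T x A hT hx h0 hst

variable [Finite G] {p : ℕ} [Fact p.Prime] {S : Subgroup G}

theorem rc_subset_iff_cj_le {g : G} {R K : Subgroup G} :
    rc g '' (R : Set G) ⊆ K ↔ cj g⁻¹ R ≤ K := by
  rw [cj_le_iff, Set.image_subset_iff]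
  simp [Set.subset_def, rc]

/-- Alperin's theorem for a family containing an extremal conjugate of every subgroup. -/
theorem rchain_of_extremal (hS : SylIn p S ⊤) (h𝓕 : ∀ U ∈ 𝓕, U ≤ S)
    (h : ∀ T : Subgroup G, T ≤ S → ∃ U ∈ 𝓕, (∃ g : G, cj g T = U) ∧ Extremal p S U) :
    ∀ (R : Subgroup G), R ≤ S → ∀ g : G, cj g⁻¹ R ≤ S → RChain 𝓕 R g := by
  suffices ∀ (n : ℕ) (R : Subgroup G), Nat.card S - Nat.card R = n → R ≤ S →
      ∀ g : G, cj g⁻¹ R ≤ S → RChain 𝓕 R g from fun R => this _ R rfl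
  intro n
  induction n using Nat.strong_induction_on with
  | _ n ih =>
    intro R hn hRS g hg
    obtain ⟨U, hU, ⟨g0, hg0⟩, hext⟩ := h R hRS
    rcases eq_or_lt_of_le hRS with rfl | hlt
    · have hUR : U = R := by
        refine Subgroup.eq_of_le_of_card_ge (h𝓕 U hU) ?_
        rw [← hg0, card_cj]
      subst hUR
      refine RChain.single hU Set.Subset.rfl ?_
      have := mem_normalizer_iff_cj.2 (Subgroup.eq_of_le_of_card_ge hg (by rw [card_cj]))
      simpa using inv_mem this
    have key : ∀ V : Subgroup G, V ≤ S → (∃ a, cj a V = U) →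
        ∃ k, cj k V = U ∧ RChain 𝓕 V k⁻¹ := by
      rintro V hV ⟨a, ha⟩
      have hp' : IsPGroup p (cj a (S ⊓ normalizer (V : Set G))) :=
        isPGroup_cj (hS.isPGroup.to_le inf_le_left)
      have hle : cj a (S ⊓ normalizer (V : Set G)) ≤ normalizer (U : Set G) := by
        rw [← ha, ← cj_normalizer]; exact cj_mono inf_le_right
      obtain ⟨k, hk, hkle⟩ := (hext.sylIn hS).exists_conj hp' hle
      refine ⟨k * a, by rw [cj_mul, ha, mem_normalizer_iff_cj.1 hk], ?_⟩
      have hcard : Nat.card V = Nat.card R := by rw [← card_cj a V, ha, ← hg0, card_cj]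
      have hVlt : V < S := lt_of_le_of_ne hV fun he =>
        hlt.ne (Subgroup.eq_of_le_of_card_ge hRS (by rw [← hcard, he]))
      have hgrow := lt_inf_normalizer' (p := p) hS.isPGroup hVlt
      have hlt2 : Nat.card V < Nat.card (S ⊓ normalizer (V : Set G) : Subgroup G) :=
        card_lt_of_lt hgrow
      have hle2 : Nat.card (S ⊓ normalizer (V : Set G) : Subgroup G) ≤ Nat.card S :=
        Subgroup.card_le_of_le inf_le_left
      refine (ih _ (by omega) _ rfl inf_le_left (k * a)⁻¹ ?_).mono hgrow.le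
      rw [inv_inv, cj_mul]
      exact hkle.trans inf_le_left
    obtain ⟨k1, hk1, hc1⟩ := key R hRS ⟨g0, hg0⟩
    obtain ⟨k2, hk2, hc2⟩ := key (cj g⁻¹ R) hg ⟨g0 * g, by rw [cj_mul, cj_cj_inv, hg0]⟩
    have hy : k1 * g * k2⁻¹ ∈ normalizer (U : Set G) := by
      have e : cj (k1 * g * k2⁻¹) U = U := by
        rw [cj_mul, cj_mul]
        conv_lhs => rw [← hk2, cj_inv_cj, cj_cj_inv, hk1]
      exact mem_normalizer_iff_cj.2 e
    have h3 : RChain 𝓕 (U : Set G) k2 := by
      have := hc2.inv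
      rw [inv_inv] at this
      refine this.mono ?_
      intro u hu
      rw [← hk2, SetLike.mem_coe, mem_cj] at hu
      exact ⟨_, hu, by simp [rc, mul_assoc]⟩
    have h23 : RChain 𝓕 (U : Set G) (k1 * g * k2⁻¹ * k2) :=
      (RChain.single hU Set.Subset.rfl hy).append
        (h3.mono (image_rc_subset_of_mem_normalizer Set.Subset.rfl hy))
    have e : g = k1⁻¹ * (k1 * g * k2⁻¹ * k2) := by group
    rw [e]
    refine hc1.append (h23.mono ?_)
    rw [rc_subset_iff_cj_le, inv_inv, hk1]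

/-- A set of subgroups containing an extremal conjugate of each subgroup is a conjugation family. -/
theorem isConjugationFamily_of_extremal (hS : SylIn p S ⊤) (h𝓕 : ∀ U ∈ 𝓕, U ≤ S)
    (h : ∀ T : Subgroup G, T ≤ S → ∃ U ∈ 𝓕, (∃ g : G, cj g T = U) ∧ Extremal p S U) :
    IsConjugationFamily 𝓕 S := by
  refine isConjugationFamily_iff.2 ⟨h𝓕, fun A g _ hA hAg => ?_⟩
  refine (rchain_of_extremal hS h𝓕 h (Subgroup.closure A) ((Subgroup.closure_le _).2 hA) g ?_).mono
    Subgroup.subset_closure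
  rw [Subgroup.map_le_iff_le_comap, Subgroup.closure_le]
  intro a ha
  have := hAg ⟨a, ha, rfl⟩
  simpa [rc] using this

theorem isConjugationFamily_wellPlaced {W : Subgroup G → Subgroup G} (hS : SylIn p S ⊤)
    (hW : IsConjugacyFunctor p W) :
    IsConjugationFamily {T : Subgroup G | IsWellPlaced p W S T} S := by
  refine isConjugationFamily_of_extremal hS (fun U hU => hU.1) fun T hT => ?_
  obtain ⟨g, -, hg⟩ := exists_wellPlaced_conj hS hW hT
  exact ⟨_, hg, ⟨g, rfl⟩, hg.2 0⟩

end CfsgLib.Techniques
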