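import Cfsg.Agent.Lib.Techniques.Functors

/-!
The notions of control do not depend on the choice of the Sylow subgroup; one functor versus a
family with one member.
-/

set_option autoImplicit false

namespace CfsgLib.Techniques

open Cfsg Subgroup

variable {G : Type*} [Group G] {p : ℕ}

theorem mem_inf_normalizer_functor_conj {W : Subgroup G → Subgroup G} (hW : IsConjugacyFunctor p W)
    {H T : Subgroup G} (hT : IsPGroup p T) {k x : G} (hk : k ∈ H)
    (hx : x ∈ H ⊓ normalizer (W T : Set G)) :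
    k * x * k⁻¹ ∈ H ⊓ normalizer (W (cj k T) : Set G) := by
  refine ⟨H.mul_mem (H.mul_mem hk hx.1) (H.inv_mem hk), ?_⟩
  rw [← cj_normalizer_functor hW hT]
  exact conj_mem_cj.2 hx.2

theorem cj_inf_normalizer_functor {W : Subgroup G → Subgroup G} (hW : IsConjugacyFunctor p W)
    {H T : Subgroup G} (hT : IsPGroup p T) {k : G} (hk : k ∈ H) :
    cj k (H ⊓ normalizer (W T : Set G)) = H ⊓ normalizer (W (cj k T) : Set G) := by
  rw [cj_inf, cj_eq_self_of_mem hk, cj_normalizer_functor hW hT]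

variable [Finite G] [Fact p.Prime]

/-- Strong fusion relative to a given Sylow subgroup. -/
def FusionAt (W : Subgroup G → Subgroup G) (T H : Subgroup G) : Prop :=
  ∀ (A : Set G) (h : G), h ∈ H → A ⊆ T → (fun a => h * a * h⁻¹) '' A ⊆ T →
    ∃ x ∈ H ⊓ normalizer ((W T : Subgroup G) : Set G), ∀ a ∈ A, x * a * x⁻¹ = h * a * h⁻¹

theorem fusionAt_of_controls {W : Subgroup G → Subgroup G} (hW : IsConjugacyFunctor p W)
    {H T : Subgroup G} (hT : SylIn p T H) (h : ControlsStrongFusionIn p W H) : FusionAt W T H := by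
  obtain ⟨T', h1, h2, h3, h4⟩ := h
  obtain ⟨k, hk, rfl⟩ := hT.exists_conj_eq (T' := T') ⟨h1, h2, h3⟩
  intro A g hg hA hgA
  obtain ⟨x, hx, hxa⟩ := h4 ((fun a => k⁻¹ * a * k) '' A) (k⁻¹ * g * k)
    (mul_mem (mul_mem (inv_mem hk) hg) hk)
    (by rintro _ ⟨a, ha, rfl⟩; exact mem_cj.1 (hA ha))
    (by
      rintro _ ⟨_, ⟨a, ha, rfl⟩, rfl⟩
      have := mem_cj.1 (hgA ⟨a, ha, rfl⟩)
      simp only [mul_assoc, mul_inv_rev, inv_inv, mul_inv_cancel_left] at this ⊢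
      exact this)
  refine ⟨k * x * k⁻¹, mem_inf_normalizer_functor_conj hW h2 hk hx, fun a ha => ?_⟩
  have e := hxa _ ⟨a, ha, rfl⟩
  calc k * x * k⁻¹ * a * (k * x * k⁻¹)⁻¹ = k * (x * (k⁻¹ * a * k) * x⁻¹) * k⁻¹ := by group
    _ = k * ((k⁻¹ * g * k) * (k⁻¹ * a * k) * (k⁻¹ * g * k)⁻¹) * k⁻¹ := by rw [e]
    _ = _ := by group

theorem controls_of_fusionAt {W : Subgroup G → Subgroup G} {H T : Subgroup G} (hT : SylIn p T H)
    (h : FusionAt W T H) : ControlsStrongFusionIn p W H :=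
  ⟨T, hT.le, hT.isPGroup, hT.not_dvd, h⟩

/-- A chain of conjugations of `A` inside `T`, each step in some `N_H(W T)`, agreeing with `h`. -/
def FamilyFusionAt (𝓦 : Set (Subgroup G → Subgroup G)) (T H : Subgroup G) : Prop :=
  ∀ (A : Set G) (h : G), h ∈ H → A ⊆ T → (fun a => h * a * h⁻¹) '' A ⊆ T →
    ∃ (n : ℕ) (c : Fin (n + 1) → G), c 0 = 1 ∧
      (∀ i : Fin n, ∃ W ∈ 𝓦,
        c i.succ * (c i.castSucc)⁻¹ ∈ H ⊓ normalizer ((W T : Subgroup G) : Set G)) ∧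
      (∀ i : Fin (n + 1), (fun a => c i * a * (c i)⁻¹) '' A ⊆ T) ∧
      ∀ a ∈ A, c (Fin.last n) * a * (c (Fin.last n))⁻¹ = h * a * h⁻¹

theorem familyFusionAt_of_controls {𝓦 : Set (Subgroup G → Subgroup G)}
    (h𝓦 : ∀ W ∈ 𝓦, IsConjugacyFunctor p W) {H T : Subgroup G} (hT : SylIn p T H)
    (h : FamilyControlsStrongFusionIn p 𝓦 H) : FamilyFusionAt 𝓦 T H := by
  obtain ⟨T', h1, h2, h3, h4⟩ := h
  obtain ⟨k, hk, rfl⟩ := hT.exists_conj_eq (T' := T') ⟨h1, h2, h3⟩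
  intro A g hg hA hgA
  obtain ⟨n, c, hc0, hstep, hin, hlast⟩ := h4 ((fun a => k⁻¹ * a * k) '' A) (k⁻¹ * g * k)
    (mul_mem (mul_mem (inv_mem hk) hg) hk)
    (by rintro _ ⟨a, ha, rfl⟩; exact mem_cj.1 (hA ha))
    (by
      rintro _ ⟨_, ⟨a, ha, rfl⟩, rfl⟩
      have := mem_cj.1 (hgA ⟨a, ha, rfl⟩)
      simp only [mul_assoc, mul_inv_rev, inv_inv, mul_inv_cancel_left] at this ⊢
      exact this)
  refine ⟨n, fun i => k * c i * k⁻¹, by simp [hc0], fun i => ?_, fun i => ?_, fun a ha => ?_⟩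
  · obtain ⟨W, hW, hi⟩ := hstep i
    refine ⟨W, hW, ?_⟩
    have := mem_inf_normalizer_functor_conj (h𝓦 W hW) h2 hk hi
    have e : k * c i.succ * k⁻¹ * (k * c i.castSucc * k⁻¹)⁻¹
        = k * (c i.succ * (c i.castSucc)⁻¹) * k⁻¹ := by group
    rwa [e]
  · rintro _ ⟨a, ha, rfl⟩
    have := hin i ⟨_, ⟨a, ha, rfl⟩, rfl⟩
    refine mem_cj.2 ?_
    simp only [SetLike.mem_coe, mul_assoc, mul_inv_rev, inv_inv, inv_mul_cancel_left,
      inv_mul_cancel, mul_one] at this ⊢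
    exact this
  · have e := hlast _ ⟨a, ha, rfl⟩
    calc k * c (Fin.last n) * k⁻¹ * a * (k * c (Fin.last n) * k⁻¹)⁻¹
        = k * (c (Fin.last n) * (k⁻¹ * a * k) * (c (Fin.last n))⁻¹) * k⁻¹ := by group
      _ = k * ((k⁻¹ * g * k) * (k⁻¹ * a * k) * (k⁻¹ * g * k)⁻¹) * k⁻¹ := by rw [e]
      _ = _ := by group

theorem familyTransferAt_of_controls {𝓦 : Set (Subgroup G → Subgroup G)}
    (h𝓦 : ∀ W ∈ 𝓦, IsConjugacyFunctor p W) {H T : Subgroup G} (hT : SylIn p T H)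
    (h : FamilyControlsTransferIn p 𝓦 H) :
    T ⊓ ⁅H, H⁆ = ⨆ W ∈ 𝓦,
      T ⊓ ⁅H ⊓ normalizer ((W T : Subgroup G) : Set G), H ⊓ normalizer ((W T : Subgroup G) : Set G)⁆ := by
  obtain ⟨T', h1, h2, h3, h4⟩ := h
  obtain ⟨k, hk, rfl⟩ := hT.exists_conj_eq (T' := T') ⟨h1, h2, h3⟩
  have h5 := congrArg (cj k) h4
  rw [cj_inf, cj_commutator, cj_eq_self_of_mem hk] at h5
  rw [h5]
  unfold cj
  simp only [Subgroup.map_iSup]
  refine iSup_congr fun W => iSup_congr fun hW => ?_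
  show cj k _ = _
  rw [cj_inf, cj_commutator, cj_inf_normalizer_functor (h𝓦 W hW) h2 hk]

theorem transferAt_of_controls {W : Subgroup G → Subgroup G} (hW : IsConjugacyFunctor p W)
    {H T : Subgroup G} (hT : SylIn p T H) (h : ControlsTransferIn p W H) :
    T ⊓ ⁅H, H⁆ = T ⊓ ⁅H ⊓ normalizer ((W T : Subgroup G) : Set G),
      H ⊓ normalizer ((W T : Subgroup G) : Set G)⁆ := by
  have := familyTransferAt_of_controls (𝓦 := {W}) (fun V hV => by rwa [Set.mem_singleton_iff.1 hV]) hT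
    (by obtain ⟨T', a, b, c, d⟩ := h; exact ⟨T', a, b, c, by rw [iSup_singleton]; exact d⟩)
  rwa [iSup_singleton] at this

theorem familyControlsTransfer_singleton {W : Subgroup G → Subgroup G} {H : Subgroup G} :
    FamilyControlsTransferIn p {W} H ↔ ControlsTransferIn p W H := by
  unfold FamilyControlsTransferIn ControlsTransferIn
  simp only [iSup_singleton]

theorem familyControlsFusion_singleton {W : Subgroup G → Subgroup G} {H : Subgroup G} :
    FamilyControlsStrongFusionIn p {W} H ↔ ControlsStrongFusionIn p W H := by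
  constructor
  · rintro ⟨T, h1, h2, h3, h4⟩
    refine ⟨T, h1, h2, h3, fun A g hg hA hgA => ?_⟩
    obtain ⟨n, c, hc0, hstep, -, hlast⟩ := h4 A g hg hA hgA
    refine ⟨c (Fin.last n), ?_, hlast⟩
    have : ∀ i : Fin (n + 1), c i ∈ H ⊓ normalizer (W T : Set G) := by
      intro i
      induction i using Fin.induction with
      | zero => rw [hc0]; exact one_mem _
      | succ i ih =>
        obtain ⟨V, hV, hi⟩ := hstep i
        rw [Set.mem_singleton_iff.1 hV] at hi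
        simpa using mul_mem hi ih
    exact this _
  · rintro ⟨T, h1, h2, h3, h4⟩
    refine ⟨T, h1, h2, h3, fun A g hg hA hgA => ?_⟩
    obtain ⟨x, hx, hxa⟩ := h4 A g hg hA hgA
    refine ⟨1, ![1, x], by simp, fun i => ⟨W, rfl, ?_⟩, fun i => ?_, ?_⟩
    · fin_cases i
      simpa using hx
    · fin_cases i
      · simpa using hA
      · rintro _ ⟨a, ha, rfl⟩
        simpa [hxa a ha] using hgA ⟨a, ha, rfl⟩
    · intro a ha
      simpa using hxa a ha

theorem weakClosureAt_of_controls {W : Subgroup G → Subgroup G} (hW : IsConjugacyFunctor p W)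
    {H T : Subgroup G} (hT : SylIn p T H) (h : ControlsWeakClosureOfElementsIn p W H) :
    ∀ x ∈ T ⊓ centralizer ((H ⊓ normalizer ((W T : Subgroup G) : Set G) : Subgroup G) : Set G),
      ∀ g ∈ H, g * x * g⁻¹ ∈ T → g * x * g⁻¹ = x := by
  obtain ⟨-, T', h1, h2, h3, h4⟩ := h
  obtain ⟨k, hk, rfl⟩ := hT.exists_conj_eq (T' := T') ⟨h1, h2, h3⟩
  intro x hx g hg hgx
  have hx' : k⁻¹ * x * k ∈ T' ⊓ centralizer ((H ⊓ normalizer (W T' : Set G) : Subgroup G) : Set G) := by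
    refine ⟨mem_cj.1 hx.1, fun y hy => ?_⟩
    have e := hx.2 _ (mem_inf_normalizer_functor_conj hW h2 hk hy)
    calc y * (k⁻¹ * x * k) = k⁻¹ * ((k * y * k⁻¹) * x) * k := by group
      _ = k⁻¹ * (x * (k * y * k⁻¹)) * k := by rw [e]
      _ = _ := by group
  have h5 := h4 _ hx' (k⁻¹ * g * k) (mul_mem (mul_mem (inv_mem hk) hg) hk) (by
    have e : (k⁻¹ * g * k) * (k⁻¹ * x * k) * (k⁻¹ * g * k)⁻¹ = k⁻¹ * (g * x * g⁻¹) * k := by group
    rw [e]
    exact mem_cj.1 hgx)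
  have e : g * x * g⁻¹ = k * ((k⁻¹ * g * k) * (k⁻¹ * x * k) * (k⁻¹ * g * k)⁻¹) * k⁻¹ := by group
  rw [e, h5]
  group

end CfsgLib.Techniques
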