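import Cfsg.Agent.Lib.FgsB.KulakovFour
import Cfsg.Agent.Lib.FgsB.KulakovCount
import Cfsg.Agent.Lib.PGroups.MaximalClassTwo
import Cfsg.Agent.Lib.Transfer.ThompsonTransfer

/-!
A four-group acting on a perfect group so that no non-trivial element centralises a four-group
forces the group to have 2-rank at most one.

A Sylow 2-subgroup `T` invariant under the four-group has no invariant four-subgroup, so it is
dihedral or semidihedral. Then one of the three involutions induces on `T` conjugation by an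
element `y` with `y² = z` central. As `z` is fused to a non-central involution `t`, the square of
the corresponding outer element gives two different images under the transfer of `C(⟨z, t⟩)`.
-/

set_option autoImplicit false

namespace CfsgLib.FourGamma

open Subgroup

section Shape

variable {A : Type*} [Group A]

/-- Coordinates for a dihedral or semidihedral 2-group. -/
structure Shape (T : Subgroup A) (x t : A) (n : ℕ) (e : ℤ) : Prop where
  hx : orderOf x = 2 ^ (n + 2)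
  ht : t * t = 1
  htx : t ∉ zpowers x
  xT : x ∈ T
  tT : t ∈ T
  dec : ∀ g ∈ T, ∃ i : ℤ, g = x ^ i ∨ g = x ^ i * t
  conj : t * x * t⁻¹ = x ^ e
  he : e = -1 ∨ (1 ≤ n ∧ e = 2 ^ (n + 1) - 1)

/-- The central involution. -/
def cinv (x : A) (n : ℕ) : A := x ^ ((2 : ℤ) ^ (n + 1))

theorem exists_solve {o : ℤ} (ho : Odd o) (K : ℕ) (v : ℤ) : ∃ k : ℤ, (2 : ℤ) ^ K ∣ k * o + v := by
  obtain ⟨m, rfl⟩ := ho
  obtain ⟨a, b, hab⟩ := (IsCoprime.pow_left (m := K) (⟨-m, 1, by ring⟩ : IsCoprime (2 : ℤ) (2 * m + 1)))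
  exact ⟨-v * b, ⟨v * a, by linear_combination -v * hab⟩⟩

theorem dvd_of_odd_mul {o : ℤ} (ho : Odd o) {K : ℕ} {v : ℤ} (h : (2 : ℤ) ^ K ∣ v * o) : (2 : ℤ) ^ K ∣ v := by
  obtain ⟨m, rfl⟩ := ho
  exact (IsCoprime.pow_left (m := K) (⟨-m, 1, by ring⟩ : IsCoprime (2 : ℤ) (2 * m + 1))).dvd_of_dvd_mul_right h

variable {T : Subgroup A} {x t : A} {n : ℕ} {e : ℤ} (S : Shape T x t n e)
include S

theorem zeq (i j : ℤ) : x ^ i = x ^ j ↔ (2 : ℤ) ^ (n + 2) ∣ j - i := by
  rw [zpow_eq_zpow_iff_modEq, S.hx, Int.modEq_iff_dvd]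
  push_cast
  rfl

theorem tinv : t⁻¹ = t := inv_eq_of_mul_eq_one_right S.ht

theorem conj_zpow (i : ℤ) : t * x ^ i * t = x ^ (e * i) := by
  have h : t * x ^ i * t⁻¹ = x ^ (e * i) := by
    rw [← MulAut.conj_apply, map_zpow, MulAut.conj_apply, S.conj, ← zpow_mul]
  rwa [tinv S] at h

theorem t_mul (i : ℤ) : t * x ^ i = x ^ (e * i) * t := by
  rw [← conj_zpow S i, mul_assoc, S.ht, mul_one]

theorem mul_refl (i j : ℤ) : x ^ i * t * (x ^ j * t) = x ^ (i + e * j) := by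
  rw [zpow_add, ← conj_zpow S j]; group

theorem refl_ne (i j : ℤ) : x ^ i * t ≠ x ^ j := fun h => S.htx <| mem_zpowers_iff.2 ⟨-i + j, by
  rw [zpow_add, ← h, zpow_neg, inv_mul_cancel_left]⟩

theorem refl_inj {i j : ℤ} (h : x ^ i * t = x ^ j * t) : (2 : ℤ) ^ (n + 2) ∣ j - i :=
  (zeq S i j).1 (mul_right_cancel h)

theorem e_sub_one : ∃ o : ℤ, Odd o ∧ e - 1 = 2 * o := by
  rcases S.he with h | ⟨hn, h⟩
  · exact ⟨-1, by decide, by rw [h]; norm_num⟩
  · refine ⟨2 ^ n - 1, ?_, by rw [h]; ring⟩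
    obtain ⟨m, rfl⟩ : ∃ m, n = m + 1 := ⟨n - 1, by omega⟩
    exact ⟨2 ^ m - 1, by ring⟩

theorem e_add_one : e + 1 = 0 ∨ (1 ≤ n ∧ e + 1 = 2 ^ (n + 1)) := by
  rcases S.he with h | ⟨hn, h⟩
  · exact Or.inl (by rw [h]; norm_num)
  · exact Or.inr ⟨hn, by rw [h]; ring⟩

theorem z_mem : cinv x n ∈ T := zpow_mem S.xT _

theorem z_sq : cinv x n * cinv x n = 1 := by
  rw [cinv, ← zpow_add, ← zpow_zero x, zeq S]
  exact ⟨-1, by ring⟩

theorem z_ne : cinv x n ≠ 1 := by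
  rw [cinv, ← zpow_zero x, Ne, zeq S]
  rintro ⟨k, hk⟩
  have h2 : (2 : ℤ) ^ (n + 1) * (2 * k + 1) = 0 := by linear_combination -hk
  rcases mul_eq_zero.1 h2 with h | h
  · exact absurd h (pow_ne_zero _ two_ne_zero)
  · omega

theorem z_ne_t : cinv x n ≠ t := fun h => S.htx (h ▸ zpow_mem (mem_zpowers x) _)

theorem eq_one_or_z {i : ℤ} (h : (2 : ℤ) ^ (n + 1) ∣ i) : x ^ i = 1 ∨ x ^ i = cinv x n := by
  obtain ⟨q, rfl⟩ := h
  rcases Int.even_or_odd' q with ⟨k, rfl | rfl⟩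
  · left; rw [← zpow_zero x, zeq S]; exact ⟨-k, by ring⟩
  · right; rw [cinv, zeq S]; exact ⟨-k, by ring⟩

theorem z_comm {g : A} (hg : g ∈ T) : g * cinv x n = cinv x n * g := by
  obtain ⟨i, rfl | rfl⟩ := S.dec g hg
  · exact ((Commute.refl x).zpow_zpow i _).eq
  · have h : t * cinv x n = cinv x n * t := by
      obtain ⟨o, ho, ho'⟩ := e_sub_one S
      rw [cinv, t_mul S]
      congr 1
      rw [zeq S]
      exact ⟨-o, by linear_combination (-(2 : ℤ) ^ (n + 1)) * ho'⟩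
    rw [mul_assoc, h, ← mul_assoc, ← mul_assoc, cinv, ((Commute.refl x).zpow_zpow i _).eq]

/-- The centraliser in `T` of a non-central involution is a four-group. -/
theorem centralizer_inv {a : A} (ha : a ∈ T) (ha2 : a * a = 1) (ha1 : a ≠ 1) (haz : a ≠ cinv x n)
    {g : A} (hg : g ∈ T) (hga : g * a = a * g) :
    g = 1 ∨ g = cinv x n ∨ g = a ∨ g = cinv x n * a := by
  obtain ⟨o, ho, ho'⟩ := e_sub_one S
  obtain ⟨l, rfl | rfl⟩ := S.dec a ha
  · exfalso
    rw [← zpow_add, ← zpow_zero x, zeq S] at ha2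
    have h : (2 : ℤ) ^ (n + 1) ∣ l := by
      obtain ⟨q, hq⟩ := ha2
      exact ⟨-q, mul_left_cancel₀ (two_ne_zero (α := ℤ)) (by linear_combination -hq)⟩
    exact (eq_one_or_z S h).elim ha1 haz
  · have key : ∀ i : ℤ, (2 : ℤ) ^ (n + 2) ∣ i * (2 * o) → (2 : ℤ) ^ (n + 1) ∣ i := fun i hi => by
      refine dvd_of_odd_mul ho ?_
      obtain ⟨q, hq⟩ := hi
      exact ⟨q, mul_left_cancel₀ (two_ne_zero (α := ℤ)) (by linear_combination hq)⟩
    obtain ⟨i, rfl | rfl⟩ := S.dec g hg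
    · have h2 : x ^ (i + l) * t = x ^ (l + e * i) * t := by
        rw [zpow_add, zpow_add, mul_assoc, mul_assoc, hga, ← t_mul S, mul_assoc]
      obtain ⟨q, hq⟩ := refl_inj S h2
      rcases eq_one_or_z S (key i ⟨q, by linear_combination hq - i * ho'⟩) with h | h
      · exact Or.inl h
      · exact Or.inr (Or.inl h)
    · rw [mul_refl S, mul_refl S, zeq S] at hga
      obtain ⟨q, hq⟩ := hga
      have := key (i - l) ⟨q, by linear_combination hq - (i - l) * ho'⟩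
      have e1 : x ^ i * t = x ^ (i - l) * (x ^ l * t) := by
        rw [← mul_assoc, ← zpow_add, sub_add_cancel]
      rcases eq_one_or_z S this with h | h
      · right; right; left; rw [e1, h, one_mul]
      · right; right; right; rw [e1, h]

/-- An automorphism fixes no non-central involution of `T`. -/
def NF (S : Shape T x t n e) (ψ : MulAut A) : Prop :=
  ∀ a ∈ T, a * a = 1 → a ≠ 1 → a ≠ cinv x n → ψ a ≠ a

/-- Coordinates of an automorphism preserving `T`. -/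
def Coord (S : Shape T x t n e) (ψ : MulAut A) (s c : ℤ) : Prop := ψ x = x ^ s ∧ ψ t = x ^ c * t

/-- `ψ` is on `T` conjugation by a square root of the central involution. -/
def Inner (S : Shape T x t n e) (ψ : MulAut A) : Prop :=
  ∃ y ∈ T, y * y = cinv x n ∧ ∀ g ∈ T, ψ g = y * g * y⁻¹

theorem exists_coord {ψ : MulAut A} (hψ : ψ * ψ = 1) (hT : ∀ g ∈ T, ψ g ∈ T) :
    ∃ s c, Coord S ψ s c := by
  obtain ⟨s, hs⟩ : ∃ s : ℤ, ψ x = x ^ s := by
    obtain ⟨i, hi | hi⟩ := S.dec _ (hT x S.xT)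
    · exact ⟨i, hi⟩
    exfalso
    have hord : orderOf (x ^ i * t) = 2 ^ (n + 2) := by rw [← hi, MulEquiv.orderOf_eq, S.hx]
    rcases e_add_one S with h | ⟨hn, h⟩
    · have h2 : (x ^ i * t) ^ 2 = 1 := by
        rw [pow_two, mul_refl S, show i + e * i = 0 by linear_combination i * h, zpow_zero]
      have := Nat.le_of_dvd two_pos (hord ▸ orderOf_dvd_of_pow_eq_one h2)
      have h4 : 2 ^ 2 ≤ 2 ^ (n + 2) := Nat.pow_le_pow_right two_pos (by omega)
      omega
    · have h2 : (x ^ i * t) ^ 4 = 1 := by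
        rw [show 4 = 2 * 2 from rfl, pow_mul, pow_two, pow_two, mul_refl S, ← zpow_add, ← zpow_zero x,
          zeq S]
        exact ⟨-i, by linear_combination (-2 * i) * h⟩
      have := Nat.le_of_dvd (by norm_num) (hord ▸ orderOf_dvd_of_pow_eq_one h2)
      have h4 : 2 ^ 3 ≤ 2 ^ (n + 2) := Nat.pow_le_pow_right two_pos (by omega)
      omega
  obtain ⟨i, hi | hi⟩ := S.dec _ (hT t S.tT)
  · exfalso
    refine S.htx (mem_zpowers_iff.2 ⟨s * i, ?_⟩)
    have h1 : ψ (ψ t) = t := by rw [← MulAut.mul_apply, hψ, MulAut.one_apply]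
    rw [hi, map_zpow, hs, ← zpow_mul] at h1
    exact h1
  · exact ⟨s, i, hs, hi⟩

theorem coord_refl {ψ : MulAut A} {s c : ℤ} (hc : Coord S ψ s c) (l : ℤ) :
    ψ (x ^ l * t) = x ^ (s * l + c) * t := by
  rw [map_mul, map_zpow, hc.1, hc.2, ← zpow_mul, zpow_add, mul_assoc]

theorem coord_mul {ψ ψ' : MulAut A} {s c s' c' : ℤ} (h : Coord S ψ s c) (h' : Coord S ψ' s' c') :
    Coord S (ψ * ψ') (s * s') (s * c' + c) :=
  ⟨by rw [MulAut.mul_apply, h'.1, map_zpow, h.1, ← zpow_mul],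
    by rw [MulAut.mul_apply, h'.2, coord_refl S h]⟩

theorem coord_rel {ψ : MulAut A} {s c : ℤ} (hc : Coord S ψ s c) (hψ : ψ * ψ = 1) :
    (2 : ℤ) ^ (n + 2) ∣ s * s - 1 ∧ (2 : ℤ) ^ (n + 2) ∣ c * (s + 1) ∧
      (2 : ℤ) ^ (n + 2) ∣ c * (1 + e) := by
  have h1 := coord_mul S hc hc
  rw [hψ] at h1
  obtain ⟨q1, hq1⟩ := (zeq S 1 (s * s)).1 (by rw [zpow_one]; exact h1.1)
  have h2 : x ^ (0 : ℤ) * t = x ^ (s * c + c) * t := by rw [zpow_zero, one_mul]; exact h1.2
  obtain ⟨q2, hq2⟩ := refl_inj S h2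
  have h3 : x ^ (0 : ℤ) = x ^ (c + e * c) := by
    rw [zpow_zero, ← mul_refl S, ← hc.2, ← map_mul, S.ht, map_one]
  obtain ⟨q3, hq3⟩ := (zeq S _ _).1 h3
  exact ⟨⟨q1, hq1⟩, ⟨q2, by linear_combination hq2⟩, ⟨q3, by linear_combination hq3⟩⟩

theorem nf_eq {ψ : MulAut A} {s c : ℤ} (hc : Coord S ψ s c) (hnf : NF S ψ) (l : ℤ)
    (hl : (2 : ℤ) ^ (n + 2) ∣ l * (1 + e)) : ¬ (2 : ℤ) ^ (n + 2) ∣ l * (s - 1) + c := by
  intro h
  refine hnf (x ^ l * t) (mul_mem (zpow_mem S.xT _) S.tT) ?_ (by simpa using refl_ne S l 0)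
    (refl_ne S l _) ?_
  · obtain ⟨q, hq⟩ := hl
    rw [mul_refl S, ← zpow_zero x, zeq S]
    exact ⟨-q, by linear_combination -hq⟩
  · rw [coord_refl S hc, mul_left_inj, zeq S]
    obtain ⟨q, hq⟩ := h
    exact ⟨-q, by linear_combination -hq⟩

theorem inner_of_gens {ψ : MulAut A} {y : A} (hy : y ∈ T) (hy2 : y * y = cinv x n)
    (hx : ψ x = y * x * y⁻¹) (ht : ψ t = y * t * y⁻¹) : Inner S ψ := by
  refine ⟨y, hy, hy2, fun g hg => ?_⟩
  obtain ⟨i, rfl | rfl⟩ := S.dec g hg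
  · rw [map_zpow, hx, _root_.conj_zpow]
  · rw [map_mul, map_zpow, hx, ht, _root_.conj_zpow]; group

theorem one_mod {ψ : MulAut A} {s c : ℤ} (hc : Coord S ψ s c) (hψ : ψ * ψ = 1) (hnf : NF S ψ)
    (h4 : (4 : ℤ) ∣ s - 1) :
    (2 : ℤ) ^ (n + 2) ∣ c - 2 ^ (n + 1) ∧
      (Inner S ψ ∨ ((1 ≤ n ∧ e + 1 = 2 ^ (n + 1)) ∧ (2 : ℤ) ^ (n + 2) ∣ s - 1 - 2 ^ (n + 1))) := by
  obtain ⟨⟨q1, hq1⟩, ⟨q2, hq2⟩, -⟩ := coord_rel S hc hψ
  obtain ⟨u, hu⟩ := h4
  have hodd : Odd (2 * u + 1) := ⟨u, rfl⟩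
  have hH : (2 : ℤ) ^ (n + 1) ∣ c := dvd_of_odd_mul hodd
    ⟨q2, mul_left_cancel₀ (two_ne_zero (α := ℤ)) (by linear_combination hq2 - c * hu)⟩
  obtain ⟨q, rfl⟩ := hH
  have hcH : (2 : ℤ) ^ (n + 2) ∣ 2 ^ (n + 1) * q - 2 ^ (n + 1) := by
    rcases Int.even_or_odd' q with ⟨k, rfl | rfl⟩
    · exact absurd ⟨k, by ring⟩ (nf_eq S hc hnf 0 (by simp))
    · exact ⟨k, by ring⟩
  refine ⟨hcH, ?_⟩
  have hs1 : (2 : ℤ) ^ (n + 1) ∣ s - 1 := dvd_of_odd_mul hodd
    ⟨q1, mul_left_cancel₀ (two_ne_zero (α := ℤ)) (by linear_combination hq1 - (s - 1) * hu)⟩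
  obtain ⟨rr, hrr⟩ := hs1
  obtain ⟨w, hw⟩ := hcH
  rcases Int.even_or_odd' rr with ⟨k, rfl | rfl⟩
  · left
    have hx' : ψ x = x := by
      rw [hc.1]
      conv_rhs => rw [← zpow_one x]
      rw [zeq S]
      exact ⟨-k, by linear_combination -hrr⟩
    refine inner_of_gens S (y := x ^ ((2 : ℤ) ^ n)) (zpow_mem S.xT _) ?_ ?_ ?_
    · rw [← zpow_add, cinv]; congr 1; ring
    · rw [hx', ((Commute.refl x).zpow_left _).eq, mul_inv_cancel_right]
    · rw [hc.2, ← zpow_neg, mul_assoc, t_mul S, ← mul_assoc, ← zpow_add, mul_left_inj, zeq S]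
      obtain ⟨o, ⟨j, rfl⟩, ho⟩ := e_sub_one S
      exact ⟨-j - w - 1, by linear_combination (-(2 : ℤ) ^ n) * ho - hw⟩
  · right
    refine ⟨(e_add_one S).resolve_left fun he => ?_, ⟨k, by linear_combination hrr⟩⟩
    refine nf_eq S hc hnf 1 ⟨0, by linear_combination he⟩ ⟨k + w + 1, ?_⟩
    linear_combination hrr + hw

theorem three_mod {ψ : MulAut A} {s c : ℤ} (hc : Coord S ψ s c) (hψ : ψ * ψ = 1) (hnf : NF S ψ)
    (hn : 1 ≤ n) (he : e + 1 = 2 ^ (n + 1)) (h4 : (4 : ℤ) ∣ s + 1) :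
    Inner S ψ ∨ (2 : ℤ) ^ (n + 2) ∣ s + 1 := by
  obtain ⟨-, ⟨q2, hq2⟩, ⟨q3, hq3⟩⟩ := coord_rel S hc hψ
  obtain ⟨u, hu⟩ := h4
  obtain ⟨m, hm⟩ : ∃ m, n = m + 1 := ⟨n - 1, by omega⟩
  have hce : c = 2 * q3 := mul_left_cancel₀ (pow_ne_zero (n + 1) (two_ne_zero (α := ℤ)))
    (by linear_combination hq3 - c * he)
  subst hce
  rcases Int.even_or_odd' q3 with ⟨j, rfl | rfl⟩
  · exfalso
    obtain ⟨k, q, hq⟩ := exists_solve (o := 2 * u - 1) ⟨u - 1, by ring⟩ n j
    refine nf_eq S hc hnf (2 * k) ⟨k, by linear_combination (2 * k) * he⟩ ⟨q, ?_⟩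
    linear_combination (2 * k) * hu + 4 * hq
  · have hH : (2 : ℤ) ^ (n + 1) ∣ s + 1 := dvd_of_odd_mul (o := 2 * j + 1) ⟨j, rfl⟩
      ⟨q2, mul_left_cancel₀ (two_ne_zero (α := ℤ)) (by linear_combination hq2)⟩
    obtain ⟨rr, hrr⟩ := hH
    rcases Int.even_or_odd' rr with ⟨p, rfl | rfl⟩
    · exact Or.inr ⟨p, by linear_combination hrr⟩
    · left
      obtain ⟨o, ho, ho'⟩ := e_sub_one S
      obtain ⟨k, q, hq⟩ := exists_solve ho (n + 1) (2 * j + 1)
      have hk : Odd k := by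
        by_contra hk
        obtain ⟨k', rfl⟩ := Int.not_odd_iff_even.1 hk
        have : (2 : ℤ) ∣ 1 := ⟨2 ^ n * q - k' * o - j, by linear_combination hq⟩
        omega
      obtain ⟨k', hk'⟩ := hk
      refine inner_of_gens S (y := x ^ k * t) (mul_mem (zpow_mem S.xT _) S.tT) ?_ ?_ ?_
      · rw [mul_refl S, cinv, zeq S]
        exact ⟨-k', by linear_combination (-k) * he - (2 : ℤ) ^ (n + 1) * hk'⟩
      · rw [hc.1, mul_inv_rev, show x ^ k * t * x * (t⁻¹ * (x ^ k)⁻¹) = x ^ k * (t * x * t⁻¹) * (x ^ k)⁻¹ by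
          group, S.conj, ← zpow_neg, ← zpow_add, ← zpow_add, zeq S]
        exact ⟨-p, by linear_combination -hrr + he⟩
      · rw [hc.2, mul_inv_rev, show x ^ k * t * t * (t⁻¹ * (x ^ k)⁻¹) = x ^ k * (t * (x ^ k)⁻¹) by
          rw [tinv S, mul_assoc (x ^ k) t t, S.ht, mul_one], ← zpow_neg, t_mul S, ← mul_assoc, ← zpow_add, mul_left_inj, zeq S]
        exact ⟨-q, by linear_combination (-k) * ho' - 2 * hq⟩

theorem four_dvd_cases {s : ℤ} (h : (2 : ℤ) ^ (n + 2) ∣ s * s - 1) : (4 : ℤ) ∣ s - 1 ∨ (4 : ℤ) ∣ s + 1 := by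
  rcases Int.even_or_odd' s with ⟨u, rfl | rfl⟩
  · exfalso
    obtain ⟨q, hq⟩ := h
    have : (2 : ℤ) ∣ 1 := ⟨2 * u * u - 2 ^ (n + 1) * q, by linear_combination -hq⟩
    omega
  · rcases Int.even_or_odd' u with ⟨v, rfl | rfl⟩
    · exact Or.inl ⟨v, by ring⟩
    · exact Or.inr ⟨v + 1, by ring⟩

theorem inner_of_pair {ψ ψ' : MulAut A} {s c s' c' : ℤ} (h : Coord S ψ s c) (h' : Coord S ψ' s' c')
    (h2 : ψ * ψ = 1) (h2' : ψ' * ψ' = 1) (h22 : ψ * ψ' * (ψ * ψ') = 1) (hnf : NF S ψ) (hnf' : NF S ψ')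
    (hnf'' : NF S (ψ * ψ')) (h4 : (4 : ℤ) ∣ s - 1) (h4' : (4 : ℤ) ∣ s' + 1) :
    Inner S ψ ∨ Inner S ψ' ∨ Inner S (ψ * ψ') := by
  obtain ⟨-, hi | ⟨⟨hn, he⟩, hs⟩⟩ := one_mod S h h2 hnf h4
  · exact Or.inl hi
  rcases three_mod S h' h2' hnf' hn he h4' with hi | hs'
  · exact Or.inr (Or.inl hi)
  have h4'' : (4 : ℤ) ∣ s * s' + 1 := by
    obtain ⟨a, ha⟩ := h4
    obtain ⟨b, hb⟩ := h4'
    exact ⟨a * s' + b, by linear_combination s' * ha + hb⟩
  rcases three_mod S (coord_mul S h h') h22 hnf'' hn he h4'' with hi | hs''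
  · exact Or.inr (Or.inr hi)
  exfalso
  obtain ⟨a, ha⟩ := hs
  obtain ⟨b, hb⟩ := hs'
  obtain ⟨d, hd⟩ := hs''
  have h0 : (2 : ℤ) ^ (n + 1) * (2 * (d - a * s' - b) - s') = 0 := by
    linear_combination s' * ha + hb - hd
  rcases mul_eq_zero.1 h0 with h | h
  · exact absurd h (pow_ne_zero _ two_ne_zero)
  · obtain ⟨v, hv⟩ := h4'
    omega

/-- One of the three involutions of a four-group is inner on `T` by a root of `z`. -/
theorem exists_inner {ψ ψ' : MulAut A} (h2 : ψ * ψ = 1) (h2' : ψ' * ψ' = 1) (hcomm : ψ * ψ' = ψ' * ψ)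
    (hT : ∀ g ∈ T, ψ g ∈ T) (hT' : ∀ g ∈ T, ψ' g ∈ T) (hnf : NF S ψ) (hnf' : NF S ψ')
    (hnf'' : NF S (ψ * ψ')) : Inner S ψ ∨ Inner S ψ' ∨ Inner S (ψ * ψ') := by
  obtain ⟨s, c, h⟩ := exists_coord S h2 hT
  obtain ⟨s', c', h'⟩ := exists_coord S h2' hT'
  have h22 : ψ * ψ' * (ψ * ψ') = 1 := by
    rw [show ψ * ψ' * (ψ * ψ') = ψ * (ψ' * ψ) * ψ' by simp only [mul_assoc], ← hcomm, ← mul_assoc, h2,
      one_mul, h2']
  rcases four_dvd_cases S (coord_rel S h h2).1 with h4 | h4 <;>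
    rcases four_dvd_cases S (coord_rel S h' h2').1 with h4' | h4'
  · exfalso
    obtain ⟨⟨a, ha⟩, -⟩ := one_mod S h h2 hnf h4
    obtain ⟨⟨b, hb⟩, -⟩ := one_mod S h' h2' hnf' h4'
    obtain ⟨u, hu⟩ := h4
    refine nf_eq S (coord_mul S h h') hnf'' 0 (by simp) ⟨s * b + a + 2 * u + 1, ?_⟩
    linear_combination s * hb + ha + (2 : ℤ) ^ (n + 1) * hu
  · exact inner_of_pair S h h' h2 h2' h22 hnf hnf' hnf'' h4 h4'
  · have := inner_of_pair S h' h h2' h2 (by rw [← hcomm]; exact h22) hnf' hnf (hcomm ▸ hnf'') h4' h4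
    rw [← hcomm] at this
    rcases this with h | h | h
    · exact Or.inr (Or.inl h)
    · exact Or.inl h
    · exact Or.inr (Or.inr h)
  · have h4'' : (4 : ℤ) ∣ s * s' - 1 := by
      obtain ⟨a, ha⟩ := h4
      obtain ⟨b, hb⟩ := h4'
      exact ⟨a * s' - b, by linear_combination s' * ha - hb⟩
    have e1 : ψ * ψ' * ψ = ψ' := by rw [mul_assoc, ← hcomm, ← mul_assoc, h2, one_mul]
    have := inner_of_pair S (coord_mul S h h') h h22 h2 (by rw [e1, h2']) hnf'' hnf (e1.symm ▸ hnf') h4'' h4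
    rw [e1] at this
    rcases this with h | h | h
    · exact Or.inr (Or.inr h)
    · exact Or.inl h
    · exact Or.inr (Or.inl h)

end Shape

variable {A : Type*} [Group A] [Finite A]

open scoped IsMulCommutative in
/-- If an automorphism of order at most two is on a dihedral or semidihedral Sylow subgroup the
conjugation by a root of the central involution, then there is a subgroup of index two. -/
theorem inner_false (P : Sylow 2 A) {x t : A} {n : ℕ} {e : ℤ} (S : Shape (P : Subgroup A) x t n e)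
    (hperf : ∀ M : Subgroup A, M.Normal → M.index ≠ 2) {ψ : MulAut A} (hψ : ψ * ψ = 1)
    (hin : Inner S ψ) : False := by
  classical
  set z := cinv x n with hz
  have hzsq : z * z = 1 := z_sq S
  have hzne : z ≠ 1 := z_ne S
  have hznt : z ≠ t := z_ne_t S
  have hzm : z ∈ (P : Subgroup A) := z_mem S
  have hzc : ∀ g ∈ (P : Subgroup A), g * z = z * g := fun g hg => z_comm S hg
  have hzinv : z⁻¹ = z := inv_eq_of_mul_eq_one_right hzsq
  have ht1 : t ≠ 1 := fun h => S.htx (h ▸ one_mem _)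
  -- fusion of `t` to `z`
  have hrel : (zpowers x).relIndex (P : Subgroup A) = 2 := by
    rw [relIndex, index_eq_two_iff]
    refine ⟨⟨t, S.tT⟩, fun b => ?_⟩
    rw [xor_iff_not_iff, mem_subgroupOf, mem_subgroupOf, Subgroup.coe_mul]
    obtain ⟨i, hi | hi⟩ := S.dec b b.2 <;> simp only [hi]
    · intro h
      exact S.htx (by simpa using mul_mem (inv_mem (zpow_mem (mem_zpowers x) i)) (h.2 (zpow_mem (mem_zpowers x) i)))
    · intro h
      have h1 : x ^ i * t * t ∈ zpowers x := by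
        rw [mul_assoc, S.ht, mul_one]; exact zpow_mem (mem_zpowers x) i
      exact S.htx (by simpa using mul_mem (inv_mem (zpow_mem (mem_zpowers x) i)) (h.1 h1))
  obtain ⟨g₁, hg₁⟩ : ∃ g : A, g * t * g⁻¹ ∈ zpowers x := by
    by_contra hno
    push Not at hno
    obtain ⟨M, hM, hMi, -⟩ := CfsgLib.Transfer.exists_index_two_of_not_conj_mem P
      (zpowers_le.2 S.xT) hrel (orderOf_eq_prime (by rw [sq]; exact S.ht) ht1) hno
    exact hperf M hM hMi
  have hg₁z : g₁ * t * g₁⁻¹ = z := by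
    obtain ⟨i, hi⟩ := mem_zpowers_iff.1 hg₁
    have h2 : x ^ i * x ^ i = 1 := by
      rw [hi, show g₁ * t * g₁⁻¹ * (g₁ * t * g₁⁻¹) = g₁ * (t * t) * g₁⁻¹ by group, S.ht, mul_one,
        mul_inv_cancel]
    rw [← zpow_add, ← zpow_zero x, zeq S] at h2
    obtain ⟨q, hq⟩ := h2
    rcases eq_one_or_z S (i := i) ⟨-q, mul_left_cancel₀ (two_ne_zero (α := ℤ)) (by linear_combination -hq)⟩
      with h | h
    · exfalso
      refine ht1 ?_
      have h3 : g₁ * t * g₁⁻¹ = 1 := hi ▸ h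
      rwa [mul_inv_eq_one, mul_eq_left] at h3
    · rw [← hi, h]
  -- a conjugating element sending a Sylow subgroup through `z` and `t`
  obtain ⟨g, hgz, hzg⟩ : ∃ g : A, g * z * g⁻¹ = t ∧ g⁻¹ * z * g ∈ (P : Subgroup A) := by
    let C := centralizer ({t} : Set A)
    have hg0 : g₁⁻¹ * z * g₁ = t := by rw [← hg₁z]; group
    have hle : ((g₁⁻¹ • P : Sylow 2 A) : Subgroup A) ≤ C := by
      intro a ha
      rw [Sylow.coe_subgroup_smul, mem_pointwise_smul_iff_inv_smul_mem] at ha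
      have h1 := hzc _ ha
      rw [MulAut.smul_def, ← map_inv, inv_inv, MulAut.conj_apply] at h1
      refine mem_centralizer_singleton_iff.2 ?_
      calc a * t = g₁⁻¹ * (g₁ * a * g₁⁻¹ * z) * g₁ := by rw [← hg0]; group
        _ = g₁⁻¹ * (z * (g₁ * a * g₁⁻¹)) * g₁ := by rw [h1]
        _ = t * a := by rw [← hg0]; group
    have hzC : z ∈ C := mem_centralizer_singleton_iff.2 (hzc t S.tT).symm
    have hz2 : (⟨z, hzC⟩ : C) ^ 2 = 1 := Subtype.ext (by rw [sq]; exact hzsq)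
    obtain ⟨R, hR⟩ := (show IsPGroup 2 (zpowers (⟨z, hzC⟩ : C)) from fun y => ⟨1, Subtype.ext (by
      obtain ⟨k, hk⟩ := mem_zpowers_iff.1 y.2
      rw [pow_one, SubgroupClass.coe_pow, ← hk, ← zpow_natCast, ← zpow_mul, mul_comm, zpow_mul,
        zpow_natCast, hz2, one_zpow, OneMemClass.coe_one])⟩).exists_le_sylow
    obtain ⟨h, hh⟩ := MulAction.exists_smul_eq C ((g₁⁻¹ • P).subtype hle) R
    refine ⟨(h : A) * g₁⁻¹, ?_, ?_⟩
    · rw [show (h : A) * g₁⁻¹ * z * ((h : A) * g₁⁻¹)⁻¹ = (h : A) * (g₁⁻¹ * z * g₁) * (h : A)⁻¹ by group,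
        hg0, mem_centralizer_singleton_iff.1 h.2, mul_inv_cancel_right]
    · have h1 := hR (mem_zpowers _)
      rw [← hh, Sylow.coe_subgroup_smul, mem_pointwise_smul_iff_inv_smul_mem, Sylow.coe_subtype,
        mem_subgroupOf, Sylow.coe_subgroup_smul, mem_pointwise_smul_iff_inv_smul_mem] at h1
      simpa [MulAut.smul_def, mul_assoc] using h1
  -- the centraliser of `⟨z, t⟩`
  let K := centralizer ({z, t} : Set A)
  have hKz : ∀ k ∈ K, k * z = z * k := fun k hk => (mem_centralizer_iff.1 hk z (Set.mem_insert _ _)).symm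
  have hKt : ∀ k ∈ K, k * t = t * k := fun k hk =>
    (mem_centralizer_iff.1 hk t (Set.mem_insert_of_mem _ rfl)).symm
  have hzK : z ∈ K := mem_centralizer_iff.2 (by
    rintro w (rfl | rfl)
    · rfl
    · exact hzc _ S.tT)
  have htK : t ∈ K := mem_centralizer_iff.2 (by
    rintro w (rfl | rfl)
    · exact (hzc t S.tT).symm
    · rfl)
  let E : Subgroup K := Subgroup.closure {⟨z, hzK⟩, ⟨t, htK⟩}
  have hEc : E ≤ center K := by
    rw [closure_le]
    rintro w (rfl | rfl) <;> refine mem_center_iff.2 fun k => Subtype.ext ?_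
    · exact hKz k k.2
    · exact hKt k k.2
  haveI : IsMulCommutative E := ⟨⟨fun a b => Subtype.ext (mem_center_iff.1 (hEc b.2) a)⟩⟩
  have hE2 : ∀ w ∈ E, w * w = 1 := by
    intro w hw
    induction hw using Subgroup.closure_induction with
    | mem w hw =>
      rcases hw with rfl | rfl
      · exact Subtype.ext hzsq
      · exact Subtype.ext S.ht
    | one => exact one_mul 1
    | mul a b ha hb iha ihb =>
      rw [mul_assoc, ← mul_assoc b, mem_center_iff.1 (hEc ha) b, mul_assoc a b, ihb, mul_one, iha]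
    | inv a ha iha => rw [← mul_inv_rev, iha, inv_one]
  have hEp : IsPGroup 2 E := fun w => ⟨1, Subtype.ext (by rw [pow_one, pow_two]; exact hE2 w w.2)⟩
  -- its Sylow subgroup has order four
  have hindex : ¬ 2 ∣ E.index := by
    obtain ⟨R, hR⟩ := hEp.exists_le_sylow
    obtain ⟨P', hP'⟩ := (R.2.map K.subtype).exists_le_sylow
    obtain ⟨h, hh⟩ := MulAction.exists_smul_eq A P P'
    have hmem : ∀ r ∈ (R : Subgroup K), h⁻¹ * (r : A) * h ∈ (P : Subgroup A) := by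
      intro r hr
      have h1 := hP' (mem_map_of_mem K.subtype hr)
      rw [← hh, Sylow.coe_subgroup_smul, mem_pointwise_smul_iff_inv_smul_mem] at h1
      simpa [MulAut.smul_def, mul_assoc] using h1
    have hzR : (⟨z, hzK⟩ : K) ∈ (R : Subgroup K) := hR (subset_closure (Or.inl rfl))
    have htR : (⟨t, htK⟩ : K) ∈ (R : Subgroup K) := hR (subset_closure (Or.inr rfl))
    obtain ⟨a, haE, haR, ha2, ha1, haz⟩ : ∃ a ∈ E, a ∈ (R : Subgroup K) ∧ (a : A) * a = 1 ∧ (a : A) ≠ 1 ∧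
        h⁻¹ * (a : A) * h ≠ z := by
      by_cases hc : h⁻¹ * z * h = z
      · refine ⟨_, subset_closure (Or.inr rfl), htR, S.ht, ht1, fun h' => hznt ?_⟩
        have := h'.trans hc.symm
        exact (mul_left_cancel (mul_right_cancel this)).symm
      · exact ⟨_, subset_closure (Or.inl rfl), hzR, hzsq, hzne, hc⟩
    set a' := h⁻¹ * (a : A) * h with ha'
    have hsub : Nat.card (R : Subgroup K) ≤ 4 := by
      let f : ↥(R : Subgroup K) → ↥({1, z, a', z * a'} : Finset A) := fun r => ⟨h⁻¹ * (r.1 : A) * h, by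
        have hcom : h⁻¹ * (r.1 : A) * h * a' = a' * (h⁻¹ * (r.1 : A) * h) := by
          have h1 : ((r.1 : K) : A) * a = a * r.1 :=
            congrArg Subtype.val (mem_center_iff.1 (hEc haE) r.1)
          rw [ha', show h⁻¹ * (r.1 : A) * h * (h⁻¹ * a * h) = h⁻¹ * ((r.1 : A) * a) * h by group, h1]
          group
        rcases centralizer_inv S (hmem a haR) (by
            rw [show a' * a' = h⁻¹ * ((a : A) * a) * h by rw [ha']; group, ha2, mul_one, inv_mul_cancel])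
            (fun h' => ha1 (by
              have := congrArg (fun w => h * w * h⁻¹) h'
              simpa [ha', mul_assoc] using this)) haz (hmem r r.2) hcom
          with e | e | e | e <;> simp [e, hz, ha']⟩
      have hf : Function.Injective f := fun r r' e => Subtype.ext <| Subtype.ext <|
        mul_left_cancel (mul_right_cancel (congrArg Subtype.val e))
      refine (Nat.card_le_card_of_injective f hf).trans ?_
      rw [Nat.card_eq_fintype_card, Fintype.card_coe]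
      exact Finset.card_le_four
    have h4 : 4 ≤ Nat.card E := by
      let g4 : Fin 4 → E := ![1, ⟨⟨z, hzK⟩, subset_closure (Or.inl rfl)⟩,
        ⟨⟨t, htK⟩, subset_closure (Or.inr rfl)⟩,
        ⟨⟨z, hzK⟩ * ⟨t, htK⟩, mul_mem (subset_closure (Or.inl rfl)) (subset_closure (Or.inr rfl))⟩]
      have hg4 : Function.Injective fun i => ((g4 i : K) : A) := by
        have e1 : z * t ≠ 1 := fun h => hznt (by
          rw [← mul_one z, ← S.ht, ← mul_assoc, h, one_mul])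
        intro i j hij
        fin_cases i <;> fin_cases j <;>
          simp_all [g4, hzne, hzne.symm, hznt, hznt.symm, e1.symm]
      calc 4 = Nat.card (Fin 4) := (Nat.card_fin 4).symm
        _ ≤ Nat.card E := Nat.card_le_card_of_injective g4 (Function.Injective.of_comp (f := fun w : E => ((w : K) : A)) hg4)
    rw [eq_of_le_of_card_ge hR (hsub.trans h4)]
    exact R.not_dvd_index
  -- the element `k` with `k * β k = t * z`
  obtain ⟨y, hy, hy2', hψy⟩ := hin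
  have hy2 : y * y = z := hy2'
  clear hy2'
  let β : MulAut A := MulAut.conj y⁻¹ * ψ
  have hβ : ∀ a, β a = y⁻¹ * ψ a * y := fun a => by simp [β]
  have hβT : ∀ a ∈ (P : Subgroup A), β a = a := fun a ha => by rw [hβ, hψy a ha]; group
  have hψy' : ψ y = y := by rw [hψy y hy, mul_inv_cancel_right]
  have hβ2 : ∀ a, β (β a) = z * a * z⁻¹ := fun a => by
    rw [hβ, hβ, map_mul, map_mul, map_inv, hψy', ← MulAut.mul_apply, hψ, MulAut.one_apply,
      hzinv]
    have hy2' : y⁻¹ * y⁻¹ = z := by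
      rw [← mul_inv_rev, hy2, hzinv]
    calc y⁻¹ * (y⁻¹ * a * y) * y = (y⁻¹ * y⁻¹) * a * (y * y) := by group
      _ = z * a * z := by rw [hy2', hy2]
  set k := g * (β g)⁻¹ with hk
  have hkK : k ∈ K := by
    have key : ∀ w : A, w ∈ (P : Subgroup A) → g⁻¹ * w * g ∈ (P : Subgroup A) → w * k = k * w := by
      intro w hw hwg
      have h1 := hβT _ hwg
      rw [map_mul, map_mul, map_inv, hβT w hw] at h1
      calc w * k = g * (g⁻¹ * w * g) * (β g)⁻¹ := by rw [hk]; group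
        _ = g * ((β g)⁻¹ * w * β g) * (β g)⁻¹ := by rw [h1]
        _ = k * w := by rw [hk]; group
    refine mem_centralizer_iff.2 ?_
    rintro w (rfl | rfl)
    · exact key _ hzm hzg
    · exact key _ S.tT (by rw [← hgz]; simpa [mul_assoc] using hzm)
  have hβK : ∀ w ∈ K, β w ∈ K := fun w hw => mem_centralizer_iff.2 (by
    rintro v (rfl | rfl)
    · rw [← hβT _ hzm, ← map_mul, ← map_mul, hKz w hw]
    · rw [← hβT _ S.tT, ← map_mul, ← map_mul, hKt w hw])
  have hprod : k * β k = t * z := by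
    rw [hk, map_mul, map_inv, hβ2]
    rw [← hgz, hzinv]
    rw [mul_inv_rev, mul_inv_rev, hzinv]
    group
  -- transfer into `E`
  set m := E.index with hm
  have hkey : ∀ (w : K) (i : ℕ) (g₀ : K), g₀⁻¹ * w ^ i * g₀ ∈ E → g₀⁻¹ * w ^ i * g₀ = w ^ i := by
    intro w i g₀ hmem
    have h1 := mem_center_iff.1 (hEc hmem) g₀
    refine mul_right_cancel (b := g₀) ?_
    rw [← h1]
    group
  let τ := MonoidHom.transfer (MonoidHom.id E)
  have hτ : ∀ w : K, ((τ w : E) : K) = w ^ m := fun w => by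
    rw [show τ w = _ from MonoidHom.transfer_eq_pow _ w (hkey w)]; rfl
  have hpow : ∀ w : K, w ^ m ∈ E := fun w => hτ w ▸ (τ w).2
  have hmul : ∀ v w : K, (v * w) ^ m = v ^ m * w ^ m := fun v w => by
    rw [← hτ, ← hτ, ← hτ, map_mul]; rfl
  have hfix : ∀ w ∈ E, β ((w : K) : A) = ((w : K) : A) := by
    intro w hw
    induction hw using Subgroup.closure_induction with
    | mem w hw =>
      rcases hw with rfl | rfl
      · exact hβT _ hzm
      · exact hβT _ S.tT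
    | one => exact map_one β
    | mul a b _ _ iha ihb => rw [Subgroup.coe_mul, map_mul, iha, ihb]
    | inv a _ iha => rw [Subgroup.coe_inv, map_inv, iha]
  have h1 : (t * z) ^ m = 1 := by
    have h2 := congrArg (fun w : K => (w : A)) (hmul ⟨k, hkK⟩ ⟨β k, hβK k hkK⟩)
    simp only [SubgroupClass.coe_pow, Subgroup.coe_mul] at h2
    rw [← hprod, h2, ← map_pow]
    have h3 := hfix _ (hpow ⟨k, hkK⟩)
    have h4 := congrArg (fun w : K => (w : A)) (hE2 _ (hpow ⟨k, hkK⟩))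
    simp only [SubgroupClass.coe_pow, Subgroup.coe_mul, OneMemClass.coe_one] at h3 h4
    rw [h3, h4]
  have h2 : (t * z) ^ 2 = 1 := by
    rw [(show Commute t z from hzc t S.tT).mul_pow, sq, sq, S.ht, hzsq, one_mul]
  have hodd : Odd m := Nat.not_even_iff_odd.1 fun he => hindex (even_iff_two_dvd.1 he)
  obtain ⟨j, hj⟩ := hodd
  rw [hj, pow_succ, pow_mul, h2, one_pow, one_mul] at h1
  exact hznt (by rw [← one_mul z, ← S.ht, mul_assoc, h1, mul_one])

end CfsgLib.FourGamma
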