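import Mathlib

/-!
# A finite semifield of characteristic two with both inverse properties is a field
-/

set_option autoImplicit false
set_option linter.unusedSectionVars false

namespace CfsgLib.InvSemifield

/-- A semifield structure with both inverse properties, in characteristic two. -/
structure Data (D : Type*) [AddCommGroup D] where
  mul : D →+ D →+ D
  one : D
  one_ne : one ≠ 0
  one_mul : ∀ x, mul one x = x
  mul_one : ∀ x, mul x one = x
  two : ∀ x : D, x + x = 0
  rip : ∀ y, y ≠ 0 → ∃ y', ∀ x, mul (mul x y) y' = x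
  lip : ∀ y, y ≠ 0 → ∃ y', ∀ x, mul y' (mul y x) = x

variable {D : Type*} [AddCommGroup D] [Finite D] (S : Data D)

local notation:70 x:70 " ⋄ " y:71 => S.mul x y

/-- The opposite semifield. -/
def Data.op : Data D where
  mul := AddMonoidHom.flip S.mul
  one := S.one
  one_ne := S.one_ne
  one_mul := S.mul_one
  mul_one := S.one_mul
  two := S.two
  rip := S.lip
  lip := S.rip

omit [Finite D] in
theorem Data.op_mul (x y : D) : S.op.mul x y = y ⋄ x := rfl

include S in
theorem neg_eq (x : D) : -x = x := neg_eq_of_add_eq_zero_left (S.two x)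

include S in
theorem sub_eq (x y : D) : x - y = x + y := by rw [sub_eq_add_neg, neg_eq S]

include S in
theorem eq_of_add_eq_zero {x y : D} (h : x + y = 0) : x = y := by
  rwa [← neg_eq S y, ← add_eq_zero_iff_eq_neg]

theorem mul_ne_zero {x y : D} (hx : x ≠ 0) (hy : y ≠ 0) : x ⋄ y ≠ 0 := by
  intro h
  obtain ⟨y', hy'⟩ := S.rip y hy
  have := hy' x
  rw [h, map_zero, AddMonoidHom.zero_apply] at this
  exact hx this.symm

/-- Right multiplication. -/
def rmul (y : D) : AddMonoid.End D := S.mul.flip y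

theorem rmul_apply (x y : D) : rmul S y x = x ⋄ y := rfl

theorem rmul_one : rmul S S.one = 1 := AddMonoidHom.ext S.mul_one

theorem rmul_add (y z : D) : rmul S (y + z) = rmul S y + rmul S z := map_add _ _ _

theorem rmul_sub (y z : D) : rmul S (y - z) = rmul S y - rmul S z := map_sub _ _ _

theorem rmul_zero : rmul S 0 = 0 := map_zero _

theorem rmul_injective : Function.Injective (rmul S) := fun y z h => by
  have := DFunLike.congr_fun h S.one
  rwa [rmul_apply, rmul_apply, S.one_mul, S.one_mul] at this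

theorem exists_inverse {y : D} (hy : y ≠ 0) :
    ∃ y', rmul S y' * rmul S y = 1 ∧ rmul S y * rmul S y' = 1 := by
  obtain ⟨y', h⟩ := S.rip y hy
  refine ⟨y', AddMonoidHom.ext h, ?_⟩
  have hinj : Function.Injective (rmul S y) := fun a b hab => by
    rw [← h a, ← h b]; exact congrArg (fun w => w ⋄ y') hab
  have hbij := Finite.injective_iff_surjective.1 hinj
  refine DFunLike.ext _ _ fun x => ?_
  obtain ⟨w, rfl⟩ := hbij x
  exact congrArg (rmul S y) (h w)

/-- Hua: `R_a R_b R_a` is a right multiplication. -/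
theorem exists_rmul_uu (a b : D) : ∃ c, rmul S c = rmul S a * rmul S b * rmul S a := by
  by_cases ha : a = 0
  · exact ⟨0, by simp [ha, rmul_zero]⟩
  by_cases hb : b = 0
  · exact ⟨0, by simp [hb, rmul_zero]⟩
  obtain ⟨a', ha1, ha2⟩ := exists_inverse S ha
  obtain ⟨b', hb1, hb2⟩ := exists_inverse S hb
  set A := rmul S a
  set B := rmul S b
  by_cases hx : b' - a = 0
  · refine ⟨a, ?_⟩
    have hA : A = rmul S b' := congrArg (rmul S) (sub_eq_zero.1 hx).symm
    show A = A * B * A
    rw [show A * B = 1 from hA ▸ hb1, one_mul]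
  obtain ⟨x', hx1, hx2⟩ := exists_inverse S hx
  set X := rmul S (b' - a) with hX
  have hXe : X = rmul S b' - A := rmul_sub S _ _
  -- the sum of the inverses of `a` and `b⁻¹ - a`
  have e : rmul S (a' + x') * ((rmul S b' - A) * B * A) = 1 := by
    rw [rmul_add, ← hXe, add_mul]
    calc rmul S a' * (X * B * A) + rmul S x' * (X * B * A)
        = rmul S a' * (X * B * A) + (rmul S x' * X) * (B * A) := by noncomm_ring
      _ = rmul S a' * (1 - A * B) * A + B * A := by
        rw [hx1, one_mul, hXe, sub_mul (rmul S b') A B, hb1]; noncomm_ring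
      _ = rmul S a' * A - (rmul S a' * A) * B * A + B * A := by noncomm_ring
      _ = 1 := by rw [ha1, one_mul]; abel
  have hne : a' + x' ≠ 0 := fun h => by
    rw [h, rmul_zero, zero_mul] at e
    have := DFunLike.congr_fun e S.one
    exact S.one_ne this.symm
  obtain ⟨s, hs1, hs2⟩ := exists_inverse S hne
  have hs : rmul S s = X * B * A := by
    rw [hXe, ← one_mul ((rmul S b' - A) * B * A), ← hs1, mul_assoc (rmul S s), e, mul_one]
  refine ⟨a - s, ?_⟩
  rw [rmul_sub, hs, hXe, sub_mul (rmul S b') A B, hb1, sub_mul, one_mul, sub_sub_cancel]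

/-- Powers. -/
def pw (g : D) (n : ℕ) : D := (rmul S g ^ n) S.one

theorem pw_zero (g : D) : pw S g 0 = S.one := rfl

theorem pw_one (g : D) : pw S g 1 = g := by
  show (rmul S g ^ 1) S.one = g
  rw [pow_one, rmul_apply, S.one_mul]

theorem rmul_pw (g : D) : ∀ n, rmul S (pw S g n) = rmul S g ^ n
  | 0 => by rw [pw_zero, rmul_one, pow_zero]
  | 1 => by rw [pw_one, pow_one]
  | n + 2 => by
    obtain ⟨c, hc⟩ := exists_rmul_uu S g (pw S g n)
    rw [rmul_pw g n, ← pow_succ', ← pow_succ] at hc
    have : pw S g (n + 2) = c := by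
      show (rmul S g ^ (n + 2)) S.one = c
      rw [← hc, rmul_apply, S.one_mul]
    rw [this, hc]

theorem pw_add (g : D) (m n : ℕ) : pw S g m ⋄ pw S g n = pw S g (m + n) := by
  rw [← rmul_apply, rmul_pw]
  show (rmul S g ^ n) ((rmul S g ^ m) S.one) = (rmul S g ^ (m + n)) S.one
  rw [add_comm m n, pow_add]; rfl

theorem pw_succ (g : D) (n : ℕ) : pw S g (n + 1) = pw S g n ⋄ g := by
  have h1 := pw_add S g n 1
  rw [pw_one] at h1
  exact h1.symm

theorem op_pw (g : D) : ∀ n, pw S.op g n = pw S g n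
  | 0 => rfl
  | n + 1 => by
    rw [pw_succ, op_pw g n, S.op_mul]
    have h1 := pw_add S g 1 n
    rw [pw_one, add_comm] at h1
    exact h1

/-- The associator. -/
def asc (x y z : D) : D := (x ⋄ y) ⋄ z + x ⋄ (y ⋄ z)

theorem asc_eq_zero_iff {x y z : D} : asc S x y z = 0 ↔ (x ⋄ y) ⋄ z = x ⋄ (y ⋄ z) :=
  ⟨eq_of_add_eq_zero S, fun h => by rw [asc, h, S.two]⟩

theorem asc_pw_right (x g : D) (m n : ℕ) : asc S x (pw S g m) (pw S g n) = 0 := by
  rw [asc_eq_zero_iff, pw_add, ← rmul_apply, ← rmul_apply, ← rmul_apply, rmul_pw, rmul_pw, rmul_pw,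
    add_comm, pow_add]
  rfl

theorem right_alt (x y : D) : asc S x y y = 0 := by
  have := asc_pw_right S x y 1 1
  rwa [pw_one] at this

theorem left_alt (x y : D) : asc S x x y = 0 := by
  have := right_alt S.op y x
  rw [asc, S.op_mul, S.op_mul, S.op_mul, S.op_mul, add_comm] at this
  exact this

theorem asc_add_left (x x' y z : D) : asc S (x + x') y z = asc S x y z + asc S x' y z := by
  simp only [asc, map_add, AddMonoidHom.add_apply]; abel

theorem asc_add_mid (x y y' z : D) : asc S x (y + y') z = asc S x y z + asc S x y' z := by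
  simp only [asc, map_add, AddMonoidHom.add_apply]; abel

theorem asc_add_right (x y z z' : D) : asc S x y (z + z') = asc S x y z + asc S x y z' := by
  simp only [asc, map_add, AddMonoidHom.add_apply]; abel

theorem swap_right (x y z : D) : asc S x y z = asc S x z y := by
  have h := right_alt S x (y + z)
  rw [asc_add_mid, asc_add_right, asc_add_right, right_alt, right_alt, zero_add, add_zero] at h
  exact eq_of_add_eq_zero S h

theorem swap_left (x y z : D) : asc S x y z = asc S y x z := by
  have h := left_alt S (x + y) z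
  rw [asc_add_left, asc_add_mid, asc_add_mid, left_alt, left_alt, zero_add, add_zero] at h
  exact eq_of_add_eq_zero S h

theorem teichmuller (w x y z : D) :
    asc S (w ⋄ x) y z + asc S w (x ⋄ y) z + asc S w x (y ⋄ z) =
      w ⋄ asc S x y z + asc S w x y ⋄ z := by
  simp only [asc, map_add, AddMonoidHom.add_apply]
  have key : ∀ a b c d e : D, (a + b) + (c + d) + (b + e) = (d + e) + (a + c) := fun a b c d e => by
    calc (a + b) + (c + d) + (b + e) = (d + e) + (a + c) + (b + b) := by abel
      _ = _ := by rw [S.two, add_zero]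
  exact key _ _ _ _ _

/-- Commuting elements have commuting right multiplications. -/
theorem rmul_comm {y z : D} (h : y ⋄ z = z ⋄ y) (x : D) : (x ⋄ y) ⋄ z = (x ⋄ z) ⋄ y := by
  have h1 := swap_right S x y z
  rw [asc, asc, h] at h1
  exact add_right_cancel h1

theorem orderOf_rmul_odd {A : AddMonoid.End D} (hA : IsUnit A)
    (hR : ∀ n : ℕ, ∃ c, rmul S c = A ^ n) : Odd (orderOf A) := by
  by_contra hodd
  obtain ⟨m, hm⟩ := Nat.not_odd_iff_even.1 hodd
  have hfin : IsOfFinOrder A := by
    haveI : Finite (AddMonoid.End D) := Finite.of_injective (fun f => (f : D → D)) DFunLike.coe_injective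
    obtain ⟨u, rfl⟩ := hA
    exact (Units.coeHom _).isOfFinOrder (isOfFinOrder_of_finite u)
  have hpos := hfin.orderOf_pos
  obtain ⟨c, hc⟩ := hR m
  have h1 : A ^ m = 1 := by
    have hd : rmul S (c + S.one) = A ^ m + 1 := by rw [rmul_add, hc, rmul_one]
    have h2 : (A ^ m + 1) * (A ^ m + 1) = 0 := by
      have h4 : A ^ m * A ^ m = 1 := by rw [← pow_add, ← hm, pow_orderOf_eq_one]
      rw [add_mul, mul_add, mul_add, h4, one_mul, mul_one, one_mul]
      refine DFunLike.ext _ _ fun x => ?_
      show x + (A ^ m) x + ((A ^ m) x + x) = 0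
      calc x + (A ^ m) x + ((A ^ m) x + x) = (x + x) + ((A ^ m) x + (A ^ m) x) := by abel
        _ = 0 := by rw [S.two, S.two, add_zero]
    by_cases hc1 : c + S.one = 0
    · rw [eq_of_add_eq_zero S hc1] at hc; rw [← hc, rmul_one]
    · obtain ⟨d, hd1, -⟩ := exists_inverse S hc1
      exfalso
      refine hc1 (rmul_injective S ?_)
      calc rmul S (c + S.one) = (rmul S d * rmul S (c + S.one)) * rmul S (c + S.one) := by
            rw [hd1, one_mul]
        _ = rmul S 0 := by rw [mul_assoc, hd, h2, mul_zero, rmul_zero]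
  have := Nat.le_of_dvd (by omega) (orderOf_dvd_of_pow_eq_one h1)
  omega

/-- The elements whose right multiplication lies in a commutative subring of right
multiplications. -/
structure Sub where
  T : Subring (AddMonoid.End D)
  comm : ∀ a ∈ T, ∀ b ∈ T, a * b = b * a
  range : ∀ a ∈ T, ∃ c, rmul S c = a

namespace Sub

variable {S}

def Mem (K : Sub S) (k : D) : Prop := rmul S k ∈ K.T

theorem rmul_mul (K : Sub S) {a b : D} (ha : K.Mem a) (hb : K.Mem b) :
    rmul S (a ⋄ b) = rmul S b * rmul S a := by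
  obtain ⟨c, hc⟩ := K.range _ (mul_mem hb ha)
  have h1 := DFunLike.congr_fun hc S.one
  rw [rmul_apply, S.one_mul] at h1
  rw [← hc, h1]
  show rmul S (a ⋄ b) = rmul S (rmul S b (rmul S a S.one))
  rw [rmul_apply, rmul_apply, S.one_mul]

theorem mem_mul (K : Sub S) {a b : D} (ha : K.Mem a) (hb : K.Mem b) : K.Mem (a ⋄ b) := by
  show rmul S (a ⋄ b) ∈ K.T
  rw [K.rmul_mul ha hb]; exact mul_mem hb ha

theorem mem_add (K : Sub S) {a b : D} (ha : K.Mem a) (hb : K.Mem b) : K.Mem (a + b) := by
  show rmul S (a + b) ∈ K.T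
  rw [rmul_add]; exact add_mem ha hb

theorem mem_zero (K : Sub S) : K.Mem 0 := by
  show rmul S 0 ∈ K.T
  rw [rmul_zero]; exact zero_mem _

theorem mem_one (K : Sub S) : K.Mem S.one := by
  show rmul S S.one ∈ K.T
  rw [rmul_one]; exact one_mem _

end Sub

/-- A maximal such subring contains every element commuting with it. -/
theorem exists_maximal : ∃ K : Sub S, ∀ v, (∀ k, K.Mem k → v ⋄ k = k ⋄ v) → K.Mem v := by
  classical
  haveI : Finite (AddMonoid.End D) := Finite.of_injective (fun f => (f : D → D)) DFunLike.coe_injective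
  let P : Set (Subring (AddMonoid.End D)) :=
    {T | (∀ a ∈ T, ∀ b ∈ T, a * b = b * a) ∧ ∀ a ∈ T, ∃ c, rmul S c = a}
  haveI : Finite (Subring (AddMonoid.End D)) := Finite.of_injective _ SetLike.coe_injective
  have hne : P.Nonempty := by
    have hbot : ∀ a ∈ (⊥ : Subring (AddMonoid.End D)), ∃ n : ℤ, (n : AddMonoid.End D) = a :=
      fun a ha => Subring.mem_bot.1 ha
    refine ⟨⊥, fun a ha b hb => ?_, fun a ha => ?_⟩
    · obtain ⟨n, rfl⟩ := hbot a ha
      exact Int.cast_commute n b
    · obtain ⟨n, rfl⟩ := hbot a ha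
      exact ⟨n • S.one, by rw [show rmul S (n • S.one) = n • rmul S S.one from map_zsmul _ _ _, rmul_one, zsmul_one]⟩
  obtain ⟨T, hT, hmax⟩ := (Set.toFinite P).exists_maximal hne
  refine ⟨⟨T, hT.1, hT.2⟩, fun v hv => ?_⟩
  set B := rmul S v with hB
  have hcomm : ∀ a ∈ T, a * B = B * a := fun a ha => by
    obtain ⟨k, rfl⟩ := hT.2 a ha
    exact DFunLike.ext _ _ fun x => rmul_comm S (hv k ha) x
  have hcl : ∀ x ∈ Submonoid.closure ((T : Set (AddMonoid.End D)) ∪ {B}), ∃ a ∈ T, ∃ j : ℕ, x = a * B ^ j := by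
    intro x hx
    induction hx using Submonoid.closure_induction with
    | mem x hx =>
      rcases hx with hx | rfl
      · exact ⟨x, hx, 0, by rw [pow_zero, mul_one]⟩
      · exact ⟨1, one_mem _, 1, by rw [pow_one, one_mul]⟩
    | one => exact ⟨1, one_mem _, 0, by rw [pow_zero, one_mul]⟩
    | mul x y _ _ ihx ihy =>
      obtain ⟨a, ha, i, rfl⟩ := ihx
      obtain ⟨b, hb, j, rfl⟩ := ihy
      refine ⟨a * b, mul_mem ha hb, i + j, ?_⟩
      rw [pow_add, mul_assoc a, ← mul_assoc (B ^ i), ← ((show Commute b B from hcomm b hb).pow_right i).eq]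
      noncomm_ring
  have hrange : ∀ a ∈ T, ∀ j : ℕ, ∃ c, rmul S c = a * B ^ j := by
    intro a ha j
    by_cases ha0 : a = 0
    · exact ⟨0, by rw [ha0, zero_mul, rmul_zero]⟩
    obtain ⟨k, rfl⟩ := hT.2 a ha
    have hk : k ≠ 0 := fun h => ha0 (by rw [h, rmul_zero])
    obtain ⟨k', h1, h2⟩ := exists_inverse S hk
    have hunit : IsUnit (rmul S k) := ⟨⟨_, _, h2, h1⟩, rfl⟩
    obtain ⟨m, hm⟩ := orderOf_rmul_odd S hunit (fun n => hT.2 _ (pow_mem ha n))
    obtain ⟨u, hu⟩ := hT.2 _ (pow_mem ha (m + 1))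
    obtain ⟨c, hc⟩ := exists_rmul_uu S u (pw S v j)
    refine ⟨c, ?_⟩
    rw [hc, rmul_pw, hu, mul_assoc, ← ((show Commute (rmul S k) B from hcomm _ ha).pow_pow (m + 1) j).eq,
      ← mul_assoc, ← pow_add]
    congr 1
    rw [show m + 1 + (m + 1) = orderOf (rmul S k) + 1 by omega, pow_succ, pow_orderOf_eq_one, one_mul]
  have hle : T ≤ Subring.closure ((T : Set (AddMonoid.End D)) ∪ {B}) := fun x hx => Subring.subset_closure (Or.inl hx)
  have hP : Subring.closure ((T : Set (AddMonoid.End D)) ∪ {B}) ∈ P := by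
    refine ⟨fun a ha b hb => ?_, fun a ha => ?_⟩
    · refine (Subring.closure_le (t := Subring.centralizer (Subring.closure ((T : Set (AddMonoid.End D)) ∪ {B}) : Set _))).2 ?_ ha b hb |>.symm
      intro x hx y hy
      refine (Subring.closure_le (t := Subring.centralizer {x})).2 ?_ hy x rfl |>.symm
      intro y hy z hz
      rcases hz with rfl
      rcases hx with hx | rfl <;> rcases hy with hy | rfl
      exacts [hT.1 z hx y hy, hcomm z hx, (hcomm y hy).symm, rfl]
    · rw [Subring.mem_closure_iff] at ha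
      induction ha using AddSubgroup.closure_induction with
      | mem x hx => obtain ⟨a, ha, j, rfl⟩ := hcl x hx; exact hrange a ha j
      | zero => exact ⟨0, rmul_zero S⟩
      | add x y _ _ ihx ihy =>
        obtain ⟨c, rfl⟩ := ihx; obtain ⟨d, rfl⟩ := ihy
        exact ⟨c + d, rmul_add S c d⟩
      | neg x _ ihx =>
        obtain ⟨c, rfl⟩ := ihx
        exact ⟨-c, map_neg _ _⟩
  exact hmax hP hle (Subring.subset_closure (Or.inr rfl))

end CfsgLib.InvSemifield
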