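import Cfsg.Agent.Lib.Techniques.InvSemifield

/-!
# Commutativity of a finite semifield with both inverse properties
-/

set_option autoImplicit false
set_option linter.unusedSectionVars false

namespace CfsgLib.InvSemifield

variable {D : Type*} [AddCommGroup D] [Finite D] {S : Data D}

local notation:70 x:70 " ⋄ " y:71 => S.mul x y

namespace Sub

variable (K : Sub S)

theorem asc_right (x : D) {k l : D} (hk : K.Mem k) (hl : K.Mem l) : asc S x k l = 0 := by
  rw [asc_eq_zero_iff, ← rmul_apply, ← rmul_apply, ← rmul_apply, K.rmul_mul hk hl]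
  rfl

theorem asc_mid (x : D) {k l : D} (hk : K.Mem k) (hl : K.Mem l) : asc S k x l = 0 := by
  rw [swap_left, K.asc_right x hk hl]

theorem asc_left (x : D) {k l : D} (hk : K.Mem k) (hl : K.Mem l) : asc S k l x = 0 := by
  rw [swap_right, K.asc_mid x hk hl]

theorem mem_comm {k l : D} (hk : K.Mem k) (hl : K.Mem l) : k ⋄ l = l ⋄ k := by
  apply rmul_injective S
  rw [K.rmul_mul hk hl, K.rmul_mul hl hk]
  exact K.comm _ hl _ hk

instance : CommRing ↥K.T :=
  { (inferInstance : Ring ↥K.T) with mul_comm := fun a b => Subtype.ext (K.comm _ a.2 _ b.2) }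

/-- The element with the given right multiplication. -/
def val (a : ↥K.T) : D := (a : AddMonoid.End D) S.one

theorem rmul_val (a : ↥K.T) : rmul S (K.val a) = a := by
  obtain ⟨c, hc⟩ := K.range _ a.2
  have : K.val a = c := by
    show (a : AddMonoid.End D) S.one = c
    rw [← hc, rmul_apply, S.one_mul]
  rw [this, hc]

theorem val_mem (a : ↥K.T) : K.Mem (K.val a) := by
  show rmul S (K.val a) ∈ K.T
  rw [rmul_val]; exact a.2

theorem val_injective : Function.Injective K.val := fun a b h =>
  Subtype.ext (by rw [← K.rmul_val a, ← K.rmul_val b, h])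

theorem val_zero : K.val 0 = 0 := rfl

theorem val_one : K.val 1 = S.one := rfl

theorem val_add (a b : ↥K.T) : K.val (a + b) = K.val a + K.val b := rfl

theorem val_mul (a b : ↥K.T) : K.val (a * b) = K.val a ⋄ K.val b := by
  rw [mul_comm, ← rmul_apply, K.rmul_val]; rfl

theorem exists_val {k : D} (hk : K.Mem k) : ∃ a, K.val a = k :=
  ⟨⟨_, hk⟩, by show rmul S k S.one = k; rw [rmul_apply, S.one_mul]⟩

theorem val_pow (a : ↥K.T) : ∀ n, K.val (a ^ n) = pw S (K.val a) n
  | 0 => rfl
  | n + 1 => by rw [pow_succ, val_mul, val_pow a n, pw_succ]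

instance : IsDomain ↥K.T := by
  haveI : Nontrivial ↥K.T := ⟨⟨0, 1, fun h => S.one_ne (by rw [← K.val_one, ← h, K.val_zero])⟩⟩
  haveI : NoZeroDivisors ↥K.T := ⟨fun {a b} h => by
    by_contra hne
    push Not at hne
    exact mul_ne_zero S (fun h0 => hne.1 (K.val_injective (h0.trans K.val_zero.symm)))
      (fun h0 => hne.2 (K.val_injective (h0.trans K.val_zero.symm))) (by rw [← val_mul, h, val_zero])⟩
  exact NoZeroDivisors.to_isDomain _

instance : Finite ↥K.T :=
  haveI : Finite (AddMonoid.End D) := Finite.of_injective (fun f => (f : D → D)) DFunLike.coe_injective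
  inferInstance

end Sub

theorem eigen_eq_zero {ι : Type*} (g : D) (s : Finset ι) (w ρ : ι → D) (K : Sub S)
    (hg : K.Mem g) (hρ : ∀ i ∈ s, K.Mem (ρ i)) (hw : ∀ i ∈ s, g ⋄ w i = w i ⋄ ρ i)
    (hinj : ∀ i ∈ s, ∀ j ∈ s, ρ i = ρ j → i = j) (hsum : ∑ i ∈ s, w i = 0) :
    ∀ i ∈ s, w i = 0 := by
  classical
  induction s using Finset.induction_on generalizing w with
  | empty => simp
  | @insert j s hj ih =>
    intro i hi
    have hs : ∀ i ∈ s, w i = 0 := by
      have h2 := ih (fun i => w i ⋄ (ρ i + ρ j)) (fun i hi => hρ i (Finset.mem_insert_of_mem hi))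
        (fun i hi => ?_) (fun a ha b hb => hinj a (Finset.mem_insert_of_mem ha) b (Finset.mem_insert_of_mem hb)) ?_
      · intro i hi
        by_contra hne
        exact mul_ne_zero S hne (fun h => hj (by
          rw [← hinj i (Finset.mem_insert_of_mem hi) j (Finset.mem_insert_self j s) (eq_of_add_eq_zero S h)]
          exact hi)) (h2 i hi)
      · have hd := K.mem_add (hρ i (Finset.mem_insert_of_mem hi)) (hρ j (Finset.mem_insert_self j s))
        have hi' := hρ i (Finset.mem_insert_of_mem hi)
        rw [← eq_of_add_eq_zero S (K.asc_mid (w i) hg hd), hw i (Finset.mem_insert_of_mem hi),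
          eq_of_add_eq_zero S (K.asc_right (w i) hi' hd), K.mem_comm hi' hd,
          ← eq_of_add_eq_zero S (K.asc_right (w i) hd hi')]
      · have e1 : ∑ i ∈ insert j s, w i ⋄ (ρ i + ρ j) = 0 := by
          simp only [map_add, Finset.sum_add_distrib]
          have a1 : ∑ i ∈ insert j s, w i ⋄ ρ i = g ⋄ ∑ i ∈ insert j s, w i := by
            rw [map_sum]; exact Finset.sum_congr rfl fun i hi => (hw i hi).symm
          have a2 : ∑ i ∈ insert j s, w i ⋄ ρ j = (∑ i ∈ insert j s, w i) ⋄ ρ j := by
            rw [map_sum, AddMonoidHom.finsetSum_apply]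
          rw [a1, a2, hsum, map_zero, map_zero, AddMonoidHom.zero_apply, add_zero]
        rwa [Finset.sum_insert hj, show ρ j + ρ j = 0 from S.two _, map_zero, zero_add] at e1
    rcases Finset.mem_insert.1 hi with rfl | hi
    · rwa [Finset.sum_insert hj, Finset.sum_eq_zero hs, add_zero] at hsum
    · exact hs i hi

open Polynomial in
theorem exists_eigen (K : Sub S) {g : ↥K.T} {v : D} (hv : K.val g ⋄ v ≠ v ⋄ K.val g) :
    ∃ z r, z ≠ 0 ∧ K.val g ⋄ z = z ⋄ K.val r ∧ r ≠ g := by
  classical
  haveI := Fintype.ofFinite ↥K.T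
  letI : Field ↥K.T := Fintype.fieldOfDomain _
  let Λ : AddMonoid.End D := S.mul (K.val g)
  have hΛ : ∀ a : ↥K.T, Commute (a : AddMonoid.End D) Λ := fun a => DFunLike.ext _ _ fun x => by
    show (a : AddMonoid.End D) (K.val g ⋄ x) = K.val g ⋄ (a : AddMonoid.End D) x
    rw [← K.rmul_val a, rmul_apply, rmul_apply,
      eq_of_add_eq_zero S (K.asc_mid x (K.val_mem g) (K.val_mem a))]
  let C : Subring (AddMonoid.End D) := Subring.closure ((K.T : Set (AddMonoid.End D)) ∪ {Λ})
  letI : CommRing ↥C := Subring.closureCommRingOfComm (by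
    rintro x (hx | rfl) y (hy | rfl)
    exacts [K.comm x hx y hy, hΛ ⟨x, hx⟩, (hΛ ⟨y, hy⟩).symm, rfl])
  let φ : ↥K.T →+* ↥C := Subring.inclusion (fun x hx => Subring.subset_closure (Or.inl hx))
  let Λc : ↥C := ⟨Λ, Subring.subset_closure (Or.inr rfl)⟩
  have hprod : ∏ r : ↥K.T, (Λc - φ r) = 0 := by
    have hp : ∏ r : ↥K.T, (X - Polynomial.C r) = (X ^ Fintype.card ↥K.T - X : (↥K.T)[X]) := by
      have hdeg : (X ^ Fintype.card ↥K.T - X : (↥K.T)[X]).natDegree = Fintype.card ↥K.T :=
        FiniteField.X_pow_card_sub_X_natDegree_eq _ Fintype.one_lt_card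
      have hroots := FiniteField.roots_X_pow_card_sub_X ↥K.T
      have := prod_multiset_X_sub_C_of_monic_of_roots_card_eq
        (monic_X_pow_sub (n := Fintype.card ↥K.T) (p := (X : (↥K.T)[X])) (by
          rw [degree_X]; exact_mod_cast Fintype.one_lt_card))
        (by rw [hroots, hdeg]; rfl)
      rwa [hroots] at this
    have := congrArg (Polynomial.eval₂ φ Λc) hp
    rw [eval₂_finsetProd] at this
    simp only [eval₂_sub, eval₂_X, eval₂_C, eval₂_X_pow] at this
    rw [this, sub_eq_zero]
    refine Subtype.ext ?_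
    have hpow : ∀ m, Λ ^ m = S.mul (pw S (K.val g) m) := fun m => by
      have h := rmul_pw S.op (K.val g) m
      rw [op_pw] at h
      exact h.symm
    rw [SubmonoidClass.coe_pow]
    show Λ ^ _ = Λ
    rw [hpow, ← K.val_pow, FiniteField.pow_card]
  have hstep : ∀ s : Finset ↥K.T, ∀ u : D, u ≠ 0 → ((∏ r ∈ s, (Λc - φ r) : ↥C) : AddMonoid.End D) u = 0 →
      ∃ r ∈ s, ∃ w, w ≠ 0 ∧ K.val g ⋄ w = w ⋄ K.val r := by
    intro s
    induction s using Finset.induction_on with
    | empty => intro u hu h; exact absurd h hu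
    | @insert r s hr ih =>
      intro u hu h
      rw [Finset.prod_insert hr] at h
      set w := ((∏ r ∈ s, (Λc - φ r) : ↥C) : AddMonoid.End D) u with hw
      by_cases hw0 : w = 0
      · obtain ⟨r', hr', rest⟩ := ih u hu hw0
        exact ⟨r', Finset.mem_insert_of_mem hr', rest⟩
      · refine ⟨r, Finset.mem_insert_self r s, w, hw0, ?_⟩
        have h' : K.val g ⋄ w - (r : AddMonoid.End D) w = 0 := h
        rw [← K.rmul_val r, rmul_apply, sub_eq_zero] at h'
        exact h'
  set u := (Λ - (g : AddMonoid.End D)) v with hu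
  have hu0 : u ≠ 0 := by
    rw [hu]
    show K.val g ⋄ v - (g : AddMonoid.End D) v ≠ 0
    rw [← K.rmul_val g, rmul_apply, sub_ne_zero]
    exact hv
  have hkill : ((∏ r ∈ Finset.univ.erase g, (Λc - φ r) : ↥C) : AddMonoid.End D) u = 0 := by
    show (((∏ r ∈ Finset.univ.erase g, (Λc - φ r)) * (Λc - φ g) : ↥C) : AddMonoid.End D) v = 0
    rw [Finset.prod_erase_mul _ _ (Finset.mem_univ g), hprod]
    rfl
  obtain ⟨r, hr, w, hw, hew⟩ := hstep _ u hu0 hkill
  exact ⟨w, r, hw, hew, (Finset.mem_erase.1 hr).1⟩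

/-- A finite semifield of characteristic two with both inverse properties is commutative and
associative. -/
theorem comm_assoc :
    (∀ x y, S.mul x y = S.mul y x) ∧ ∀ x y z, S.mul (S.mul x y) z = S.mul x (S.mul y z) := by
  classical
  obtain ⟨K, hmax⟩ := exists_maximal S
  suffices hall : ∀ v, K.Mem v from
    ⟨fun x y => K.mem_comm (hall x) (hall y),
      fun x y z => eq_of_add_eq_zero S (K.asc_right x (hall y) (hall z))⟩
  by_contra hne
  push Not at hne
  obtain ⟨v, hv⟩ := hne
  haveI := Fintype.ofFinite ↥K.T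
  letI : Field ↥K.T := Fintype.fieldOfDomain _
  obtain ⟨gu, hgu⟩ := IsCyclic.exists_generator (α := (↥K.T)ˣ)
  set g : ↥K.T := (gu : ↥K.T) with hgdef
  have hgen : ∀ a : ↥K.T, a = 0 ∨ ∃ i : ℕ, a = g ^ i := fun a => by
    by_cases ha : a = 0
    · exact Or.inl ha
    obtain ⟨i, hi⟩ := (mem_powers_iff_mem_zpowers (x := gu)).2 (hgu (Units.mk0 a ha))
    have hi : gu ^ i = Units.mk0 a ha := hi
    refine Or.inr ⟨i, ?_⟩
    rw [hgdef, ← Units.val_pow_eq_pow_val, hi]
    rfl
  have hgv : K.val g ⋄ v ≠ v ⋄ K.val g := by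
    intro h
    refine hv (hmax v fun k hk => ?_)
    obtain ⟨a, rfl⟩ := K.exists_val hk
    rcases hgen a with rfl | ⟨i, rfl⟩
    · rw [K.val_zero, map_zero, map_zero]; rfl
    induction i with
    | zero => rw [pow_zero, K.val_one, S.one_mul, S.mul_one]
    | succ i ih =>
      have hi := ih (K.val_mem _)
      rw [pow_succ', K.val_mul, ← eq_of_add_eq_zero S (K.asc_right v (K.val_mem g) (K.val_mem _)),
        ← h, eq_of_add_eq_zero S (K.asc_mid v (K.val_mem g) (K.val_mem _)), hi,
        ← eq_of_add_eq_zero S (K.asc_left v (K.val_mem g) (K.val_mem _))]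
  obtain ⟨z, r, hz, hgz, hrg⟩ := exists_eigen K hgv
  -- the automorphism
  have hex : ∀ a : ↥K.T, ∃ b : ↥K.T, K.val a ⋄ z = z ⋄ K.val b := by
    intro a
    rcases hgen a with rfl | ⟨i, rfl⟩
    · exact ⟨0, by rw [K.val_zero, map_zero, map_zero]; rfl⟩
    induction i with
    | zero => exact ⟨1, by rw [pow_zero, K.val_one, S.one_mul, S.mul_one]⟩
    | succ i ih =>
      obtain ⟨b, hb⟩ := ih
      refine ⟨r * b, ?_⟩
      rw [pow_succ', K.val_mul, eq_of_add_eq_zero S (K.asc_left z (K.val_mem g) (K.val_mem _)), hb,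
        ← eq_of_add_eq_zero S (K.asc_mid z (K.val_mem g) (K.val_mem b)), hgz,
        eq_of_add_eq_zero S (K.asc_right z (K.val_mem r) (K.val_mem b)), K.val_mul]
  choose f hf using hex
  have funiq : ∀ a b, K.val a ⋄ z = z ⋄ K.val b → f a = b := by
    intro a b h
    rw [hf] at h
    apply K.val_injective
    by_contra hne
    refine mul_ne_zero S hz (fun h0 => hne (eq_of_add_eq_zero S h0)) ?_
    rw [map_add, h, S.two]
  have f1 : f 1 = 1 := funiq 1 1 (by rw [K.val_one, S.one_mul, S.mul_one])
  have f0 : f 0 = 0 := funiq 0 0 (by rw [K.val_zero, map_zero, map_zero]; rfl)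
  have fmul : ∀ a b, f (a * b) = f a * f b := fun a b => funiq _ _ (by
    rw [K.val_mul, eq_of_add_eq_zero S (K.asc_left z (K.val_mem a) (K.val_mem b)), hf b,
      ← eq_of_add_eq_zero S (K.asc_mid z (K.val_mem a) (K.val_mem _)), hf a,
      eq_of_add_eq_zero S (K.asc_right z (K.val_mem _) (K.val_mem _)), K.val_mul])
  have fadd : ∀ a b, f (a + b) = f a + f b := fun a b => funiq _ _ (by
    rw [K.val_add, map_add, AddMonoidHom.add_apply, hf a, hf b, K.val_add, map_add])
  let σ0 : ↥K.T →+* ↥K.T :=
    { toFun := f, map_one' := f1, map_zero' := f0, map_mul' := fmul, map_add' := fadd }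
  let σ : RingAut ↥K.T :=
    RingEquiv.ofBijective σ0 (Finite.injective_iff_bijective.1 σ0.injective)
  have hσ : ∀ a, K.val a ⋄ z = z ⋄ K.val (σ a) := hf
  have hσg : σ g ≠ g := fun h => hrg ((funiq g r hgz).symm.trans h)
  haveI : Finite (RingAut ↥K.T) :=
    Finite.of_injective (fun e => (e : ↥K.T → ↥K.T)) DFunLike.coe_injective
  have hfin : IsOfFinOrder σ := isOfFinOrder_of_finite σ
  set n := orderOf σ with hn
  have hn0 : 0 < n := hfin.orderOf_pos
  have hσn : σ ^ n = 1 := pow_orderOf_eq_one σ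
  have hpw : ∀ (i : ℕ) (a : ↥K.T),
      K.val a ⋄ pw S z i = pw S z i ⋄ K.val ((σ ^ i) a) := by
    intro i
    induction i with
    | zero =>
      intro a
      rw [pw_zero, S.one_mul, S.mul_one]; rfl
    | succ i ih =>
      intro a
      have a1 : asc S (K.val a) (pw S z i) z = 0 := by
        have := asc_pw_right S (K.val a) z i 1
        rwa [pw_one] at this
      have a2 : asc S (pw S z i) (K.val ((σ ^ i) a)) z = 0 := by
        rw [swap_left, swap_right]
        have := asc_pw_right S (K.val ((σ ^ i) a)) z i 1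
        rw [pw_one] at this
        rwa [swap_right]
      have a3 : asc S (pw S z i) z (K.val ((σ ^ (i+1)) a)) = 0 := by
        rw [swap_right, swap_left]
        have := asc_pw_right S (K.val ((σ ^ (i+1)) a)) z i 1
        rwa [pw_one] at this
      rw [pw_succ, ← eq_of_add_eq_zero S a1, ih, eq_of_add_eq_zero S a2, hσ,
        eq_of_add_eq_zero S a3]
      rw [pow_succ']; rfl
  have hcmem : K.Mem (pw S z n) := hmax _ fun k hk => by
    obtain ⟨a, rfl⟩ := K.exists_val hk
    rw [hpw, hσn]; rfl
  obtain ⟨c, hc⟩ := K.exists_val hcmem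
  have hσc : σ c = c := funiq c c (by
    rw [hc]
    have h1 := pw_add S z n 1
    have h2 := pw_add S z 1 n
    rw [pw_one] at h1 h2
    rw [h1, h2, add_comm])
  have hc0 : c ≠ 0 := fun h => by
    rw [h, K.val_zero] at hc
    have hpos : ∀ i, pw S z i ≠ 0 := fun i => by
      induction i with
      | zero => exact S.one_ne
      | succ i ih => rw [pw_succ]; exact mul_ne_zero S ih hz
    exact hpos n hc.symm
  -- partial norms
  let P : ℕ → ↥K.T → ↥K.T := fun i a => Nat.rec 1 (fun _ b => σ b * a) i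
  have hP : ∀ i a, P (i + 1) a = σ (P i a) * a := fun _ _ => rfl
  have hP' : ∀ i a, P (i + 1) a = (σ ^ i) a * P i a := by
    intro i a
    induction i with
    | zero =>
      show σ 1 * a = a * 1
      rw [map_one, one_mul, mul_one]
    | succ i ih =>
      rw [hP (i + 1), ih, map_mul, mul_assoc, ← hP i, ← ih, pow_succ']; rfl
  have hPmul : ∀ i a b, P i (a * b) = P i a * P i b := by
    intro i a b
    induction i with
    | zero => exact (mul_one _).symm
    | succ i ih => rw [hP, ih, map_mul, hP, hP]; ring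
  have hPne : ∀ i a, a ≠ 0 → P i a ≠ 0 := by
    intro i a ha
    induction i with
    | zero => exact one_ne_zero
    | succ i ih => rw [hP]; exact _root_.mul_ne_zero (by simpa using ih) ha
  have hPfix : ∀ a, a ≠ 0 → σ (P n a) = P n a := fun a ha => by
    have h := hP' n a
    rw [hP, hσn] at h
    exact mul_right_cancel₀ ha (h.trans (mul_comm _ _))
  -- Hilbert 90 and surjectivity of the norm
  obtain ⟨a, ha0, haN⟩ : ∃ a : ↥K.T, a ≠ 0 ∧ P n a = c⁻¹ := by
    let N : (↥K.T)ˣ →* (↥K.T)ˣ := MonoidHom.mk' (fun u => Units.mk0 (P n u) (hPne n u u.ne_zero))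
      fun u w => Units.ext (hPmul n u w)
    let F : (↥K.T)ˣ →* (↥K.T)ˣ :=
      MonoidHom.mk' (fun u => u / Units.map (σ : ↥K.T →* ↥K.T) u) fun u w => by
        rw [map_mul, mul_div_mul_comm]
    have h90 : N.ker ≤ F.range := by
      intro u hu
      have hu1 : P n u = 1 := congrArg Units.val hu
      have hind : LinearIndependent ↥K.T (fun i : Fin n => (⇑((σ ^ (i : ℕ) : RingAut ↥K.T) : ↥K.T →* ↥K.T) : ↥K.T → ↥K.T)) :=
        (linearIndependent_monoidHom ↥K.T ↥K.T).comp
          (fun i : Fin n => ((σ ^ (i : ℕ) : RingAut ↥K.T) : ↥K.T →* ↥K.T)) fun i j hij => by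
          refine Fin.ext (pow_injOn_Iio_orderOf i.2 j.2 (RingEquiv.ext fun x => ?_))
          exact DFunLike.congr_fun hij x
      obtain ⟨x, hx⟩ : ∃ x : ↥K.T, ∑ i : Fin n, P i u * (σ ^ (i : ℕ)) x ≠ 0 := by
        by_contra hall
        push Not at hall
        have := Fintype.linearIndependent_iff.1 hind (fun i => P i u)
          (funext fun x => by simpa using hall x) ⟨0, hn0⟩
        exact one_ne_zero this
      set y := ∑ i : Fin n, P i u * (σ ^ (i : ℕ)) x with hy
      have hyσ : σ y * u = y := by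
        have hy' : y = ∑ i ∈ Finset.range n, P i u * (σ ^ i) x :=
          Fin.sum_univ_eq_sum_range (fun i => P i (u : ↥K.T) * (σ ^ i) x) n
        have h1 : σ y * u = ∑ i ∈ Finset.range n, P (i + 1) u * (σ ^ (i + 1)) x := by
          rw [hy', map_sum, Finset.sum_mul]
          refine Finset.sum_congr rfl fun i _ => ?_
          rw [map_mul, hP, pow_succ', RingAut.mul_apply]; ring
        have h2 := Finset.sum_range_succ' (fun i => P i (u : ↥K.T) * (σ ^ i) x) n
        rw [Finset.sum_range_succ, hu1, hσn] at h2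
        rw [h1, hy']
        exact (add_right_cancel (h2.trans rfl)).symm
      refine ⟨Units.mk0 y hx, Units.ext ?_⟩
      show ((Units.mk0 y hx / Units.map (σ : ↥K.T →* ↥K.T) (Units.mk0 y hx) : (↥K.T)ˣ) : ↥K.T) = u
      rw [Units.val_div_eq_div_val, Units.coe_map]
      show y / σ y = u
      rw [div_eq_iff (by simpa using hx), mul_comm, hyσ]
    have hrange : N.range ≤ F.ker := by
      rintro _ ⟨u, rfl⟩
      rw [MonoidHom.mem_ker]
      show N u / Units.map (σ : ↥K.T →* ↥K.T) (N u) = 1
      rw [div_eq_one]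
      exact Units.ext (hPfix u u.ne_zero).symm
    have e1 : Nat.card N.range * Nat.card N.ker = Nat.card (↥K.T)ˣ := by
      rw [← Subgroup.index_ker, Subgroup.index_mul_card]
    have e2 : Nat.card F.range * Nat.card F.ker = Nat.card (↥K.T)ˣ := by
      rw [← Subgroup.index_ker, Subgroup.index_mul_card]
    have hle : Nat.card F.ker ≤ Nat.card N.range := by
      have h3 := Subgroup.card_le_of_le h90
      have h4 : Nat.card N.range * Nat.card N.ker ≤ Nat.card N.range * Nat.card F.range :=
        Nat.mul_le_mul_left _ h3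
      rw [e1, ← e2, mul_comm (Nat.card N.range)] at h4
      exact Nat.le_of_mul_le_mul_left h4 Nat.card_pos
    have heq : N.range = F.ker := Subgroup.eq_of_le_of_card_ge hrange hle
    have hcker : (Units.mk0 c hc0)⁻¹ ∈ F.ker := inv_mem (by
      rw [MonoidHom.mem_ker]
      show Units.mk0 c hc0 / Units.map (σ : ↥K.T →* ↥K.T) (Units.mk0 c hc0) = 1
      rw [div_eq_one]
      exact Units.ext hσc.symm)
    obtain ⟨u, hu⟩ := heq ▸ hcker
    exact ⟨u, u.ne_zero, by
      have := congrArg Units.val hu
      simpa [N] using this⟩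
  set t := z ⋄ K.val a with ht
  have hze : ∀ (i : ℕ) (e w : ↥K.T), asc S (pw S z i) (z ⋄ K.val e) (K.val w) = 0 := by
    intro i e w
    have h := teichmuller S (pw S z i) z (K.val e) (K.val w)
    have b1 : asc S (pw S z i) z (K.val e ⋄ K.val w) = 0 := by
      rw [swap_right, swap_left]
      have := asc_pw_right S (K.val e ⋄ K.val w) z i 1
      rwa [pw_one] at this
    have b2 : asc S (pw S z i) z (K.val e) = 0 := by
      rw [swap_right, swap_left]
      have := asc_pw_right S (K.val e) z i 1
      rwa [pw_one] at this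
    rwa [← pw_succ, b1, b2, K.asc_right _ (K.val_mem e) (K.val_mem w),
      K.asc_right _ (K.val_mem e) (K.val_mem w), map_zero, map_zero, AddMonoidHom.zero_apply,
      zero_add, add_zero, add_zero] at h
  have hstep : ∀ (i : ℕ) (b : ↥K.T), (pw S z i ⋄ K.val b) ⋄ t = pw S z (i + 1) ⋄ K.val (σ b * a) := by
    intro i b
    have h := teichmuller S (pw S z i) (K.val b) z (K.val a)
    have b1 : asc S (pw S z i) (K.val b) (z ⋄ K.val a) = 0 := by
      rw [swap_right]; exact hze i a b
    have b2 : asc S (pw S z i) (K.val b) z = 0 := by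
      rw [swap_left, swap_right, swap_right]
      have := asc_pw_right S (K.val b) z i 1
      rwa [pw_one] at this
    have b3 : asc S (pw S z i) z (K.val (σ b)) = 0 := by
      rw [swap_right, swap_left]
      have := asc_pw_right S (K.val (σ b)) z i 1
      rwa [pw_one] at this
    rw [hσ, hze, b1, b2, K.asc_mid z (K.val_mem b) (K.val_mem a), map_zero, map_zero,
      AddMonoidHom.zero_apply, add_zero, add_zero, add_zero] at h
    rw [ht, ← eq_of_add_eq_zero S h, eq_of_add_eq_zero S b2, hσ, ← eq_of_add_eq_zero S b3, ← pw_succ,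
      eq_of_add_eq_zero S (K.asc_right _ (K.val_mem _) (K.val_mem _)), ← K.val_mul]
  have htp : ∀ i, pw S t i = pw S z i ⋄ K.val (P i a) := by
    intro i
    induction i with
    | zero => show S.one = S.one ⋄ K.val 1; rw [K.val_one, S.one_mul]
    | succ i ih => rw [pw_succ, ih, hstep, hP]
  have htn : pw S t n = S.one := by
    rw [htp, haN, ← hc, ← K.val_mul, mul_inv_cancel₀ hc0, K.val_one]
  have htel : ∀ m, (∑ i ∈ Finset.range m, pw S t i) ⋄ (t + S.one) = pw S t m + S.one := by
    intro m
    induction m with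
    | zero => rw [Finset.sum_range_zero, map_zero, AddMonoidHom.zero_apply, pw_zero, S.two]
    | succ m ih =>
      rw [Finset.sum_range_succ, map_add S.mul, AddMonoidHom.add_apply, ih, map_add, S.mul_one, ← pw_succ]
      have key : ∀ p q o : D, p + o + (q + p) = q + o := fun p q o => by
        calc p + o + (q + p) = q + o + (p + p) := by abel
          _ = q + o := by rw [S.two, add_zero]
      exact key _ _ _
  have hzero := htel n
  rw [htn, S.two] at hzero
  refine mul_ne_zero S ?_ ?_ hzero
  · intro hs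
    simp only [htp] at hs
    have h := eigen_eq_zero (K.val g) (Finset.range n) (fun i => pw S z i ⋄ K.val (P i a))
      (fun i => K.val ((σ ^ i) g)) K (K.val_mem g) (fun i _ => K.val_mem _) (fun i _ => ?_) ?_ hs 0
      (Finset.mem_range.2 hn0)
    · have h1 : S.one ⋄ K.val 1 = 0 := h
      rw [K.val_one, S.one_mul] at h1
      exact S.one_ne h1
    · rw [← eq_of_add_eq_zero S (K.asc_mid _ (K.val_mem g) (K.val_mem _)), hpw,
        eq_of_add_eq_zero S (K.asc_right _ (K.val_mem _) (K.val_mem _)),
        K.mem_comm (K.val_mem _) (K.val_mem _),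
        ← eq_of_add_eq_zero S (K.asc_right _ (K.val_mem _) (K.val_mem _))]
    · intro i hi j hj hij
      refine pow_injOn_Iio_orderOf (Finset.mem_range.1 hi) (Finset.mem_range.1 hj) (RingEquiv.ext fun x => ?_)
      rcases hgen x with rfl | ⟨m, rfl⟩
      · rw [map_zero, map_zero]
      · rw [map_pow, map_pow, K.val_injective hij]
  · intro h1
    have h2 : K.Mem z := by
      have hta : z ⋄ K.val a = S.one := eq_of_add_eq_zero S h1
      have h3 : z = K.val a⁻¹ := by
        calc z = z ⋄ (K.val a ⋄ K.val a⁻¹) := by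
              rw [← K.val_mul, mul_inv_cancel₀ ha0, K.val_one, S.mul_one]
          _ = (z ⋄ K.val a) ⋄ K.val a⁻¹ :=
              (eq_of_add_eq_zero S (K.asc_right z (K.val_mem a) (K.val_mem _))).symm
          _ = K.val a⁻¹ := by rw [hta, S.one_mul]
      exact h3 ▸ K.val_mem _
    exact hσg (funiq g g (K.mem_comm (K.val_mem g) h2))

end CfsgLib.InvSemifield
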