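import Cfsg.Agent.Lib.Techniques.Control
import Cfsg.Agent.Lib.Transfer.Fusion

/-!
Local control gives global control (Glauberman), for fusion and for transfer.
-/

set_option autoImplicit false
set_option linter.unusedSectionVars false

namespace CfsgLib.Techniques

open Cfsg Subgroup

variable {G : Type*} [Group G]

/-- Conjugation on the left, as a function. -/
def lc (g a : G) : G := g * a * g⁻¹

theorem lc_mul (g h a : G) : lc (g * h) a = lc g (lc h a) := by simp [lc, mul_assoc]

@[simp] theorem lc_one (a : G) : lc 1 a = a := by simp [lc]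

theorem lc_inv_lc (g a : G) : lc g⁻¹ (lc g a) = a := by
  rw [← lc_mul, inv_mul_cancel, lc_one]

theorem image_lc (g : G) (H : Subgroup G) : lc g '' (H : Set G) = (cj g H : Set G) := rfl

/-- The conjugation of `A ⊆ T` by `g` is achieved step by step inside the subgroups in `𝓝`. -/
inductive Link (T : Subgroup G) (𝓝 : Set (Subgroup G)) : Set G → G → Prop
  | agree {A : Set G} {g : G} (hA : A ⊆ T) (h : ∀ a ∈ A, lc g a = a) : Link T 𝓝 A g
  | step {A : Set G} {g x g' : G} {N : Subgroup G} (hN : N ∈ 𝓝) (hx : x ∈ N) (hA : A ⊆ T)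
      (h' : Link T 𝓝 (lc x '' A) g') (h : ∀ a ∈ A, lc g a = lc g' (lc x a)) : Link T 𝓝 A g

variable {T : Subgroup G} {𝓝 : Set (Subgroup G)}

theorem Link.subset {A : Set G} {g : G} (h : Link T 𝓝 A g) : A ⊆ T := by
  cases h with
  | agree hA h => exact hA
  | step hN hx hA h' h => exact hA

theorem Link.congr {A : Set G} {g g' : G} (h : Link T 𝓝 A g) (e : ∀ a ∈ A, lc g' a = lc g a) :
    Link T 𝓝 A g' := by
  cases h with
  | agree hA h => exact .agree hA fun a ha => (e a ha).trans (h a ha)
  | step hN hx hA h' h => exact .step hN hx hA h' fun a ha => (e a ha).trans (h a ha)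

theorem Link.mono {A : Set G} {g : G} (h : Link T 𝓝 A g) :
    ∀ {B : Set G}, B ⊆ A → Link T 𝓝 B g := by
  induction h with
  | agree hA h => exact fun {B} hB => .agree (hB.trans hA) fun a ha => h a (hB ha)
  | step hN hx hA h' h ih =>
    exact fun {B} hB => .step hN hx (hB.trans hA) (ih (Set.image_mono hB)) fun a ha => h a (hB ha)

theorem Link.comp {A : Set G} {g : G} (h : Link T 𝓝 A g) :
    ∀ {k : G}, Link T 𝓝 (lc g '' A) k → Link T 𝓝 A (k * g) := by
  induction h with
  | @agree A g hA h =>
    intro k hk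
    have e : lc g '' A = A := by rw [Set.image_congr h, Set.image_id']
    rw [e] at hk
    exact hk.congr fun a ha => by rw [lc_mul, h a ha]
  | @step A g x g' N hN hx hA h' h ih =>
    intro k hk
    have e : lc g '' A = lc g' '' (lc x '' A) := by rw [Set.image_image]; exact Set.image_congr h
    rw [e] at hk
    exact .step hN hx hA (ih hk) fun a ha => by rw [lc_mul, h a ha, lc_mul]

theorem Link.image_subset {A : Set G} {g : G} (h : Link T 𝓝 A g) : lc g '' A ⊆ T := by
  induction h with
  | @agree A g hA h => rwa [Set.image_congr h, Set.image_id']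
  | @step A g x g' N hN hx hA h' h ih =>
    rw [Set.image_congr h, ← Set.image_image (g := lc g') (f := lc x)]
    exact ih

theorem Link.single {A : Set G} {x : G} {N : Subgroup G} (hN : N ∈ 𝓝) (hx : x ∈ N) (hA : A ⊆ T)
    (hxA : lc x '' A ⊆ T) : Link T 𝓝 A x :=
  .step hN hx hA (.agree (g := 1) hxA fun a _ => lc_one a) fun a _ => (lc_one _).symm

theorem Link.inv {A : Set G} {g : G} (h : Link T 𝓝 A g) : Link T 𝓝 (lc g '' A) g⁻¹ := by
  induction h with
  | @agree A g hA h =>
    refine .agree (by rwa [Set.image_congr h, Set.image_id']) ?_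
    rintro _ ⟨a, ha, rfl⟩
    rw [lc_inv_lc, h a ha]
  | @step A g x g' N hN hx hA h' h ih =>
    have e : lc g '' A = lc g' '' (lc x '' A) := by rw [Set.image_image]; exact Set.image_congr h
    have h2 : Link T 𝓝 (lc g'⁻¹ '' (lc g' '' (lc x '' A))) x⁻¹ := by
      rw [Set.image_image]
      simp only [lc_inv_lc, Set.image_id']
      refine Link.single hN (inv_mem hx) h'.subset ?_
      rw [Set.image_image]
      simpa only [lc_inv_lc, Set.image_id'] using hA
    rw [e]
    refine (ih.comp h2).congr ?_
    rintro _ ⟨_, ⟨a, ha, rfl⟩, rfl⟩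
    rw [← h a ha, lc_inv_lc, h a ha, lc_mul, lc_inv_lc, lc_inv_lc]

/-- The abstract induction of Glauberman's local-to-global arguments. -/
structure LocalGlobalData {p : ℕ} (S : Subgroup G) (𝓦 : Set (Subgroup G → Subgroup G))
    (Good : Set G → G → Prop) (Q E : Subgroup G → Prop) : Prop where
  mono : ∀ {A B : Set G} {g : G}, Good A g → B ⊆ A → Good B g
  comp : ∀ {A : Set G} {g k : G}, Good A g → Good (lc g '' A) k → Good A (k * g)
  inv : ∀ {A : Set G} {g : G}, Good A g → Good (lc g '' A) g⁻¹
  triv : ∀ {A : Set G} (g : G), A ⊆ {1} → Good A g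
  mid : ∀ {U : Subgroup G}, Q U → U ≤ S → ∀ y ∈ normalizer (U : Set G),
    Good (U : Set G) y
  move : ∀ {U V : Subgroup G} (g : G), cj g V = U → cj g (S ⊓ normalizer (V : Set G)) ≤ S →
    Good ((S ⊓ normalizer (V : Set G) : Subgroup G) : Set G) g → Q U → Q V
  extremal : ∀ {U : Subgroup G}, E U →
    ¬ p ∣ (S ⊓ normalizer (U : Set G)).relIndex (normalizer (U : Set G))
  exists_conj : ∀ {V : Subgroup G}, V ≤ S →
    ∃ g : G, cj g (S ⊓ normalizer (V : Set G)) ≤ S ∧ E (cj g V)
  ext : ∀ {U : Subgroup G}, E U → U ≠ ⊥ → U ≤ S →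
    (∀ W ∈ 𝓦, S ⊓ normalizer (U : Set G) ≠ S → Q (W (S ⊓ normalizer (U : Set G)))) → Q U
  isPGroup : IsPGroup p S
  functor : ∀ W ∈ 𝓦, IsConjugacyFunctor p W

theorem LocalGlobalData.good {p : ℕ} [Fact p.Prime] [Finite G] {S : Subgroup G}
    {𝓦 : Set (Subgroup G → Subgroup G)} {Good : Set G → G → Prop} {Q E : Subgroup G → Prop}
    (D : LocalGlobalData (p := p) S 𝓦 Good Q E) :
    (∀ (R : Subgroup G), R ≤ S → ∀ g : G, cj g R ≤ S → Good R g) ∧
      ∀ V : Subgroup G, V ≠ ⊥ → V ≤ S → Q V := by
  suffices h : ∀ d : ℕ,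
      (∀ (R : Subgroup G), R ≤ S → Nat.card S - Nat.card R = d → ∀ g : G, cj g R ≤ S → Good R g) ∧
      (∀ V : Subgroup G, V ≠ ⊥ → V ≤ S →
        Nat.card S - Nat.card (S ⊓ normalizer (V : Set G) : Subgroup G) = d → Q V) from
    ⟨fun R hR => (h _).1 R hR rfl, fun V h0 hV => (h _).2 V h0 hV rfl⟩
  intro d
  induction d using Nat.strong_induction_on with
  | _ d ih =>
    have hcard : ∀ {A : Subgroup G}, A ≤ S → Nat.card A ≤ Nat.card S :=
      fun hA => Subgroup.card_le_of_le hA
    -- extremal subgroups whose normalizer in `S` is large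
    have hext : ∀ U : Subgroup G, E U → U ≠ ⊥ → U ≤ S →
        Nat.card S - Nat.card (S ⊓ normalizer (U : Set G) : Subgroup G) ≤ d → Q U := by
      intro U hEU hU0 hUS hUd
      refine D.ext hEU hU0 hUS fun W hW hne => ?_
      set T := S ⊓ normalizer (U : Set G) with hT
      have hTp : IsPGroup p T := D.isPGroup.to_le inf_le_left
      have hT0 : T ≠ ⊥ := fun h => hU0 (le_bot_iff.1 (h ▸ le_inf hUS le_normalizer))
      have hlt : T < S ⊓ normalizer (T : Set G) :=
        lt_inf_normalizer' D.isPGroup (lt_of_le_of_ne inf_le_left hne)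
      have hle : S ⊓ normalizer (T : Set G) ≤ S ⊓ normalizer (W T : Set G) :=
        inf_le_inf_left _ (normalizer_le_normalizer_functor (D.functor W hW) hTp)
      have h1 : Nat.card T < Nat.card (S ⊓ normalizer (W T : Set G) : Subgroup G) :=
        (card_lt_of_lt hlt).trans_le (Subgroup.card_le_of_le hle)
      have h2 := hcard (inf_le_left : S ⊓ normalizer (W T : Set G) ≤ S)
      refine (ih _ ?_).2 (W T) (functor_ne_bot (D.functor W hW) hTp hT0)
        ((functor_le (D.functor W hW) hTp).trans inf_le_left) rfl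
      omega
    have hP : ∀ (R : Subgroup G), R ≤ S → Nat.card S - Nat.card R = d →
        ∀ g : G, cj g R ≤ S → Good R g := by
      intro R hR hRd g hg
      rcases eq_or_ne R ⊥ with rfl | hR0
      · exact D.triv g (by simp)
      rcases eq_or_lt_of_le hR with rfl | hlt
      · have hgR : g ∈ normalizer (R : Set G) :=
          mem_normalizer_iff_cj.2 (Subgroup.eq_of_le_of_card_ge hg (by rw [card_cj]))
        obtain ⟨g0, h0, hE⟩ := D.exists_conj (V := R) le_rfl
        have e : cj g0 R = R := Subgroup.eq_of_le_of_card_ge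
          ((cj_mono (le_inf le_rfl le_normalizer)).trans h0) (by rw [card_cj])
        rw [e] at hE
        refine D.mid (hext R hE hR0 le_rfl ?_) le_rfl g hgR
        have : R ⊓ normalizer (R : Set G) = R := inf_eq_left.2 le_normalizer
        rw [this]; omega
      · have key : ∀ V : Subgroup G, V ≤ S → Nat.card V = Nat.card R →
            ∀ k : G, cj k (S ⊓ normalizer (V : Set G)) ≤ S → Good V k := by
          intro V hV hVc k hk
          have hVlt : V < S := lt_of_le_of_ne hV fun he =>
            hlt.ne (Subgroup.eq_of_le_of_card_ge hR (by rw [← hVc, he]))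
          have hgrow := lt_inf_normalizer' D.isPGroup hVlt
          have h1 := card_lt_of_lt hgrow
          have h2 := hcard (inf_le_left : S ⊓ normalizer (V : Set G) ≤ S)
          exact D.mono ((ih _ (by omega)).1 _ inf_le_left rfl k hk) hgrow.le
        obtain ⟨g1, hg1, hE1⟩ := D.exists_conj hR
        have hUS : cj g1 R ≤ S := (cj_mono (le_inf hR le_normalizer)).trans hg1
        set R' := cj g R with hR'
        set U := cj g1 R with hU
        have hU0 : U ≠ ⊥ := fun h => hR0 (cj_eq_bot_iff.1 h)
        have hgrowU : Nat.card R < Nat.card (S ⊓ normalizer (U : Set G) : Subgroup G) := by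
          have hlt' : U < S := lt_of_le_of_ne hUS fun he =>
            hlt.ne (Subgroup.eq_of_le_of_card_ge hR (by rw [← he, hU, card_cj]))
          have := card_lt_of_lt (lt_inf_normalizer' D.isPGroup hlt')
          rwa [hU, card_cj] at this
        have hQU : Q U := by
          refine hext _ hE1 hU0 hUS ?_
          have := hcard (inf_le_left : S ⊓ normalizer (U : Set G) ≤ S)
          omega
        -- an element moving `R'` onto `U` with its normalizer staying in `S`
        set a := g1 * g⁻¹ with ha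
        have haU : cj a R' = U := by rw [ha, hR', ← cj_mul, inv_mul_cancel_right]
        have hleN : cj a (S ⊓ normalizer (R' : Set G)) ≤ normalizer (U : Set G) := by
          exact (cj_mono (G := G) (g := a) (inf_le_right : S ⊓ normalizer (R' : Set G) ≤ _)).trans
            (le_of_eq (by rw [cj_normalizer, haU]))
        obtain ⟨k, hk, hkle⟩ := SylIn.exists_conj (p := p)
          (T := S ⊓ normalizer (U : Set G)) (H := normalizer (U : Set G))
          ⟨inf_le_right, D.isPGroup.to_le inf_le_left, D.extremal hE1⟩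
          (isPGroup_cj (D.isPGroup.to_le inf_le_left)) hleN
        have hka : cj (k * a) (S ⊓ normalizer (R' : Set G)) ≤ S := by
          rw [cj_mul]; exact hkle.trans inf_le_left
        have hG1 : Good R g1 := key R hR rfl g1 hg1
        have hG2 : Good R' (k * a) := key R' hg (by rw [hR', card_cj]) _ hka
        have hU2 : cj (k * a) R' = U := by rw [cj_mul, haU, mem_normalizer_iff_cj.1 hk]
        have hy : k⁻¹ ∈ normalizer (U : Set G) := inv_mem hk
        have hinv := D.inv hG2
        have hG3 : Good U ((k * a)⁻¹ * k) := by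
          refine D.comp (D.mid hQU hUS k hk) ?_
          rw [image_lc, mem_normalizer_iff_cj.1 hk, ← hU2, ← image_lc]
          exact hinv
        have := D.comp hG1 (k := (k * a)⁻¹ * k) (by rw [image_lc]; exact hG3)
        have e : (k * a)⁻¹ * k * g1 = g := by rw [ha]; group
        rwa [e] at this
    refine ⟨hP, fun V hV0 hV hVd => ?_⟩
    obtain ⟨g, hg, hE⟩ := D.exists_conj hV
    have hUS : cj g V ≤ S := (cj_mono (le_inf hV le_normalizer)).trans hg
    have hUle := cj_inf_normalizer_le hg
    have h1 := Subgroup.card_le_of_le hUle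
    rw [card_cj] at h1
    have hQU : Q (cj g V) :=
      hext _ hE (fun h => hV0 (cj_eq_bot_iff.1 h)) hUS (by omega)
    exact D.move g rfl hg (hP _ inf_le_left hVd g hg) hQU

/-- The subgroups `N_H(W T)`, `W ∈ 𝓦`. -/
def stepSet (𝓦 : Set (Subgroup G → Subgroup G)) (T H : Subgroup G) : Set (Subgroup G) :=
  {N | ∃ W ∈ 𝓦, N = H ⊓ normalizer ((W T : Subgroup G) : Set G)}

theorem link_iff_chain {𝓦 : Set (Subgroup G → Subgroup G)} {T H : Subgroup G} {A : Set G} {h : G} :
    Link T (stepSet 𝓦 T H) A h ↔ ∃ (n : ℕ) (c : Fin (n + 1) → G), c 0 = 1 ∧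
      (∀ i : Fin n, ∃ W ∈ 𝓦,
        c i.succ * (c i.castSucc)⁻¹ ∈ H ⊓ normalizer ((W T : Subgroup G) : Set G)) ∧
      (∀ i : Fin (n + 1), (fun a => c i * a * (c i)⁻¹) '' A ⊆ T) ∧
      ∀ a ∈ A, c (Fin.last n) * a * (c (Fin.last n))⁻¹ = h * a * h⁻¹ := by
  constructor
  · intro hl
    induction hl with
    | @agree A g hA h =>
      refine ⟨0, fun _ => 1, rfl, fun i => i.elim0, fun i => ?_, fun a ha => ?_⟩
      · simpa using hA
      · simpa [lc] using (h a ha).symm
    | @step A g x g' N hN hx hA h' h ih =>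
      obtain ⟨n, c, hc0, hst, hin, hlast⟩ := ih
      obtain ⟨W, hW, rfl⟩ := hN
      refine ⟨n + 1, Fin.cons 1 (fun i => c i * x), rfl, ?_, ?_, ?_⟩
      · intro i
        refine Fin.cases ?_ ?_ i
        · refine ⟨W, hW, ?_⟩
          simpa [hc0] using hx
        · intro j
          obtain ⟨V, hV, hi⟩ := hst j
          refine ⟨V, hV, ?_⟩
          rw [← Fin.succ_castSucc, Fin.cons_succ, Fin.cons_succ]
          simpa [mul_assoc] using hi
      · intro i
        refine Fin.cases ?_ ?_ i
        · simpa using hA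
        · intro j
          rintro _ ⟨a, ha, rfl⟩
          have := hin j ⟨lc x a, ⟨a, ha, rfl⟩, rfl⟩
          simpa [lc, mul_assoc] using this
      · intro a ha
        have := hlast (lc x a) ⟨a, ha, rfl⟩
        rw [← Fin.succ_last, Fin.cons_succ]
        refine Eq.trans ?_ (this.trans (h a ha).symm)
        simp [lc, mul_assoc]
  · rintro ⟨n, c, hc0, hst, hin, hlast⟩
    have key : ∀ i : Fin (n + 1), Link T (stepSet 𝓦 T H) A (c i) := by
      intro i
      induction i using Fin.induction with
      | zero =>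
        rw [hc0]
        refine .agree ?_ fun a _ => lc_one a
        have := hin 0
        simpa [hc0] using this
      | succ i ih =>
        obtain ⟨W, hW, hi⟩ := hst i
        have e : c i.succ = (c i.succ * (c i.castSucc)⁻¹) * c i.castSucc := by group
        rw [e]
        refine ih.comp (Link.single ⟨W, hW, rfl⟩ hi ih.image_subset ?_)
        rw [Set.image_image]
        intro y hy
        obtain ⟨a, ha, rfl⟩ := hy
        have := hin i.succ ⟨a, ha, rfl⟩
        simpa [lc, mul_assoc] using this
    exact (key _).congr fun a ha => (hlast a ha).symm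

variable [Finite G] {p : ℕ} [Fact p.Prime] {S : Subgroup G}
  {𝓦 : Set (Subgroup G → Subgroup G)} {E : Subgroup G → Prop}

/-- Fusion inside `N(V)` of elements of `N_S(V)` is linked in `S`. -/
def FusionQ (S : Subgroup G) (𝓦 : Set (Subgroup G → Subgroup G)) (V : Subgroup G) : Prop :=
  ∀ (A : Set G), ∀ y ∈ normalizer (V : Set G), A ⊆ (S ⊓ normalizer (V : Set G) : Subgroup G) →
    lc y '' A ⊆ (S ⊓ normalizer (V : Set G) : Subgroup G) → Link S (stepSet 𝓦 S ⊤) A y

theorem familyControlsFusion_of_local (hS : SylIn p S ⊤) (h𝓦 : ∀ W ∈ 𝓦, IsConjugacyFunctor p W)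
    (hE : ∀ {U : Subgroup G}, E U → Extremal p S U)
    (hconj : ∀ {V : Subgroup G}, V ≤ S →
      ∃ g : G, cj g (S ⊓ normalizer (V : Set G)) ≤ S ∧ E (cj g V))
    (hloc : ∀ U : Subgroup G, E U → U ≠ ⊥ → U ≤ S →
      FamilyControlsStrongFusionIn p 𝓦 (normalizer (U : Set G))) :
    FamilyControlsStrongFusionIn p 𝓦 ⊤ := by
  have D : LocalGlobalData (p := p) S 𝓦 (Link S (stepSet 𝓦 S ⊤)) (FusionQ S 𝓦) E :=
    { mono := fun h hB => h.mono hB
      comp := fun h h' => h.comp h'
      inv := fun h => h.inv
      triv := fun g hA => .agree (fun a ha => by rw [Set.mem_singleton_iff.1 (hA ha)]; exact S.one_mem)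
        fun a ha => by rw [Set.mem_singleton_iff.1 (hA ha)]; simp [lc]
      mid := fun {U} hQ hUS y hy => hQ _ y hy (le_inf hUS le_normalizer)
        (by rw [image_lc, mem_normalizer_iff_cj.1 hy]; exact le_inf hUS le_normalizer)
      move := by
        intro U V g hgU hg hgood hQ A y hy hA hyA
        have hgy : g * y * g⁻¹ ∈ normalizer (U : Set G) := by
          rw [← hgU, ← cj_normalizer]; exact conj_mem_cj.2 hy
        have hle : cj g (S ⊓ normalizer (V : Set G)) ≤ S ⊓ normalizer (U : Set G) :=
          hgU ▸ cj_inf_normalizer_le hg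
        have him : ∀ {B : Set G}, B ⊆ (S ⊓ normalizer (V : Set G) : Subgroup G) →
            lc g '' B ⊆ (S ⊓ normalizer (U : Set G) : Subgroup G) :=
          fun hB => (Set.image_mono hB).trans hle
        have e : lc (g * y * g⁻¹) '' (lc g '' A) = lc g '' (lc y '' A) := by
          simp only [Set.image_image]
          exact Set.image_congr fun a _ => by rw [← lc_mul, inv_mul_cancel_right, lc_mul]
        have h2 := hQ (lc g '' A) _ hgy (him hA) (e ▸ him hyA)
        have h3 : Link S (stepSet 𝓦 S ⊤) (lc g '' (lc y '' A)) g⁻¹ := (hgood.mono hyA).inv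
        have h4 := ((hgood.mono hA).comp h2).comp (k := g⁻¹) (by
          rw [show lc (g * y * g⁻¹ * g) '' A = lc g '' (lc y '' A) by
            rw [inv_mul_cancel_right, Set.image_image]; exact Set.image_congr fun a _ => lc_mul g y a]
          exact h3)
        rwa [show g⁻¹ * (g * y * g⁻¹ * g) = y by group] at h4
      extremal := fun h => hE h
      exists_conj := hconj
      ext := by
        intro U hEU hU0 hUS hW A y hy hA hyA
        set T := S ⊓ normalizer (U : Set G) with hT
        have hl := link_iff_chain.2 (familyFusionAt_of_controls h𝓦 ((hE hEU).sylIn hS)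
          (hloc U hEU hU0 hUS) A y hy hA hyA)
        clear hy hA hyA
        induction hl with
        | @agree A g hA h => exact .agree (hA.trans (inf_le_left : T ≤ S)) h
        | @step A g x g' N hN hx hA h' h ih =>
          obtain ⟨W, hW', rfl⟩ := hN
          have hTS : (T : Set G) ⊆ S := fun a ha => ha.1
          have hx1 : Link S (stepSet 𝓦 S ⊤) A x := by
            by_cases hTS' : T = S
            · refine Link.single ⟨W, hW', rfl⟩ ⟨mem_top _, ?_⟩ (hA.trans hTS) (h'.subset.trans hTS)
              rw [← hTS']; exact hx.2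
            · have hTp : IsPGroup p T := hS.isPGroup.to_le inf_le_left
              have hle : T ≤ S ⊓ normalizer (W T : Set G) :=
                le_inf inf_le_left (le_normalizer_functor (h𝓦 W hW') hTp)
              exact hW W hW' hTS' A x hx.2 (hA.trans hle) (h'.subset.trans hle)
          exact (hx1.comp ih).congr fun a ha => by rw [lc_mul]; exact h a ha
      isPGroup := hS.isPGroup
      functor := h𝓦 }
  refine ⟨S, le_top, hS.isPGroup, hS.not_dvd, fun A g _ hA hgA => link_iff_chain.1 ?_⟩
  refine (D.good.1 (closure A) ((closure_le _).2 hA) g ?_).mono subset_closure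
  rw [Subgroup.map_le_iff_le_comap, closure_le]
  intro a ha
  exact hgA ⟨a, ha, rfl⟩

/-- The subgroup generated by the local transfer intersections. -/
def transferTarget (S : Subgroup G) (𝓦 : Set (Subgroup G → Subgroup G)) : Subgroup G :=
  ⨆ W ∈ 𝓦, S ⊓ ⁅(⊤ : Subgroup G) ⊓ normalizer ((W S : Subgroup G) : Set G),
    (⊤ : Subgroup G) ⊓ normalizer ((W S : Subgroup G) : Set G)⁆

theorem transferTarget_le (S : Subgroup G) (𝓦 : Set (Subgroup G → Subgroup G)) :
    transferTarget S 𝓦 ≤ S ⊓ ⁅(⊤ : Subgroup G), ⊤⁆ :=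
  iSup₂_le fun _ _ => inf_le_inf_left _ (commutator_mono inf_le_left inf_le_left)

theorem familyControlsTransfer_of_focal {S : Subgroup G} (hS : SylIn p S ⊤)
    (h : ∀ a ∈ S, ∀ g : G, lc g a ∈ S → a⁻¹ * lc g a ∈ transferTarget S 𝓦) :
    FamilyControlsTransferIn p 𝓦 ⊤ := by
  refine ⟨S, le_top, hS.isPGroup, hS.not_dvd, ?_⟩
  refine le_antisymm ?_ (transferTarget_le S 𝓦)
  obtain ⟨P, hP⟩ := hS.to_sylow
  subst hP
  rw [inf_comm, ← commutator_def, commutator_inf_eq_focalSubgroup, focalSubgroup_def, closure_le]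
  rintro z ⟨hz, x, hx, u, rfl⟩
  have hmem : lc u x⁻¹ ∈ (P : Subgroup G) := by
    have := mul_mem (inv_mem hx) hz
    rw [commutatorElement_def] at this
    simpa [lc, mul_assoc] using this
  have h1 := h x⁻¹ (inv_mem hx) u hmem
  simpa [transferTarget, commutatorElement_def, lc, mul_assoc] using h1

theorem familyControlsTransfer_of_local (hS : SylIn p S ⊤) (h𝓦 : ∀ W ∈ 𝓦, IsConjugacyFunctor p W)
    (hE : ∀ {U : Subgroup G}, E U → Extremal p S U)
    (hconj : ∀ {V : Subgroup G}, V ≤ S →
      ∃ g : G, cj g (S ⊓ normalizer (V : Set G)) ≤ S ∧ E (cj g V))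
    (hloc : ∀ U : Subgroup G, E U → U ≠ ⊥ → U ≤ S →
      FamilyControlsTransferIn p 𝓦 (normalizer (U : Set G))) :
    FamilyControlsTransferIn p 𝓦 ⊤ := by
  set X := transferTarget S 𝓦 with hX
  have D : LocalGlobalData (p := p) S 𝓦
      (fun A g => ∀ a ∈ A, a ∈ S ∧ lc g a ∈ S ∧ a⁻¹ * lc g a ∈ X)
      (fun V => S ⊓ normalizer (V : Set G) ⊓ ⁅normalizer (V : Set G), normalizer (V : Set G)⁆ ≤ X) E :=
    { mono := fun h hB a ha => h a (hB ha)
      comp := fun {A g k} h h' a ha => by
        obtain ⟨h1, -, h3⟩ := h a ha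
        obtain ⟨-, h5, h6⟩ := h' _ ⟨a, ha, rfl⟩
        refine ⟨h1, by rw [lc_mul]; exact h5, ?_⟩
        rw [lc_mul, show a⁻¹ * lc k (lc g a) = (a⁻¹ * lc g a) * ((lc g a)⁻¹ * lc k (lc g a)) by group]
        exact mul_mem h3 h6
      inv := fun {A g} h => by
        rintro _ ⟨a, ha, rfl⟩
        obtain ⟨h1, h2, h3⟩ := h a ha
        refine ⟨h2, by rwa [lc_inv_lc], ?_⟩
        rw [lc_inv_lc, show (lc g a)⁻¹ * a = (a⁻¹ * lc g a)⁻¹ by group]
        exact inv_mem h3
      triv := fun g hA a ha => by
        rw [Set.mem_singleton_iff.1 (hA ha)]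
        simp [lc]
      mid := fun {U} hQ hUS y hy a ha => by
        have hyU : lc y a ∈ U := (Subgroup.mem_normalizer_iff.1 hy a).1 ha
        have haN : a ∈ normalizer (U : Set G) := le_normalizer ha
        refine ⟨hUS ha, hUS hyU, hQ ⟨⟨S.mul_mem (S.inv_mem (hUS ha)) (hUS hyU),
          (normalizer (U : Set G)).mul_mem ((normalizer (U : Set G)).inv_mem haN) (le_normalizer hyU)⟩, ?_⟩⟩
        have := commutator_mem_commutator (inv_mem haN) hy
        simpa [commutatorElement_def, lc, mul_assoc] using this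
      move := by
        intro U V g hgU hg hgood hQ a ha
        obtain ⟨-, h2, h3⟩ := hgood a ha.1
        have h4 : lc g a ∈ X := by
          refine hQ ⟨?_, ?_⟩
          · exact hgU ▸ cj_inf_normalizer_le hg (conj_mem_cj.2 ha.1)
          · have := conj_mem_cj (g := g).2 ha.2
            rwa [cj_commutator, cj_normalizer, hgU] at this
        have h5 := mul_mem h4 (inv_mem h3)
        simpa [lc, mul_assoc] using h5
      extremal := fun h => hE h
      exists_conj := hconj
      ext := by
        intro U hEU hU0 hUS hW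
        set T := S ⊓ normalizer (U : Set G) with hT
        rw [familyTransferAt_of_controls h𝓦 ((hE hEU).sylIn hS) (hloc U hEU hU0 hUS)]
        refine iSup₂_le fun W hW' => ?_
        by_cases hTS : T = S
        · refine le_trans ?_ (le_iSup₂_of_le W hW' le_rfl)
          rw [← hT, hTS]
          exact inf_le_inf_left _ (commutator_mono (le_inf le_top inf_le_right) (le_inf le_top inf_le_right))
        · refine le_trans ?_ (hW W hW' hTS)
          exact inf_le_inf (le_inf inf_le_left
              (le_normalizer_functor (h𝓦 W hW') (hS.isPGroup.to_le inf_le_left)))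
            (commutator_mono inf_le_right inf_le_right)
      isPGroup := hS.isPGroup
      functor := h𝓦 }
  refine familyControlsTransfer_of_focal hS fun a ha g hga => ?_
  refine (D.good.1 (zpowers a) ((zpowers_le).2 ha) g ?_ a (mem_zpowers a)).2.2
  rw [Subgroup.map_le_iff_le_comap, zpowers_le]
  exact hga

end CfsgLib.Techniques
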