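import Cfsg.Prelude.Def_Transfer
import Mathlib.GroupTheory.Sylow
import Mathlib.GroupTheory.Complement
import Mathlib.Tactic.Ring
import Mathlib.Tactic.Linarith

/-!
Finite groups covered by abelian maximal subgroups with pairwise trivial intersection.
-/

set_option autoImplicit false

namespace CfsgLib.Techniques.MaxCover

open Subgroup

variable {Q : Type*} [Group Q] [Finite Q]

theorem mem_map_conj {g y : Q} {B : Subgroup Q} :
    y ∈ B.map (MulAut.conj g).toMonoidHom ↔ g⁻¹ * y * g ∈ B := by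
  rw [Subgroup.mem_map_equiv]
  simp [MulAut.conj_symm_apply]

/-- The non-identity elements of the conjugates of a self-normalizing subgroup. -/
noncomputable def cls (B : Subgroup Q) : (Q ⧸ B) × {b : B // b ≠ 1} → {x : Q // x ≠ 1} := fun cb =>
  ⟨cb.1.out * ((cb.2 : B) : Q) * cb.1.out⁻¹, fun h =>
    cb.2.2 (Subtype.ext (conj_eq_one_iff.1 h))⟩

theorem cls_injective {B : Subgroup Q}
    (hB : ∀ g : Q, g ∉ B → B ⊓ B.map (MulAut.conj g).toMonoidHom = ⊥) :
    Function.Injective (cls B) := by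
  rintro ⟨c, b⟩ ⟨c', b'⟩ h
  have h1 : c.out * ((b : B) : Q) * c.out⁻¹ = c'.out * ((b' : B) : Q) * c'.out⁻¹ :=
    congrArg Subtype.val h
  have hc : c = c' := by
    rw [← QuotientGroup.out_eq' c, ← QuotientGroup.out_eq' c', QuotientGroup.eq]
    by_contra hg
    have h2 : ((b : B) : Q) ∈ B ⊓ B.map (MulAut.conj (c.out⁻¹ * c'.out)).toMonoidHom := by
      refine Subgroup.mem_inf.2 ⟨(b : B).2, mem_map_conj.2 ?_⟩
      rw [show (c.out⁻¹ * c'.out)⁻¹ * ((b : B) : Q) * (c.out⁻¹ * c'.out) =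
        c'.out⁻¹ * (c.out * ((b : B) : Q) * c.out⁻¹) * c'.out by group, h1]
      rw [show c'.out⁻¹ * (c'.out * ((b' : B) : Q) * c'.out⁻¹) * c'.out = ((b' : B) : Q) by group]
      exact (b' : B).2
    rw [hB _ hg, Subgroup.mem_bot] at h2
    exact b.2 (Subtype.ext h2)
  subst hc
  exact Prod.ext rfl (Subtype.ext (Subtype.ext (mul_left_cancel (mul_right_cancel h1))))

theorem card_ne_one (α : Type*) [One α] [Finite α] : Nat.card {x : α // x ≠ 1} = Nat.card α - 1 := by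
  classical
  haveI := Fintype.ofFinite α
  rw [Nat.card_eq_fintype_card, Nat.card_eq_fintype_card, Fintype.card_subtype_compl,
    Fintype.card_subtype_eq]

theorem normalizer_eq_self {B : Subgroup Q} (hco : IsCoatom B) (hn : ¬ B.Normal) :
    normalizer (B : Set Q) = B := by
  rcases eq_or_lt_of_le (le_normalizer (H := B)) with e | e
  · exact e.symm
  · exact absurd (Subgroup.normalizer_eq_top_iff.1 (hco.2 _ e)) hn

variable {𝒜 : Set (Subgroup Q)}

theorem inter_conj (hco : ∀ A ∈ 𝒜, IsCoatom A)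
    (htriv : ∀ A ∈ 𝒜, ∀ B ∈ 𝒜, A ≠ B → A ⊓ B = ⊥)
    (hconj : ∀ A ∈ 𝒜, ∀ g : Q, A.map (MulAut.conj g).toMonoidHom ∈ 𝒜)
    {B : Subgroup Q} (hB : B ∈ 𝒜) (hn : ¬ B.Normal) :
    ∀ g : Q, g ∉ B → B ⊓ B.map (MulAut.conj g).toMonoidHom = ⊥ := by
  intro g hg
  refine htriv B hB _ (hconj B hB g) fun e => hg ?_
  rw [← normalizer_eq_self (hco B hB) hn]
  refine Subgroup.mem_normalizer_iff.2 fun x => ?_
  conv_rhs => rw [e]
  rw [mem_map_conj, show g⁻¹ * (g * x * g⁻¹) * g = x by group]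

/-- A normal member and another member are complementary, the second of prime order. -/
theorem pair_data (hco : ∀ A ∈ 𝒜, IsCoatom A) (htriv : ∀ A ∈ 𝒜, ∀ B ∈ 𝒜, A ≠ B → A ⊓ B = ⊥)
    (hne : ∀ A ∈ 𝒜, A ≠ ⊥) {A B : Subgroup Q} (hA : A ∈ 𝒜) (hB : B ∈ 𝒜) (hAB : A ≠ B)
    (hn : A.Normal) :
    A ⊔ B = ⊤ ∧ Nat.card A * Nat.card B = Nat.card Q ∧ (Nat.card B).Prime := by
  have hbot := htriv A hA B hB hAB
  have htop : A ⊔ B = ⊤ := (hco A hA).2 _ (lt_of_le_of_ne le_sup_left fun e => hne B hB (by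
    rw [← le_bot_iff, ← hbot]
    exact le_inf (le_sup_right.trans e.ge) le_rfl))
  have hcomp : IsComplement' A B := isComplement'_of_disjoint_and_mul_eq_univ
    (disjoint_iff.2 hbot) (by rw [← Subgroup.normal_mul, htop, Subgroup.coe_top])
  refine ⟨htop, hcomp.card_mul, ?_⟩
  have h1 : Nat.card B ≠ 1 := fun e => hne B hB (Subgroup.card_eq_one.1 e)
  haveI := Fact.mk (Nat.minFac_prime h1)
  obtain ⟨⟨w, hwB⟩, hw⟩ := exists_prime_orderOf_dvd_card' (G := B) _ (Nat.minFac_dvd (Nat.card B))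
  rw [Subgroup.orderOf_mk] at hw
  have hwA : w ∉ A := fun hc => by
    have : w ∈ A ⊓ B := Subgroup.mem_inf.2 ⟨hc, hwB⟩
    rw [hbot, Subgroup.mem_bot] at this
    rw [this, orderOf_one] at hw
    exact (Nat.minFac_prime h1).one_lt.ne hw
  have hle : B ≤ zpowers w := by
    intro b hb
    have h2 : A ⊔ zpowers w = ⊤ := (hco A hA).2 _
      (lt_of_le_of_ne le_sup_left fun e => hwA (e.ge ((le_sup_right : zpowers w ≤ _) (mem_zpowers w))))
    obtain ⟨a, ha, z, hz, hb'⟩ := Subgroup.mem_sup_of_normal_left.1 (h2 ▸ mem_top b : b ∈ A ⊔ zpowers w)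
    have hzB : z ∈ B := (zpowers_le.2 hwB) hz
    have ha1 : a ∈ A ⊓ B := Subgroup.mem_inf.2 ⟨ha, by
      rw [show a = b * z⁻¹ by rw [← hb']; group]
      exact mul_mem hb (inv_mem hzB)⟩
    rw [hbot, Subgroup.mem_bot] at ha1
    rwa [← hb', ha1, one_mul]
  rw [le_antisymm hle (zpowers_le.2 hwB), Nat.card_zpowers, hw]
  exact Nat.minFac_prime h1

/-- The structure theorem. -/
theorem cover_structure (𝒜 : Set (Subgroup Q)) (hco : ∀ A ∈ 𝒜, IsCoatom A)
    (hab : ∀ A ∈ 𝒜, ∀ a ∈ A, ∀ b ∈ A, Commute a b)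
    (htriv : ∀ A ∈ 𝒜, ∀ B ∈ 𝒜, A ≠ B → A ⊓ B = ⊥) (hne : ∀ A ∈ 𝒜, A ≠ ⊥)
    (hcov : ∀ x : Q, x ≠ 1 → ∃ A ∈ 𝒜, x ∈ A)
    (hconj : ∀ A ∈ 𝒜, ∀ g : Q, A.map (MulAut.conj g).toMonoidHom ∈ 𝒜)
    (hnp : ∀ p : ℕ, p.Prime → ¬ IsPGroup p Q) :
    ∃ (A B : Subgroup Q) (p q k : ℕ), A.Normal ∧ ¬ B.Normal ∧ p.Prime ∧ q.Prime ∧ p ≠ q ∧
      Nat.card A = p ^ k ∧ Nat.card B = q ∧ Nat.card Q = p ^ k * q ∧
      Cfsg.IsElementaryAbelian p A ∧
      (∀ g : Q, g ∉ B → B ⊓ B.map (MulAut.conj g).toMonoidHom = ⊥) ∧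
      (∀ x : Q, x ∉ A → ∃ C : Subgroup Q, x ∈ C ∧ ¬ C.Normal ∧ Nat.card C = q) ∧
      (∀ H : Subgroup Q, H ≠ ⊤ → ∀ a ∈ H, ∀ b ∈ H, Commute a b) := by
  classical
  obtain ⟨x₀, hx₀⟩ : ∃ x : Q, x ≠ 1 := by
    by_contra hc
    push Not at hc
    exact hnp 2 Nat.prime_two fun x => ⟨0, by rw [hc x, one_pow]⟩
  obtain ⟨A₀, hA₀, -⟩ := hcov x₀ hx₀
  have hother : ∀ A ∈ 𝒜, ∃ B ∈ 𝒜, A ≠ B := by
    intro A hA
    obtain ⟨x, -, hx⟩ := SetLike.exists_of_lt (lt_top_iff_ne_top.2 (hco A hA).1)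
    obtain ⟨B, hB, hxB⟩ := hcov x fun e => hx (e ▸ one_mem A)
    exact ⟨B, hB, fun e => hx (e ▸ hxB)⟩
  -- a non-normal member exists
  obtain ⟨B, hB, hBn⟩ : ∃ B ∈ 𝒜, ¬ B.Normal := by
    by_contra hc
    push Not at hc
    obtain ⟨B, hB, hAB⟩ := hother A₀ hA₀
    obtain ⟨htop, hcard, hbp⟩ := pair_data hco htriv hne hA₀ hB hAB (hc A₀ hA₀)
    obtain ⟨-, -, hap⟩ := pair_data hco htriv hne hB hA₀ hAB.symm (hc B hB)
    by_cases heq : Nat.card A₀ = Nat.card B
    · exact hnp _ hbp (IsPGroup.of_card (n := 2) (by rw [← hcard, heq, pow_two]))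
    · haveI := Fact.mk hap
      haveI := Fact.mk hbp
      obtain ⟨⟨a, ha⟩, hao⟩ := exists_prime_orderOf_dvd_card' (G := A₀) _ dvd_rfl
      obtain ⟨⟨b, hb⟩, hbo⟩ := exists_prime_orderOf_dvd_card' (G := B) _ dvd_rfl
      rw [Subgroup.orderOf_mk] at hao hbo
      have hcm : Commute a b := Subgroup.commute_of_normal_of_disjoint A₀ B (hc A₀ hA₀) (hc B hB)
        (disjoint_iff.2 (htriv A₀ hA₀ B hB hAB)) a b ha hb
      have ho : orderOf (a * b) = Nat.card Q := by
        rw [hcm.orderOf_mul_eq_mul_orderOf_of_coprime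
          (by rw [hao, hbo]; exact (Nat.coprime_primes hap hbp).2 heq), hao, hbo, hcard]
      obtain ⟨C, hC, hCm⟩ := hcov (a * b) fun e => by
        rw [e, orderOf_one] at ho
        have := hap.two_le
        have := hbp.two_le
        nlinarith
      exact (hco C hC).1 (top_le_iff.1 ((Subgroup.eq_top_of_card_eq _
        (by rw [Nat.card_zpowers, ho])).ge.trans (zpowers_le.2 hCm)))
  -- a normal member exists
  obtain ⟨A, hA, hAn⟩ : ∃ A ∈ 𝒜, A.Normal := by
    by_contra hc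
    push Not at hc
    have hi := cls_injective (inter_conj hco htriv hconj hB hBn)
    have hcB := B.card_mul_index
    have hidx : B.index ≠ 0 := Subgroup.index_ne_zero_of_finite
    have hidx1 : B.index ≠ 1 := fun e => (hco B hB).1 (Subgroup.index_eq_one.1 e)
    have hb1 : Nat.card B ≠ 1 := fun e => hne B hB (Subgroup.card_eq_one.1 e)
    have hcardcls : Nat.card ((Q ⧸ B) × {b : B // b ≠ 1}) = B.index * (Nat.card B - 1) := by
      rw [Nat.card_prod, card_ne_one]; rfl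
    by_cases hs : Function.Surjective (cls B)
    · have h1 := Nat.card_congr (Equiv.ofBijective _ ⟨hi, hs⟩)
      rw [hcardcls, card_ne_one, ← hcB] at h1
      obtain ⟨b, hb⟩ : ∃ b, Nat.card B = b + 2 := ⟨Nat.card B - 2, by
        have : 0 < Nat.card B := Nat.card_pos
        omega⟩
      obtain ⟨i, hi'⟩ : ∃ i, B.index = i + 2 := ⟨B.index - 2, by omega⟩
      rw [hb, hi'] at h1
      have e1 : (i + 2) * (b + 2 - 1) = (i + 2) * b + (i + 2) := by
        rw [show b + 2 - 1 = b + 1 by omega]; ring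
      have e2 : (b + 2) * (i + 2) = (i + 2) * b + (2 * i + 4) := by ring
      rw [e1, e2] at h1
      omega
    · simp only [Function.Surjective, not_forall, not_exists] at hs
      obtain ⟨y, hy⟩ := hs
      obtain ⟨C, hC, hyC⟩ := hcov y y.2
      have hCn := hc C hC
      have hi2 := cls_injective (inter_conj hco htriv hconj hC hCn)
      have hinj : Function.Injective (Sum.elim (cls B) (cls C)) := by
        refine hi.sumElim hi2 fun u v e => ?_
        obtain ⟨c, b⟩ := u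
        obtain ⟨c', b'⟩ := v
        have h1 : c.out * ((b : B) : Q) * c.out⁻¹ = c'.out * ((b' : C) : Q) * c'.out⁻¹ :=
          congrArg Subtype.val e
        have hBC : B.map (MulAut.conj c.out).toMonoidHom = C.map (MulAut.conj c'.out).toMonoidHom := by
          by_contra hne'
          have h2 : (c.out * ((b : B) : Q) * c.out⁻¹) ∈ B.map (MulAut.conj c.out).toMonoidHom ⊓
              C.map (MulAut.conj c'.out).toMonoidHom :=
            Subgroup.mem_inf.2 ⟨mem_map_conj.2 (by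
                rw [show c.out⁻¹ * (c.out * ((b : B) : Q) * c.out⁻¹) * c.out = ((b : B) : Q) by group]
                exact (b : B).2),
              mem_map_conj.2 (by
                rw [h1, show c'.out⁻¹ * (c'.out * ((b' : C) : Q) * c'.out⁻¹) * c'.out =
                  ((b' : C) : Q) by group]
                exact (b' : C).2)⟩
          rw [htriv _ (hconj B hB _) _ (hconj C hC _) hne', Subgroup.mem_bot, conj_eq_one_iff] at h2
          exact b.2 (Subtype.ext h2)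
        -- so `y` lies in a conjugate of `B`
        have h3 : c'.out * (y : Q) * c'.out⁻¹ ∈ B.map (MulAut.conj c.out).toMonoidHom := by
          rw [hBC, mem_map_conj,
            show c'.out⁻¹ * (c'.out * (y : Q) * c'.out⁻¹) * c'.out = (y : Q) by group]
          exact hyC
        rw [mem_map_conj] at h3
        set g := c.out⁻¹ * c'.out with hg
        have hb' : g * (y : Q) * g⁻¹ ∈ B := by
          rw [hg]
          convert h3 using 1
          group
        set d : Q ⧸ B := QuotientGroup.mk g⁻¹ with hd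
        have hd1 : d.out⁻¹ * g⁻¹ ∈ B := by
          rw [← QuotientGroup.eq, QuotientGroup.out_eq', hd]
        have hb2 : d.out⁻¹ * (y : Q) * d.out ∈ B := by
          rw [show d.out⁻¹ * (y : Q) * d.out =
            (d.out⁻¹ * g⁻¹) * (g * (y : Q) * g⁻¹) * (d.out⁻¹ * g⁻¹)⁻¹ by group]
          exact mul_mem (mul_mem hd1 hb') (inv_mem hd1)
        refine hy (d, ⟨⟨_, hb2⟩, fun e2 => y.2 ?_⟩) (Subtype.ext ?_)
        · have e3 : d.out⁻¹ * (y : Q) * d.out = 1 := congrArg Subtype.val e2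
          calc (y : Q) = d.out * (d.out⁻¹ * (y : Q) * d.out) * d.out⁻¹ := by group
            _ = 1 := by rw [e3]; group
        · change d.out * (d.out⁻¹ * (y : Q) * d.out) * d.out⁻¹ = (y : Q)
          group
      have h1 := Nat.card_le_card_of_injective _ hinj
      have hcC := C.card_mul_index
      have hjC : C.index ≠ 0 := Subgroup.index_ne_zero_of_finite
      have hc1 : Nat.card C ≠ 1 := fun e => hne C hC (Subgroup.card_eq_one.1 e)
      have hQ : 0 < Nat.card Q := Nat.card_pos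
      rw [Nat.card_sum, hcardcls, Nat.card_prod, card_ne_one, card_ne_one] at h1
      change B.index * (Nat.card B - 1) + C.index * (Nat.card C - 1) ≤ _ at h1
      obtain ⟨b, hb⟩ : ∃ b, Nat.card B = b + 2 := ⟨Nat.card B - 2, by
        have : 0 < Nat.card B := Nat.card_pos
        omega⟩
      obtain ⟨c, hc2⟩ : ∃ c, Nat.card C = c + 2 := ⟨Nat.card C - 2, by
        have : 0 < Nat.card C := Nat.card_pos
        omega⟩
      rw [hb, hc2, show b + 2 - 1 = b + 1 by omega, show c + 2 - 1 = c + 1 by omega] at h1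
      rw [hb] at hcB
      rw [hc2] at hcC
      have : B.index * (b + 1) + C.index * (c + 1) + 1 ≤ Nat.card Q := by omega
      nlinarith
  have hBA : A ≠ B := fun e => hBn (e ▸ hAn)
  obtain ⟨htop, hcard, hbp⟩ := pair_data hco htriv hne hA hB hBA hAn
  have huniq : ∀ A' ∈ 𝒜, A'.Normal → A' = A := by
    intro A' hA' hn'
    by_contra hne'
    obtain ⟨htop', -, -⟩ := pair_data hco htriv hne hA hA' (Ne.symm hne') hAn
    haveI := hAn
    apply hBn
    refine ⟨fun n hn g => ?_⟩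
    obtain ⟨a, ha, a', ha', rfl⟩ := Subgroup.mem_sup_of_normal_left.1
      (htop' ▸ mem_top g : g ∈ A ⊔ A')
    obtain ⟨u, hu, u', hu', rfl⟩ := Subgroup.mem_sup_of_normal_left.1
      (htop' ▸ mem_top n : n ∈ A ⊔ A')
    have hd := disjoint_iff.2 (htriv A hA A' hA' (Ne.symm hne'))
    have hcm := fun (x y : Q) (hx : x ∈ A) (hy : y ∈ A') =>
      Subgroup.commute_of_normal_of_disjoint A A' hAn hn' hd x y hx hy
    have h : Commute (a * a') (u * u') :=
      Commute.mul_left ((hab A hA a ha u hu).mul_right (hcm a u' ha hu'))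
        ((hcm u a' hu ha').symm.mul_right (hab A' hA' a' ha' u' hu'))
    rw [h.eq, mul_inv_cancel_right]
    exact hn
  obtain ⟨p, hp, hpd⟩ := Nat.exists_prime_and_dvd fun e => hne A hA (Subgroup.card_eq_one.1 e)
  haveI := Fact.mk hp
  haveI := hAn
  -- `A` is a minimal normal subgroup
  have hmin : ∀ W : Subgroup Q, W.Normal → W ≤ A → W ≠ ⊥ → W = A := by
    intro W hWn hWA hWne
    rcases eq_or_lt_of_le (le_sup_right : B ≤ W ⊔ B) with e | e
    · exfalso
      apply hWne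
      rw [← le_bot_iff, ← htriv A hA B hB hBA]
      exact le_inf hWA (le_sup_left.trans e.ge)
    · have h2 := (hco B hB).2 _ e
      refine le_antisymm hWA fun a ha => ?_
      obtain ⟨w, hw, b, hb, hwb⟩ := Subgroup.mem_sup_of_normal_left.1 (h2 ▸ mem_top a : a ∈ W ⊔ B)
      have hb1 : b ∈ A ⊓ B := Subgroup.mem_inf.2 ⟨by
        rw [show b = w⁻¹ * a by rw [← hwb]; group]
        exact mul_mem (inv_mem (hWA hw)) ha, hb⟩
      rw [htriv A hA B hB hBA, Subgroup.mem_bot] at hb1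
      rwa [← hwb, hb1, mul_one]
  let W : Subgroup Q :=
    { carrier := {g | g ∈ A ∧ g ^ p = 1}
      one_mem' := ⟨one_mem A, one_pow p⟩
      mul_mem' := fun {a b} ha hb => ⟨mul_mem ha.1 hb.1, by
        rw [(hab A hA a ha.1 b hb.1).mul_pow, ha.2, hb.2, one_mul]⟩
      inv_mem' := fun {a} ha => ⟨inv_mem ha.1, by rw [inv_pow, ha.2, inv_one]⟩ }
  have hWn : W.Normal := ⟨fun w hw g => ⟨hAn.conj_mem w hw.1 g, by
    rw [conj_pow, hw.2, mul_one, mul_inv_cancel]⟩⟩
  obtain ⟨⟨a₀, ha₀⟩, hao⟩ := exists_prime_orderOf_dvd_card' (G := A) p hpd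
  rw [Subgroup.orderOf_mk] at hao
  have hWA : W = A := hmin W hWn (fun g hg => hg.1) fun e => by
    have h1 : a₀ ∈ W := ⟨ha₀, by rw [← hao, pow_orderOf_eq_one]⟩
    rw [e, Subgroup.mem_bot] at h1
    rw [h1, orderOf_one] at hao
    exact hp.one_lt.ne hao
  have hel : Cfsg.IsElementaryAbelian p A :=
    ⟨⟨⟨fun a b => Subtype.ext (hab A hA a a.2 b b.2)⟩⟩, fun a ha => (hWA.ge ha).2⟩
  obtain ⟨k, hk⟩ := IsPGroup.exists_card_eq (p := p) (G := A) fun a =>
    ⟨1, Subtype.ext (by rw [pow_one]; exact hel.2 a a.2)⟩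
  have hC : ∀ x : Q, x ∉ A → ∃ C ∈ 𝒜, x ∈ C ∧ ¬ C.Normal ∧ Nat.card C = Nat.card B ∧
      C = zpowers x := by
    intro x hx
    have hx1 : x ≠ 1 := fun e => hx (e ▸ one_mem A)
    obtain ⟨C, hC, hxC⟩ := hcov x hx1
    have hCA : A ≠ C := fun e => hx (e ▸ hxC)
    obtain ⟨-, hcard', hcp⟩ := pair_data hco htriv hne hA hC hCA hAn
    refine ⟨C, hC, hxC, fun hn => hCA (huniq C hC hn).symm, ?_, ?_⟩
    · exact Nat.eq_of_mul_eq_mul_left (Nat.card_pos (α := A)) (hcard'.trans hcard.symm)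
    · haveI := Fact.mk hcp
      refine (Subgroup.eq_of_le_of_card_ge (zpowers_le.2 hxC) ?_).symm
      rw [Nat.card_zpowers]
      refine le_of_eq ((hcp.eq_one_or_self_of_dvd _ ?_).resolve_left fun e => hx1 (orderOf_eq_one_iff.1 e)).symm
      rw [← Nat.card_zpowers]
      exact Subgroup.card_dvd_of_le (zpowers_le.2 hxC)
  refine ⟨A, B, p, Nat.card B, k, hAn, hBn, hp, hbp, ?_, hk, rfl, by rw [← hcard, hk], hel,
    inter_conj hco htriv hconj hB hBn, fun x hx => ?_, ?_⟩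
  · intro e
    exact hnp p hp (IsPGroup.of_card (n := k + 1) (by rw [← hcard, hk, ← e, pow_succ]))
  · obtain ⟨C, -, h1, h2, h3, -⟩ := hC x hx
    exact ⟨C, h1, h2, h3⟩
  · intro H hH a ha b hb
    by_cases hle : H ≤ A
    · exact hab A hA a (hle ha) b (hle hb)
    · obtain ⟨x, hxH, hxA⟩ := SetLike.not_le_iff_exists.1 hle
      obtain ⟨C, hC', -, -, -, hCx⟩ := hC x hxA
      have hCH : C ≤ H := hCx ▸ zpowers_le.2 hxH
      rcases eq_or_lt_of_le hCH with e | e
      · exact hab C hC' a (e ▸ ha) b (e ▸ hb)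
      · exact absurd ((hco C hC').2 _ e) hH

end CfsgLib.Techniques.MaxCover
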