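import Cfsg.Prelude.Def_Transfer
import Mathlib.GroupTheory.Nilpotent
import Mathlib.GroupTheory.Sylow
import Mathlib.GroupTheory.Transfer
import Mathlib.Data.Nat.Factorization.Basic
import Mathlib.Tactic.Ring
import Mathlib.Tactic.Linarith

/-!
Groups in which the centralizer of every non-central element is a maximal subgroup.
-/

set_option autoImplicit false

namespace CfsgLib.Techniques.MaxCent

open Subgroup

variable {G : Type*} [Group G]

local notation "Cn" x => Subgroup.centralizer ({x} : Set G)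

theorem mem_cn {x y : G} : (y ∈ Cn x) ↔ Commute y x :=
  Subgroup.mem_centralizer_singleton_iff

theorem self_mem_cn (x : G) : x ∈ Cn x := mem_cn.2 (Commute.refl x)

theorem center_le_cn (x : G) : center G ≤ Cn x := fun z hz =>
  mem_cn.2 ((Subgroup.mem_center_iff.1 hz x).symm)

theorem cn_le_cn_pow (x : G) (n : ℕ) : (Cn x) ≤ Cn (x ^ n) := fun _ hy =>
  mem_cn.2 ((mem_cn.1 hy).pow_right n)

theorem ne_top_cn {x : G} (hx : x ∉ center G) : (Cn x) ≠ ⊤ := fun h =>
  hx (Subgroup.mem_center_iff.2 fun y => mem_cn.1 (h ▸ mem_top y))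

theorem cn_conj (g x : G) : (Cn x).map (MulAut.conj g).toMonoidHom = Cn (g * x * g⁻¹) := by
  ext y
  rw [Subgroup.mem_map]
  constructor
  · rintro ⟨w, hw, rfl⟩
    rw [MulEquiv.toMonoidHom_eq_coe, MonoidHom.coe_coe, MulAut.conj_apply]
    refine mem_cn.2 ?_
    have h := (mem_cn.1 hw).eq
    change g * w * g⁻¹ * (g * x * g⁻¹) = g * x * g⁻¹ * (g * w * g⁻¹)
    calc g * w * g⁻¹ * (g * x * g⁻¹) = g * (w * x) * g⁻¹ := by group
      _ = g * (x * w) * g⁻¹ := by rw [h]
      _ = g * x * g⁻¹ * (g * w * g⁻¹) := by group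
  · intro hy
    refine ⟨g⁻¹ * y * g, mem_cn.2 ?_, ?_⟩
    · have h := (mem_cn.1 hy).eq
      change g⁻¹ * y * g * x = x * (g⁻¹ * y * g)
      calc g⁻¹ * y * g * x = g⁻¹ * (y * (g * x * g⁻¹)) * g := by group
        _ = g⁻¹ * ((g * x * g⁻¹) * y) * g := by rw [h]
        _ = x * (g⁻¹ * y * g) := by group
    · rw [MulEquiv.toMonoidHom_eq_coe, MonoidHom.coe_coe, MulAut.conj_apply]
      group

/-- Non-central elements have maximal centralizers. -/
def HMax (G : Type*) [Group G] : Prop :=
  ∀ x : G, x ∉ center G → IsCoatom (Subgroup.centralizer ({x} : Set G))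

theorem eq_of_le (h : HMax G) {x y : G} (hx : x ∉ center G) (hy : y ∉ center G)
    (hle : (Cn y) ≤ Cn x) : (Cn y) = Cn x := by
  rcases eq_or_lt_of_le hle with e | e
  · exact e
  · exact absurd ((h y hy).2 _ e) (ne_top_cn hx)

theorem cn_pow_eq (h : HMax G) {x : G} (hx : x ∉ center G) {n : ℕ} (hn : x ^ n ∉ center G) :
    (Cn (x ^ n)) = Cn x :=
  (eq_of_le h hn hx (cn_le_cn_pow x n)).symm

theorem coprime_comm (h : HMax G) {x y : G} (hx : x ∉ center G) (hy : y ∉ center G) (hc : Commute x y)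
    {m n : ℕ} (hm : x ^ m ∈ center G) (hn : y ^ n ∈ center G) (hmn : m.Coprime n) :
    (Cn x) = Cn y := by
  have key : ∀ (a b : G) (i j : ℕ), a ∉ center G → Commute a b → a ^ i ∈ center G → b ^ j ∈ center G →
      i.Coprime j → a * b ∉ center G ∧ (Cn (a * b)) = Cn a := by
    intro a b i j ha hab hai hbj hij
    have haj : a ^ j ∉ center G := by
      intro hc'
      apply ha
      have e := Nat.gcd_eq_gcd_ab i j
      rw [hij.gcd_eq_one] at e
      have : a = (a ^ i) ^ Nat.gcdA i j * (a ^ j) ^ Nat.gcdB i j := by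
        rw [← zpow_natCast, ← zpow_natCast, ← zpow_mul, ← zpow_mul, ← zpow_add, ← e, Nat.cast_one,
          zpow_one]
      rw [this]
      exact mul_mem (zpow_mem hai _) (zpow_mem hc' _)
    have hab' : a * b ∉ center G := by
      intro hc'
      apply haj
      have h1 := pow_mem hc' j
      rw [hab.mul_pow] at h1
      exact (Subgroup.mul_mem_cancel_right _ hbj).1 h1
    refine ⟨hab', eq_of_le h ha hab' ?_⟩
    rw [← cn_pow_eq h ha haj]
    intro w hw
    have h1 : Commute w ((a * b) ^ j) := (mem_cn.1 hw).pow_right j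
    rw [hab.mul_pow] at h1
    have h2 : Commute w (b ^ j)⁻¹ := Commute.inv_right (Subgroup.mem_center_iff.1 hbj w)
    have h3 := h1.mul_right h2
    rw [mul_assoc, mul_inv_cancel, mul_one] at h3
    exact mem_cn.2 h3
  obtain ⟨-, e1⟩ := key x y m n hx hc hm hn hmn
  obtain ⟨-, e2⟩ := key y x n m hy hc.symm hn hm hmn.symm
  rw [← e1, ← e2, hc.eq]

/-- A prime-order part modulo the centre. -/
theorem exists_prime_part [Finite G] {w : G} (hw : w ∉ center G) :
    ∃ (p k : ℕ), p.Prime ∧ w ^ k ∉ center G ∧ (w ^ k) ^ p ∈ center G := by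
  set π := QuotientGroup.mk' (center G)
  have h1 : π w ≠ 1 := fun e => hw ((QuotientGroup.eq_one_iff w).1 e)
  have hn : orderOf (π w) ≠ 1 := fun e => h1 (orderOf_eq_one_iff.1 e)
  obtain ⟨p, hp, hpd⟩ := Nat.exists_prime_and_dvd hn
  obtain ⟨k, hk⟩ := hpd
  refine ⟨p, k, hp, fun hc => ?_, ?_⟩
  · have h2 : (π w) ^ k = 1 := by
      rw [← map_pow]
      exact (QuotientGroup.eq_one_iff _).2 hc
    have h3 : k ≠ 0 := by
      intro e
      rw [e, mul_zero] at hk
      exact (orderOf_pos (π w)).ne' hk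
    have h4 := Nat.le_of_dvd (Nat.pos_of_ne_zero h3) (orderOf_dvd_of_pow_eq_one h2)
    have := hp.two_le
    rw [hk] at h4
    nlinarith [Nat.pos_of_ne_zero h3]
  · apply (QuotientGroup.eq_one_iff _).1
    rw [← pow_mul, mul_comm, ← hk]
    exact (map_pow π w _).trans (pow_orderOf_eq_one _)

/-- A non-abelian maximal centralizer is a `p`-group modulo the centre. -/
theorem isPGroup_of_nonabelian [Finite G] (h : HMax G) {x : G} (hx : x ∉ center G)
    (hna : ¬ ∀ a ∈ Cn x, ∀ b ∈ Cn x, Commute a b) :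
    ∃ p : ℕ, p.Prime ∧ IsPGroup p ↥((Cn x).map (QuotientGroup.mk' (center G))) := by
  obtain ⟨p, k, hp, hk, hkp⟩ := exists_prime_part hx
  refine ⟨p, hp, ?_⟩
  have hx' := cn_pow_eq h hx hk
  have hq : ∀ y ∈ Cn x, y ∉ center G → ∀ q : ℕ, q.Prime → y ^ q ∈ center G → q = p := by
    intro y hy hyc q hqp hyq
    by_contra hne
    apply hna
    have hxy : (Cn (x ^ k)) = Cn y :=
      coprime_comm h hk hyc ((mem_cn.1 hy).symm.pow_left k) hkp hyq
        ((Nat.coprime_primes hp hqp).2 (Ne.symm hne))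
    have hall : ∀ w ∈ Cn x, w ∉ center G → (Cn w) = Cn x := by
      intro w hw hwc
      obtain ⟨r, i, hr, hi, hir⟩ := exists_prime_part hwc
      have hwi : w ^ i ∈ Cn x := pow_mem hw i
      rw [← cn_pow_eq h hwc hi]
      by_cases hrp : r = p
      · rw [← hx', hxy]
        refine coprime_comm h hi hyc ?_ hir hyq ((Nat.coprime_primes hr hqp).2 (by omega))
        have : w ^ i ∈ Cn y := by
          rw [← hxy, hx']
          exact hwi
        exact mem_cn.1 this
      · rw [← hx']
        exact coprime_comm h hi hk ((mem_cn.1 hwi).pow_right k) hir hkp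
          ((Nat.coprime_primes hr hp).2 hrp)
    intro a ha b hb
    by_cases hbc : b ∈ center G
    · exact Subgroup.mem_center_iff.1 hbc a
    · rw [← hall b hb hbc] at ha
      exact mem_cn.1 ha
  intro z
  obtain ⟨z, hz⟩ := z
  obtain ⟨y, hy, rfl⟩ := Subgroup.mem_map.1 hz
  set n := orderOf (QuotientGroup.mk' (center G) y) with hn
  have hall : ∀ q : ℕ, q.Prime → q ∣ n → q = p := by
    intro q hqp hqd
    obtain ⟨i, hi⟩ := hqd
    have hi0 : i ≠ 0 := fun e => by
      rw [e, mul_zero] at hi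
      exact (orderOf_pos (QuotientGroup.mk' (center G) y)).ne' hi
    refine hq (y ^ i) (pow_mem hy i) (fun hc => ?_) q hqp ?_
    · have h2 : (QuotientGroup.mk' (center G) y) ^ i = 1 := by
        rw [← map_pow]
        exact (QuotientGroup.eq_one_iff _).2 hc
      have h4 := Nat.le_of_dvd (Nat.pos_of_ne_zero hi0) (orderOf_dvd_of_pow_eq_one h2)
      rw [← hn, hi] at h4
      nlinarith [hqp.two_le, Nat.pos_of_ne_zero hi0]
    · apply (QuotientGroup.eq_one_iff _).1
      rw [← pow_mul, mul_comm, ← hi]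
      exact (map_pow (QuotientGroup.mk' (center G)) y _).trans (pow_orderOf_eq_one _)
  refine ⟨n.primeFactorsList.length, Subtype.ext ?_⟩
  have h5 : n = p ^ n.primeFactorsList.length :=
    Nat.eq_prime_pow_of_unique_prime_dvd (orderOf_pos _).ne' fun hd he => hall _ hd he
  change (QuotientGroup.mk' (center G) y) ^ p ^ n.primeFactorsList.length = 1
  rw [← h5]
  exact pow_orderOf_eq_one _

/-- A `p`-group modulo its centre with maximal centralizers has elementary abelian central quotient. -/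
theorem elementary_of_pGroup [Finite G] (h : HMax G) {p : ℕ} [Fact p.Prime]
    (hp : IsPGroup p (G ⧸ center G)) :
    Cfsg.IsElementaryAbelian p (⊤ : Subgroup (G ⧸ center G)) := by
  set π := QuotientGroup.mk' (center G)
  have hsurj : Function.Surjective π := QuotientGroup.mk'_surjective _
  have key : ∀ x : G, x ∉ center G → ∀ a b : G, a * b * a⁻¹ * b⁻¹ ∈ (Cn x) ∧ a ^ p ∈ Cn x := by
    intro x hx a b
    have hker : π.ker ≤ Cn x := by
      rw [QuotientGroup.ker_mk']
      exact center_le_cn x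
    have hco : IsCoatom ((Cn x).map π) := by
      refine ⟨fun e => ne_top_cn hx ?_, fun K hK => ?_⟩
      · rw [← Subgroup.comap_map_eq_self hker, e, Subgroup.comap_top]
      · have h2 : (Cn x) < K.comap π := by
          refine lt_of_le_of_ne (fun y hy => hK.le (Subgroup.mem_map_of_mem π hy)) fun e => hK.ne ?_
          rw [e, Subgroup.map_comap_eq_self_of_surjective hsurj]
        rw [← Subgroup.map_comap_eq_self_of_surjective hsurj K, (h x hx).2 _ h2,
          Subgroup.map_top_of_surjective _ hsurj]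
    haveI := hp.isNilpotent
    haveI hn : ((Cn x).map π).Normal :=
      NormalizerCondition.normal_of_coatom _ Group.normalizerCondition_of_isNilpotent hco
    set M := (Cn x).map π with hM
    have hidx : M.index = p := by
      obtain ⟨j, hj⟩ := (hp.to_subgroup M).exists_card_eq
      obtain ⟨i, hi⟩ := hp.index M
      have hi0 : i ≠ 0 := fun e => hco.1 (Subgroup.index_eq_one.1 (by rw [hi, e, pow_zero]))
      obtain ⟨K, hK, hMK⟩ := Sylow.exists_subgroup_card_pow_succ (p := p) (n := j)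
        (by rw [← M.card_mul_index, hj, hi, ← pow_add]; exact pow_dvd_pow p (by omega)) hj
      have hne : M ≠ K := fun e => by
        rw [← e, hj] at hK
        have := Nat.pow_right_injective (Fact.out : p.Prime).two_le hK
        omega
      have hKt := hco.2 K (lt_of_le_of_ne hMK hne)
      rw [hKt, Subgroup.card_top, ← M.card_mul_index, hj, hi, ← pow_add] at hK
      have := Nat.pow_right_injective (Fact.out : p.Prime).two_le hK
      rw [hi, show i = 1 by omega, pow_one]
    have hback : ∀ g : G, π g ∈ M → g ∈ Cn x := by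
      intro g hg
      rw [← Subgroup.comap_map_eq_self hker]
      exact hg
    haveI : IsCyclic ((G ⧸ center G) ⧸ M) :=
      isCyclic_of_prime_card (by rw [← Subgroup.index_eq_card, hidx])
    constructor
    · apply hback
      rw [map_mul, map_mul, map_mul, map_inv, map_inv, ← QuotientGroup.eq_one_iff,
        QuotientGroup.mk_mul, QuotientGroup.mk_mul, QuotientGroup.mk_mul, QuotientGroup.mk_inv,
        QuotientGroup.mk_inv]
      letI : CommGroup ((G ⧸ center G) ⧸ M) := IsCyclic.commGroup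
      rw [mul_right_comm ((QuotientGroup.mk (π a)) : (G ⧸ center G) ⧸ M), mul_inv_cancel, one_mul,
        mul_inv_cancel]
    · apply hback
      rw [map_pow, ← hidx]
      exact M.pow_index_mem _
  have hcm : ∀ a b : G, a * b * a⁻¹ * b⁻¹ ∈ center G ∧ a ^ p ∈ center G := by
    intro a b
    refine ⟨Subgroup.mem_center_iff.2 fun x => ?_, Subgroup.mem_center_iff.2 fun x => ?_⟩
    · by_cases hx : x ∈ center G
      · exact (Subgroup.mem_center_iff.1 hx _).symm
      · exact (mem_cn.1 (key x hx a b).1).eq.symm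
    · by_cases hx : x ∈ center G
      · exact (Subgroup.mem_center_iff.1 hx _).symm
      · exact (mem_cn.1 (key x hx a b).2).eq.symm
  refine ⟨⟨⟨fun a b => Subtype.ext ?_⟩⟩, fun a _ => ?_⟩
  · obtain ⟨u, hu⟩ := hsurj (a : G ⧸ center G)
    obtain ⟨v, hv⟩ := hsurj (b : G ⧸ center G)
    change (a : G ⧸ center G) * b = b * a
    have h1 : π (u * v * u⁻¹ * v⁻¹) = 1 := (QuotientGroup.eq_one_iff _).2 (hcm u v).1
    rw [map_mul, map_mul, map_mul, map_inv, map_inv, hu, hv] at h1
    calc (a : G ⧸ center G) * b = a * b * (a : G ⧸ center G)⁻¹ * (b : G ⧸ center G)⁻¹ * (b * a) := by group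
      _ = b * a := by rw [h1, one_mul]
  · obtain ⟨u, rfl⟩ := hsurj a
    rw [← map_pow]
    exact (QuotientGroup.eq_one_iff _).2 (hcm u u).2

/-- Either some prime's group, or every maximal centralizer is abelian. -/
theorem abelian_cn [Finite G] (h : HMax G)
    (hnp : ∀ p : ℕ, p.Prime → ¬ IsPGroup p (G ⧸ center G))
    {x : G} (hx : x ∉ center G) : ∀ a ∈ Cn x, ∀ b ∈ Cn x, Commute a b := by
  by_contra hna
  obtain ⟨p, hp, hMp⟩ := isPGroup_of_nonabelian h hx hna
  haveI := Fact.mk hp
  set π := QuotientGroup.mk' (center G)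
  have hsurj : Function.Surjective π := QuotientGroup.mk'_surjective _
  have hker : ∀ w : G, π.ker ≤ Cn w := fun w => by
    rw [QuotientGroup.ker_mk']
    exact center_le_cn w
  have hback : ∀ w g : G, π g ∈ (Cn w).map π → g ∈ Cn w := by
    intro w g hg
    rw [← Subgroup.comap_map_eq_self (hker w)]
    exact hg
  have hsyl : ∀ w : G, w ∉ center G → IsPGroup p ↥((Cn w).map π) →
      ∃ P : Sylow p (G ⧸ center G), (P : Subgroup (G ⧸ center G)) = (Cn w).map π := by
    intro w hw hwp
    obtain ⟨P, hP⟩ := hwp.exists_le_sylow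
    refine ⟨P, le_antisymm ?_ hP⟩
    intro z hz
    have h1 : (Cn w) ≤ (P : Subgroup (G ⧸ center G)).comap π :=
      fun y hy => hP (Subgroup.mem_map_of_mem π hy)
    rcases eq_or_lt_of_le h1 with e | e
    · obtain ⟨y, rfl⟩ := hsurj z
      exact Subgroup.mem_map_of_mem π (e ▸ hz)
    · exfalso
      have h2 := (h w hw).2 _ e
      refine hnp p hp fun q => ?_
      obtain ⟨y, rfl⟩ := hsurj q
      have h3 : y ∈ (P : Subgroup (G ⧸ center G)).comap π := h2 ▸ mem_top y
      obtain ⟨k, hk⟩ := P.2 ⟨π y, h3⟩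
      exact ⟨k, congrArg Subtype.val hk⟩
  have hmem : ∀ y ∈ Cn x, y ∉ center G → IsPGroup p ↥((Cn y).map π) := by
    intro y hy hyc
    have hna' : ¬ ∀ a ∈ Cn y, ∀ b ∈ Cn y, Commute a b := by
      intro hab
      have hxy : x ∈ Cn y := mem_cn.2 (mem_cn.1 hy).symm
      have e : (Cn y) = Cn x := eq_of_le h hx hyc fun w hw => mem_cn.2 (hab w hw x hxy)
      rw [e] at hab
      exact hna hab
    obtain ⟨q, hq, hyq⟩ := isPGroup_of_nonabelian h hyc hna'
    haveI := Fact.mk hq
    suffices q = p by subst this; exact hyq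
    by_contra hne
    have h1 : π y ∈ (Cn x).map π := Subgroup.mem_map_of_mem π hy
    have h2 : π y ∈ (Cn y).map π := Subgroup.mem_map_of_mem π (self_mem_cn y)
    obtain ⟨i, hi⟩ := hMp ⟨_, h1⟩
    obtain ⟨j, hj⟩ := hyq ⟨_, h2⟩
    apply hyc
    apply (QuotientGroup.eq_one_iff y).1
    change π y = 1
    have e := Nat.eq_one_of_dvd_coprimes (Nat.Coprime.pow j i ((Nat.coprime_primes hq hp).2 hne))
      (orderOf_dvd_of_pow_eq_one (congrArg Subtype.val hj))
      (orderOf_dvd_of_pow_eq_one (congrArg Subtype.val hi))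
    exact orderOf_eq_one_iff.1 e
  -- an element central modulo the centre of the centralizer
  set M := (Cn x) with hM
  have hZM : ∀ z ∈ center G, ∀ hz : z ∈ M, (⟨z, hz⟩ : ↥M) ∈ center ↥M := fun z hz hzM =>
    Subgroup.mem_center_iff.2 fun m => Subtype.ext (Subgroup.mem_center_iff.1 hz m)
  have hQp : IsPGroup p (↥M ⧸ center ↥M) := by
    intro q
    obtain ⟨m, rfl⟩ := QuotientGroup.mk_surjective q
    obtain ⟨k, hk⟩ := hMp ⟨π m, Subgroup.mem_map_of_mem π m.2⟩
    refine ⟨k, ?_⟩
    rw [← QuotientGroup.mk_pow, QuotientGroup.eq_one_iff]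
    exact hZM _ ((QuotientGroup.eq_one_iff _).1
      ((map_pow π (m : G) _).trans (congrArg Subtype.val hk))) _
  obtain ⟨a, ha, b, hb, hab⟩ : ∃ a ∈ M, ∃ b ∈ M, ¬ Commute a b := by
    by_contra hc
    push Not at hc
    exact hna hc
  haveI : Nontrivial (↥M ⧸ center ↥M) := by
    refine ⟨⟨(QuotientGroup.mk (⟨a, ha⟩ : ↥M)), 1, fun e => hab ?_⟩⟩
    exact (congrArg Subtype.val
      (Subgroup.mem_center_iff.1 ((QuotientGroup.eq_one_iff _).1 e) ⟨b, hb⟩)).symm
  haveI := hQp.center_nontrivial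
  obtain ⟨⟨q, hq⟩, hq1⟩ := exists_ne (1 : center (↥M ⧸ center ↥M))
  obtain ⟨⟨y, hyM⟩, rfl⟩ := QuotientGroup.mk_surjective q
  obtain ⟨b, hb, hby⟩ : ∃ b ∈ M, ¬ Commute b y := by
    by_contra hc
    push Not at hc
    apply hq1
    refine Subtype.ext ((QuotientGroup.eq_one_iff _).2 (Subgroup.mem_center_iff.2 fun m => ?_))
    exact Subtype.ext (hc m m.2)
  have hyc : y ∉ center G := fun hc => hby (Subgroup.mem_center_iff.1 hc b)
  -- conjugation by elements of `M` moves `y` by central elements of `M`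
  have hconj : ∀ m ∈ M, ∃ c ∈ M, (∀ w ∈ M, Commute w c) ∧ m * y * m⁻¹ = y * c := by
    intro m hm
    have h1 := Subgroup.mem_center_iff.1 hq (QuotientGroup.mk (⟨m, hm⟩ : ↥M))
    rw [← QuotientGroup.mk_mul, ← QuotientGroup.mk_mul, QuotientGroup.eq] at h1
    refine ⟨y⁻¹ * (m * y * m⁻¹), mul_mem (inv_mem hyM) (mul_mem (mul_mem hm hyM) (inv_mem hm)), ?_,
      by group⟩
    intro w hw
    have h2 := congrArg Subtype.val (Subgroup.mem_center_iff.1 h1 ⟨w, hw⟩)
    simp only [Subgroup.coe_mul, Subgroup.coe_inv] at h2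
    have h3 : Commute w ((m * y)⁻¹ * (y * m)) := h2
    have h5 : Commute m ((m * y)⁻¹ * (y * m)) :=
      congrArg Subtype.val (Subgroup.mem_center_iff.1 h1 ⟨m, hm⟩)
    have h6 : y⁻¹ * (m * y * m⁻¹) = m * ((m * y)⁻¹ * (y * m))⁻¹ * m⁻¹ := by group
    rw [h6, h5.inv_right.eq, mul_inv_cancel_right]
    exact h3.inv_right
  set D : Subgroup G := M ⊓ Cn y with hD
  have hDM : D ≤ M := inf_le_left
  have hbD : b ∉ D := fun hc => hby (mem_cn.1 (Subgroup.mem_inf.1 hc).2)
  have hDn : ∀ m ∈ M, ∀ d ∈ D, m * d * m⁻¹ ∈ D := by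
    intro m hm d hd
    obtain ⟨hdM, hdy⟩ := Subgroup.mem_inf.1 hd
    refine Subgroup.mem_inf.2 ⟨mul_mem (mul_mem hm hdM) (inv_mem hm), mem_cn.2 ?_⟩
    obtain ⟨c, -, hc, hmc⟩ := hconj m⁻¹ (inv_mem hm)
    have h1 : Commute d (y * c) := (mem_cn.1 hdy).mul_right (hc d hdM)
    rw [← hmc, inv_inv] at h1
    have h2 := h1.eq
    change m * d * m⁻¹ * y = y * (m * d * m⁻¹)
    calc m * d * m⁻¹ * y = m * (d * (m⁻¹ * y * m)) * m⁻¹ := by group
      _ = m * ((m⁻¹ * y * m) * d) * m⁻¹ := by rw [h2]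
      _ = y * (m * d * m⁻¹) := by group
  have hMmax := h x hx
  have hMnn : ∀ g : G, g ∉ M → ¬ ∀ m ∈ M, g * m * g⁻¹ ∈ M := by
    intro g hg hn
    have hN : normalizer (M : Set G) = ⊤ := by
      refine hMmax.2 _ (lt_of_le_of_ne le_normalizer fun e => hg ?_)
      rw [hM, e]
      exact Subgroup.mem_normalizer_iff_conj_image_eq.2 (by
        apply Set.eq_of_subset_of_ncard_le
        · rintro _ ⟨m, hm, rfl⟩
          exact hn m hm
        · rw [Set.ncard_image_of_injective _ (MulAut.conj g).injective]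
        · exact Set.toFinite _)
    haveI : M.Normal := Subgroup.normalizer_eq_top_iff.1 hN
    obtain ⟨P, hP⟩ := hsyl x hx hMp
    obtain ⟨P', hP'⟩ := hsyl y hyc (hmem y hyM hyc)
    haveI : (M.map π).Normal := Subgroup.Normal.map inferInstance π hsurj
    haveI : (P : Subgroup (G ⧸ center G)).Normal := by rw [hP]; infer_instance
    haveI := Sylow.unique_of_normal P inferInstance
    have e : P' = P := Subsingleton.elim _ _
    rw [e, hP] at hP'
    exact hbD (Subgroup.mem_inf.2
      ⟨hb, hback y b (hP' ▸ Subgroup.mem_map_of_mem π hb)⟩)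
  -- `D` is normal
  have hDnorm : D.Normal := by
    obtain ⟨P', hP'⟩ := hsyl y hyc (hmem y hyM hyc)
    haveI := P'.2.isNilpotent
    have hne : ¬ (Cn y) ≤ M := fun hle => by
      have := eq_of_le h hx hyc hle
      exact hbD (Subgroup.mem_inf.2 ⟨hb, this ▸ hb⟩)
    have hlt : (D.map π).subgroupOf (P' : Subgroup (G ⧸ center G)) < ⊤ := by
      refine lt_top_iff_ne_top.2 fun e => hne fun w hw => ?_
      rw [Subgroup.subgroupOf_eq_top, hP'] at e
      have : π w ∈ D.map π := e (Subgroup.mem_map_of_mem π hw)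
      exact (Subgroup.mem_inf.1 (hback x w (Subgroup.map_mono hDM this) |> fun h1 =>
        Subgroup.mem_inf.2 ⟨h1, hw⟩ : w ∈ M ⊓ Cn y)).1
    obtain ⟨⟨q, hqP⟩, hq, hqn⟩ := SetLike.exists_of_lt
      (Group.normalizerCondition_of_isNilpotent _ hlt)
    obtain ⟨g, hg, rfl⟩ := Subgroup.mem_map.1 (hP' ▸ hqP)
    have hgD : g ∉ D := fun hc => hqn (Subgroup.mem_map_of_mem π hc)
    have hgM : g ∉ M := fun hc => hgD (Subgroup.mem_inf.2 ⟨hc, hg⟩)
    have hgn : g ∈ normalizer (D : Set G) := by
      have h1 : ∀ d ∈ D, g * d * g⁻¹ ∈ D := by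
        intro d hd
        have hdP : π d ∈ (P' : Subgroup (G ⧸ center G)) :=
          hP' ▸ Subgroup.mem_map_of_mem π (Subgroup.mem_inf.1 hd).2
        have h2 := (Subgroup.mem_normalizer_iff.1 hq ⟨π d, hdP⟩).1 (Subgroup.mem_map_of_mem π hd)
        rw [Subgroup.mem_subgroupOf] at h2
        have h3 : π (g * d * g⁻¹) ∈ D.map π := by
          rw [map_mul, map_mul, map_inv]
          simpa using h2
        exact Subgroup.mem_inf.2 ⟨hback x _ (Subgroup.map_mono hDM h3),
          hback y _ (Subgroup.map_mono inf_le_right h3)⟩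
      exact Subgroup.mem_normalizer_iff_conj_image_eq.2 (by
        apply Set.eq_of_subset_of_ncard_le
        · rintro _ ⟨d, hd, rfl⟩
          exact h1 d hd
        · rw [Set.ncard_image_of_injective _ (MulAut.conj g).injective]
        · exact Set.toFinite _)
    have hMle : M ≤ normalizer (D : Set G) := fun m hm => by
      exact Subgroup.mem_normalizer_iff_conj_image_eq.2 (by
        apply Set.eq_of_subset_of_ncard_le
        · rintro _ ⟨d, hd, rfl⟩
          exact hDn m hm d hd
        · rw [Set.ncard_image_of_injective _ (MulAut.conj m).injective]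
        · exact Set.toFinite _)
    exact Subgroup.normalizer_eq_top_iff.1
      (hMmax.2 _ (lt_of_le_of_ne hMle fun e => hgM (by rw [hM, e]; exact hgn)))
  -- conjugacy of the centralizers of elements of `M`
  have hconjM : ∀ w ∈ M, w ∉ center G → ∃ g : G, (Cn w) = M.map (MulAut.conj g).toMonoidHom := by
    intro w hw hwc
    obtain ⟨P, hP⟩ := hsyl x hx hMp
    obtain ⟨P', hP'⟩ := hsyl w hwc (hmem w hw hwc)
    obtain ⟨q, hq⟩ := MulAction.exists_smul_eq (G ⧸ center G) P P'
    obtain ⟨g, rfl⟩ := hsurj q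
    refine ⟨g, ?_⟩
    rw [cn_conj, ← Subgroup.comap_map_eq_self (hker w), ← Subgroup.comap_map_eq_self (hker (g * x * g⁻¹)),
      ← hP', ← cn_conj, Subgroup.map_map, ← hq]
    congr 1
    rw [Sylow.coe_subgroup_smul, hP]
    ext z
    simp only [Subgroup.mem_pointwise_smul_iff_inv_smul_mem, MulAut.smul_def, MulAut.inv_apply,
      MulAut.conj_symm_apply, Subgroup.mem_map, MonoidHom.coe_comp, Function.comp_apply,
      MulEquiv.coe_toMonoidHom, MulAut.conj_apply]
    constructor
    · rintro ⟨m, hm, hmz⟩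
      exact ⟨m, hm, by rw [map_mul, map_mul, map_inv, hmz]; group⟩
    · rintro ⟨m, hm, rfl⟩
      exact ⟨m, hm, by rw [map_mul, map_mul, map_inv]; group⟩
  -- the quotient by `D`
  set ψ := QuotientGroup.mk' D
  have hψ : Function.Surjective ψ := QuotientGroup.mk'_surjective _
  have hψM : ∀ g : G, ψ g ∈ M.map ψ → g ∈ M := by
    intro g hg
    obtain ⟨m, hm, hmg⟩ := Subgroup.mem_map.1 hg
    have h1 : m⁻¹ * g ∈ D := (QuotientGroup.eq (s := D)).1 hmg
    simpa using mul_mem hm (hDM h1)
  set S := M.map ψ with hS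
  have hSco : IsCoatom S := by
    refine ⟨fun e => hMmax.1 (top_le_iff.1 fun g _ => hψM g (e ▸ mem_top _)), fun K hK => ?_⟩
    have h2 : M < K.comap ψ := by
      refine lt_of_le_of_ne (fun m hm => hK.le (Subgroup.mem_map_of_mem ψ hm)) fun e => hK.ne ?_
      rw [hS, e, Subgroup.map_comap_eq_self_of_surjective hψ]
    rw [← Subgroup.map_comap_eq_self_of_surjective hψ K, hMmax.2 _ h2,
      Subgroup.map_top_of_surjective _ hψ]
  have hScomm : ∀ u ∈ S, ∀ v ∈ S, Commute u v := by
    rintro _ ⟨u, hu, rfl⟩ _ ⟨v, hv, rfl⟩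
    change ψ u * ψ v = ψ v * ψ u
    rw [← map_mul, ← map_mul]
    refine (QuotientGroup.eq).2 (Subgroup.mem_inf.2
      ⟨mul_mem (inv_mem (mul_mem hu hv)) (mul_mem hv hu), mem_cn.2 ?_⟩)
    obtain ⟨c, hcM, hc, huc⟩ := hconj u hu
    obtain ⟨c', -, hc', hvc⟩ := hconj v hv
    have e1 : u * y = y * c * u := by rw [← huc]; group
    have e2 : v * y = y * c' * v := by rw [← hvc]; group
    have h1 : (u * v) * y = y * c * c' * (u * v) := by
      calc (u * v) * y = u * (v * y) := by group
        _ = u * y * c' * v := by rw [e2]; group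
        _ = y * c * (u * c') * v := by rw [e1]; group
        _ = y * c * (c' * u) * v := by rw [(hc' u hu).eq]
        _ = y * c * c' * (u * v) := by group
    have h2 : (v * u) * y = y * c * c' * (v * u) := by
      calc (v * u) * y = v * (u * y) := by group
        _ = v * y * c * u := by rw [e1]; group
        _ = y * c' * (v * c) * u := by rw [e2]; group
        _ = y * c' * (c * v) * u := by rw [(hc v hv).eq]
        _ = y * (c' * c) * (v * u) := by group
        _ = y * (c * c') * (v * u) := by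
          rw [show c' * c = c * c' from (hc' c hcM).eq.symm]
        _ = _ := by group
    change (u * v)⁻¹ * (v * u) * y = y * ((u * v)⁻¹ * (v * u))
    calc (u * v)⁻¹ * (v * u) * y = (u * v)⁻¹ * ((v * u) * y) := by group
      _ = (u * v)⁻¹ * (y * c * c' * (u * v)) * ((u * v)⁻¹ * (v * u)) := by rw [h2]; group
      _ = y * ((u * v)⁻¹ * (v * u)) := by rw [← h1]; group
  have hSp : IsPGroup p ↥S := by
    rintro ⟨_, m, hm, rfl⟩
    obtain ⟨k, hk⟩ := hMp ⟨π m, Subgroup.mem_map_of_mem π hm⟩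
    refine ⟨k, Subtype.ext ?_⟩
    change (ψ m) ^ p ^ k = 1
    rw [← map_pow]
    have hz : m ^ p ^ k ∈ center G :=
      (QuotientGroup.eq_one_iff _).1 ((map_pow π m _).trans (congrArg Subtype.val hk))
    exact (QuotientGroup.eq_one_iff _).2
      (Subgroup.mem_inf.2 ⟨center_le_cn x hz, center_le_cn y hz⟩)
  obtain ⟨T, hT⟩ := hSp.exists_le_sylow
  have hTS : (T : Subgroup (G ⧸ D)) = S := by
    rcases eq_or_lt_of_le hT with e | e
    · exact e.symm
    · exfalso
      have h1 := hSco.2 _ e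
      obtain ⟨g, -, hg⟩ := SetLike.exists_of_lt (lt_top_iff_ne_top.2 hMmax.1)
      haveI := T.2.isNilpotent
      have hGn : Group.IsNilpotent (G ⧸ D) := by
        have := T.2.isNilpotent
        exact Group.nilpotent_of_mulEquiv ((MulEquiv.subgroupCongr h1).trans Subgroup.topEquiv)
      haveI := hGn
      haveI := NormalizerCondition.normal_of_coatom _ Group.normalizerCondition_of_isNilpotent hSco
      refine hMnn g hg fun m hm => hψM _ ?_
      rw [map_mul, map_mul, map_inv]
      exact ‹S.Normal›.conj_mem _ (Subgroup.mem_map_of_mem ψ hm) _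
  have hNS : normalizer ((T : Subgroup (G ⧸ D)) : Set (G ⧸ D)) ≤
      centralizer ((T : Subgroup (G ⧸ D)) : Set (G ⧸ D)) := by
    rw [hTS]
    intro q hq
    have hqS : q ∈ S := by
      by_contra hc
      have h1 : normalizer (S : Set (G ⧸ D)) = ⊤ :=
        hSco.2 _ (lt_of_le_of_ne le_normalizer fun e => hc (e ▸ hq))
      haveI := Subgroup.normalizer_eq_top_iff.1 h1
      obtain ⟨g, -, hg⟩ := SetLike.exists_of_lt (lt_top_iff_ne_top.2 hMmax.1)
      refine hMnn g hg fun m hm => hψM _ ?_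
      rw [map_mul, map_mul, map_inv]
      exact ‹S.Normal›.conj_mem _ (Subgroup.mem_map_of_mem ψ hm) _
    exact Subgroup.mem_centralizer_iff.2 fun s hs => hScomm s hs q hqS
  have hcompl := MonoidHom.ker_transferSylow_isComplement' T hNS
  set K := (MonoidHom.transferSylow T hNS).ker
  rw [hTS] at hcompl
  -- every element of `M` outside `D` is central in `M`
  have hcen : ∀ u ∈ M, u ∉ D → ∀ w ∈ M, Commute w u := by
    intro u hu huD
    by_contra hcon
    push Not at hcon
    obtain ⟨w, hw, hwu⟩ := hcon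
    have huc : u ∉ center G := fun hc => hwu (Subgroup.mem_center_iff.1 hc w)
    obtain ⟨g, hg⟩ := hconjM u hu huc
    have hgM : ψ g ∉ S := by
      intro hc
      have hgM := hψM g hc
      have : (Cn u) ≤ M := by
        rw [hg]
        rintro _ ⟨m, hm, rfl⟩
        exact mul_mem (mul_mem hgM hm) (inv_mem hgM)
      have e := eq_of_le h hx huc this
      exact hwu (mem_cn.1 (e ▸ hw))
    obtain ⟨⟨⟨k, hk⟩, ⟨s, hs⟩⟩, hks⟩ := hcompl.existsUnique (ψ g) |>.exists
    simp only at hks
    have hkS : k ∉ S := fun hc => hgM (hks ▸ mul_mem hc hs)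
    set t := ψ u with ht
    have htS : t ∈ S := Subgroup.mem_map_of_mem ψ hu
    obtain ⟨m, hm, hmu⟩ := Subgroup.mem_map.1 (hg ▸ self_mem_cn u : u ∈ M.map (MulAut.conj g).toMonoidHom)
    rw [MulEquiv.coe_toMonoidHom, MulAut.conj_apply] at hmu
    have htk : k⁻¹ * t * k ∈ S := by
      have h1 : k⁻¹ * t * k = s * ψ m * s⁻¹ := by
        rw [ht, ← hmu, map_mul, map_mul, map_inv, ← hks]
        group
      rw [h1]
      exact mul_mem (mul_mem hs (Subgroup.mem_map_of_mem ψ hm)) (inv_mem hs)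
    have htk1 : t⁻¹ * (k⁻¹ * t * k) = 1 := by
      refine Subgroup.mem_bot.1 (hcompl.disjoint.le_bot (Subgroup.mem_inf.2 ⟨?_, mul_mem (inv_mem htS) htk⟩))
      rw [show t⁻¹ * (k⁻¹ * t * k) = (t⁻¹ * k⁻¹ * t⁻¹⁻¹) * k by group]
      exact mul_mem (Subgroup.Normal.conj_mem inferInstance _ (inv_mem hk) _) hk
    have htc : Commute k t := by
      have e : k⁻¹ * t * k = t := (inv_mul_eq_one.1 htk1).symm
      change k * t = t * k
      calc k * t = k * (k⁻¹ * t * k) := by rw [e]
        _ = t * k := by group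
    have htop : centralizer ({t} : Set (G ⧸ D)) = ⊤ := by
      refine hSco.2 _ (lt_of_le_of_ne (fun v hv => Subgroup.mem_centralizer_singleton_iff.2
        (hScomm v hv t htS).eq) fun e => hkS (e ▸ Subgroup.mem_centralizer_singleton_iff.2 htc.eq))
    -- then `u` lies in every conjugate of `M`
    obtain ⟨g', hg'⟩ := hconjM y hyM hyc
    apply huD
    refine Subgroup.mem_inf.2 ⟨hu, ?_⟩
    rw [hg']
    refine ⟨g'⁻¹ * u * g', hψM _ ?_, by rw [MulEquiv.coe_toMonoidHom, MulAut.conj_apply]; group⟩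
    have h1 : Commute (ψ g') t :=
      Subgroup.mem_centralizer_singleton_iff.1 (htop ▸ mem_top (ψ g'))
    rw [map_mul, map_mul, map_inv, mul_assoc, ← h1.eq, inv_mul_cancel_left]
    exact htS
  apply hna
  intro a ha c hc
  have hbc : ∀ w ∈ M, Commute w b := hcen b hb hbD
  by_cases haD : a ∈ D
  · have habD : a * b ∉ D := fun e => hbD ((Subgroup.mul_mem_cancel_left _ haD).1 e)
    have h1 : Commute c (a * b) := hcen _ (mul_mem ha hb) habD c hc
    have h2 := h1.mul_right (hbc c hc).inv_right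
    rw [mul_inv_cancel_right] at h2
    exact h2.symm
  · exact (hcen a ha haD c hc).symm

end CfsgLib.Techniques.MaxCent
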