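import Cfsg.Agent.Lib.Techniques.MaxCentralizer
import Cfsg.Agent.Lib.Techniques.MaxAbelianCover

/-!
The central quotient of a group with maximal centralizers, when it is not a `p`-group.
-/

set_option autoImplicit false

namespace CfsgLib.Techniques.MaxCent

open Subgroup

variable {G : Type*} [Group G] [Finite G]

/-- The images of the centralizers of the non-central elements in the central quotient. -/
def imgSet (G : Type*) [Group G] : Set (Subgroup (G ⧸ center G)) :=
  {A | ∃ x : G, x ∉ center G ∧ A = (centralizer ({x} : Set G)).map (QuotientGroup.mk' (center G))}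

theorem quot_structure (h : HMax G) (hnp : ∀ p : ℕ, p.Prime → ¬ IsPGroup p (G ⧸ center G)) :
    ∃ (A B : Subgroup (G ⧸ center G)) (p q k : ℕ), A.Normal ∧ ¬ B.Normal ∧ p.Prime ∧ q.Prime ∧ p ≠ q ∧
      Nat.card A = p ^ k ∧ Nat.card B = q ∧ Nat.card (G ⧸ center G) = p ^ k * q ∧
      Cfsg.IsElementaryAbelian p A ∧
      (∀ g : G ⧸ center G, g ∉ B → B ⊓ B.map (MulAut.conj g).toMonoidHom = ⊥) ∧
      (∀ x : G ⧸ center G, x ∉ A → ∃ C : Subgroup (G ⧸ center G), x ∈ C ∧ ¬ C.Normal ∧ Nat.card C = q) ∧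
      (∀ H : Subgroup (G ⧸ center G), H ≠ ⊤ → ∀ a ∈ H, ∀ b ∈ H, Commute a b) := by
  set π := QuotientGroup.mk' (center G)
  have hsurj : Function.Surjective π := QuotientGroup.mk'_surjective _
  have hback : ∀ w g : G, π g ∈ (centralizer ({w} : Set G)).map π → g ∈ centralizer ({w} : Set G) := by
    intro w g hg
    rw [← Subgroup.comap_map_eq_self (f := π) (H := centralizer ({w} : Set G))
      (by rw [QuotientGroup.ker_mk']; exact center_le_cn w)]
    exact hg
  refine MaxCover.cover_structure (imgSet G) ?_ ?_ ?_ ?_ ?_ ?_ hnp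
  · rintro _ ⟨x, hx, rfl⟩
    refine ⟨fun e => ne_top_cn hx (top_le_iff.1 fun g _ => hback x g (e ▸ mem_top _)), fun K hK => ?_⟩
    have h2 : centralizer ({x} : Set G) < K.comap π := by
      refine lt_of_le_of_ne (fun y hy => hK.le (Subgroup.mem_map_of_mem π hy)) fun e => hK.ne ?_
      rw [e, Subgroup.map_comap_eq_self_of_surjective hsurj]
    rw [← Subgroup.map_comap_eq_self_of_surjective hsurj K, (h x hx).2 _ h2,
      Subgroup.map_top_of_surjective _ hsurj]
  · rintro _ ⟨x, hx, rfl⟩ _ ⟨a, ha, rfl⟩ _ ⟨b, hb, rfl⟩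
    exact (abelian_cn h hnp hx a ha b hb).map π
  · rintro _ ⟨x, hx, rfl⟩ _ ⟨y, hy, rfl⟩ hne
    rw [Subgroup.eq_bot_iff_forall]
    intro q hq
    obtain ⟨g, rfl⟩ := hsurj q
    by_contra hg
    have hgc : g ∉ center G := fun hc => hg ((QuotientGroup.eq_one_iff g).2 hc)
    have hgx := hback x g (Subgroup.mem_inf.1 hq).1
    have hgy := hback y g (Subgroup.mem_inf.1 hq).2
    have e1 : centralizer ({x} : Set G) = centralizer ({g} : Set G) := eq_of_le h hgc hx
      fun w hw => mem_cn.2 (abelian_cn h hnp hx w hw g hgx)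
    have e2 : centralizer ({y} : Set G) = centralizer ({g} : Set G) := eq_of_le h hgc hy
      fun w hw => mem_cn.2 (abelian_cn h hnp hy w hw g hgy)
    exact hne (by rw [e1, e2])
  · rintro _ ⟨x, hx, rfl⟩ e
    refine hx ((QuotientGroup.eq_one_iff x).1 (Subgroup.mem_bot.1 (e ▸ ?_)))
    exact Subgroup.mem_map_of_mem π (self_mem_cn x)
  · intro q hq
    obtain ⟨g, rfl⟩ := hsurj q
    exact ⟨_, ⟨g, fun hc => hq ((QuotientGroup.eq_one_iff g).2 hc), rfl⟩,
      Subgroup.mem_map_of_mem π (self_mem_cn g)⟩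
  · rintro _ ⟨x, hx, rfl⟩ q
    obtain ⟨g, rfl⟩ := hsurj q
    refine ⟨g * x * g⁻¹, fun hc => hx ?_, ?_⟩
    · rwa [show g * x * g⁻¹ = x by
        have h1 := Subgroup.mem_center_iff.1 hc g
        calc g * x * g⁻¹ = g⁻¹ * (g * (g * x * g⁻¹)) := by group
          _ = g⁻¹ * ((g * x * g⁻¹) * g) := by rw [h1]
          _ = x := by group] at hc
    · rw [← cn_conj, Subgroup.map_map, Subgroup.map_map]
      congr 1

end CfsgLib.Techniques.MaxCent
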