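import Cfsg.Prelude.Def_Solvable
import Cfsg.Prelude.Def_Transfer
import Cfsg.Agent.Lib.Base.Frobenius
import Cfsg.Agent.Lib.Base.FPF
import Cfsg.Agent.Lib.CharsMore.Frobenius
import Cfsg.Agent.Lib.PGroups.Basic
import Cfsg.Agent.Lib.Transfer.ZJComplement

/-!
# Groups whose relative centralizers are maximal

The abstract configuration carried by `Q = N/Z(N)` when `N ⊴ G` and `C_G(x)` is maximal in `G`
for every `x ∈ N` outside `Z(N)`: `δ u` is the image of `C_N(x)` for a lift `x` of `u`.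
-/

set_option autoImplicit false

open Subgroup CfsgLib.Base

universe u

namespace CfsgLib.Techniques.MaxCentRel

/-- The configuration on `N/Z(N)`. -/
structure Cfg (Q : Type u) [Group Q] where
  δ : Q → Subgroup Q
  Γ : Set (MulAut Q)
  self : ∀ u, u ∈ δ u
  symm : ∀ u v, v ∈ δ u → u ∈ δ v
  comm : ∀ u v, v ∈ δ u → Commute u v
  sep : ∀ v, (∀ u, u ≠ 1 → v ∈ δ u) → v = 1
  ne_top : ∀ u, u ≠ 1 → δ u ≠ ⊤
  equiv : ∀ φ ∈ Γ, ∀ u w, φ w ∈ δ (φ u) ↔ w ∈ δ u
  cj : ∀ g u w, g * w * g⁻¹ ∈ δ (g * u * g⁻¹) ↔ w ∈ δ u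
  gen : ∀ u, u ≠ 1 → ∀ φ ∈ Γ, ∃ q, φ u = q * u * q⁻¹
  max : ∀ u, u ≠ 1 → ∀ W : Subgroup Q, δ u ≤ W →
    (∀ φ ∈ Γ, φ u = u → ∀ w ∈ W, φ w ∈ W) → W = δ u ∨ W = ⊤
  pow : ∀ u (k : ℕ), δ u ≤ δ (u ^ k)
  cop : ∀ u v, Commute u v → (orderOf u).Coprime (orderOf v) → v ∈ δ u

variable {Q : Type u} [Group Q]

theorem exists_prime_pow [Finite Q] {z : Q} (hz : z ≠ 1) :
    ∃ q k : ℕ, q.Prime ∧ q ∣ orderOf z ∧ orderOf (z ^ k) = q := by
  obtain ⟨q, hq, hd⟩ := Nat.exists_prime_and_dvd (fun e => hz (orderOf_eq_one_iff.1 e))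
  exact ⟨q, orderOf z / q, hq, hd, orderOf_pow_orderOf_div (orderOf_pos z).ne' hd⟩

theorem isPGroup_of_primes [Finite Q] {p : ℕ} (hp : p.Prime) (H : Subgroup Q)
    (h : ∀ z ∈ H, ∀ q : ℕ, q.Prime → orderOf z = q → q = p) : IsPGroup p H := by
  haveI := Fact.mk hp
  rw [IsPGroup.iff_orderOf]
  intro z
  refine ⟨(orderOf z).primeFactorsList.length,
    Nat.eq_prime_pow_of_unique_prime_dvd (orderOf_pos z).ne' fun {d} hd hdz => ?_⟩
  have e := orderOf_pow_orderOf_div (orderOf_pos (z : Q)).ne' (show d ∣ orderOf (z : Q) by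
    rwa [Subgroup.orderOf_coe])
  exact h _ (pow_mem z.2 _) d hd e

theorem prime_eq_of_isPGroup {p q : ℕ} (hp : p.Prime) (hq : q.Prime) {H : Subgroup Q}
    (hH : IsPGroup p H) {z : Q} (hz : z ∈ H) (ho : orderOf z = q) : q = p := by
  haveI := Fact.mk hp
  obtain ⟨k, hk⟩ := IsPGroup.iff_orderOf.1 hH ⟨z, hz⟩
  rw [← Subgroup.orderOf_coe, ho] at hk
  refine (Nat.prime_dvd_prime_iff_eq hq hp).1 (hq.dvd_of_dvd_pow (n := k) ?_)
  rw [← hk]

theorem ne_one_of_orderOf {q : ℕ} (hq : q.Prime) {z : Q} (ho : orderOf z = q) : z ≠ 1 := by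
  intro e
  rw [e, orderOf_one] at ho
  exact hq.ne_one ho.symm

namespace Cfg

variable (c : Cfg Q)

/-- `δ u` is a trivial-intersection member. -/
def TI (u : Q) : Prop := ∀ z ∈ c.δ u, z ≠ 1 → c.δ z = c.δ u

theorem cjmem (g u w : Q) : w ∈ c.δ (g * u * g⁻¹) ↔ g⁻¹ * w * g ∈ c.δ u := by
  rw [← c.cj g u (g⁻¹ * w * g), show g * (g⁻¹ * w * g) * g⁻¹ = w by group]

theorem inv_normal {W : Subgroup Q} (hW : W.Normal) {φ : MulAut Q} (hφ : φ ∈ c.Γ) {w : Q}
    (hw : w ∈ W) : φ w ∈ W := by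
  rcases eq_or_ne w 1 with rfl | h1
  · rw [map_one]; exact one_mem _
  · obtain ⟨q, hq⟩ := c.gen w h1 φ hφ
    rw [hq]
    exact hW.conj_mem w hw q

theorem stab {u : Q} {φ : MulAut Q} (hφ : φ ∈ c.Γ) (hu : φ u = u) (w : Q) :
    φ w ∈ c.δ u ↔ w ∈ c.δ u := by
  conv_lhs => rw [← hu]
  exact c.equiv φ hφ u w

theorem sup_inv {u : Q} {W : Subgroup Q} (hW : W.Normal) {φ : MulAut Q} (hφ : φ ∈ c.Γ)
    (hu : φ u = u) : ∀ w ∈ W ⊔ c.δ u, φ w ∈ W ⊔ c.δ u := by
  intro w hw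
  haveI := hW
  obtain ⟨a, ha, b, hb, rfl⟩ := Subgroup.mem_sup_of_normal_left.1 hw
  rw [map_mul]
  exact mul_mem (mem_sup_left (c.inv_normal hW hφ ha)) (mem_sup_right ((c.stab hφ hu b).2 hb))

theorem max_normal {u : Q} (hu : u ≠ 1) {W : Subgroup Q} (hW : W.Normal) :
    W ≤ c.δ u ∨ W ⊔ c.δ u = ⊤ := by
  rcases c.max u hu _ le_sup_right (fun φ hφ h => c.sup_inv hW hφ h) with e | e
  · exact Or.inl (le_sup_left.trans e.le)
  · exact Or.inr e

theorem pow_eq {u : Q} {k : ℕ} (hk : u ^ k ≠ 1) : c.δ (u ^ k) = c.δ u := by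
  have hu : u ≠ 1 := fun e => hk (by rw [e, one_pow])
  refine (c.max u hu _ (c.pow u k) fun φ hφ h w hw => ?_).resolve_right (c.ne_top _ hk)
  exact (c.stab hφ (by rw [map_pow, h]) w).2 hw

theorem cop_eq {u v : Q} (hu : u ≠ 1) (hv : v ≠ 1) (hc : Commute u v)
    (ho : (orderOf u).Coprime (orderOf v)) : c.δ u = c.δ v := by
  have key : ∀ a b : Q, a ≠ 1 → Commute a b → (orderOf a).Coprime (orderOf b) →
      c.δ (a * b) = c.δ a := by
    intro a b ha hab hcop
    have e : (a * b) ^ orderOf b = a ^ orderOf b := by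
      rw [hab.mul_pow, pow_orderOf_eq_one, mul_one]
    have h1 : a ^ orderOf b ≠ 1 := fun e1 =>
      ha (orderOf_eq_one_iff.1 (Nat.eq_one_of_dvd_coprimes hcop dvd_rfl (orderOf_dvd_of_pow_eq_one e1)))
    rw [← c.pow_eq h1, ← c.pow_eq (u := a * b) (k := orderOf b) (by rw [e]; exact h1), e]
  rw [← key u v hu hc ho, hc.eq, key v u hv hc.symm ho.symm]

theorem cop_prime {a b : Q} {p q : ℕ} (hp : p.Prime) (hq : q.Prime) (hne : p ≠ q)
    (hc : Commute a b) (ha : orderOf a = p) (hb : orderOf b = q) : c.δ a = c.δ b :=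
  c.cop_eq (ne_one_of_orderOf hp ha) (ne_one_of_orderOf hq hb) hc
    (by rw [ha, hb]; exact (Nat.coprime_primes hp hq).2 hne)

theorem pure [Finite Q] {u : Q} (hu : u ≠ 1) (hnti : ¬ c.TI u) :
    ∃ p : ℕ, p.Prime ∧ IsPGroup p (c.δ u) := by
  obtain ⟨p, k, hp, -, hk⟩ := exists_prime_pow hu
  have he : c.δ (u ^ k) = c.δ u := c.pow_eq (ne_one_of_orderOf hp hk)
  refine ⟨p, hp, ?_⟩
  by_contra hnp
  obtain ⟨b, hb, q, hq, hbq, hqp⟩ : ∃ b ∈ c.δ u, ∃ q : ℕ, q.Prime ∧ orderOf b = q ∧ q ≠ p := by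
    by_contra hcon
    push Not at hcon
    exact hnp (isPGroup_of_primes hp _ fun z hz q hq ho => hcon z hz q hq ho)
  have hbu : c.δ b = c.δ u := by
    rw [← he] at hb ⊢
    exact (c.cop_prime hp hq (Ne.symm hqp) (c.comm _ _ hb) hk hbq).symm
  apply hnti
  intro z hz hz1
  obtain ⟨r, j, hr, -, hj⟩ := exists_prime_pow hz1
  rw [← c.pow_eq (ne_one_of_orderOf hr hj)]
  have hz' : z ^ j ∈ c.δ u := pow_mem hz j
  by_cases hrp : r = p
  · rw [← hbu] at hz' ⊢
    exact (c.cop_prime hq hr (by omega) (c.comm _ _ hz') hbq hj).symm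
  · rw [← he] at hz' ⊢
    exact (c.cop_prime hp hr (Ne.symm hrp) (c.comm _ _ hz') hk hj).symm

theorem ti_of_cop [Finite Q] {u v : Q} (hu : u ≠ 1) (hv : v ≠ 1) (hc : Commute u v)
    (ho : (orderOf u).Coprime (orderOf v)) : c.TI u := by
  by_contra hn
  obtain ⟨p, hp, hP⟩ := c.pure hu hn
  obtain ⟨q, i, hq, hqd, hi⟩ := exists_prime_pow hu
  obtain ⟨r, j, hr, hrd, hj⟩ := exists_prime_pow hv
  have h1 : q = p := prime_eq_of_isPGroup hp hq hP (pow_mem (c.self u) i) hi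
  have h2 : r = p := prime_eq_of_isPGroup hp hr hP (pow_mem (c.cop u v hc ho) j) hj
  subst h1; subst h2
  exact hp.ne_one (Nat.eq_one_of_dvd_coprimes ho hqd hrd)

theorem ti_comm {u : Q} (h : c.TI u) {a b : Q} (ha : a ∈ c.δ u) (hb : b ∈ c.δ u) :
    Commute a b := by
  rcases eq_or_ne a 1 with rfl | ha1
  · exact Commute.one_left b
  · exact c.comm a b (by rw [h a ha ha1]; exact hb)

theorem ti_eq {u v z : Q} (h : c.TI u) (hv : v ≠ 1) (hz1 : z ≠ 1) (hzu : z ∈ c.δ u)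
    (hzv : z ∈ c.δ v) : c.δ v = c.δ u :=
  h v (by rw [← h z hzu hz1]; exact c.symm _ _ hzv) hv

theorem ti_conj {u : Q} (h : c.TI u) (g : Q) : c.TI (g * u * g⁻¹) := by
  intro z hz hz1
  rw [c.cjmem] at hz
  have h1 : g⁻¹ * z * g ≠ 1 := fun e => hz1 (by
    calc z = g * (g⁻¹ * z * g) * g⁻¹ := by group
      _ = 1 := by rw [e]; group)
  ext w
  rw [c.cjmem g u, ← h _ hz h1, ← c.cjmem g (g⁻¹ * z * g),
    show g * (g⁻¹ * z * g) * g⁻¹ = z by group]

theorem conj_ne_one {g u : Q} (hu : u ≠ 1) : g * u * g⁻¹ ≠ 1 := fun e => hu (conj_eq_one_iff.1 e)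

/-- A member is normal or self-normalizing. -/
theorem normal_or_selfnorm {u : Q} (hu : u ≠ 1) :
    (c.δ u).Normal ∨ normalizer (c.δ u : Set Q) = c.δ u := by
  refine (c.max u hu (normalizer (c.δ u : Set Q)) le_normalizer ?_).elim Or.inr
    fun e => Or.inl (normalizer_eq_top_iff.1 e)
  · intro φ hφ h w hw
    rw [Subgroup.mem_normalizer_iff] at hw ⊢
    intro n
    obtain ⟨m, rfl⟩ := φ.surjective n
    rw [← map_inv, ← map_mul, ← map_mul]
    exact ((c.stab hφ h m).trans (hw m)).trans (c.stab hφ h _).symm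

theorem eq_of_selfnorm [Finite Q] {p : ℕ} [Fact p.Prime] {P R : Subgroup Q}
    (hn : normalizer (P : Set Q) = P) (hR : IsPGroup p R) (hPR : P ≤ R) : R = P := by
  haveI := hR.isNilpotent
  refine le_antisymm ?_ hPR
  by_contra hle
  obtain ⟨⟨g, hgR⟩, hg, hgP⟩ := SetLike.exists_of_lt (Group.normalizerCondition_of_isNilpotent
    (P.subgroupOf R) (lt_top_iff_ne_top.2 fun e => hle (Subgroup.subgroupOf_eq_top.1 e)))
  apply hgP
  change g ∈ P
  rw [← hn, Subgroup.mem_normalizer_iff]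
  intro m
  refine ⟨fun hm => ?_, fun hm => ?_⟩
  · exact (Subgroup.mem_normalizer_iff.1 hg ⟨m, hPR hm⟩).1 hm
  · have hmR : m ∈ R := by
      have := mul_mem (mul_mem (inv_mem hgR) (hPR hm)) hgR
      simpa [mul_assoc] using this
    exact (Subgroup.mem_normalizer_iff.1 hg ⟨m, hmR⟩).2 hm

theorem le_of_selfnorm [Finite Q] {p : ℕ} [Fact p.Prime] {P T : Subgroup Q}
    (hn : normalizer (P : Set Q) = P) (hP : IsPGroup p P) [T.Normal] (hT : IsPGroup p T) :
    T ≤ P :=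
  le_sup_left.trans (eq_of_selfnorm hn (hT.to_sup_of_normal_left hP) le_sup_right).le

theorem exists_sylow [Finite Q] {p : ℕ} [Fact p.Prime] {P : Subgroup Q}
    (hn : normalizer (P : Set Q) = P) (hP : IsPGroup p P) :
    ∃ S : Sylow p Q, (S : Subgroup Q) = P := by
  obtain ⟨S, hS⟩ := hP.exists_le_sylow
  exact ⟨S, eq_of_selfnorm hn S.isPGroup' hS⟩

include c in
/-- A `p`-group has elementary abelian central quotient. -/
theorem elementary [Finite Q] {p : ℕ} [Fact p.Prime] (hQ : IsPGroup p Q) :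
    Cfsg.IsElementaryAbelian p (⊤ : Subgroup Q) := by
  have hF : ∀ x ∈ frattini Q, x = 1 := by
    intro x hx
    refine c.sep x fun u hu => ?_
    rcases c.max_normal hu (inferInstance : (frattini Q).Normal) with e | e
    · exact e hx
    · rw [sup_comm] at e
      exact absurd (frattini_nongenerating e) (c.ne_top u hu)
  refine ⟨⟨⟨fun a b => Subtype.ext ?_⟩⟩,
    fun a _ => hF _ (CfsgLib.PGroups.pow_mem_frattini hQ a)⟩
  exact commutatorElement_eq_one_iff_mul_comm.1 (hF _ (CfsgLib.PGroups.commutator_le_frattini hQ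
    (Subgroup.commutator_mem_commutator (mem_top _) (mem_top _))))

/-- A non-normal TI member gives a Frobenius group. -/
theorem frobenius [Finite Q] {u : Q} (hu : u ≠ 1) (hti : c.TI u) (hnn : ¬ (c.δ u).Normal) :
    ∃ (E K : Subgroup Q) (p : ℕ), p.Prime ∧ Cfsg.IsFrobeniusComplement E ∧
      (Nat.card E).Prime ∧ K.Normal ∧ (K : Set Q) = Cfsg.frobeniusKernel E ∧
      Cfsg.IsElementaryAbelian p K := by
  classical
  set E := c.δ u with hEdef
  have hself : normalizer (E : Set Q) = E := (c.normal_or_selfnorm hu).resolve_left hnn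
  have hEt : E ≠ ⊤ := c.ne_top u hu
  have hEb : E ≠ ⊥ := fun e => hu (Subgroup.mem_bot.1 (e ▸ c.self u))
  have hH : Cfsg.IsFrobeniusComplement E := by
    refine ⟨hEb, hEt, fun g hg => (Subgroup.eq_bot_iff_forall _).2 fun z hz => ?_⟩
    obtain ⟨hz1, hz2⟩ := Subgroup.mem_inf.1 hz
    rw [Frobenius.mem_conj_iff, hEdef, ← c.cjmem] at hz2
    by_contra hne
    have he := c.ti_eq hti (conj_ne_one hu) hne hz1 hz2
    apply hg
    rw [← hself, Subgroup.mem_normalizer_iff]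
    intro n
    rw [hEdef, ← c.cj g u n, he]
  obtain ⟨K, hK, hKn, hKE⟩ := CharsMore.exists_frobenius_kernel_of_complement E hH
  have hcov : ∀ z : Q, z ∉ K → ∃ g, g⁻¹ * z * g ∈ E := by
    intro z hz
    have h : z ∉ Cfsg.frobeniusKernel E := by rw [← hK]; exact hz
    rw [Frobenius.mem_frobeniusKernel_iff] at h
    push Not at h
    exact h.2
  have hKd : ∀ y ∈ K, y ≠ 1 → ∀ g, g⁻¹ * y * g ∉ E := by
    intro y hy hy1
    have h : y ∈ Cfsg.frobeniusKernel E := by rw [← hK]; exact hy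
    exact (Frobenius.mem_frobeniusKernel_iff.1 h).resolve_left hy1
  have hKb : K ≠ ⊥ := fun e => hEt (by
    rw [e] at hKE
    simpa using hKE.sup_eq_top)
  have hKt : K ≠ ⊤ := fun e => hEb (by
    have h := hKE.disjoint
    rw [e] at h
    exact top_disjoint.1 h)
  have hKy : ∀ y ∈ K, y ≠ 1 → c.δ y = K := by
    intro y hy hy1
    have hle : c.δ y ≤ K := by
      intro z hz
      by_contra hzK
      have hz1 : z ≠ 1 := fun e => hzK (e ▸ K.one_mem)
      obtain ⟨g, hg⟩ := hcov z hzK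
      rw [hEdef, ← c.cjmem] at hg
      have he := c.ti_conj hti g z hg hz1
      have h2 := c.symm _ _ hz
      rw [he, c.cjmem] at h2
      exact hKd y hy hy1 g h2
    exact ((c.max y hy1 K hle fun φ hφ _ w hw => c.inv_normal hKn hφ hw).resolve_right hKt).symm
  have hKc : ∀ a ∈ K, ∀ b ∈ K, Commute a b := by
    intro a ha b hb
    rcases eq_or_ne a 1 with rfl | ha1
    · exact Commute.one_left b
    · exact c.comm a b (by rw [hKy a ha ha1]; exact hb)
  have hKcm : IsMulCommutative K := ⟨⟨fun a b => Subtype.ext (hKc a a.2 b b.2).eq⟩⟩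
  have hEcm : IsMulCommutative E := ⟨⟨fun a b => Subtype.ext (c.ti_comm hti a.2 b.2).eq⟩⟩
  haveI := hKn
  -- the kernel is elementary
  obtain ⟨y₀, hy₀, hy₀1⟩ := (Subgroup.bot_or_exists_ne_one K).resolve_left hKb
  obtain ⟨p, k, hp, -, hk⟩ := exists_prime_pow hy₀1
  let T : Subgroup Q :=
    { carrier := {t | t ∈ K ∧ t ^ p = 1}
      one_mem' := ⟨K.one_mem, one_pow p⟩
      mul_mem' := fun {a b} ha hb =>
        ⟨K.mul_mem ha.1 hb.1, by rw [(hKc a ha.1 b hb.1).mul_pow, ha.2, hb.2, one_mul]⟩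
      inv_mem' := fun {a} ha => ⟨K.inv_mem ha.1, by rw [inv_pow, ha.2, inv_one]⟩ }
  haveI hTn : T.Normal :=
    ⟨fun t ht g => ⟨hKn.conj_mem t ht.1 g, by rw [conj_pow, ht.2]; group⟩⟩
  have hTK : T ≤ K := fun t ht => ht.1
  have hKp : ∀ a ∈ K, a ^ p = 1 := by
    rcases c.max_normal hu hTn with e | e
    · have ht : y₀ ^ k ∈ T := ⟨pow_mem hy₀ k, by rw [← hk]; exact pow_orderOf_eq_one _⟩
      have h1 : y₀ ^ k ∈ K ⊓ E := ⟨ht.1, e ht⟩
      rw [hKE.disjoint.eq_bot, Subgroup.mem_bot] at h1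
      exact absurd h1 (ne_one_of_orderOf hp hk)
    · intro a ha
      have h1 : a ∈ T ⊔ E := e ▸ mem_top a
      obtain ⟨t, ht, f, hf, rfl⟩ := Subgroup.mem_sup_of_normal_left.1 h1
      have h2 : f ∈ K ⊓ E := ⟨by simpa using K.mul_mem (K.inv_mem ht.1) ha, hf⟩
      rw [hKE.disjoint.eq_bot, Subgroup.mem_bot] at h2
      rw [h2, mul_one]
      exact ht.2
  -- the complement has prime order
  have hfpf : IsFPF E K := by
    refine ⟨fun e _ => by rw [normalizer_eq_top_iff.2 hKn]; exact mem_top e, fun a ha ha1 => ?_⟩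
    refine (Subgroup.eq_bot_iff_forall _).2 fun v hv => ?_
    obtain ⟨hvK, hva⟩ := Subgroup.mem_inf.1 hv
    by_contra hv1
    have hvE := Frobenius.mem_of_commute hH ha ha1 (g := v)
      (Subgroup.mem_centralizer_singleton_iff.1 hva)
    exact hKd v hvK hv1 1 (by simpa using hvE)
  haveI := hEcm
  have hcyc : IsCyclic E := IsFPF.isCyclic_of_comm hfpf hKb
  obtain ⟨e₀, he₀, he₀1⟩ := (Subgroup.bot_or_exists_ne_one E).resolve_left hEb
  obtain ⟨q, j, hq, -, hj⟩ := exists_prime_pow he₀1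
  let E₁ : Subgroup Q :=
    { carrier := {t | t ∈ E ∧ t ^ q = 1}
      one_mem' := ⟨E.one_mem, one_pow q⟩
      mul_mem' := fun {a b} ha hb =>
        ⟨E.mul_mem ha.1 hb.1, by rw [(c.ti_comm hti ha.1 hb.1).mul_pow, ha.2, hb.2, one_mul]⟩
      inv_mem' := fun {a} ha => ⟨E.inv_mem ha.1, by rw [inv_pow, ha.2, inv_one]⟩ }
  have hWn : (K ⊔ E₁).Normal := by
    refine ⟨fun w hw g => ?_⟩
    obtain ⟨a, ha, b, hb, rfl⟩ := Subgroup.mem_sup_of_normal_left.1 hw
    obtain ⟨a', ha', f, hf, rfl⟩ := Subgroup.mem_sup_of_normal_left.1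
      (show g ∈ K ⊔ E from hKE.sup_eq_top ▸ mem_top g)
    rw [show a' * f * (a * b) * (a' * f)⁻¹ =
        (a' * f * a * (a' * f)⁻¹) * (a' * (f * b * f⁻¹) * a'⁻¹) by group,
      (c.ti_comm hti hf hb.1).eq, mul_inv_cancel_right]
    exact mul_mem (mem_sup_left (hKn.conj_mem a ha _))
      (mul_mem (mul_mem (mem_sup_left ha') (mem_sup_right hb)) (inv_mem (mem_sup_left ha')))
  have hEq : ∀ e ∈ E, e ^ q = 1 := by
    have hej : e₀ ^ j ∈ E₁ := ⟨pow_mem he₀ j, by rw [← hj]; exact pow_orderOf_eq_one _⟩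
    rcases c.max y₀ hy₀1 (K ⊔ E₁) ((hKy y₀ hy₀ hy₀1).le.trans le_sup_left)
      (fun φ hφ _ w hw => c.inv_normal hWn hφ hw) with e | e
    · rw [hKy y₀ hy₀ hy₀1] at e
      have h1 : e₀ ^ j ∈ K ⊓ E := ⟨e ▸ mem_sup_right hej, hej.1⟩
      rw [hKE.disjoint.eq_bot, Subgroup.mem_bot] at h1
      exact absurd h1 (ne_one_of_orderOf hq hj)
    · intro a ha
      obtain ⟨t, ht, f, hf, rfl⟩ := Subgroup.mem_sup_of_normal_left.1
        (show a ∈ K ⊔ E₁ from e ▸ mem_top a)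
      have h2 : t ∈ K ⊓ E := ⟨ht, by simpa using E.mul_mem ha (E.inv_mem hf.1)⟩
      rw [hKE.disjoint.eq_bot, Subgroup.mem_bot] at h2
      rw [h2, one_mul]
      exact hf.2
  have hcard : (Nat.card E).Prime := by
    obtain ⟨g, hg⟩ := hcyc.exists_generator
    have h1 : orderOf g ∣ q := orderOf_dvd_of_pow_eq_one (Subtype.ext (by simpa using hEq g g.2))
    rw [orderOf_eq_card_of_forall_mem_zpowers hg] at h1
    rcases (Nat.dvd_prime hq).1 h1 with e | e
    · exact absurd (Subgroup.eq_bot_of_card_eq E e) hEb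
    · rw [e]; exact hq
  exact ⟨E, K, p, hp, hH, hcard, hKn, hK, hKcm, hKp⟩

theorem pgroup_of_top [Finite Q] {p : ℕ} {W : Subgroup Q} (hW : IsPGroup p W) (e : W = ⊤) :
    IsPGroup p Q := (e ▸ hW).of_equiv Subgroup.topEquiv

variable (hNP : ∀ p : ℕ, p.Prime → ¬ IsPGroup p Q)

include hNP in
/-- A normal TI member is impossible outside prime-power order. -/
theorem false_of_normal_ti [Finite Q] (hall : ∀ u, u ≠ 1 → c.TI u → (c.δ u).Normal)
    {a : Q} (ha : a ≠ 1) (hti : c.TI a) : False := by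
  set A := c.δ a with hA
  haveI hAn : A.Normal := hall a ha hti
  have hout : ∀ y ∉ A, y ≠ 1 ∧ A ⊓ c.δ y = ⊥ ∧ A ⊔ c.δ y = ⊤ ∧ ¬ c.TI y ∧
      normalizer (c.δ y : Set Q) = c.δ y := by
    intro y hy
    have hy1 : y ≠ 1 := fun e => hy (e ▸ A.one_mem)
    have hdis : A ⊓ c.δ y = ⊥ := (Subgroup.eq_bot_iff_forall _).2 fun z hz => by
      by_contra hz1
      apply hy
      rw [hA, ← c.ti_eq hti hy1 hz1 (Subgroup.mem_inf.1 hz).1 (Subgroup.mem_inf.1 hz).2]
      exact c.self y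
    have hsup : A ⊔ c.δ y = ⊤ := (c.max_normal hy1 hAn).resolve_left fun e => by
      have : a ∈ A ⊓ c.δ y := ⟨c.self a, e (c.self a)⟩
      rw [hdis, Subgroup.mem_bot] at this
      exact ha this
    have hPn : ¬ (c.δ y).Normal := by
      intro hn
      have hcomm := Subgroup.commute_of_normal_of_disjoint A (c.δ y) hAn hn (disjoint_iff.2 hdis)
      have key : ∀ z ∈ A, ∀ w ∈ c.δ y, ∀ r s : ℕ, r.Prime → s.Prime → orderOf z = r →
          orderOf w = s → r = s := by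
        intro z hz w hw r s hr hs hzr hws
        by_contra hne
        have e := c.cop_prime hr hs hne (hcomm z w hz hw) hzr hws
        rw [hti z hz (ne_one_of_orderOf hr hzr)] at e
        have : w ∈ A ⊓ c.δ y := ⟨by rw [hA, e]; exact c.self w, hw⟩
        rw [hdis, Subgroup.mem_bot] at this
        exact ne_one_of_orderOf hs hws this
      obtain ⟨r, i, hr, -, hi⟩ := exists_prime_pow ha
      obtain ⟨s, j, hs, -, hj⟩ := exists_prime_pow hy1
      haveI := Fact.mk hr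
      have hPr : IsPGroup r (c.δ y) := isPGroup_of_primes hr _ fun w hw q hq ho =>
        (key _ (pow_mem (c.self a) i) w hw r q hr hq hi ho).symm
      have hsr : r = s := key _ (pow_mem (c.self a) i) _ (pow_mem (c.self y) j) r s hr hs hi hj
      have hAr : IsPGroup r A := isPGroup_of_primes hr A fun z hz q hq ho => by
        rw [hsr]
        exact key z hz _ (pow_mem (c.self y) j) q s hq hs ho hj
      exact hNP r hr (pgroup_of_top (hAr.to_sup_of_normal_left hPr) hsup)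
    exact ⟨hy1, hdis, hsup, fun h => hPn (hall y hy1 h),
      (c.normal_or_selfnorm hy1).resolve_left hPn⟩
  obtain ⟨y, -, hy⟩ := SetLike.exists_of_lt (lt_top_iff_ne_top.2 (c.ne_top a ha))
  obtain ⟨hy1, hdis, hsup, hnti, hPs⟩ := hout y hy
  obtain ⟨p, hp, hPp⟩ := c.pure hy1 hnti
  haveI := Fact.mk hp
  have hA0 : ∀ t ∈ A, t ^ p = 1 → t = 1 := by
    intro t ht htp
    let T : Subgroup Q :=
      { carrier := {t | t ∈ A ∧ t ^ p = 1}
        one_mem' := ⟨A.one_mem, one_pow p⟩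
        mul_mem' := fun {a b} ha hb =>
          ⟨A.mul_mem ha.1 hb.1, by rw [(c.ti_comm hti ha.1 hb.1).mul_pow, ha.2, hb.2, one_mul]⟩
        inv_mem' := fun {a} ha => ⟨A.inv_mem ha.1, by rw [inv_pow, ha.2, inv_one]⟩ }
    haveI : T.Normal := ⟨fun t ht g => ⟨hAn.conj_mem t ht.1 g, by rw [conj_pow, ht.2]; group⟩⟩
    have hT : IsPGroup p T := fun x => ⟨1, Subtype.ext (by simpa using x.2.2)⟩
    have h1 : t ∈ A ⊓ c.δ y := ⟨ht, le_of_selfnorm hPs hPp hT (show t ∈ T from ⟨ht, htp⟩)⟩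
    rwa [hdis, Subgroup.mem_bot] at h1
  obtain ⟨z, hz, hz1, hzne⟩ : ∃ z ∈ c.δ y, z ≠ 1 ∧ c.δ z ≠ c.δ y := by
    by_contra hc
    push Not at hc
    exact hnti fun z hz hz1 => hc z hz hz1
  have hzA : z ∉ A := fun h => by
    have : z ∈ A ⊓ c.δ y := ⟨h, hz⟩
    rw [hdis, Subgroup.mem_bot] at this
    exact hz1 this
  obtain ⟨-, -, -, hzti, hzs⟩ := hout z hzA
  obtain ⟨r, hr, hzr⟩ := c.pure hz1 hzti
  obtain ⟨q, i, hq, -, hi⟩ := exists_prime_pow hz1
  have e1 : q = p := prime_eq_of_isPGroup hp hq hPp (pow_mem hz i) hi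
  have e2 : q = r := prime_eq_of_isPGroup hr hq hzr (pow_mem (c.self z) i) hi
  have hzp : IsPGroup p (c.δ z) := by rw [← e1, e2]; exact hzr
  obtain ⟨S, hS⟩ := exists_sylow hPs hPp
  obtain ⟨S', hS'⟩ := exists_sylow hzs hzp
  obtain ⟨g, hg⟩ := MulAction.exists_smul_eq Q S S'
  obtain ⟨b, hb, h, hh, rfl⟩ := Subgroup.mem_sup_of_normal_left.1
    (show g ∈ A ⊔ c.δ y from hsup ▸ mem_top g)
  have hmem : ∀ w, w ∈ c.δ z ↔ (b * h)⁻¹ * w * (b * h) ∈ c.δ y := by
    intro w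
    rw [← hS', ← hg, Sylow.coe_subgroup_smul, Frobenius.mem_conj_iff, hS]
  have hw := (hmem z).1 (c.self z)
  set w := b⁻¹ * z * b with hwdef
  have hwP : w ∈ c.δ y := by
    have := mul_mem (mul_mem hh hw) (inv_mem hh)
    rwa [show h * ((b * h)⁻¹ * z * (b * h)) * h⁻¹ = w by rw [hwdef]; group] at this
  have hbz : Commute b z := by
    have h1 : w * z⁻¹ ∈ A ⊓ c.δ y := ⟨by
      rw [hwdef, show b⁻¹ * z * b * z⁻¹ = b⁻¹ * (z * b * z⁻¹) by group]
      exact A.mul_mem (A.inv_mem hb) (hAn.conj_mem b hb z), (c.δ y).mul_mem hwP ((c.δ y).inv_mem hz)⟩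
    rw [hdis, Subgroup.mem_bot, mul_inv_eq_one] at h1
    change b * z = z * b
    calc b * z = b * w := by rw [h1]
      _ = z * b := by rw [hwdef]; group
  have hb1 : b ≠ 1 := by
    intro e
    apply hzne
    ext v
    rw [hmem v, e, one_mul]
    refine ⟨fun hv => ?_, fun hv => mul_mem (mul_mem (inv_mem hh) hv) hh⟩
    simpa [mul_assoc] using mul_mem (mul_mem hh hv) (inv_mem hh)
  have hcop : (orderOf b).Coprime (orderOf z) := by
    refine Nat.coprime_of_dvd fun l hl hlb hlz => ?_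
    obtain ⟨k, hk⟩ := IsPGroup.iff_orderOf.1 hPp ⟨z, hz⟩
    rw [← Subgroup.orderOf_coe] at hk
    have hlp : l = p := (Nat.prime_dvd_prime_iff_eq hl hp).1 (hl.dvd_of_dvd_pow (hk ▸ hlz))
    subst hlp
    have ho := orderOf_pow_orderOf_div (orderOf_pos b).ne' hlb
    exact ne_one_of_orderOf hl ho (hA0 _ (pow_mem hb _)
      ((congrArg (_ ^ ·) ho.symm).trans (pow_orderOf_eq_one _)))
  have e := c.cop_eq hb1 hz1 hbz hcop
  rw [hti b hb hb1] at e
  exact hzA (hA.symm ▸ e ▸ c.self z)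

variable (hno : ∀ u, u ≠ 1 → ¬ c.TI u)

include hno in
theorem noc [Finite Q] {a b : Q} {p q : ℕ} (hp : p.Prime) (hq : q.Prime) (hne : p ≠ q)
    (hc : Commute a b) (ha : orderOf a = p) (hb : orderOf b = q) : False :=
  hno a (ne_one_of_orderOf hp ha) (c.ti_of_cop (ne_one_of_orderOf hp ha) (ne_one_of_orderOf hq hb) hc
    (by rw [ha, hb]; exact (Nat.coprime_primes hp hq).2 hne))

include hno in
theorem pgroup_member [Finite Q] {u z : Q} (hu : u ≠ 1) {p : ℕ} (hp : p.Prime) (hz : z ∈ c.δ u)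
    (ho : orderOf z = p) : IsPGroup p (c.δ u) := by
  obtain ⟨r, hr, h⟩ := c.pure hu (hno u hu)
  rw [prime_eq_of_isPGroup hr hp h hz ho]
  exact h

include hNP hno in
theorem eq_of_normal [Finite Q] {u v : Q} (hu : u ≠ 1) (hv : v ≠ 1) (hnu : (c.δ u).Normal)
    (hnv : (c.δ v).Normal) : c.δ u = c.δ v := by
  obtain ⟨p, i, hp, -, hi⟩ := exists_prime_pow hu
  obtain ⟨q, j, hq, -, hj⟩ := exists_prime_pow hv
  haveI := Fact.mk hp
  haveI := Fact.mk hq
  haveI := hnu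
  have hup := c.pgroup_member hno hu hp (pow_mem (c.self u) i) hi
  have hvq := c.pgroup_member hno hv hq (pow_mem (c.self v) j) hj
  by_cases hpq : p = q
  · subst hpq
    have aux : ∀ {a b : Q}, b ≠ 1 → (c.δ a).Normal → IsPGroup p (c.δ a) → IsPGroup p (c.δ b) →
        c.δ a ≤ c.δ b := by
      intro a b hb hn h1 h2
      haveI := hn
      exact (c.max_normal hb hn).resolve_right fun e =>
        hNP p hp (pgroup_of_top (h1.to_sup_of_normal_left h2) e)
    exact le_antisymm (aux hv hnu hup hvq) (aux hu hnv hvq hup)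
  · exact (c.noc hno hp hq hpq (Subgroup.commute_of_normal_of_disjoint _ _ hnu hnv
      (IsPGroup.disjoint_of_ne p q hpq _ _ hup hvq) _ _ (pow_mem (c.self u) i)
      (pow_mem (c.self v) j)) hi hj).elim

include hNP hno in
theorem false_of_invariant [Finite Q] {N : Subgroup Q} (hN : N ≠ ⊥)
    (hle : ∀ z ∈ N, z ≠ 1 → c.δ z ≤ N ∧ (c.δ z).Normal) : False := by
  obtain ⟨z, hz, hz1⟩ := (Subgroup.bot_or_exists_ne_one N).resolve_left hN
  refine hno z hz1 fun w hw hw1 => ?_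
  exact c.eq_of_normal hNP hno hw1 hz1 (hle w ((hle z hz hz1).1 hw) hw1).2 (hle z hz hz1).2

include hNP hno in
theorem exists_normal_pgroup [Finite Q] {p : ℕ} [Fact p.Prime] (hp2 : p ≠ 2)
    (hd : p ∣ Nat.card Q) : ∃ T : Subgroup Q, T.Normal ∧ IsPGroup p T ∧ T ≠ ⊥ := by
  obtain ⟨u, huo⟩ := exists_prime_orderOf_dvd_card' p hd
  have hp : p.Prime := Fact.out
  have hu1 := ne_one_of_orderOf hp huo
  have hP := c.pgroup_member hno hu1 hp (c.self u) huo
  have hPb : c.δ u ≠ ⊥ := fun e => hu1 (Subgroup.mem_bot.1 (e ▸ c.self u))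
  rcases c.normal_or_selfnorm hu1 with hn | hs
  · exact ⟨_, hn, hP, hPb⟩
  obtain ⟨S, hS⟩ := exists_sylow hs hP
  set F := CfsgLib.Transfer.subgroupFunctor_centerThompsonOf (p := p)
  set Z := Cfsg.centerThompsonOf p (c.δ u) with hZ
  have hZP : Z ≤ c.δ u := CfsgLib.Transfer.centerThompsonOf_le _
  have hZb : Z ≠ ⊥ := F.ne_bot Q (c.δ u) hP hPb
  have hPW : c.δ u ≤ normalizer (Z : Set Q) :=
    le_normalizer.trans (CfsgLib.Transfer.centerThompsonOf_le_normalizer _)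
  have hinv : ∀ φ ∈ c.Γ, φ u = u → ∀ n ∈ normalizer (Z : Set Q),
      φ n ∈ normalizer (Z : Set Q) := by
    intro φ hφ h n hn
    have h1 : (c.δ u).map φ.toMonoidHom = c.δ u := by
      ext w
      obtain ⟨v, rfl⟩ := φ.surjective w
      exact (Subgroup.mem_map_iff_mem (f := φ.toMonoidHom) φ.injective).trans (c.stab hφ h v).symm
    have h2 : Z.map φ.toMonoidHom = Z := by
      rw [hZ, CfsgLib.Transfer.map_centerThompsonOf φ.toMonoidHom _
        (φ.injective.comp Subtype.val_injective), h1]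
    rw [Subgroup.mem_normalizer_iff] at hn ⊢
    intro m
    obtain ⟨v, rfl⟩ := φ.surjective m
    have h3 : ∀ x : Q, φ x ∈ Z ↔ x ∈ Z := fun x => by
      conv_lhs => rw [← h2]
      exact Subgroup.mem_map_iff_mem (f := φ.toMonoidHom) φ.injective
    rw [← map_inv, ← map_mul, ← map_mul, h3, h3]
    exact hn v
  rcases c.max u hu1 _ hPW hinv with e | e
  swap
  · exact ⟨Z, normalizer_eq_top_iff.1 e, hP.to_le hZP, hZb⟩
  exfalso
  have hW : Cfsg.HasNormalPComplement p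
      (normalizer (Cfsg.centerThompsonOf p (S : Subgroup Q) : Set Q)) := by
    rw [hS, e]
    obtain ⟨T⟩ : Nonempty (Sylow p (c.δ u)) := inferInstance
    refine ⟨T, ⊥, inferInstance, ?_⟩
    have hT : (T : Subgroup (c.δ u)) = ⊤ :=
      (T.is_maximal' (IsPGroup.of_equiv hP Subgroup.topEquiv.symm) le_top).symm
    rw [hT]
    exact Subgroup.isComplement'_bot_top
  obtain ⟨P', N, hNn, hNc⟩ := CfsgLib.Transfer.hasNormalPComplement_of_centerThompsonOf hp2 S hW
  haveI := hNn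
  have hNb : N ≠ ⊥ := fun e => hNP p hp (pgroup_of_top P'.isPGroup' (by
    rw [e] at hNc
    simpa using hNc.sup_eq_top))
  have hmemN : ∀ z : Q, ¬ p ∣ orderOf z → z ∈ N := by
    intro z hz
    obtain ⟨k, hk⟩ := IsPGroup.iff_card.1 P'.isPGroup'
    have h1 : orderOf (QuotientGroup.mk z : Q ⧸ N) ∣ p ^ k := by
      rw [← hk, ← hNc.symm.index_eq_card]
      exact orderOf_dvd_natCard _
    have h2 := orderOf_map_dvd (QuotientGroup.mk' N) z
    exact (QuotientGroup.eq_one_iff z).1 (orderOf_eq_one_iff.1 (Nat.eq_one_of_dvd_coprimes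
      (Nat.Coprime.pow_left k ((hp.coprime_iff_not_dvd).2 hz)) h1 h2))
  have hNp : ∀ z ∈ N, ¬ p ∣ orderOf z ∨ z = 1 := by
    intro z hz
    refine Or.inl fun hdz => P'.not_dvd_index ?_
    rw [hNc.index_eq_card]
    exact hdz.trans (Subgroup.orderOf_dvd_natCard N hz)
  refine c.false_of_invariant hNP hno hNb fun z hz hz1 => ?_
  obtain ⟨q, i, hq, hqd, hi⟩ := exists_prime_pow hz1
  haveI := Fact.mk hq
  have hqp : q ≠ p := fun e => by
    rcases hNp z hz with h | h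
    · exact h (e ▸ hqd)
    · exact hz1 h
  have hzq := c.pgroup_member hno hz1 hq (pow_mem (c.self z) i) hi
  have hle : c.δ z ≤ N := by
    intro w hw
    apply hmemN
    obtain ⟨k, hk⟩ := IsPGroup.iff_orderOf.1 hzq ⟨w, hw⟩
    rw [← Subgroup.orderOf_coe] at hk
    rw [hk]
    exact fun h => hqp ((Nat.prime_dvd_prime_iff_eq hp hq).1 (hp.dvd_of_dvd_pow h)).symm
  refine ⟨hle, (c.normal_or_selfnorm hz1).resolve_right fun hzs => ?_⟩
  obtain ⟨R, hR⟩ := exists_sylow hzs hzq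
  have h1 := Sylow.normalizer_sup_eq_top' R (hR.le.trans hle)
  rw [← Sylow.coe_coe, hR, hzs, sup_eq_right.2 hle] at h1
  exact P'.not_dvd_index (by rw [hNc.index_eq_card, h1, Subgroup.card_top]; exact hd)

include hNP hno in
theorem false_of_no_ti [Finite Q] : False := by
  have exT := fun (p : ℕ) [Fact p.Prime] => c.exists_normal_pgroup hNP hno (p := p)
  have hQ1 : Nat.card Q ≠ 1 := by
    intro e
    refine hNP 2 Nat.prime_two fun g => ⟨0, ?_⟩
    haveI := (Nat.card_eq_one_iff_unique.1 e).1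
    exact Subsingleton.elim _ _
  have exPrime : ∀ r : ℕ, r.Prime → ∃ p : ℕ, p.Prime ∧ p ≠ r ∧ p ∣ Nat.card Q := by
    intro r hr
    by_contra hc
    push Not at hc
    haveI := Fact.mk hr
    exact hNP r hr (IsPGroup.of_card (Nat.eq_prime_pow_of_unique_prime_dvd Nat.card_pos.ne'
      fun {d} hd hdd => by_contra fun hne => hc d hd hne hdd))
  obtain ⟨p, hp, hp2, hpd⟩ := exPrime 2 Nat.prime_two
  haveI := Fact.mk hp
  obtain ⟨T, hTn, hTp, hTb⟩ := exT p hp2 hpd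
  haveI := hTn
  obtain ⟨t₀, ht₀, ht₀1⟩ := (Subgroup.bot_or_exists_ne_one T).resolve_left hTb
  obtain ⟨p', k, hp', -, htk⟩ := exists_prime_pow ht₀1
  have hpp : p' = p := prime_eq_of_isPGroup hp hp' hTp (pow_mem ht₀ k) htk
  subst hpp
  set t := t₀ ^ k
  have ht : t ∈ T := pow_mem ht₀ k
  -- the order is even
  have h2 : 2 ∣ Nat.card Q := by
    by_contra hodd
    obtain ⟨q, hq, hqp, hqd⟩ := exPrime p' hp'
    haveI := Fact.mk hq
    obtain ⟨R, hRn, hRq, hRb⟩ := exT q (fun e => hodd (e ▸ hqd)) hqd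
    obtain ⟨r₀, hr₀, hr₀1⟩ := (Subgroup.bot_or_exists_ne_one R).resolve_left hRb
    obtain ⟨q', j, hq', -, hj⟩ := exists_prime_pow hr₀1
    have e := prime_eq_of_isPGroup hq hq' hRq (pow_mem hr₀ j) hj
    exact c.noc hno hp' hq hqp.symm (Subgroup.commute_of_normal_of_disjoint _ _ hTn hRn
      (IsPGroup.disjoint_of_ne p' q hqp.symm _ _ hTp hRq) _ _ ht (pow_mem hr₀ j)) htk (hj.trans e)
  haveI := Fact.mk Nat.prime_two
  obtain ⟨i, hio⟩ := exists_prime_orderOf_dvd_card' 2 h2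
  have hi1 := ne_one_of_orderOf Nat.prime_two hio
  have hi2 : i * i = 1 := by rw [← pow_two, ← hio]; exact pow_orderOf_eq_one i
  have hnocT : ∀ j : Q, orderOf j = 2 → ∀ v ∈ T, Commute j v → v = 1 := by
    intro j hj v hv hjv
    by_contra hv1
    obtain ⟨r, m, hr, -, hm⟩ := exists_prime_pow hv1
    have e := prime_eq_of_isPGroup hp' hr hTp (pow_mem hv m) hm
    exact c.noc hno Nat.prime_two hp' (Ne.symm hp2) (hjv.pow_right m) hj (hm.trans e)
  have hinv : ∀ j : Q, orderOf j = 2 → ∀ v ∈ T, j * v * j⁻¹ = v⁻¹ := by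
    intro j hj v hv
    have hj1 := ne_one_of_orderOf Nat.prime_two hj
    have hj2 : j * j = 1 := by rw [← pow_two, ← hj]; exact pow_orderOf_eq_one j
    refine IsFPF.conj_eq_inv (A := Subgroup.zpowers j) (V := T) ⟨?_, ?_⟩
      (Subgroup.mem_zpowers j) hj1 hj2 hv
    · intro x _
      rw [normalizer_eq_top_iff.2 hTn]
      exact mem_top x
    · intro x hx hx1
      refine (Subgroup.eq_bot_iff_forall _).2 fun w hw => ?_
      obtain ⟨hwT, hwx⟩ := Subgroup.mem_inf.1 hw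
      have hxo : orderOf x = 2 := by
        have h3 : orderOf x ∣ 2 := by
          rw [← hj, ← Nat.card_zpowers j]
          exact Subgroup.orderOf_dvd_natCard _ hx
        exact ((Nat.dvd_prime Nat.prime_two).1 h3).resolve_left
          fun h => hx1 (orderOf_eq_one_iff.1 h)
      exact hnocT x hxo w hwT (Subgroup.mem_centralizer_singleton_iff.1 hwx).symm
  set C := Subgroup.centralizer (T : Set Q) with hC
  have hTC : T ≤ C := fun a ha => Subgroup.mem_centralizer_iff.2 fun b hb => by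
    have h3 := hinv i hio _ (mul_mem hb ha)
    have h4 : i * (b * a) * i⁻¹ = i * b * i⁻¹ * (i * a * i⁻¹) := by group
    rw [h4, hinv i hio b hb, hinv i hio a ha, mul_inv_rev] at h3
    simpa using (congrArg (·⁻¹) h3).symm
  haveI hCn : C.Normal := Subgroup.normal_centralizer
  have hCp : IsPGroup p' C := isPGroup_of_primes hp' C fun v hv q hq ho => by_contra fun hne =>
    c.noc hno hq hp' hne (Subgroup.mem_centralizer_iff.1 hv t ht).symm ho htk
  -- `Q = C C(i)`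
  have hdec : ∀ g : Q, ∃ d ∈ C, ∃ h, Commute h i ∧ g = d * h := by
    intro g
    set i' := g * i * g⁻¹ with hi'
    have hio' : orderOf i' = 2 := (MulEquiv.orderOf_eq (MulAut.conj g) i).trans hio
    have hcC : i * i' ∈ C := Subgroup.mem_centralizer_iff.2 fun v hv => by
      have e1 := hinv i' hio' v hv
      have e2 := hinv i hio v⁻¹ (inv_mem hv)
      rw [inv_inv] at e2
      calc v * (i * i') = i * v⁻¹ * i⁻¹ * (i * i') := by rw [e2]
        _ = i * v⁻¹ * i' := by group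
        _ = i * (i' * v * i'⁻¹) * i' := by rw [e1]
        _ = i * i' * v := by group
    obtain ⟨m, hm⟩ := IsPGroup.iff_orderOf.1 hCp ⟨_, hcC⟩
    rw [← Subgroup.orderOf_coe] at hm
    obtain ⟨j, hj⟩ : Odd (orderOf (i * i')) := hm ▸ (hp'.odd_of_ne_two hp2).pow
    set d := (i * i') ^ (j + 1) with hd
    have hdC : d ∈ C := pow_mem hcC _
    have hd2 : d * d = i * i' := by
      rw [hd, ← pow_add, show j + 1 + (j + 1) = (2 * j + 1) + 1 by omega, ← hj, pow_succ,
        pow_orderOf_eq_one, one_mul]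
    have hdi : d⁻¹ * i * d = i' := by
      have hci : i * (i * i') * i⁻¹ = (i * i')⁻¹ := by
        rw [mul_inv_rev, inv_eq_of_mul_eq_one_left hi2, show i'⁻¹ = i' from
          inv_eq_of_mul_eq_one_left (by rw [← pow_two, ← hio']; exact pow_orderOf_eq_one i')]
        rw [← mul_assoc, hi2, one_mul]
      have h5 : i * d * i⁻¹ = d⁻¹ := by rw [hd, ← conj_pow, hci, inv_pow]
      rw [← h5]
      calc i * d * i⁻¹ * i * d = i * (d * d) := by group
        _ = i' := by rw [hd2, ← mul_assoc, hi2, one_mul]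
    refine ⟨d⁻¹, inv_mem hdC, d * g, ?_, by group⟩
    change d * g * i = i * (d * g)
    calc d * g * i = d * i' * g := by rw [hi']; group
      _ = i * (d * g) := by rw [← hdi]; group
  have hpC : ∀ r : Q, (∃ m, orderOf r = p' ^ m) → r ∈ C := by
    rintro r ⟨m, hm⟩
    obtain ⟨d, hd, h, hh, rfl⟩ := hdec r
    obtain ⟨n, hn⟩ : ∃ n, orderOf h = 2 ^ n :=
      ⟨_, Nat.eq_prime_pow_of_unique_prime_dvd (orderOf_pos h).ne' fun {q} hq hqd =>
        by_contra fun hne => c.noc hno hq Nat.prime_two hne (hh.pow_left _)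
          (orderOf_pow_orderOf_div (orderOf_pos h).ne' hqd) hio⟩
    have e : (QuotientGroup.mk (d * h) : Q ⧸ C) = QuotientGroup.mk h := by
      rw [QuotientGroup.mk_mul, (QuotientGroup.eq_one_iff d).2 hd, one_mul]
    have h1 := orderOf_map_dvd (QuotientGroup.mk' C) (d * h)
    have h3 := orderOf_map_dvd (QuotientGroup.mk' C) h
    simp only [QuotientGroup.mk'_apply, e, hm, hn] at h1 h3
    exact (QuotientGroup.eq_one_iff _).1 (e.trans (orderOf_eq_one_iff.1
      (Nat.eq_one_of_dvd_coprimes (Nat.Coprime.pow m n ((Nat.coprime_primes hp' Nat.prime_two).2 hp2))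
        h1 h3)))
  refine c.false_of_invariant hNP hno (fun e => hTb (le_bot_iff.1 (e ▸ hTC))) fun z hz hz1 => ?_
  obtain ⟨q, m, hq, -, hm⟩ := exists_prime_pow hz1
  have e := prime_eq_of_isPGroup hp' hq hCp (pow_mem hz m) hm
  have hzp := c.pgroup_member hno hz1 hp' (pow_mem (c.self z) m) (hm.trans e)
  have hle : c.δ z ≤ C := by
    intro w hw
    obtain ⟨l, hl⟩ := IsPGroup.iff_orderOf.1 hzp ⟨w, hw⟩
    exact hpC w ⟨l, by rwa [← Subgroup.orderOf_coe] at hl⟩
  refine ⟨hle, (c.normal_or_selfnorm hz1).resolve_right fun hs => ?_⟩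
  have h4 : c.δ z = C := le_antisymm hle (le_of_selfnorm hs hzp hCp)
  rw [h4, normalizer_eq_top_iff.2 hCn] at hs
  exact c.ne_top z hz1 (h4.trans hs.symm)

omit hNP hno

include c in
/-- The classification. -/
theorem classification [Finite Q] :
    (∃ p : ℕ, p.Prime ∧ Cfsg.IsElementaryAbelian p (⊤ : Subgroup Q)) ∨
    (∃ (E K : Subgroup Q) (p : ℕ), p.Prime ∧ Cfsg.IsFrobeniusComplement E ∧
      (Nat.card E).Prime ∧ K.Normal ∧ (K : Set Q) = Cfsg.frobeniusKernel E ∧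
      Cfsg.IsElementaryAbelian p K) := by
  by_cases hpg : ∃ p : ℕ, p.Prime ∧ IsPGroup p Q
  · obtain ⟨p, hp, h⟩ := hpg
    haveI := Fact.mk hp
    exact Or.inl ⟨p, hp, c.elementary h⟩
  push Not at hpg
  refine Or.inr ?_
  by_cases hnn : ∃ u, u ≠ 1 ∧ c.TI u ∧ ¬ (c.δ u).Normal
  · obtain ⟨u, hu, hti, hn⟩ := hnn
    exact c.frobenius hu hti hn
  push Not at hnn
  by_cases hti : ∃ a, a ≠ 1 ∧ c.TI a
  · obtain ⟨a, ha, ht⟩ := hti
    exact (c.false_of_normal_ti hpg hnn ha ht).elim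
  push Not at hti
  exact (c.false_of_no_ti hpg hti).elim

end Cfg

end CfsgLib.Techniques.MaxCentRel
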