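import Cfsg.Agent.Lib.Techniques.MaxCentralizerRel

/-!
# The configuration on `N/Z(N)` of a normal subgroup with relatively maximal centralizers
-/

set_option autoImplicit false

open Subgroup

universe u

namespace CfsgLib.Techniques.MaxCentRel

variable {G : Type u} [Group G] (N : Subgroup G)

/-- The image of the centralizer in `N` of a lift. -/
noncomputable def member (q : ↥N ⧸ center ↥N) : Subgroup (↥N ⧸ center ↥N) :=
  (Subgroup.centralizer ({q.out} : Set ↥N)).map (QuotientGroup.mk' _)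

theorem mk_mem_member (x y : ↥N) :
    (QuotientGroup.mk y : ↥N ⧸ center ↥N) ∈ member N (QuotientGroup.mk x) ↔ Commute y x := by
  obtain ⟨z, hz⟩ := QuotientGroup.mk_out_eq_mul (center ↥N) x
  have hzc : ∀ w : ↥N, Commute w (z : ↥N) := fun w => Subgroup.mem_center_iff.1 z.2 w
  rw [member, Subgroup.mem_map]
  constructor
  · rintro ⟨w, hw, hwy⟩
    rw [hz, Subgroup.mem_centralizer_singleton_iff] at hw
    have hw' : Commute w x := by
      have h1 := Commute.mul_right (show Commute w (x * z) from hw) (hzc w).inv_right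
      rwa [mul_inv_cancel_right] at h1
    have hd : w⁻¹ * y ∈ center ↥N := QuotientGroup.eq.1 hwy
    have hd' : Commute (w⁻¹ * y) x := (Subgroup.mem_center_iff.1 hd x).symm
    have h2 := hw'.mul_left hd'
    rwa [mul_inv_cancel_left] at h2
  · intro hc
    refine ⟨y, ?_, rfl⟩
    rw [hz, Subgroup.mem_centralizer_singleton_iff]
    exact hc.mul_right (hzc y)

theorem mk_eq_one_iff (x : ↥N) :
    (QuotientGroup.mk x : ↥N ⧸ center ↥N) = 1 ↔ ∀ w : ↥N, Commute w x := by
  rw [QuotientGroup.eq_one_iff, Subgroup.mem_center_iff]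
  rfl

variable [N.Normal]

/-- The automorphism of `N/Z(N)` induced by an element of `G`. -/
def act (g : G) : MulAut (↥N ⧸ center ↥N) :=
  QuotientGroup.congr (center ↥N) (center ↥N) (MulAut.conjNormal g)
    (Subgroup.characteristic_iff_map_eq.1 inferInstance _)

theorem act_mk (g : G) (x : ↥N) :
    act N g (QuotientGroup.mk x) = QuotientGroup.mk (MulAut.conjNormal g x) :=
  rfl

variable {N}

/-- The hypothesis gives the configuration. -/
theorem exists_cfg
    (h : ∀ x : G, x ∈ N → x ∉ Subgroup.centralizer (N : Set G) →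
      IsCoatom (Subgroup.centralizer ({x} : Set G))) :
    Nonempty (Cfg (↥N ⧸ center ↥N)) := by
  classical
  have hco : ∀ x : ↥N, (QuotientGroup.mk x : ↥N ⧸ center ↥N) ≠ 1 →
      IsCoatom (Subgroup.centralizer ({(x : G)} : Set G)) := fun x hx => h x x.2 fun hc =>
    hx ((mk_eq_one_iff N x).2 fun w => Subtype.ext (Subgroup.mem_centralizer_iff.1 hc w w.2))
  have hfix : ∀ (x : ↥N) (m : G), m ∈ Subgroup.centralizer ({(x : G)} : Set G) →
      MulAut.conjNormal m x = x := fun x m hm => Subtype.ext (by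
    rw [MulAut.conjNormal_apply, Subgroup.mem_centralizer_singleton_iff.1 hm, mul_inv_cancel_right])
  refine ⟨{
    δ := member N
    Γ := Set.range (act N)
    self := ?_
    symm := ?_
    comm := ?_
    sep := ?_
    ne_top := ?_
    equiv := ?_
    cj := ?_
    gen := ?_
    max := ?_
    pow := ?_
    cop := ?_ }⟩
  · intro u
    obtain ⟨x, rfl⟩ := QuotientGroup.mk_surjective u
    exact (mk_mem_member N x x).2 (Commute.refl x)
  · intro u v
    obtain ⟨x, rfl⟩ := QuotientGroup.mk_surjective u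
    obtain ⟨y, rfl⟩ := QuotientGroup.mk_surjective v
    rw [mk_mem_member, mk_mem_member]
    exact Commute.symm
  · intro u v
    obtain ⟨x, rfl⟩ := QuotientGroup.mk_surjective u
    obtain ⟨y, rfl⟩ := QuotientGroup.mk_surjective v
    rw [mk_mem_member]
    exact fun hc => (hc.map (QuotientGroup.mk' (center ↥N))).symm
  · intro v
    obtain ⟨y, rfl⟩ := QuotientGroup.mk_surjective v
    intro hv
    refine (mk_eq_one_iff N y).2 fun w => ?_
    by_cases hw : (QuotientGroup.mk w : ↥N ⧸ center ↥N) = 1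
    · exact ((mk_eq_one_iff N w).1 hw y).symm
    · exact ((mk_mem_member N w y).1 (hv _ hw)).symm
  · intro u
    obtain ⟨x, rfl⟩ := QuotientGroup.mk_surjective u
    intro hx he
    exact hx ((mk_eq_one_iff N x).2 fun w => (mk_mem_member N x w).1 (he ▸ mem_top _))
  · rintro _ ⟨g, rfl⟩ u w
    obtain ⟨x, rfl⟩ := QuotientGroup.mk_surjective u
    obtain ⟨y, rfl⟩ := QuotientGroup.mk_surjective w
    rw [act_mk, act_mk, mk_mem_member, mk_mem_member]
    exact commute_map_iff (MulAut.conjNormal g).injective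
  · intro g u w
    obtain ⟨a, rfl⟩ := QuotientGroup.mk_surjective g
    obtain ⟨x, rfl⟩ := QuotientGroup.mk_surjective u
    obtain ⟨y, rfl⟩ := QuotientGroup.mk_surjective w
    simp only [← QuotientGroup.mk_mul, ← QuotientGroup.mk_inv, mk_mem_member]
    exact Commute.conj_iff a
  · intro u hu
    obtain ⟨x, rfl⟩ := QuotientGroup.mk_surjective u
    rintro _ ⟨g, rfl⟩
    set M := Subgroup.centralizer ({(x : G)} : Set G) with hM
    have htop : N ⊔ M = ⊤ := by
      refine (hco x hu).2 _ (lt_of_le_of_ne le_sup_right fun e => hu ((mk_eq_one_iff N x).2 fun w => ?_))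
      have hw : (w : G) ∈ Subgroup.centralizer ({(x : G)} : Set G) := by rw [e]; exact mem_sup_left w.2
      exact Subtype.ext (Subgroup.mem_centralizer_singleton_iff.1 hw)
    obtain ⟨n, hn, m, hm, rfl⟩ := Subgroup.mem_sup_of_normal_left.1 (htop ▸ mem_top g)
    refine ⟨QuotientGroup.mk ⟨n, hn⟩, ?_⟩
    rw [act_mk, map_mul, MulAut.mul_apply, hfix x m hm]
    exact congrArg QuotientGroup.mk (Subtype.ext (MulAut.conjNormal_apply n x))
  · intro u hu W
    obtain ⟨x, rfl⟩ := QuotientGroup.mk_surjective u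
    intro hW hinv
    set M := Subgroup.centralizer ({(x : G)} : Set G) with hM
    set W' := (W.comap (QuotientGroup.mk' (center ↥N))).map N.subtype with hW'
    have hmem : ∀ w : ↥N, (w : G) ∈ W' ↔ (QuotientGroup.mk w : ↥N ⧸ center ↥N) ∈ W := fun w =>
      Subgroup.mem_map_iff_mem (f := N.subtype) N.subtype_injective
    have hstab : ∀ m ∈ M, ∀ w ∈ W', m * w * m⁻¹ ∈ W' := by
      rintro m hm _ ⟨w, hw, rfl⟩
      have h1 := hinv (act N m) ⟨m, rfl⟩ (by rw [act_mk, hfix x m hm]) _ hw
      rw [QuotientGroup.mk'_apply, act_mk] at h1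
      exact ⟨_, h1, MulAut.conjNormal_apply m w⟩
    have hMn : M ≤ normalizer (W' : Set G) := fun m hm => Subgroup.mem_normalizer_iff.2 fun w => by
      refine ⟨hstab m hm w, fun hw => ?_⟩
      have := hstab m⁻¹ (inv_mem hm) _ hw
      simpa [mul_assoc] using this
    rcases eq_or_lt_of_le (le_sup_right : M ≤ W' ⊔ M) with e | e
    · refine Or.inl (le_antisymm (fun q hq => ?_) hW)
      obtain ⟨w, rfl⟩ := QuotientGroup.mk_surjective q
      rw [mk_mem_member]
      have hwM : (w : G) ∈ M := by rw [e]; exact mem_sup_left ((hmem w).2 hq)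
      exact Subtype.ext (Subgroup.mem_centralizer_singleton_iff.1 hwM)
    · refine Or.inr (eq_top_iff.2 fun q _ => ?_)
      obtain ⟨w, rfl⟩ := QuotientGroup.mk_surjective q
      have htop := (hco x hu).2 _ e
      have hw : (w : G) ∈ ((W' ⊔ M : Subgroup G) : Set G) := by rw [htop]; trivial
      rw [Subgroup.coe_mul_of_right_le_normalizer_left W' M hMn] at hw
      obtain ⟨_, ⟨w₁, hw₁, rfl⟩, m, hm, hwm⟩ := hw
      have hm' : m ∈ N := by
        have := N.mul_mem (N.inv_mem w₁.2) w.2
        rwa [show (w₁ : G)⁻¹ * w = m by rw [← hwm]; simp] at this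
      have he : w = w₁ * ⟨m, hm'⟩ := Subtype.ext hwm.symm
      rw [he, QuotientGroup.mk_mul]
      exact W.mul_mem hw₁ (hW ((mk_mem_member N x _).2
        (Subtype.ext (Subgroup.mem_centralizer_singleton_iff.1 hm))))
  · intro u k q hq
    obtain ⟨x, rfl⟩ := QuotientGroup.mk_surjective u
    obtain ⟨y, rfl⟩ := QuotientGroup.mk_surjective q
    rw [← QuotientGroup.mk_pow, mk_mem_member]
    exact ((mk_mem_member N x y).1 hq).pow_right k
  · intro u v hc ho
    obtain ⟨x, rfl⟩ := QuotientGroup.mk_surjective u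
    obtain ⟨y, rfl⟩ := QuotientGroup.mk_surjective v
    rw [mk_mem_member]
    set z := x * y * x⁻¹ * y⁻¹ with hz
    have hzQ : (QuotientGroup.mk z : ↥N ⧸ center ↥N) = 1 := by
      simp only [hz, QuotientGroup.mk_mul, QuotientGroup.mk_inv, hc.eq]
      group
    have hzc := (mk_eq_one_iff N z).1 hzQ
    have hxy : x * y * x⁻¹ = z * y := by rw [hz]; group
    have hyx : y * x⁻¹ * y⁻¹ = x⁻¹ * z := by rw [hz]; group
    have hzn : z ^ orderOf (QuotientGroup.mk y : ↥N ⧸ center ↥N) = 1 := by
      set n := orderOf (QuotientGroup.mk y : ↥N ⧸ center ↥N)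
      have h1 : ∀ w, Commute w (y ^ n) := (mk_eq_one_iff N _).1 (by
        rw [QuotientGroup.mk_pow]; exact pow_orderOf_eq_one _)
      have h2 : (z * y) ^ n = y ^ n := by
        rw [← hxy, conj_pow, (h1 x).eq, mul_inv_cancel_right]
      rwa [(hzc y).symm.mul_pow, mul_eq_right] at h2
    have hzm : z ^ orderOf (QuotientGroup.mk x : ↥N ⧸ center ↥N) = 1 := by
      set n := orderOf (QuotientGroup.mk x : ↥N ⧸ center ↥N)
      have h1 : ∀ w, Commute w (x⁻¹ ^ n) := (mk_eq_one_iff N _).1 (by
        rw [QuotientGroup.mk_pow, QuotientGroup.mk_inv, inv_pow, inv_eq_one]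
        exact pow_orderOf_eq_one _)
      have h2 : (x⁻¹ * z) ^ n = x⁻¹ ^ n := by
        rw [← hyx, conj_pow, (h1 y).eq, mul_inv_cancel_right]
      rwa [(hzc x⁻¹).mul_pow, mul_eq_left] at h2
    have hz1 : z = 1 := orderOf_eq_one_iff.1 (Nat.eq_one_of_dvd_coprimes ho
      (orderOf_dvd_of_pow_eq_one hzm) (orderOf_dvd_of_pow_eq_one hzn))
    rw [hz1, one_mul, mul_inv_eq_iff_eq_mul] at hxy
    exact hxy.symm

end CfsgLib.Techniques.MaxCentRel
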