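import Mathlib

/-!
# Groups of order 320 with a derived subgroup of order 64 and four-group centre of it

Such a group is generated by elements `q`, `p` with `q⁵ = 1`, the product of the five conjugates
`pᵢ = qⁱ p q⁻ⁱ` equal to `1`, and `p²` the product of the central involutions `[p, p₁]`, `[p, p₂]`;
these relations determine it.
-/

set_option autoImplicit false
set_option linter.unusedSectionVars false

namespace CfsgLib.Techniques.Order320

variable {X : Type*} [Group X]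

/-- `q^i p q^{-i}`. -/
def cj (q p : X) (i : ℕ) : X := q ^ i * p * (q ^ i)⁻¹

/-- `a b a⁻¹ b⁻¹`. -/
def E (a b : X) : X := a * b * a⁻¹ * b⁻¹

/-- The defining relations. -/
structure Rel (q p : X) : Prop where
  five : q ^ 5 = 1
  prod : cj q p 0 * cj q p 1 * cj q p 2 * cj q p 3 * cj q p 4 = 1
  sq : p * p = E p (cj q p 1) * E p (cj q p 2)
  q1 : q * E p (cj q p 1) = E p (cj q p 1) * q
  q2 : q * E p (cj q p 2) = E p (cj q p 2) * q
  p1 : p * E p (cj q p 1) = E p (cj q p 1) * p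
  p2 : p * E p (cj q p 2) = E p (cj q p 2) * p
  i1 : E p (cj q p 1) * E p (cj q p 1) = 1
  i2 : E p (cj q p 2) * E p (cj q p 2) = 1

theorem card_sup_zpowers_le [Finite X] (N : Subgroup X) {g : X} {n : ℕ} (hn : 0 < n)
    (hnorm : ∀ x ∈ N, g * x * g⁻¹ ∈ N) (hpow : g ^ n ∈ N) :
    Nat.card (N ⊔ Subgroup.zpowers g : Subgroup X) ≤ Nat.card N * n := by
  have hg : g ∈ Subgroup.normalizer (N : Set X) := Subgroup.mem_normalizer_fintype hnorm
  have hle : Subgroup.zpowers g ≤ Subgroup.normalizer (N : Set X) := Subgroup.zpowers_le.2 hg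
  have hmem : ∀ p : N × Fin n, (p.1 : X) * g ^ (p.2 : ℕ) ∈ N ⊔ Subgroup.zpowers g := fun p =>
    mul_mem (Subgroup.mem_sup_left p.1.2)
      (Subgroup.mem_sup_right (pow_mem (Subgroup.mem_zpowers g) _))
  let f : N × Fin n → (N ⊔ Subgroup.zpowers g : Subgroup X) := fun p => ⟨_, hmem p⟩
  have hf : Function.Surjective f := by
    rintro ⟨x, hx⟩
    have hx' : x ∈ ((N ⊔ Subgroup.zpowers g : Subgroup X) : Set X) := hx
    rw [Subgroup.coe_mul_of_right_le_normalizer_left _ _ hle] at hx'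
    obtain ⟨u, hu, v, hv, rfl⟩ := hx'
    obtain ⟨m, rfl⟩ := mem_powers_iff_mem_zpowers.2 hv
    refine ⟨(⟨u * (g ^ n) ^ (m / n), mul_mem hu (pow_mem hpow _)⟩, ⟨m % n, Nat.mod_lt _ hn⟩),
      Subtype.ext ?_⟩
    show u * (g ^ n) ^ (m / n) * g ^ (m % n) = u * g ^ m
    rw [mul_assoc, ← pow_mul, ← pow_add, Nat.div_add_mod]
  refine (Nat.card_le_card_of_surjective f hf).trans ?_
  rw [Nat.card_prod, Nat.card_fin]

theorem cj_add (q p : X) (i j : ℕ) : cj q p (i + j) = q ^ i * cj q p j * (q ^ i)⁻¹ := by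
  simp only [cj, pow_add]; group

theorem E_conj (g a b : X) : g * E a b * g⁻¹ = E (g * a * g⁻¹) (g * b * g⁻¹) := by
  rw [E, E]; group

theorem E_swap (a b : X) : E b a = (E a b)⁻¹ := by rw [E, E]; group

namespace Rel

variable {q p : X} (R : Rel q p)
include R

/-- The central subgroup. -/
def A (_R : Rel q p) : Subgroup X := Subgroup.closure {E p (cj q p 1), E p (cj q p 2)}

theorem c12 : Commute (E p (cj q p 1)) (E p (cj q p 2)) := by
  have hp : Commute (E p (cj q p 1)) p := R.p1.symm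
  have hq : Commute (E p (cj q p 1)) q := R.q1.symm
  have hc : Commute (E p (cj q p 1)) (cj q p 2) :=
    ((hq.pow_right 2).mul_right hp).mul_right (hq.pow_right 2).inv_right
  exact ((hp.mul_right hc).mul_right hp.inv_right).mul_right hc.inv_right

theorem mem_A {x : X} (hx : x ∈ R.A) : x = 1 ∨ x = E p (cj q p 1) ∨ x = E p (cj q p 2) ∨
    x = E p (cj q p 1) * E p (cj q p 2) := by
  have h1 := R.i1
  have h2 := R.i2
  have h := R.c12.eq
  revert hx h1 h2 h
  unfold A
  generalize E p (cj q p 1) = a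
  generalize E p (cj q p 2) = b
  intro hx h1 h2 h
  have e1 : ∀ t, a * (a * t) = t := fun t => by rw [← mul_assoc, h1, one_mul]
  have e2 : ∀ t, b * (b * t) = t := fun t => by rw [← mul_assoc, h2, one_mul]
  have e3 : ∀ t, b * (a * t) = a * (b * t) := fun t => by rw [← mul_assoc, ← h, mul_assoc]
  induction hx using Subgroup.closure_induction with
  | mem x hx => rcases hx with hx | hx <;> rw [hx] <;> simp
  | one => simp
  | mul x y _ _ hx hy =>
    rcases hx with hx | hx | hx | hx <;> rcases hy with hy | hy | hy | hy <;> rw [hx, hy] <;>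
      simp [mul_assoc, h1, h2, e1, e2, e3, ← h]
  | inv x _ hx =>
    have i1 := inv_eq_of_mul_eq_one_right h1
    have i2 := inv_eq_of_mul_eq_one_right h2
    rcases hx with hx | hx | hx | hx <;> rw [hx] <;> simp [i1, i2, h]

theorem A_comm {x : X} (hx : x ∈ R.A) : Commute q x ∧ Commute p x := by
  induction hx using Subgroup.closure_induction with
  | mem x hx =>
    rcases hx with rfl | rfl
    exacts [⟨R.q1, R.p1⟩, ⟨R.q2, R.p2⟩]
  | one => exact ⟨Commute.one_right _, Commute.one_right _⟩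
  | mul x y _ _ hx hy => exact ⟨hx.1.mul_right hy.1, hx.2.mul_right hy.2⟩
  | inv x _ hx => exact ⟨hx.1.inv_right, hx.2.inv_right⟩

theorem cj_comm (i : ℕ) {x : X} (hx : x ∈ R.A) : Commute (cj q p i) x :=
  (((R.A_comm hx).1.pow_left i).mul_left (R.A_comm hx).2).mul_left
    ((R.A_comm hx).1.pow_left i).inv_left

theorem sq_mem : p * p ∈ R.A := by
  rw [R.sq]
  exact mul_mem (Subgroup.subset_closure (by simp)) (Subgroup.subset_closure (by simp))

theorem E_three : E p (cj q p 3) = E p (cj q p 2) := by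
  have h5 : cj q p 5 = p := by rw [cj, R.five]; simp
  have h : q ^ 3 * E (cj q p 2) p * (q ^ 3)⁻¹ = E p (cj q p 3) := by
    rw [E_conj, ← cj_add, h5]; rfl
  rw [← h, E_swap, inv_eq_of_mul_eq_one_right R.i2,
    ((show Commute q _ from R.q2).pow_left 3).eq, mul_inv_cancel_right]

theorem E_cj (i j : ℕ) (hj : j = 1 ∨ j = 2 ∨ j = 3) :
    E (cj q p i) (cj q p (i + j)) ∈ R.A := by
  have h : E (cj q p i) (cj q p (i + j)) = q ^ i * E p (cj q p j) * (q ^ i)⁻¹ := by
    rw [E_conj, ← cj_add]; rfl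
  have hm : E p (cj q p j) ∈ R.A := by
    rcases hj with rfl | rfl | rfl
    · exact Subgroup.subset_closure (by simp)
    · exact Subgroup.subset_closure (by simp)
    · rw [R.E_three]; exact Subgroup.subset_closure (by simp)
  rw [h, ((R.A_comm hm).1.pow_left i).eq, mul_inv_cancel_right]
  exact hm

theorem card_closure_le [Finite X] :
    Nat.card (Subgroup.closure {q, p} : Subgroup X) ≤ Nat.card R.A * 80 := by
  set a := cj q p 0 with ha
  set b := cj q p 1 with hb
  set c := cj q p 2 with hc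
  set d := cj q p 3 with hd
  have hap : a = p := by simp [ha, cj]
  have hsq : ∀ i, cj q p i * cj q p i ∈ R.A := fun i => by
    rw [show cj q p i * cj q p i = q ^ i * (p * p) * (q ^ i)⁻¹ by rw [cj]; group,
      ((R.A_comm R.sq_mem).1.pow_left i).eq, mul_inv_cancel_right]
    exact R.sq_mem
  have hswap : ∀ {u v : X}, E u v ∈ R.A → v * u * v⁻¹ = (E u v)⁻¹ * u := fun _ => by
    rw [E]; group
  let N1 := R.A ⊔ Subgroup.zpowers a
  let N2 := N1 ⊔ Subgroup.zpowers b
  let N3 := N2 ⊔ Subgroup.zpowers c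
  let N4 := N3 ⊔ Subgroup.zpowers d
  let N5 := N4 ⊔ Subgroup.zpowers q
  have hfix : ∀ i, ∀ x ∈ R.A, cj q p i * x * (cj q p i)⁻¹ ∈ R.A := fun i x hx => by
    rw [(R.cj_comm i hx).eq, mul_inv_cancel_right]; exact hx
  have hA1 : R.A ≤ N1 := le_sup_left
  have hA2 : R.A ≤ N2 := hA1.trans le_sup_left
  have hA3 : R.A ≤ N3 := hA2.trans le_sup_left
  have hA4 : R.A ≤ N4 := hA3.trans le_sup_left
  have haN1 : a ∈ N1 := Subgroup.mem_sup_right (Subgroup.mem_zpowers a)
  have haN2 : a ∈ N2 := Subgroup.mem_sup_left haN1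
  have hbN2 : b ∈ N2 := Subgroup.mem_sup_right (Subgroup.mem_zpowers b)
  have haN4 : a ∈ N4 := Subgroup.mem_sup_left (Subgroup.mem_sup_left haN2)
  have hbN4 : b ∈ N4 := Subgroup.mem_sup_left (Subgroup.mem_sup_left hbN2)
  have hcN4 : c ∈ N4 := Subgroup.mem_sup_left (Subgroup.mem_sup_right (Subgroup.mem_zpowers c))
  have hdN4 : d ∈ N4 := Subgroup.mem_sup_right (Subgroup.mem_zpowers d)
  have hgen : ∀ (K L : Subgroup X) (g : X), (∀ x ∈ K, g * x * g⁻¹ ∈ L) → ∀ u, g * u * g⁻¹ ∈ L →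
      ∀ x ∈ K ⊔ Subgroup.zpowers u, g * x * g⁻¹ ∈ L := by
    intro K L g hK u hu x hx
    have : K ⊔ Subgroup.zpowers u ≤ L.comap (MulAut.conj g).toMonoidHom :=
      sup_le (fun y hy => hK y hy) (Subgroup.zpowers_le.2 hu)
    exact this hx
  have hconj : ∀ (L : Subgroup X), R.A ≤ L → ∀ i j, (j = 1 ∨ j = 2 ∨ j = 3) → cj q p i ∈ L →
      cj q p (i + j) * cj q p i * (cj q p (i + j))⁻¹ ∈ L := fun L hL i j hj hi => by
    rw [hswap (R.E_cj i j hj)]
    exact mul_mem (inv_mem (hL (R.E_cj i j hj))) hi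
  have c1 : Nat.card N1 ≤ Nat.card R.A * 2 :=
    card_sup_zpowers_le R.A two_pos (hfix 0) (by rw [pow_two]; exact hsq 0)
  have n2 : ∀ x ∈ N1, b * x * b⁻¹ ∈ N1 :=
    hgen _ N1 b (fun x hx => hA1 (hfix 1 x hx)) a (hconj N1 hA1 0 1 (by simp) haN1)
  have c2 : Nat.card N2 ≤ Nat.card N1 * 2 :=
    card_sup_zpowers_le N1 two_pos n2 (by rw [pow_two]; exact hA1 (hsq 1))
  have n3 : ∀ x ∈ N2, c * x * c⁻¹ ∈ N2 :=
    hgen _ N2 c (hgen _ N2 c (fun x hx => hA2 (hfix 2 x hx)) a
      (hconj N2 hA2 0 2 (by simp) haN2)) b (hconj N2 hA2 1 1 (by simp) hbN2)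
  have c3 : Nat.card N3 ≤ Nat.card N2 * 2 :=
    card_sup_zpowers_le N2 two_pos n3 (by rw [pow_two]; exact hA2 (hsq 2))
  have n4 : ∀ x ∈ N3, d * x * d⁻¹ ∈ N3 :=
    hgen _ N3 d (hgen _ N3 d (hgen _ N3 d (fun x hx => hA3 (hfix 3 x hx)) a
      (hconj N3 hA3 0 3 (by simp) (Subgroup.mem_sup_left haN2))) b
      (hconj N3 hA3 1 2 (by simp) (Subgroup.mem_sup_left hbN2))) c
      (hconj N3 hA3 2 1 (by simp) (Subgroup.mem_sup_right (Subgroup.mem_zpowers c)))
  have c4 : Nat.card N4 ≤ Nat.card N3 * 2 :=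
    card_sup_zpowers_le N3 two_pos n4 (by rw [pow_two]; exact hA3 (hsq 3))
  have hq : ∀ i, q * cj q p i * q⁻¹ = cj q p (i + 1) := fun i => by
    rw [add_comm, cj_add, pow_one]
  have he : cj q p 4 = (a * b * c * d)⁻¹ := eq_inv_of_mul_eq_one_right R.prod
  have n5 : ∀ x ∈ N4, q * x * q⁻¹ ∈ N4 :=
    hgen _ N4 q (hgen _ N4 q (hgen _ N4 q (hgen _ N4 q
      (fun x hx => by
        rw [(R.A_comm hx).1.eq, mul_inv_cancel_right]; exact hA4 hx) a
      (by rw [ha, hq]; exact hbN4)) b (by rw [hb, hq]; exact hcN4)) c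
      (by rw [hc, hq]; exact hdN4)) d
      (by rw [hd, hq, he]; exact inv_mem (mul_mem (mul_mem (mul_mem haN4 hbN4) hcN4) hdN4))
  have c5 : Nat.card N5 ≤ Nat.card N4 * 5 :=
    card_sup_zpowers_le N4 (by norm_num) n5 (by rw [R.five]; exact one_mem _)
  refine (Subgroup.card_le_of_le ((Subgroup.closure_le _).2 ?_)).trans (?_ : Nat.card N5 ≤ _)
  · rintro x (rfl | rfl)
    · exact Subgroup.mem_sup_right (Subgroup.mem_zpowers _)
    · exact Subgroup.mem_sup_left (hap ▸ haN4)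
  · omega

theorem card_A_le [Finite X] : Nat.card R.A ≤ 4 := by
  classical
  let s : Finset X := {1, E p (cj q p 1), E p (cj q p 2), E p (cj q p 1) * E p (cj q p 2)}
  have h : (R.A : Set X) ⊆ (s : Set X) := fun x hx => by simpa [s] using R.mem_A hx
  calc Nat.card R.A = (R.A : Set X).ncard := (Nat.card_coe_set_eq _).symm ▸ rfl
    _ ≤ (s : Set X).ncard := Set.ncard_le_ncard h
    _ ≤ 4 := by rw [Set.ncard_coe_finset]; exact Finset.card_le_four

end Rel

/-- Relations pass to pairs. -/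
theorem Rel.prodMk {Y : Type*} [Group Y] {q p : X} {q' p' : Y} (R : Rel q p) (R' : Rel q' p') :
    Rel (q, q') (p, p') := by
  have hc : ∀ i, cj (q, q') (p, p') i = (cj q p i, cj q' p' i) := fun i => rfl
  constructor <;> refine Prod.ext ?_ ?_
  exacts [R.five, R'.five, R.prod, R'.prod, R.sq, R'.sq, R.q1, R'.q1, R.q2, R'.q2, R.p1, R'.p1,
    R.p2, R'.p2, R.i1, R'.i1, R.i2, R'.i2]

/-- The relations determine the group. -/
theorem exists_hom {Y : Type*} [Group Y] [Finite X] [Finite Y] {q p : X} {q' p' : Y}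
    (R : Rel q p) (R' : Rel q' p') (hgen : Subgroup.closure {q, p} = (⊤ : Subgroup X))
    (hcard : Nat.card X = 320) : ∃ f : X →* Y, f q = q' ∧ f p = p' := by
  have S := R.prodMk R'
  set D : Subgroup (X × Y) := Subgroup.closure {(q, q'), (p, p')}
  let π : D →* X := (MonoidHom.fst X Y).comp D.subtype
  have hq : (q, q') ∈ D := Subgroup.subset_closure (by simp)
  have hp : (p, p') ∈ D := Subgroup.subset_closure (by simp)
  have hsurj : Function.Surjective π := by
    rw [← MonoidHom.range_eq_top, eq_top_iff, ← hgen, Subgroup.closure_le]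
    rintro x (rfl | rfl)
    exacts [⟨⟨_, hq⟩, rfl⟩, ⟨⟨_, hp⟩, rfl⟩]
  have hD : Nat.card D ≤ 320 := by
    have h1 : Nat.card D ≤ _ := S.card_closure_le
    have h2 := S.card_A_le
    omega
  have hbij : Function.Bijective π := (Nat.bijective_iff_surjective_and_card π).2
    ⟨hsurj, le_antisymm (hD.trans hcard.ge) (Nat.card_le_card_of_surjective π hsurj)⟩
  let e := MulEquiv.ofBijective π hbij
  have key : ∀ u (hu : u ∈ D), e.symm u.1 = ⟨u, hu⟩ := fun u hu => e.symm_apply_apply ⟨u, hu⟩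
  exact ⟨((MonoidHom.snd X Y).comp D.subtype).comp e.symm.toMonoidHom,
    congrArg (fun d : D => d.1.2) (key _ hq), congrArg (fun d : D => d.1.2) (key _ hp)⟩

end CfsgLib.Techniques.Order320
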