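import Cfsg.Agent.Lib.Techniques.Order320
import Cfsg.Agent.Lib.PGroups.Basic

/-!
# The structure of a group of order 320 with derived subgroup of order 64
-/

set_option autoImplicit false
set_option linter.unusedSectionVars false
set_option linter.style.haveILetI false

namespace CfsgLib.Techniques.Order320

variable {G : Type*} [Group G] [Finite G]

/-- An element of order five fixes a group of order dividing `8` acted upon. -/
theorem fixed_small {V : Type*} [Group V] [Finite V] (φ : MulAut V) (h5 : φ ^ 5 = 1)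
    (hV : Nat.card V ∣ 8) (v : V) : φ v = v := by
  haveI : Fact (Nat.Prime 5) := ⟨by norm_num⟩
  have hp : IsPGroup 5 (Subgroup.zpowers φ) := fun ⟨x, hx⟩ => ⟨1, by
    obtain ⟨m, rfl⟩ := hx
    refine Subtype.ext ?_
    show (φ ^ m) ^ (5 ^ 1) = 1
    rw [pow_one, ← zpow_natCast, ← zpow_mul, mul_comm, zpow_mul, zpow_natCast, h5, one_zpow]⟩
  have hmod := hp.card_modEq_card_fixedPoints V
  let F : Subgroup V := φ.toMonoidHom.eqLocus (MonoidHom.id V)
  have hF : MulAction.fixedPoints (Subgroup.zpowers φ) V = (F : Set V) := by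
    ext x
    refine ⟨fun h => h ⟨φ, Subgroup.mem_zpowers φ⟩, fun h => ?_⟩
    rintro ⟨g, m, rfl⟩
    have hx : φ ∈ MulAction.stabilizer (MulAut V) x := h
    exact (zpow_mem hx m : φ ^ m ∈ _)
  have hcF : Nat.card (MulAction.fixedPoints (Subgroup.zpowers φ) V) = Nat.card F := by rw [hF]; rfl
  rw [hcF] at hmod
  have key : ∀ n ≤ 8, n ∣ 8 → ∀ k ≤ 8, k ∣ n → n % 5 = k % 5 → k = n := by decide
  have hn := Nat.le_of_dvd (by norm_num) hV
  have hk := Nat.le_of_dvd Nat.card_pos F.card_subgroup_dvd_card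
  have htop : F = ⊤ := Subgroup.eq_top_of_card_eq _
    (key _ hn hV _ (hk.trans hn) F.card_subgroup_dvd_card hmod)
  have hv : v ∈ F := htop ▸ Subgroup.mem_top v
  exact hv

variable (hG : Nat.card G = 320) (hD : Nat.card (commutator G) = 64)
  (hZ : IsKleinFour (Subgroup.center (commutator G)))

include hG hD hZ

theorem isPGroup_comm : IsPGroup 2 (commutator G) := IsPGroup.of_card (n := 6) (by rw [hD]; rfl)

/-- The centre of the derived subgroup, in `G`. -/
def zz : Subgroup G := (Subgroup.center (commutator G)).map (commutator G).subtype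

theorem zz_le : zz (G := G) ≤ commutator G := Subgroup.map_subtype_le _

theorem card_zz : Nat.card (zz (G := G)) = 4 := by
  rw [zz, Subgroup.card_map_of_injective (Subgroup.subtype_injective _), hZ.card_four]

theorem mem_zz {x : G} (hx : x ∈ commutator G) :
    x ∈ zz (G := G) ↔ ∀ y ∈ commutator G, y * x = x * y := by
  constructor
  · rintro ⟨z, hz, rfl⟩ y hy
    exact congrArg Subtype.val (Subgroup.mem_center_iff.1 hz ⟨y, hy⟩)
  · exact fun h => ⟨⟨x, hx⟩, Subgroup.mem_center_iff.2 fun y => Subtype.ext (h y y.2), rfl⟩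

theorem zz_sq {x : G} (hx : x ∈ zz (G := G)) : x * x = 1 := by
  obtain ⟨z, hz, rfl⟩ := hx
  have h := IsKleinFour.mul_self (⟨z, hz⟩ : Subgroup.center (commutator G))
  exact congrArg (fun u : Subgroup.center (commutator G) => ((u : commutator G) : G)) h

theorem zz_normal : (zz (G := G)).Normal := by
  refine ⟨fun x hx g => ?_⟩
  have hxP := zz_le hG hD hZ hx
  rw [mem_zz hG hD hZ (Subgroup.Normal.conj_mem inferInstance x hxP g)]
  intro y hy
  have h := (mem_zz hG hD hZ hxP).1 hx (g⁻¹ * y * g)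
    (by simpa using Subgroup.Normal.conj_mem (inferInstance : (commutator G).Normal) y hy g⁻¹)
  calc y * (g * x * g⁻¹) = g * ((g⁻¹ * y * g) * x) * g⁻¹ := by group
    _ = g * x * g⁻¹ * y := by rw [h]; group

variable {q : G} (hq : orderOf q = 5)

include hq

/-- An element of order five centralizing `L` centralizes `K` when `|K : L| ≤ 8`. -/
theorem step {K L : Subgroup G} [K.Normal] [L.Normal] (hLK : L ≤ K) (hK : K ≤ commutator G)
    (hidx : L.relIndex K ∣ 8) (hL : ∀ l ∈ L, q * l = l * q) : ∀ x ∈ K, q * x = x * q := by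
  intro x hx
  haveI : (K.map (QuotientGroup.mk' L)).Normal :=
    ‹K.Normal›.map _ (QuotientGroup.mk'_surjective L)
  let φ : MulAut (K.map (QuotientGroup.mk' L)) := MulAut.conjNormal (QuotientGroup.mk' L q)
  have h5 : φ ^ 5 = 1 := by
    rw [← map_pow, ← map_pow, ← hq, pow_orderOf_eq_one, map_one, map_one]
  have hcard : Nat.card (K.map (QuotientGroup.mk' L)) ∣ 8 := by
    have h : Nat.card (K.map (QuotientGroup.mk' L)) = L.relIndex K := by
      rw [← MonoidHom.restrict_range, ← Nat.card_congr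
        (QuotientGroup.quotientKerEquivRange _).toEquiv, MonoidHom.ker_restrict, QuotientGroup.ker_mk']
      rfl
    rwa [h]
  have h := congrArg Subtype.val (fixed_small φ h5 hcard ⟨_, Subgroup.mem_map_of_mem _ hx⟩)
  rw [MulAut.conjNormal_apply] at h
  have hl : q * x * q⁻¹ * x⁻¹ ∈ L := by
    rw [← QuotientGroup.eq_one_iff (N := L)]
    show QuotientGroup.mk' L _ = 1
    rw [map_mul, map_mul, map_mul, map_inv, map_inv]
    exact mul_inv_eq_one.2 h
  set l := q * x * q⁻¹ * x⁻¹ with hl'
  have hconj : q * x * q⁻¹ = l * x := by rw [hl']; group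
  have key : ∀ n : ℕ, q ^ n * x * (q ^ n)⁻¹ = l ^ n * x := by
    intro n
    induction n with
    | zero => simp
    | succ n ih =>
      have h1 : Commute (q ^ n) l := (show Commute q l from hL l hl).pow_left n
      calc q ^ (n + 1) * x * (q ^ (n + 1))⁻¹ = q ^ n * (q * x * q⁻¹) * (q ^ n)⁻¹ := by
            rw [pow_succ]; group
        _ = l * (q ^ n * x * (q ^ n)⁻¹) := by rw [hconj, ← mul_assoc (q ^ n), h1.eq]; group
        _ = l ^ (n + 1) * x := by rw [ih, pow_succ' l]; exact (mul_assoc _ _ _).symm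
  have h5' := key 5
  rw [← hq, pow_orderOf_eq_one, one_mul, inv_one, mul_one] at h5'
  have hl1 : l ^ orderOf q = 1 := mul_eq_right.1 h5'.symm
  obtain ⟨k, hk⟩ := isPGroup_comm hG hD hZ ⟨l, hK (hLK hl)⟩
  have : orderOf l = 1 := Nat.eq_one_of_dvd_coprimes
    (Nat.Coprime.pow_left k (by rw [hq]; norm_num : Nat.Coprime 2 (orderOf q)))
    (orderOf_dvd_of_pow_eq_one (congrArg Subtype.val hk : l ^ 2 ^ k = 1))
    (orderOf_dvd_of_pow_eq_one hl1)
  rw [orderOf_eq_one_iff] at this
  rw [this, one_mul] at hconj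
  exact mul_inv_eq_iff_eq_mul.1 hconj

theorem q_zz : ∀ z ∈ zz (G := G), q * z = z * q := by
  haveI := zz_normal hG hD hZ
  refine step hG hD hZ hq (L := ⊥) bot_le (zz_le hG hD hZ) ?_ (fun l hl => ?_)
  · rw [Subgroup.relIndex_bot_left, card_zz hG hD hZ]; norm_num
  · rw [Subgroup.mem_bot.1 hl]; simp

theorem sup_zpowers_eq_top : commutator G ⊔ Subgroup.zpowers q = ⊤ := by
  set K := commutator G ⊔ Subgroup.zpowers q
  have h1 : Nat.card (commutator G) ∣ Nat.card K := Subgroup.card_dvd_of_le le_sup_left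
  have h2 : Nat.card (Subgroup.zpowers q) ∣ Nat.card K := Subgroup.card_dvd_of_le le_sup_right
  rw [hD] at h1
  rw [Nat.card_zpowers, hq] at h2
  refine Subgroup.eq_top_of_card_eq _ (le_antisymm (Subgroup.card_le_card_group _) ?_)
  rw [hG]
  exact Nat.le_of_dvd Nat.card_pos (Nat.Coprime.mul_dvd_of_dvd_of_dvd (by norm_num) h1 h2)

theorem not_centralizes : ¬ ∀ x ∈ commutator G, q * x = x * q := by
  intro h
  set P := commutator G with hP
  have hN : (⁅P, P⁆ : Subgroup G).Normal := Subgroup.commutator_normal P P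
  have hle : P ≤ ⁅P, P⁆ := by
    let π := QuotientGroup.mk' (⁅P, P⁆ : Subgroup G)
    have hcomm : ∀ a b : G, π a * π b = π b * π a := by
      have hPP : ∀ a ∈ P, ∀ b ∈ P, π a * π b = π b * π a := fun a ha b hb => by
        rw [← commutatorElement_eq_one_iff_mul_comm, ← map_commutatorElement,
          QuotientGroup.mk'_apply, QuotientGroup.eq_one_iff]
        exact Subgroup.commutator_mem_commutator ha hb
      have hgen : ∀ a, (∀ x ∈ P, π a * π x = π x * π a) → π a * π q = π q * π a →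
          ∀ b, π a * π b = π b * π a := fun a h1 h2 b => by
        have : P ⊔ Subgroup.zpowers q ≤ (Subgroup.centralizer {π a}).comap π :=
          sup_le (fun x hx => Subgroup.mem_centralizer_singleton_iff.2 (h1 x hx).symm)
            (Subgroup.zpowers_le.2 (Subgroup.mem_centralizer_singleton_iff.2 h2.symm))
        rw [sup_zpowers_eq_top hG hD hZ hq] at this
        exact (Subgroup.mem_centralizer_singleton_iff.1 (this (Subgroup.mem_top b))).symm
      have hq' : ∀ b, π q * π b = π b * π q :=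
        hgen q (fun x hx => by rw [← map_mul, ← map_mul, h x hx]) rfl
      intro a
      exact fun b => hgen a (fun x hx => (hgen x (hPP x hx) (hq' x).symm a).symm) (hq' a).symm b
    rw [hP, commutator_def, Subgroup.commutator_le]
    intro a _ b _
    rw [← QuotientGroup.eq_one_iff, ← QuotientGroup.mk'_apply, map_commutatorElement,
      commutatorElement_eq_one_iff_mul_comm]
    exact hcomm a b
  haveI : Fact (Nat.Prime 2) := ⟨Nat.prime_two⟩
  haveI := (isPGroup_comm hG hD hZ).isNilpotent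
  haveI : Nontrivial P := Finite.one_lt_card_iff_nontrivial.1 (by rw [hD]; norm_num)
  have hlt := Group.IsSolvable.commutator_lt_top_of_nontrivial (G := P)
  refine hlt.ne ?_
  apply Subgroup.map_injective P.subtype_injective
  rw [Subgroup.map_subtype_commutator, ← MonoidHom.range_eq_map, Subgroup.range_subtype]
  exact le_antisymm (Subgroup.commutator_le_self P) hle

/-- There are no normal subgroups strictly between `Z(P)` and `P = G'`. -/
theorem eq_or_eq (K : Subgroup G) [K.Normal] (h1 : zz (G := G) ≤ K) (h2 : K ≤ commutator G) :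
    K = zz (G := G) ∨ K = commutator G := by
  haveI := zz_normal hG hD hZ
  by_contra hne
  push Not at hne
  have e1 : (zz (G := G)).relIndex K * K.relIndex (commutator G) = 16 := by
    rw [Subgroup.relIndex_mul_relIndex _ _ _ h1 h2]
    have h := Subgroup.relIndex_mul_relIndex (⊥ : Subgroup G) zz (commutator G) bot_le
      (zz_le hG hD hZ)
    rw [Subgroup.relIndex_bot_left, Subgroup.relIndex_bot_left, hD, card_zz hG hD hZ] at h
    omega
  have key : ∀ a < 17, a ∣ 16 → a ≠ 16 → a ∣ 8 := by decide +kernel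
  have h16 : ∀ {a b : ℕ}, a * b = 16 → b ≠ 1 → a ∣ 8 := fun {a b} h hb =>
    key a (Nat.lt_succ_of_le (Nat.le_of_dvd (by norm_num) ⟨b, h.symm⟩)) ⟨b, h.symm⟩
      (by rintro rfl; omega)
  have n1 : (zz (G := G)).relIndex K ≠ 1 := fun h =>
    hne.1 (le_antisymm (Subgroup.relIndex_eq_one.1 h) h1)
  have n2 : K.relIndex (commutator G) ≠ 1 := fun h =>
    hne.2 (le_antisymm h2 (Subgroup.relIndex_eq_one.1 h))
  have ha := h16 e1 n2
  have hb := h16 ((mul_comm _ _).trans e1) n1
  exact not_centralizes hG hD hZ hq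
    (step hG hD hZ hq h2 le_rfl hb (step hG hD hZ hq h1 h2 ha (q_zz hG hD hZ hq)))

/-- Subgroups between `Z(P)` and `P` invariant under `q` are normal if they contain commutators. -/
theorem normal_of {K : Subgroup G} (hK : K ≤ commutator G)
    (hc : ∀ y ∈ commutator G, ∀ x ∈ K, y * x * y⁻¹ ∈ K) (hqK : ∀ x ∈ K, q * x * q⁻¹ ∈ K) :
    K.Normal := by
  rw [← Subgroup.normalizer_eq_top_iff, ← top_le_iff, ← sup_zpowers_eq_top hG hD hZ hq]
  exact sup_le (fun y hy => Subgroup.mem_normalizer_fintype (hc y hy))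
    (Subgroup.zpowers_le.2 (Subgroup.mem_normalizer_fintype hqK))

theorem comm_mem_zz {x y : G} (hx : x ∈ commutator G) (hy : y ∈ commutator G) :
    E x y ∈ zz (G := G) := by
  haveI := zz_normal hG hD hZ
  haveI : Fact (Nat.Prime 2) := ⟨Nat.prime_two⟩
  let P := commutator G
  have hPn : P.Normal := inferInstance
  let K : Subgroup G :=
    { carrier := {x | x ∈ P ∧ ∀ y ∈ P, E x y ∈ zz (G := G)}
      one_mem' := ⟨one_mem _, fun y _ => by simp [E]⟩
      mul_mem' := fun {a b} ha hb => ⟨mul_mem ha.1 hb.1, fun y hy => by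
        rw [show E (a * b) y = a * E b y * a⁻¹ * E a y by simp only [E]; group]
        exact mul_mem (Subgroup.Normal.conj_mem inferInstance _ (hb.2 y hy) a) (ha.2 y hy)⟩
      inv_mem' := fun {a} ha => ⟨inv_mem ha.1, fun y hy => by
        rw [show E a⁻¹ y = a⁻¹ * (E a y)⁻¹ * a⁻¹⁻¹ by simp only [E]; group]
        exact Subgroup.Normal.conj_mem inferInstance _ (inv_mem (ha.2 y hy)) _⟩ }
  haveI : K.Normal := by
    refine ⟨fun a ha g => ⟨hPn.conj_mem a ha.1 g, fun y hy => ?_⟩⟩
    rw [show E (g * a * g⁻¹) y = g * E a (g⁻¹ * y * g) * g⁻¹ by simp only [E]; group]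
    exact Subgroup.Normal.conj_mem inferInstance _
      (ha.2 _ (by simpa using hPn.conj_mem y hy g⁻¹)) g
  have hZK : zz (G := G) ≤ K := fun z hz => ⟨zz_le hG hD hZ hz, fun y hy => by
    rw [show E z y = 1 from mul_inv_eq_one.2 (mul_inv_eq_iff_eq_mul.2
      ((mem_zz hG hD hZ (zz_le hG hD hZ hz)).1 hz y hy).symm)]
    exact one_mem _⟩
  have hKP : K ≤ P := fun a ha => ha.1
  rcases eq_or_eq hG hD hZ hq K hZK hKP with h | h
  · exfalso
    haveI hpq : Group.IsNilpotent P := (isPGroup_comm hG hD hZ).isNilpotent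
    haveI : Nontrivial (P ⧸ Subgroup.center P) := by
      rw [← Finite.one_lt_card_iff_nontrivial]
      have h2 := Subgroup.card_eq_card_quotient_mul_card_subgroup (Subgroup.center P)
      rw [hD, hZ.card_four] at h2
      omega
    haveI : Nontrivial (Subgroup.center (P ⧸ Subgroup.center P)) :=
      (Subgroup.nontrivial_iff_ne_bot _).2 (Group.IsNilpotent.center_ne_bot _)
    obtain ⟨c, hc⟩ : ∃ c : Subgroup.center (P ⧸ Subgroup.center P), c ≠ 1 :=
      exists_ne 1
    obtain ⟨a, ha⟩ := QuotientGroup.mk_surjective (c : P ⧸ Subgroup.center P)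
    have haK : (a : G) ∈ K := ⟨a.2, fun y hy => by
      refine ⟨E a ⟨y, hy⟩, ?_, rfl⟩
      show E a ⟨y, hy⟩ ∈ Subgroup.center P
      rw [← QuotientGroup.eq_one_iff]
      show QuotientGroup.mk' _ _ = (1 : P ⧸ Subgroup.center P)
      rw [E, map_mul, map_mul, map_mul, map_inv, map_inv, mul_inv_eq_one,
        mul_inv_eq_iff_eq_mul, QuotientGroup.mk'_apply, ha]
      exact (Subgroup.mem_center_iff.1 c.2 _).symm⟩
    rw [h] at haK
    obtain ⟨a', ha', he⟩ := haK
    obtain rfl : a' = a := Subtype.ext he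
    exact hc (Subtype.ext (by rw [← ha]; exact (QuotientGroup.eq_one_iff _).2 ha'))
  · exact (show x ∈ K from h.symm ▸ hx).2 y hy

theorem conj_eq_mul {x y : G} (hx : x ∈ commutator G) (hy : y ∈ commutator G) :
    y * x * y⁻¹ = E y x * x ∧ E y x ∈ zz (G := G) :=
  ⟨by rw [E, inv_mul_cancel_right], comm_mem_zz hG hD hZ hq hy hx⟩

theorem sq_mem_zz {x : G} (hx : x ∈ commutator G) : x * x ∈ zz (G := G) := by
  haveI := zz_normal hG hD hZ
  let P := commutator G
  have hPn : P.Normal := inferInstance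
  let K : Subgroup G :=
    { carrier := {x | x ∈ P ∧ x * x ∈ zz (G := G)}
      one_mem' := ⟨one_mem _, by simp⟩
      mul_mem' := fun {a b} ha hb => ⟨mul_mem ha.1 hb.1, by
        rw [show a * b * (a * b) = a * (E b a * a) * (b * b) by simp only [E]; group]
        have hc := comm_mem_zz hG hD hZ hq hb.1 ha.1
        have := (mem_zz hG hD hZ (zz_le hG hD hZ hc)).1 hc a ha.1
        rw [show a * (E b a * a) * (b * b) = a * E b a * (a * (b * b)) by group, this,
          show E b a * a * (a * (b * b)) = E b a * (a * a) * (b * b) by group]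
        exact mul_mem (mul_mem hc ha.2) hb.2⟩
      inv_mem' := fun {a} ha => ⟨inv_mem ha.1, by rw [← mul_inv_rev]; exact inv_mem ha.2⟩ }
  haveI : K.Normal := ⟨fun a ha g => ⟨hPn.conj_mem a ha.1 g, by
    rw [conj_mul]; exact Subgroup.Normal.conj_mem inferInstance _ ha.2 g⟩⟩
  rcases eq_or_eq hG hD hZ hq K
    (fun z hz => ⟨zz_le hG hD hZ hz, mul_mem hz hz⟩) (fun a ha => ha.1) with h | h
  · exfalso
    have hnot : ∃ a, a ∈ P ∧ a ∉ zz (G := G) := by
      by_contra h'
      push Not at h'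
      have := Subgroup.card_le_of_le (show P ≤ zz (G := G) from h')
      rw [hD, card_zz hG hD hZ] at this
      omega
    obtain ⟨a, haP, haZ⟩ := hnot
    obtain ⟨k, hk⟩ := isPGroup_comm hG hD hZ ⟨a, haP⟩
    have hk' : a ^ 2 ^ k = 1 := congrArg Subtype.val hk
    clear hk
    induction k generalizing a with
    | zero => rw [pow_zero, pow_one] at hk'; exact haZ (hk' ▸ one_mem _)
    | succ k ih =>
      by_cases h2 : a * a ∈ zz (G := G)
      · exact haZ (h ▸ (show a ∈ K from ⟨haP, h2⟩))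
      · exact ih (a * a) (mul_mem haP haP) h2 (by rw [← pow_two, ← pow_mul, ← pow_succ']; exact hk')
  · exact (show x ∈ K from h.symm ▸ hx).2

theorem eq_one_of_fixed {x : G} (hx : x ∈ commutator G) (h : E q x ∈ zz (G := G)) :
    x ∈ zz (G := G) := by
  haveI := zz_normal hG hD hZ
  let P := commutator G
  have hPn : P.Normal := inferInstance
  let K : Subgroup G :=
    { carrier := {x | x ∈ P ∧ E q x ∈ zz (G := G)}
      one_mem' := ⟨one_mem _, by simp [E]⟩
      mul_mem' := fun {a b} ha hb => ⟨mul_mem ha.1 hb.1, by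
        rw [show E q (a * b) = E q a * (a * E q b * a⁻¹) by simp only [E]; group]
        exact mul_mem ha.2 (Subgroup.Normal.conj_mem inferInstance _ hb.2 a)⟩
      inv_mem' := fun {a} ha => ⟨inv_mem ha.1, by
        rw [show E q a⁻¹ = a⁻¹ * (E q a)⁻¹ * a⁻¹⁻¹ by simp only [E]; group]
        exact Subgroup.Normal.conj_mem inferInstance _ (inv_mem ha.2) _⟩ }
  have hZK : zz (G := G) ≤ K := fun z hz => ⟨zz_le hG hD hZ hz, by
    rw [show E q z = 1 from mul_inv_eq_one.2 (mul_inv_eq_iff_eq_mul.2 (q_zz hG hD hZ hq z hz))]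
    exact one_mem _⟩
  haveI : K.Normal := normal_of hG hD hZ hq (fun a ha => ha.1)
    (fun y hy a ha => by
      obtain ⟨e, he⟩ := conj_eq_mul hG hD hZ hq ha.1 hy
      rw [e]
      exact mul_mem (hZK he) ha)
    (fun a ha => by
      rw [show q * a * q⁻¹ = E q a * a by simp only [E]; group]
      exact mul_mem (hZK ha.2) ha)
  rcases eq_or_eq hG hD hZ hq K hZK (fun a ha => ha.1) with hK | hK
  · exact hK ▸ (show x ∈ K from ⟨hx, h⟩)
  · exfalso
    refine not_centralizes hG hD hZ hq fun a ha => ?_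
    have ha' : E q a ∈ zz (G := G) := (show a ∈ K from hK.symm ▸ ha).2
    set l := E q a with hl
    have hconj : q * a * q⁻¹ = l * a := by rw [hl, E]; group
    have key : ∀ n : ℕ, q ^ n * a * (q ^ n)⁻¹ = l ^ n * a := by
      intro n
      induction n with
      | zero => simp
      | succ n ih =>
        have h1 : Commute (q ^ n) l := (show Commute q l from q_zz hG hD hZ hq l ha').pow_left n
        calc q ^ (n + 1) * a * (q ^ (n + 1))⁻¹ = q ^ n * (q * a * q⁻¹) * (q ^ n)⁻¹ := by
              rw [pow_succ]; group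
          _ = l * (q ^ n * a * (q ^ n)⁻¹) := by rw [hconj, ← mul_assoc (q ^ n), h1.eq]; group
          _ = l ^ (n + 1) * a := by rw [ih, pow_succ' l]; exact (mul_assoc _ _ _).symm
    have h5 := key 5
    rw [← hq, pow_orderOf_eq_one, one_mul, inv_one, mul_one, hq] at h5
    have hl5 : l ^ 5 = 1 := mul_eq_right.1 h5.symm
    have hl1 : l = 1 := by
      calc l = l * (l * l) * (l * l) := by rw [zz_sq hG hD hZ ha', mul_one, mul_one]
        _ = l ^ 5 := by simp [pow_succ, mul_assoc]
        _ = 1 := hl5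
    rw [hl1, one_mul] at hconj
    exact mul_inv_eq_iff_eq_mul.1 hconj

theorem cj_mem {x : G} (hx : x ∈ commutator G) (i : ℕ) : cj q x i ∈ commutator G :=
  Subgroup.Normal.conj_mem inferInstance x hx _

theorem exists_gens : ∃ (p : G) (R : Rel q p), Subgroup.closure {q, p} = (⊤ : Subgroup G) ∧
    R.A = zz (G := G) ∧ E p (cj q p 1) ≠ 1 ∧ E p (cj q p 2) ≠ 1 ∧
      E p (cj q p 1) ≠ E p (cj q p 2) := by
  haveI := zz_normal hG hD hZ
  let P := commutator G
  obtain ⟨x, hx, hxZ⟩ : ∃ a, a ∈ P ∧ a ∉ zz (G := G) := by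
    by_contra h'
    push Not at h'
    have := Subgroup.card_le_of_le (show P ≤ zz (G := G) from h')
    rw [hD, card_zz hG hD hZ] at this
    omega
  have hzc : ∀ {z}, z ∈ zz (G := G) → ∀ y ∈ P, y * z = z * y := fun hz =>
    (mem_zz hG hD hZ (zz_le hG hD hZ hz)).1 hz
  have hq5 : q ^ 5 = 1 := by rw [← hq, pow_orderOf_eq_one]
  set w5 := cj q x 0 * cj q x 1 * cj q x 2 * cj q x 3 * cj q x 4 with hw
  have hwP : w5 ∈ P := mul_mem (mul_mem (mul_mem (mul_mem (cj_mem hG hD hZ hq hx 0)
    (cj_mem hG hD hZ hq hx 1)) (cj_mem hG hD hZ hq hx 2)) (cj_mem hG hD hZ hq hx 3))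
    (cj_mem hG hD hZ hq hx 4)
  have hwZ : w5 ∈ zz (G := G) := by
    refine eq_one_of_fixed hG hD hZ hq hwP ?_
    have hx0 : cj q x 0 = x := by simp [cj]
    have h : q * w5 * q⁻¹ = x⁻¹ * w5 * x := by
      have h5 : cj q x 5 = x := by rw [cj, hq5]; simp
      have hq' : ∀ i, q * cj q x i * q⁻¹ = cj q x (i + 1) := fun i => by
        rw [add_comm, cj_add, pow_one]
      calc q * w5 * q⁻¹ = (q * cj q x 0 * q⁻¹) * (q * cj q x 1 * q⁻¹) * (q * cj q x 2 * q⁻¹) *
            (q * cj q x 3 * q⁻¹) * (q * cj q x 4 * q⁻¹) := by rw [hw]; group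
        _ = x⁻¹ * w5 * x := by rw [hq', hq', hq', hq', hq', h5, hw, hx0]; group
    rw [E, h]
    have := comm_mem_zz hG hD hZ hq (inv_mem hx) hwP
    rw [E, inv_inv] at this
    exact this
  set p := x * w5 with hp
  have hpP : p ∈ P := mul_mem hx hwP
  have hcjp : ∀ i, cj q p i = cj q x i * w5 := fun i => by
    have h := (show Commute q w5 from q_zz hG hD hZ hq w5 hwZ).pow_left i
    calc cj q p i = cj q x i * (q ^ i * w5 * (q ^ i)⁻¹) := by rw [hp, cj, cj]; group
      _ = _ := by rw [h.eq, mul_inv_cancel_right]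
  have hprod : cj q p 0 * cj q p 1 * cj q p 2 * cj q p 3 * cj q p 4 = 1 := by
    have hc : ∀ y ∈ P, Commute w5 y := fun y hy => (hzc hwZ y hy).symm
    have h2 := zz_sq hG hD hZ hwZ
    have e2 : ∀ t, w5 * (w5 * t) = t := fun t => by rw [← mul_assoc, h2, one_mul]
    rw [hcjp, hcjp, hcjp, hcjp, hcjp]
    have hm : ∀ i, ∀ t, w5 * (cj q x i * t) = cj q x i * (w5 * t) := fun i t => by
      rw [← mul_assoc, (hc _ (cj_mem hG hD hZ hq hx i)).eq, mul_assoc]
    simp only [mul_assoc, hm, e2]
    rw [← mul_assoc (cj q x 3), ← mul_assoc (cj q x 2), ← mul_assoc (cj q x 1),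
      ← mul_assoc (cj q x 0)]
    simp only [← mul_assoc]
    rw [← hw]
    exact h2
  set C1 := E p (cj q p 1) with hC1
  set C2 := E p (cj q p 2) with hC2
  have hC1Z : C1 ∈ zz (G := G) := comm_mem_zz hG hD hZ hq hpP (cj_mem hG hD hZ hq hpP 1)
  have hC2Z : C2 ∈ zz (G := G) := comm_mem_zz hG hD hZ hq hpP (cj_mem hG hD hZ hq hpP 2)
  have hsq : p * p = C1 * C2 := by
    set a := cj q p 0 with ha
    set b := cj q p 1 with hb
    set c := cj q p 2 with hc
    set d := cj q p 3 with hd
    have hap : a = p := by simp [ha, cj]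
    have hm : ∀ i, cj q p i ∈ P := cj_mem hG hD hZ hq hpP
    have hsqc : ∀ i, cj q p i * cj q p i = p * p := fun i => by
      calc cj q p i * cj q p i = q ^ i * (p * p) * (q ^ i)⁻¹ := by rw [cj]; group
        _ = _ := by
          rw [((show Commute q (p * p) from
            q_zz hG hD hZ hq _ (sq_mem_zz hG hD hZ hq hpP)).pow_left i).eq, mul_inv_cancel_right]
    have hEshift : ∀ i j, E (cj q p i) (cj q p (i + j)) = E p (cj q p j) := fun i j => by
      have h : E (cj q p i) (cj q p (i + j)) = q ^ i * E p (cj q p j) * (q ^ i)⁻¹ := by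
        rw [E_conj, ← cj_add]; rfl
      rw [h, ((show Commute q _ from q_zz hG hD hZ hq _
        (comm_mem_zz hG hD hZ hq hpP (hm j))).pow_left i).eq, mul_inv_cancel_right]
    have hC3 : E p (cj q p 3) = C2 := by
      have h5 : cj q p 5 = p := by rw [cj, hq5]; simp
      have h := hEshift 3 2
      rw [show (3 : ℕ) + 2 = 5 from rfl, h5, E_swap, ← hC2] at h
      rw [← inv_eq_of_mul_eq_one_right (zz_sq hG hD hZ hC2Z), ← h, inv_inv]
    have hEsym : ∀ {u v : G}, u ∈ P → v ∈ P → E v u = E u v := fun hu hv => by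
      rw [E_swap, inv_eq_of_mul_eq_one_right (zz_sq hG hD hZ (comm_mem_zz hG hD hZ hq hu hv))]
    have hmul2 : ∀ {u v}, u ∈ P → v ∈ P →
        u * v * (u * v) = E v u * (u * u) * (v * v) := fun {u v} hu hv => by
      have hz := comm_mem_zz hG hD hZ hq hv hu
      calc u * v * (u * v) = u * (E v u * u) * (v * v) := by simp only [E]; group
        _ = _ := by rw [← mul_assoc u, hzc hz u hu]; group
    have hlin : ∀ {u v w}, u ∈ P → v ∈ P → w ∈ P → E (u * v) w = E u w * E v w :=
      fun {u v w} hu hv hw => by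
        have hz := comm_mem_zz hG hD hZ hq hv hw
        calc E (u * v) w = u * E v w * u⁻¹ * E u w := by simp only [E]; group
          _ = E v w * E u w := by rw [hzc hz u hu, mul_inv_cancel_right]
          _ = _ := (hzc hz _ (zz_le hG hD hZ (comm_mem_zz hG hD hZ hq hu hw))).symm
    have hlin' : ∀ {u v w}, u ∈ P → v ∈ P → w ∈ P → E w (u * v) = E w u * E w v :=
      fun {u v w} hu hv hw => by
        rw [← hEsym hw (mul_mem hu hv), hlin hu hv hw, hEsym hw hu, hEsym hw hv]
    have s2 := zz_sq hG hD hZ (sq_mem_zz hG hD hZ hq hpP)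
    have hab : a * b * (a * b) = C1 := by
      rw [hmul2 (hm 0) (hm 1), hEsym (hm 0) (hm 1), hsqc, hsqc, mul_assoc, s2, mul_one]
      exact hEshift 0 1
    have hcd : c * d * (c * d) = C1 := by
      rw [hmul2 (hm 2) (hm 3), hEsym (hm 2) (hm 3), hsqc, hsqc, mul_assoc, s2, mul_one]
      exact hEshift 2 1
    have hcross : E (c * d) (a * b) = C1 * C2 := by
      have h1 := zz_sq hG hD hZ hC2Z
      rw [← hEsym (mul_mem (hm 2) (hm 3)) (mul_mem (hm 0) (hm 1)),
        hlin (hm 0) (hm 1) (mul_mem (hm 2) (hm 3)), hlin' (hm 2) (hm 3) (hm 0),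
        hlin' (hm 2) (hm 3) (hm 1)]
      have e1 : E a c = C2 := by rw [hap]
      have e2 : E a d = C2 := by rw [hap]; exact hC3
      have e3 : E b c = C1 := hEshift 1 1
      have e4 : E b d = C2 := hEshift 1 2
      rw [e1, e2, e3, e4, h1, one_mul]
    have habcd : (a * b * (c * d)) * (a * b * (c * d)) = C1 * C2 := by
      rw [hmul2 (mul_mem (hm 0) (hm 1)) (mul_mem (hm 2) (hm 3)), hcross, hab, hcd, mul_assoc,
        zz_sq hG hD hZ hC1Z, mul_one]
    have he : a * b * (c * d) = (cj q p 4)⁻¹ :=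
      eq_inv_of_mul_eq_one_left (by rw [← mul_assoc (a * b)]; exact hprod)
    rw [he, ← mul_inv_rev, hsqc, inv_eq_of_mul_eq_one_right s2] at habcd
    exact habcd
  have R : Rel q p := ⟨hq5, hprod, hsq, q_zz hG hD hZ hq _ hC1Z, q_zz hG hD hZ hq _ hC2Z,
    hzc hC1Z p hpP, hzc hC2Z p hpP, zz_sq hG hD hZ hC1Z, zz_sq hG hD hZ hC2Z⟩
  have hAZ : R.A ≤ zz (G := G) := by
    rw [Rel.A, Subgroup.closure_le]
    rintro y (rfl | rfl)
    exacts [hC1Z, hC2Z]
  set M := Subgroup.closure ({q, p} : Set G) with hM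
  have hqM : q ∈ M := Subgroup.subset_closure (by simp)
  have hpM : p ∈ M := Subgroup.subset_closure (by simp)
  let K : Subgroup G := (M ⊓ P) ⊔ zz (G := G)
  have hKP : K ≤ P := sup_le inf_le_right (zz_le hG hD hZ)
  haveI : K.Normal := normal_of hG hD hZ hq hKP
    (fun y hy a ha => by
      obtain ⟨e, he⟩ := conj_eq_mul hG hD hZ hq (hKP ha) hy
      rw [e]
      exact mul_mem (Subgroup.mem_sup_right he) ha)
    (fun a ha => by
      have : K ≤ K.comap (MulAut.conj q).toMonoidHom := sup_le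
        (fun b hb => Subgroup.mem_sup_left (Subgroup.mem_inf.2
          ⟨mul_mem (mul_mem hqM (Subgroup.mem_inf.1 hb).1) (inv_mem hqM),
            Subgroup.Normal.conj_mem inferInstance b (Subgroup.mem_inf.1 hb).2 q⟩))
        (fun b hb => Subgroup.mem_sup_right (Subgroup.Normal.conj_mem inferInstance b hb q))
      exact this ha)
  have hK : K = P := (eq_or_eq hG hD hZ hq K le_sup_right hKP).resolve_left fun h => hxZ (by
    have : p ∈ zz (G := G) := h ▸ (Subgroup.mem_sup_left ⟨hpM, hpP⟩ : p ∈ K)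
    rw [hp] at this
    exact (mul_mem_cancel_right hwZ).1 this)
  have htop : M ⊔ zz (G := G) = ⊤ := by
    rw [eq_top_iff, ← sup_zpowers_eq_top hG hD hZ hq]
    refine sup_le ?_ (Subgroup.zpowers_le.2 (Subgroup.mem_sup_left hqM))
    show P ≤ _
    rw [← hK]
    exact sup_le_sup_right inf_le_left _
  have hPM : P ≤ M := by
    have hcomm : ∀ {z}, z ∈ zz (G := G) → ∀ g : G, g * z = z * g := fun {z} hz g => by
      have : P ⊔ Subgroup.zpowers q ≤ Subgroup.centralizer {z} :=
        sup_le (fun y hy => Subgroup.mem_centralizer_singleton_iff.2 (hzc hz y hy))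
          (Subgroup.zpowers_le.2
            (Subgroup.mem_centralizer_singleton_iff.2 (q_zz hG hD hZ hq z hz)))
      rw [sup_zpowers_eq_top hG hD hZ hq] at this
      exact Subgroup.mem_centralizer_singleton_iff.1 (this (Subgroup.mem_top g))
    show commutator G ≤ M
    rw [commutator_def, Subgroup.commutator_le]
    have hdec : ∀ g : G, ∃ m ∈ M, ∃ z ∈ zz (G := G), g = m * z := fun g => by
      have hg : g ∈ ((M ⊔ zz (G := G) : Subgroup G) : Set G) := by rw [htop]; trivial
      rw [Subgroup.coe_mul_of_left_le_normalizer_right _ _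
        (by rw [Subgroup.normalizer_eq_top]; exact le_top)] at hg
      obtain ⟨m, hm, z, hz, e⟩ := hg
      exact ⟨m, hm, z, hz, e.symm⟩
    intro a _ b _
    obtain ⟨m, hm, z, hz, rfl⟩ := hdec a
    obtain ⟨n, hn, w, hw, rfl⟩ := hdec b
    have : (m * z) * (n * w) * (m * z)⁻¹ * (n * w)⁻¹ = m * n * m⁻¹ * n⁻¹ := by
      calc _ = m * (z * (n * w)) * z⁻¹ * m⁻¹ * w⁻¹ * n⁻¹ := by group
        _ = m * n * (w * m⁻¹) * w⁻¹ * n⁻¹ := by rw [← hcomm hz (n * w)]; group
        _ = _ := by rw [← hcomm hw m⁻¹]; group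
    rw [commutatorElement_def, this]
    exact mul_mem (mul_mem (mul_mem hm hn) (inv_mem hm)) (inv_mem hn)
  have hMtop : M = ⊤ := by
    rw [eq_top_iff, ← sup_zpowers_eq_top hG hD hZ hq]
    exact sup_le hPM (Subgroup.zpowers_le.2 hqM)
  have hA : R.A = zz (G := G) := by
    refine Subgroup.eq_of_le_of_card_ge hAZ ?_
    have h := R.card_closure_le
    rw [← hM, hMtop, Subgroup.card_top, hG] at h
    rw [card_zz hG hD hZ]
    omega
  refine ⟨p, R, hMtop, hA, ?_⟩
  have hcard : Nat.card R.A = 4 := hA ▸ card_zz hG hD hZ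
  have key : ∀ u v : G, (∀ y ∈ R.A, y = 1 ∨ y = u ∨ y = v ∨ y = u * v) →
      u ≠ 1 ∧ v ≠ 1 ∧ u ≠ v := by
    intro u v h
    have bound : ∀ s : Finset G, (∀ y ∈ R.A, y ∈ s) → 4 ≤ s.card := fun s hs => by
      rw [← hcard, ← Nat.card_eq_finsetCard]
      exact Nat.card_le_card_of_injective (fun y : R.A => (⟨y.1, hs y y.2⟩ : s))
        fun a b e => Subtype.ext (congrArg (fun t : s => (t : G)) e)
    classical
    refine ⟨?_, ?_, ?_⟩ <;> intro e
    · have := (bound {1, v} fun y hy => by
        rcases h y hy with h' | h' | h' | h' <;> simp [h', e]).trans Finset.card_le_two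
      omega
    · have := (bound {1, u} fun y hy => by
        rcases h y hy with h' | h' | h' | h' <;> simp [h', e]).trans Finset.card_le_two
      omega
    · have := (bound {1, v, v * v} fun y hy => by
        rcases h y hy with h' | h' | h' | h' <;> simp [h', e]).trans Finset.card_le_three
      omega
  exact key _ _ fun y hy => R.mem_A hy

end CfsgLib.Techniques.Order320
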