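import Cfsg.Prelude.Def_Solvable
import Cfsg.Agent.Lib.Techniques.OrderClasses
import Cfsg.Agent.Lib.Base.FPF
import Cfsg.Agent.Lib.Base.MinimalNormal
import Cfsg.Agent.Lib.FT.OddOrderTheorem

/-!
Groups of odd order with exactly three same-order class sizes.
-/

set_option autoImplicit false

open Finset CfsgLib.Base
open scoped Pointwise IsMulCommutative

namespace CfsgLib.Techniques.OrderClasses

variable {G : Type*} [Group G] [Finite G]

/-- All non-trivial class sizes are `a` or `b`. -/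
def TwoVals (G : Type*) [Group G] (a b : ℕ) : Prop :=
  ∀ m, 1 < m → cnt G m ≠ 0 → cnt G m = a ∨ cnt G m = b

theorem TwoVals.symm {a b : ℕ} (h : TwoVals G a b) : TwoVals G b a :=
  fun m hm h0 => (h m hm h0).symm

theorem cast_ne_zero_imp {r m : ℕ} {x : ZMod r} (h : (cnt G m : ZMod r) = x) (hx : x ≠ 0) :
    cnt G m ≠ 0 := fun e => hx (by rw [← h, e, Nat.cast_zero])

variable {a b p q : ℕ} (hp : p.Prime) (hq : q.Prime) (hp2 : 2 < p) (hq2 : 2 < q) (hne : p ≠ q)
  (hpd : p ∣ Nat.card G) (hqd : q ∣ Nat.card G) (hv : TwoVals G a b)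

include hp hq hne in
theorem not_dvd_other : ¬ p ∣ q := fun e => hne ((Nat.prime_dvd_prime_iff_eq hp hq).1 e)

include hp hq hp2 hne hpd hqd hv in
theorem same_value (ha : cnt G p = a) (ha' : cnt G q = a) :
    cnt G (p * p) = 0 ∧ cnt G (p * q) = b ∧ (b : ZMod p) = 1 := by
  haveI := Fact.mk hp
  haveI := Fact.mk hp2
  have h1 := cnt_prime G hp hpd
  rw [ha] at h1
  have h2 := cnt_mul G hp (d := q) (not_dvd_other hp hq hne)
    (((Nat.coprime_primes hp hq).2 hne).mul_dvd_of_dvd_of_dvd hpd hqd)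
  rw [ha', h1, neg_neg] at h2
  have h3 : cnt G (p * q) = b := by
    refine (hv _ (Nat.one_lt_mul_iff.2 ⟨hp.pos, hq.pos, Or.inl hp.one_lt⟩)
      (cast_ne_zero_imp h2 one_ne_zero)).resolve_left fun e => ?_
    rw [e, h1] at h2
    exact ZMod.neg_one_ne_one h2
  rw [h3] at h2
  refine ⟨?_, h3, h2⟩
  by_contra h0
  have h4 := cnt_sq_cast G hp (dvd_refl (p * p))
  rcases hv _ (Nat.one_lt_mul_iff.2 ⟨hp.pos, hp.pos, Or.inl hp.one_lt⟩) h0 with e | e
  · rw [e, h1] at h4
    exact neg_ne_zero.2 one_ne_zero h4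
  · rw [e, h2] at h4
    exact one_ne_zero h4

include hp hq hp2 hq2 hne hpd hqd hv in
theorem third_value {r : ℕ} (hr : r.Prime) (hr2 : 2 < r) (hrd : r ∣ Nat.card G) (hrp : r ≠ p)
    (hrq : r ≠ q) (ha : cnt G p = a) (ha' : cnt G q = a) : cnt G r = a := by
  haveI := Fact.mk hp
  haveI := Fact.mk hr
  haveI := Fact.mk hp2
  haveI := Fact.mk hr2
  refine (hv r hr.one_lt
    (cast_ne_zero_imp (cnt_prime G hr hrd) (neg_ne_zero.2 one_ne_zero))).resolve_right fun hb => ?_
  obtain ⟨-, hpq, hb1⟩ := same_value hp hq hp2 hne hpd hqd hv ha ha'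
  have h1 := cnt_prime G hp hpd
  rw [ha] at h1
  have hb' := cnt_prime G hr hrd
  rw [hb] at hb'
  have e1 := cnt_mul G hp (d := r) (not_dvd_other hp hr hrp.symm)
    (((Nat.coprime_primes hp hr).2 hrp.symm).mul_dvd_of_dvd_of_dvd hpd hrd)
  rw [hb, hb1] at e1
  have e2 : cnt G (p * r) = a := by
    refine (hv _ (Nat.one_lt_mul_iff.2 ⟨hp.pos, hr.pos, Or.inl hp.one_lt⟩)
      (cast_ne_zero_imp e1 (neg_ne_zero.2 one_ne_zero))).resolve_right fun e => ?_
    rw [e, hb1] at e1
    exact ZMod.neg_one_ne_one e1.symm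
  have e3 := cnt_mul G hr (d := p) (not_dvd_other hr hp hrp)
    (((Nat.coprime_primes hr hp).2 hrp).mul_dvd_of_dvd_of_dvd hrd hpd)
  rw [mul_comm r p, e2, ha] at e3
  have ha0 : (a : ZMod r) = 0 := by
    by_contra hne0
    have h20 : (a : ZMod r) + a = 0 := add_eq_zero_iff_eq_neg.2 e3
    have h2a : (2 : ZMod r) * a = 0 := by rw [two_mul]; exact h20
    rcases mul_eq_zero.1 h2a with e | e
    · have h3 : r ∣ 2 := (ZMod.natCast_eq_zero_iff 2 r).1 (by exact_mod_cast e)
      exact absurd (Nat.le_of_dvd two_pos h3) (by omega)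
    · exact hne0 e
  have hcop : r.Coprime (p * q) :=
    ((Nat.coprime_primes hr hp).2 hrp).mul_right ((Nat.coprime_primes hr hq).2 hrq)
  have e4 := cnt_mul G hr (d := p * q) (hr.coprime_iff_not_dvd.1 hcop)
    (hcop.mul_dvd_of_dvd_of_dvd hrd (((Nat.coprime_primes hp hq).2 hne).mul_dvd_of_dvd_of_dvd hpd hqd))
  rw [hpq, hb', neg_neg] at e4
  rcases hv _ (Nat.one_lt_mul_iff.2 ⟨hr.pos, Nat.mul_pos hp.pos hq.pos, Or.inl hr.one_lt⟩)
    (cast_ne_zero_imp e4 one_ne_zero) with e | e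
  · rw [e, ha0] at e4
    exact zero_ne_one e4
  · rw [e, hb'] at e4
    exact ZMod.neg_one_ne_one e4

omit hne hpd hqd hv
omit hq hq2 hp2

include hp in
/-- Without elements of order `p²`, all `p`-power orders are `1` or `p`. -/
theorem pow_eq_one_of_sq (h0 : cnt G (p * p) = 0) {x : G} {k : ℕ} (hx : x ^ p ^ k = 1) :
    x ^ p = 1 := by
  obtain ⟨i, -, hi⟩ := (Nat.dvd_prime_pow hp).1 (orderOf_dvd_of_pow_eq_one hx)
  by_cases h : i ≤ 1
  · exact orderOf_dvd_iff_pow_eq_one.1 (by rw [hi]; simpa using pow_dvd_pow p h)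
  · exfalso
    have hd : p * p ∣ orderOf x := by
      rw [hi, ← pow_two]; exact pow_dvd_pow p (by omega)
    exact (cnt_pos G (orderOf_pow_orderOf_div (orderOf_pos x).ne' hd)).ne' h0

include hp in
theorem pow_dvd_one_add (h0 : cnt G (p * p) = 0) {k : ℕ} (hk : p ^ k ∣ Nat.card G) :
    p ^ k ∣ 1 + cnt G p := by
  haveI := Fact.mk hp
  rcases Nat.eq_zero_or_pos k with rfl | hk0
  · simp
  have h := CfsgLib.Base.Solutions.dvd_card_pow_eq_one hk
  have e : {g : G // g ^ p ^ k = 1} ≃ {g : G // g ^ p = 1} :=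
    Equiv.subtypeEquivRight fun g => ⟨fun hg => pow_eq_one_of_sq hp h0 hg, fun hg =>
      orderOf_dvd_iff_pow_eq_one.1 ((orderOf_dvd_of_pow_eq_one hg).trans (dvd_pow_self p hk0.ne'))⟩
  rwa [Nat.card_congr e, ← sum_cnt G hp.ne_zero, hp.divisors,
    Finset.sum_insert (by simpa using hp.ne_one.symm), Finset.sum_singleton, cnt_one] at h

include hp hne in
theorem one_add_two_mul_le (h : cnt G q = cnt G p) (hq : q.Prime) :
    1 + 2 * cnt G p ≤ Nat.card G := by
  let f : Option ({g : G // orderOf g = p} ⊕ {g : G // orderOf g = q}) → G :=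
    fun o => o.elim 1 (Sum.elim Subtype.val Subtype.val)
  have hf : Function.Injective f := by
    rintro (_ | ⟨u, hu⟩ | ⟨u, hu⟩) (_ | ⟨v, hv⟩ | ⟨v, hv⟩) e
    all_goals simp only [f, Option.elim, Sum.elim_inl, Sum.elim_inr] at e
    all_goals try subst e
    all_goals first
      | rfl
      | exact absurd (orderOf_one.symm.trans hu) hp.ne_one.symm
      | exact absurd (orderOf_one.symm.trans hu) hq.ne_one.symm
      | exact absurd (orderOf_one.symm.trans hv) hp.ne_one.symm
      | exact absurd (orderOf_one.symm.trans hv) hq.ne_one.symm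
      | exact absurd (hu.symm.trans hv) hne
      | exact absurd (hv.symm.trans hu) hne
  have h1 := Nat.card_le_card_of_injective f hf
  rw [Finite.card_option, Nat.card_sum] at h1
  change cnt G p + cnt G q + 1 ≤ _ at h1
  omega

include hp in
theorem inj_on_values (hodd : ∀ r : ℕ, r.Prime → r ∣ Nat.card G → 2 < r) (hpd : p ∣ Nat.card G)
    (hv : TwoVals G a b) (hq : q.Prime) (hqd : q ∣ Nat.card G) (ha : cnt G p = a)
    (ha' : cnt G q = a) : p = q := by
  by_contra hne
  have hp2 := hodd p hp hpd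
  have hq2 := hodd q hq hqd
  have hall : ∀ r : ℕ, r.Prime → r ∣ Nat.card G → cnt G r = a ∧ cnt G (r * r) = 0 := by
    intro r hr hrd
    by_cases hrp : r = p
    · subst hrp
      exact ⟨ha, (same_value hr hq hp2 hne hpd hqd hv ha ha').1⟩
    by_cases hrq : r = q
    · subst hrq
      exact ⟨ha', (same_value hr hp hq2 (Ne.symm hne) hqd hpd hv ha' ha).1⟩
    have h := third_value hp hq hp2 hq2 hne hpd hqd hv hr (hodd r hr hrd) hrd hrp hrq ha ha'
    exact ⟨h, (same_value hr hp (hodd r hr hrd) hrp hrd hpd hv h ha).1⟩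
  have hdvd : Nat.card G ∣ 1 + a := by
    rw [Nat.dvd_iff_prime_pow_dvd_dvd]
    intro r k hr hk
    rcases Nat.eq_zero_or_pos k with rfl | hk0
    · simp
    obtain ⟨h1, h2⟩ := hall r hr ((dvd_pow_self r hk0.ne').trans hk)
    rw [← h1]
    exact pow_dvd_one_add hr h2 hk
  have hpos : 0 < cnt G p := by
    haveI := Fact.mk hp
    exact Nat.pos_of_ne_zero (cast_ne_zero_imp (cnt_prime G hp hpd) (neg_ne_zero.2 one_ne_zero))
  have h1 := Nat.le_of_dvd (by omega) hdvd
  have h2 := one_add_two_mul_le hp hne (ha'.trans ha.symm) hq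
  omega

variable (hq' : q.Prime) (hne' : p ≠ q) (hp2' : 2 < p) (hq2' : 2 < q)
  (hpd' : p ∣ Nat.card G) (hqd' : q ∣ Nat.card G) (hv' : TwoVals G a b)
  (ha : cnt G p = a) (hb : cnt G q = b)

include hp hq' hne' hq2' hpd' hqd' hv' ha hb in
theorem cnt_sq_eq_zero : cnt G (p * p) = 0 := by
  by_contra h0
  haveI := Fact.mk hp
  haveI := Fact.mk hq'
  haveI := Fact.mk hq2'
  have h1 := cnt_prime G hp hpd'
  rw [ha] at h1
  have hb1 := cnt_prime G hq' hqd'
  rw [hb] at hb1
  have hval : ∀ m, 1 < m → p * p ∣ m → cnt G m ≠ 0 → cnt G m = b := fun m hm hd h00 =>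
    (hv' m hm h00).resolve_left fun e => by
      have h2 := cnt_sq_cast G hp hd
      rw [e, h1] at h2
      exact neg_ne_zero.2 one_ne_zero h2
  have hpp : 1 < p * p := Nat.one_lt_mul_iff.2 ⟨hp.pos, hp.pos, Or.inl hp.one_lt⟩
  have hbv := hval _ hpp dvd_rfl h0
  have hcop : q.Coprime (p * p) :=
    ((Nat.coprime_primes hq' hp).2 hne'.symm).mul_right ((Nat.coprime_primes hq' hp).2 hne'.symm)
  have e := cnt_mul G hq' (hq'.coprime_iff_not_dvd.1 hcop)
    (hcop.mul_dvd_of_dvd_of_dvd hqd' (dvd_card_of_cnt G h0))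
  rw [hbv, hb1, neg_neg] at e
  rw [hval _ (lt_of_lt_of_le hpp (Nat.le_mul_of_pos_left _ hq'.pos)) (dvd_mul_left _ _)
    (cast_ne_zero_imp e one_ne_zero), hb1] at e
  exact ZMod.neg_one_ne_one e

include hp hq' hne' hq2' hpd' hqd' ha hb in
theorem cnt_mul_ne_left : cnt G (p * q) ≠ a := by
  intro e
  classical
  haveI := Fintype.ofFinite G
  haveI := Fact.mk hp
  haveI := Fact.mk hq'
  have h1 := cnt_prime G hp hpd'
  rw [ha] at h1
  have h2 := cnt_mul G hp (d := q) (not_dvd_other hp hq' hne')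
    (((Nat.coprime_primes hp hq').2 hne').mul_dvd_of_dvd_of_dvd hpd' hqd')
  rw [e, h1, neg_inj, hb] at h2
  obtain ⟨P⟩ : Nonempty (Sylow p G) := inferInstance
  let X := {x : G // orderOf x = q}
  letI : MulAction (P : Subgroup G) X :=
    { smul := fun g x => ⟨(g : G) * x.1 * (g : G)⁻¹,
        (MulEquiv.orderOf_eq (MulAut.conj (g : G)) x.1).trans x.2⟩
      one_smul := fun x => Subtype.ext (by
        change ((1 : (P : Subgroup G)) : G) * x.1 * ((1 : (P : Subgroup G)) : G)⁻¹ = x.1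
        simp)
      mul_smul := fun g h x => Subtype.ext (by
        change ((g * h : (P : Subgroup G)) : G) * x.1 * ((g * h : (P : Subgroup G)) : G)⁻¹ =
          (g : G) * ((h : G) * x.1 * (h : G)⁻¹) * (g : G)⁻¹
        simp [mul_assoc]) }
  obtain ⟨⟨x, hx⟩, hfix⟩ : (MulAction.fixedPoints (P : Subgroup G) X).Nonempty := by
    rw [Set.nonempty_iff_ne_empty]
    intro he
    have h3 := P.2.card_modEq_card_fixedPoints X
    rw [he] at h3
    have h4 : (b : ZMod p) = 0 := by
      rw [← hb]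
      have h5 : Nat.card X ≡ 0 [MOD p] := by simpa using h3
      exact (ZMod.natCast_eq_zero_iff _ _).2 (Nat.modEq_zero_iff_dvd.1 h5)
    exact one_ne_zero (h2.trans h4)
  have hcomm : ∀ y : G, orderOf y = p → ∃ x : G, orderOf x = q ∧ Commute y x := by
    intro y hy
    obtain ⟨P', hP'⟩ := (IsPGroup.of_card (n := 1)
      (show Nat.card (Subgroup.zpowers y) = p ^ 1 by rw [Nat.card_zpowers, hy, pow_one])).exists_le_sylow
    obtain ⟨g, hg⟩ := MulAction.exists_smul_eq G P P'
    have hyP : y ∈ (P' : Subgroup G) := hP' (Subgroup.mem_zpowers y)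
    rw [← hg, Sylow.coe_subgroup_smul, Frobenius.mem_conj_iff] at hyP
    refine ⟨g * x * g⁻¹, (MulEquiv.orderOf_eq (MulAut.conj g) x).trans hx, ?_⟩
    have hc : g⁻¹ * y * g * x * (g⁻¹ * y * g)⁻¹ = x := congrArg Subtype.val (hfix ⟨_, hyP⟩)
    change y * (g * x * g⁻¹) = g * x * g⁻¹ * y
    calc y * (g * x * g⁻¹) = g * ((g⁻¹ * y * g * x * (g⁻¹ * y * g)⁻¹) * (g⁻¹ * y * g)) * g⁻¹ := by group
      _ = g * x * g⁻¹ * y := by rw [hc]; group
  choose c hco hcc using hcomm
  let f : {y : G // orderOf y = p} × Bool → {z : G // orderOf z = p * q} := fun w =>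
    ⟨w.1.1 * (if w.2 then c w.1.1 w.1.2 else (c w.1.1 w.1.2)⁻¹), by
      have hcop : (orderOf w.1.1).Coprime (orderOf (c w.1.1 w.1.2)) := by
        rw [w.1.2, hco]; exact (Nat.coprime_primes hp hq').2 hne'
      split
      · rw [(hcc _ _).orderOf_mul_eq_mul_orderOf_of_coprime hcop, w.1.2, hco]
      · rw [(hcc _ _).inv_right.orderOf_mul_eq_mul_orderOf_of_coprime (by rwa [orderOf_inv]),
          w.1.2, orderOf_inv, hco]⟩
  obtain ⟨k, hk1, hk2⟩ := Nat.chineseRemainder ((Nat.coprime_primes hp hq').2 hne') 1 0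
  have hkey : ∀ y z : G, orderOf y = p → orderOf z = q → Commute y z → (y * z) ^ k = y := by
    intro y z hy hz hyz
    rw [hyz.mul_pow]
    have e1 : y ^ k = y ^ 1 := pow_eq_pow_iff_modEq.2 (hy ▸ hk1)
    have e2 : z ^ k = z ^ 0 := pow_eq_pow_iff_modEq.2 (hz ▸ hk2)
    rw [e1, e2, pow_one, pow_zero, mul_one]
  have hf : Function.Injective f := by
    rintro ⟨⟨y, hy⟩, i⟩ ⟨⟨y', hy'⟩, j⟩ he
    have he' := congrArg Subtype.val he
    simp only [f] at he'
    have hyy : y = y' := by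
      have l := hkey y (if i then c y hy else (c y hy)⁻¹) hy
        (by split <;> simp [hco]) (by split <;> simp [hcc])
      have r := hkey y' (if j then c y' hy' else (c y' hy')⁻¹) hy'
        (by split <;> simp [hco]) (by split <;> simp [hcc])
      rw [← l, ← r, he']
    subst hyy
    have h6 := mul_left_cancel he'
    have hne1 : (c y hy) ≠ (c y hy)⁻¹ := by
      intro e1
      have h7 : orderOf (c y hy) ∣ 2 := orderOf_dvd_of_pow_eq_one (by
        rw [pow_two]; nth_rewrite 2 [e1]; exact mul_inv_cancel _)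
      rw [hco] at h7
      exact absurd (Nat.le_of_dvd two_pos h7) (by omega)
    cases i <;> cases j
    · rfl
    · exact (hne1 (by simpa using h6.symm)).elim
    · exact (hne1 (by simpa using h6)).elim
    · rfl
  have hle := Nat.card_le_card_of_injective f hf
  rw [Nat.card_prod, Nat.card_eq_fintype_card (α := Bool), Fintype.card_bool] at hle
  change cnt G p * 2 ≤ cnt G (p * q) at hle
  have hpos := Nat.pos_of_ne_zero
    (cast_ne_zero_imp (cnt_prime G hp hpd') (neg_ne_zero.2 one_ne_zero))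
  omega

omit hp hq' hne' hp2' hq2' hpd' hqd' hv' ha hb

theorem norm_formula {T : Subgroup G} [T.Normal] [IsMulCommutative T] (v : T) (d : G) (n : ℕ) :
    ((v : G) * d) ^ n = ((∏ i ∈ Finset.range n, MulAut.conjNormal (d ^ i) v : T) : G) * d ^ n := by
  induction n with
  | zero => simp
  | succ n ih =>
    rw [pow_succ, ih, Finset.prod_range_succ, Subgroup.coe_mul, MulAut.conjNormal_apply, pow_succ]
    group

/-- A Sylow `q`-subgroup of order `q` acting without fixed points on `T` is self-normalizing. -/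
theorem selfnorm {p q : ℕ} (hp : p.Prime) (hq : q.Prime) (hne : p ≠ q)
    (hprimes : ∀ r : ℕ, r.Prime → r ∣ Nat.card G → r = p ∨ r = q)
    (h0 : cnt G (p * p) = 0) (hpq : cnt G (p * q) = 0)
    (T : Subgroup G) [T.Normal] [IsMulCommutative T] (hT : IsPGroup p T) (hTb : T ≠ ⊥)
    (Q : Sylow q G) (hQ : Nat.card (Q : Subgroup G) = q) :
    Subgroup.normalizer ((Q : Subgroup G) : Set G) = (Q : Subgroup G) := by
  classical
  haveI := Fintype.ofFinite G
  haveI := Fact.mk hp
  haveI := Fact.mk hq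
  refine le_antisymm ?_ Subgroup.le_normalizer
  set N := Subgroup.normalizer ((Q : Subgroup G) : Set G) with hN
  by_contra hle
  have hex : ∃ c ∈ N, orderOf c = p := by
    by_contra hno
    push Not at hno
    have hNq : IsPGroup q N := by
      rw [IsPGroup.iff_orderOf]
      intro x
      refine ⟨(orderOf x).primeFactorsList.length,
        Nat.eq_prime_pow_of_unique_prime_dvd (orderOf_pos x).ne' fun {r} hr hrd => ?_⟩
      rw [← Subgroup.orderOf_coe] at hrd
      refine (hprimes r hr (hrd.trans (orderOf_dvd_natCard _))).resolve_left fun e => ?_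
      exact hno _ (pow_mem x.2 _) (e ▸ orderOf_pow_orderOf_div (orderOf_pos (x : G)).ne' hrd)
    exact hle (Q.is_maximal' hNq Subgroup.le_normalizer).le
  obtain ⟨c, hcN, hco⟩ := hex
  have hnc : ∀ x y : G, orderOf x = p → orderOf y = q → ¬ Commute x y := by
    intro x y hx hy hxy
    have h1 : orderOf (x * y) = p * q := by
      rw [hxy.orderOf_mul_eq_mul_orderOf_of_coprime
        (by rw [hx, hy]; exact (Nat.coprime_primes hp hq).2 hne), hx, hy]
    exact (cnt_pos G h1).ne' hpq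
  haveI : IsCyclic (Q : Subgroup G) := isCyclic_of_prime_card hQ
  have hQcomm : ∀ x y : (Q : Subgroup G), x * y = y * x := IsCyclic.commGroup.mul_comm
  have hord : ∀ x : (Q : Subgroup G), x ≠ 1 → orderOf (x : G) = q := fun x hx =>
    ((Nat.dvd_prime hq).1 ((Subgroup.orderOf_dvd_natCard _ x.2).trans (dvd_of_eq hQ))).resolve_left
      fun e => hx (Subtype.ext (orderOf_eq_one_iff.1 e))
  obtain ⟨v, hvT, hv1⟩ := (Subgroup.bot_or_exists_ne_one T).resolve_left hTb
  set w : T := ⟨v, hvT⟩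
  have hTord : ∀ u : T, u ≠ 1 → orderOf (u : G) = p := by
    intro u hu
    obtain ⟨k, hk⟩ := hT u
    exact ((Nat.dvd_prime hp).1 (orderOf_dvd_of_pow_eq_one
      (pow_eq_one_of_sq hp h0 (congrArg Subtype.val hk)))).resolve_left
      fun e => hu (Subtype.ext (orderOf_eq_one_iff.1 e))
  have hnorm : ∀ d : G, orderOf d = p →
      ∏ i ∈ Finset.range p, MulAut.conjNormal (d ^ i) w = 1 := by
    intro d hd
    have hdp : d ^ p = 1 := hd ▸ pow_orderOf_eq_one d
    have h1 := norm_formula w d p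
    rw [hdp, mul_one] at h1
    obtain ⟨k, hk⟩ := hT (∏ i ∈ Finset.range p, MulAut.conjNormal (d ^ i) w)
    have h2 : ((w : G) * d) ^ p ^ (1 + k) = 1 := by
      rw [pow_add, pow_one, pow_mul, h1]
      exact congrArg Subtype.val hk
    exact Subtype.ext (h1.symm.trans (pow_eq_one_of_sq hp h0 h2))
  have hfix : ∏ h : (Q : Subgroup G), MulAut.conjNormal (h : G) w = 1 := by
    by_contra hne1
    obtain ⟨x, hx⟩ : ∃ x : (Q : Subgroup G), x ≠ 1 := by
      haveI : Nontrivial (Q : Subgroup G) :=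
        Finite.one_lt_card_iff_nontrivial.1 (lt_of_lt_of_eq hq.one_lt hQ.symm)
      exact exists_ne 1
    refine hnc _ _ (hTord _ hne1) (hord x hx) ?_
    have h1 : MulAut.conjNormal (x : G) (∏ h : (Q : Subgroup G), MulAut.conjNormal (h : G) w) =
        ∏ h : (Q : Subgroup G), MulAut.conjNormal (h : G) w := by
      rw [map_prod]
      refine (Finset.prod_congr rfl fun h _ => ?_).trans
        (Equiv.prod_comp (Equiv.mulLeft x) fun h : (Q : Subgroup G) => MulAut.conjNormal (h : G) w)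
      simp [map_mul, MulAut.mul_apply]
    have h2 := congrArg Subtype.val h1
    rw [MulAut.conjNormal_apply] at h2
    exact (mul_inv_eq_iff_eq_mul.1 h2).symm
  have h3 : ∏ h : (Q : Subgroup G), ∏ i ∈ Finset.range p,
      MulAut.conjNormal ((h : G) * c ^ i * (h : G)⁻¹) w = 1 := Finset.prod_eq_one fun h _ => by
    rw [← hnorm ((h : G) * c * (h : G)⁻¹) ((MulEquiv.orderOf_eq (MulAut.conj (h : G)) c).trans hco)]
    exact Finset.prod_congr rfl fun i _ => by rw [conj_pow]
  rw [Finset.prod_comm, Finset.prod_eq_single_of_mem 0 (Finset.mem_range.2 hp.pos)] at h3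
  · simp only [pow_zero, mul_one, mul_inv_cancel, map_one, MulAut.one_apply, Finset.prod_const,
      Finset.card_univ] at h3
    rw [← Nat.card_eq_fintype_card, hQ] at h3
    have h4 : orderOf (w : G) ∣ q := orderOf_dvd_of_pow_eq_one (congrArg Subtype.val h3)
    rw [hTord w fun e => hv1 (congrArg Subtype.val e)] at h4
    exact hne ((Nat.prime_dvd_prime_iff_eq hp hq).1 h4)
  · intro i hi hi0
    set d := c ^ i with hd
    have hdN : d ∈ N := pow_mem hcN i
    have hdo : orderOf d = p := by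
      have h5 : orderOf d ∣ p := by
        apply orderOf_dvd_of_pow_eq_one
        rw [hd, ← pow_mul, mul_comm, pow_mul, ← hco, pow_orderOf_eq_one, one_pow]
      refine ((Nat.dvd_prime hp).1 h5).resolve_left fun e => hi0 ?_
      rw [orderOf_eq_one_iff, hd, ← orderOf_dvd_iff_pow_eq_one, hco] at e
      exact Nat.eq_zero_of_dvd_of_lt e (Finset.mem_range.1 hi)
    let ψ : ↥(Q : Subgroup G) → ↥(Q : Subgroup G) := fun h =>
      ⟨d⁻¹ * (h : G) * d * (h : G)⁻¹, mul_mem
        ((Subgroup.mem_normalizer_iff''.1 hdN (h : G)).1 h.2) (inv_mem h.2)⟩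
    have hψ : Function.Injective ψ := by
      intro h k he
      have he' : d⁻¹ * (h : G) * d * (h : G)⁻¹ = d⁻¹ * (k : G) * d * (k : G)⁻¹ :=
        congrArg Subtype.val he
      by_contra hne1
      have hk : (k : G)⁻¹ * h = h * (k : G)⁻¹ := congrArg Subtype.val (hQcomm k⁻¹ h)
      refine hnc d _ hdo (hord (k⁻¹ * h) fun e => hne1 (inv_mul_eq_one.1 e).symm) ?_
      change d * ((k : G)⁻¹ * h) = (k : G)⁻¹ * h * d
      have e2 : d⁻¹ * (h : G) * d = d⁻¹ * (k : G) * d * ((k : G)⁻¹ * h) := by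
        calc d⁻¹ * (h : G) * d = d⁻¹ * (h : G) * d * (h : G)⁻¹ * h := by group
          _ = _ := by rw [he']; group
      calc d * ((k : G)⁻¹ * h) = (k : G)⁻¹ * d * (d⁻¹ * (k : G) * d * ((k : G)⁻¹ * h)) := by group
        _ = (k : G)⁻¹ * h * d := by rw [← e2]; group
    calc ∏ h : (Q : Subgroup G), MulAut.conjNormal ((h : G) * d * (h : G)⁻¹) w
        = ∏ h : (Q : Subgroup G), MulAut.conjNormal d (MulAut.conjNormal ((ψ h : (Q : Subgroup G)) : G) w) :=
          Finset.prod_congr rfl fun h _ => by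
            rw [← MulAut.mul_apply, ← map_mul]
            congr 2
            change _ = d * (d⁻¹ * (h : G) * d * (h : G)⁻¹)
            group
      _ = MulAut.conjNormal d (∏ h : (Q : Subgroup G), MulAut.conjNormal (h : G) w) := by
          rw [map_prod]
          exact Function.Bijective.prod_comp (Finite.injective_iff_bijective.1 hψ)
            fun h : (Q : Subgroup G) => MulAut.conjNormal d (MulAut.conjNormal (h : G) w)
      _ = 1 := by rw [hfix, map_one]

theorem exists_complement {p q : ℕ} (hp : p.Prime) (hq : q.Prime) (hne : p ≠ q) (hq2 : q ≠ 2)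
    (hprimes : ∀ r : ℕ, r.Prime → r ∣ Nat.card G → r = p ∨ r = q) (hqd : q ∣ Nat.card G)
    (h0 : cnt G (p * p) = 0) (h0q : cnt G (q * q) = 0) (hpq : cnt G (p * q) = 0)
    (T : Subgroup G) [T.Normal] [IsMulCommutative T] (hT : IsPGroup p T) (hTb : T ≠ ⊥) :
    ∃ C : Subgroup G, Cfsg.IsFrobeniusComplement C ∧ (Nat.card C).Prime := by
  classical
  haveI := Fact.mk hp
  haveI := Fact.mk hq
  obtain ⟨Q⟩ : Nonempty (Sylow q G) := inferInstance
  have hexp : ∀ x : (Q : Subgroup G), x ^ q = 1 := fun x => by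
    obtain ⟨k, hk⟩ := Q.2 x
    exact Subtype.ext (pow_eq_one_of_sq hq h0q (congrArg Subtype.val hk))
  have hfpf : IsFPF (Q : Subgroup G) T := by
    refine ⟨fun x _ => by rw [Subgroup.normalizer_eq_top_iff.2 ‹T.Normal›]; exact Subgroup.mem_top x,
      fun x hx hx1 => (Subgroup.eq_bot_iff_forall _).2 fun u hu => ?_⟩
    obtain ⟨huT, hux⟩ := Subgroup.mem_inf.1 hu
    by_contra hu1
    obtain ⟨k, hk⟩ := hT ⟨u, huT⟩
    have hxo : orderOf x = q := ((Nat.dvd_prime hq).1 (orderOf_dvd_of_pow_eq_one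
      (congrArg Subtype.val (hexp ⟨x, hx⟩)))).resolve_left fun e => hx1 (orderOf_eq_one_iff.1 e)
    have huo : orderOf u = p := ((Nat.dvd_prime hp).1 (orderOf_dvd_of_pow_eq_one
      (pow_eq_one_of_sq hp h0 (congrArg Subtype.val hk)))).resolve_left
      fun e => hu1 (orderOf_eq_one_iff.1 e)
    have hc : Commute u x := Subgroup.mem_centralizer_singleton_iff.1 hux
    have h1 : orderOf (u * x) = p * q := by
      rw [hc.orderOf_mul_eq_mul_orderOf_of_coprime
        (by rw [huo, hxo]; exact (Nat.coprime_primes hp hq).2 hne), huo, hxo]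
    exact (cnt_pos G h1).ne' hpq
  have htop : IsPGroup q (⊤ : Subgroup (Q : Subgroup G)) :=
    IsPGroup.of_equiv Q.2 Subgroup.topEquiv.symm
  have hcyc : IsCyclic (⊤ : Subgroup (Q : Subgroup G)) :=
    (hfpf.isCyclic_or_quaternion hTb ⊤ htop).resolve_right fun h => hq2 h.1
  have hQn : (Q : Subgroup G) ≠ ⊥ := Q.ne_bot_of_dvd_card hqd
  have hQc : Nat.card (Q : Subgroup G) = q := by
    obtain ⟨g, hg⟩ := hcyc.exists_generator
    have h1 : orderOf g ∣ q := orderOf_dvd_of_pow_eq_one (Subtype.ext (hexp g.1))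
    rw [orderOf_eq_card_of_forall_mem_zpowers hg, Subgroup.card_top] at h1
    exact ((Nat.dvd_prime hq).1 h1).resolve_left fun e => hQn (Subgroup.eq_bot_of_card_eq _ e)
  have hN := selfnorm hp hq hne hprimes h0 hpq T hT hTb Q hQc
  refine ⟨Q, ⟨hQn, fun e => ?_, fun g hg => ?_⟩, by rw [hQc]; exact hq⟩
  · obtain ⟨u, huT, hu1⟩ := (Subgroup.bot_or_exists_ne_one T).resolve_left hTb
    obtain ⟨k, hk⟩ := hT ⟨u, huT⟩
    have h1 : u ^ q = 1 := congrArg Subtype.val (hexp ⟨u, e ▸ Subgroup.mem_top u⟩)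
    exact hu1 (orderOf_eq_one_iff.1 (Nat.eq_one_of_dvd_coprimes
      (Nat.Coprime.pow_right k ((Nat.coprime_primes hq hp).2 hne.symm))
      (orderOf_dvd_of_pow_eq_one h1) (orderOf_dvd_of_pow_eq_one (congrArg Subtype.val hk))))
  · set C := MulAut.conj g • (Q : Subgroup G) with hC
    have hle : (Q : Subgroup G) ⊓ C ≤ (Q : Subgroup G) := inf_le_left
    rcases (Nat.dvd_prime hq).1 (hQc ▸ Subgroup.card_dvd_of_le hle) with e | e
    · exact Subgroup.eq_bot_of_card_eq _ e
    · exfalso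
      have hQC : (Q : Subgroup G) ≤ C :=
        (Subgroup.eq_of_le_of_card_ge hle (by rw [e, hQc])).symm.le.trans inf_le_right
      have hCc : Nat.card C = q := by
        rw [← hQc]
        exact Nat.card_congr (Subgroup.equivSMul (MulAut.conj g) (Q : Subgroup G)).toEquiv.symm
      have heq := Subgroup.eq_of_le_of_card_ge hQC (by rw [hCc, hQc])
      apply hg
      rw [← hN, Subgroup.mem_normalizer_iff'']
      intro n
      conv_lhs => rw [heq, hC, Frobenius.mem_conj_iff]

/-- The theorem. -/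
theorem odd_three_classes (hodd : Odd (Nat.card G))
    (h : (((fun m : ℕ => Nat.card {g : G // orderOf g = m}) '' Set.range (orderOf : G → ℕ))).ncard = 3) :
    (Nat.card G).primeFactors.card ≤ 2 ∧
      ((Nat.card G).primeFactors.card = 2 →
        (∀ (p : ℕ) [Fact p.Prime] (P : Sylow p G), p ∣ Nat.card G →
          Monoid.exponent ↥(P : Subgroup G) = p) ∧
        ∃ C : Subgroup G, Cfsg.IsFrobeniusComplement C ∧ (Nat.card ↥C).Prime) := by
  classical
  set S := (fun m : ℕ => Nat.card {g : G // orderOf g = m}) '' Set.range (orderOf : G → ℕ) with hS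
  have hSf : S.Finite := Set.finite_of_ncard_ne_zero (by omega)
  have hmem : ∀ m : ℕ, cnt G m ≠ 0 → cnt G m ∈ S := fun m hm => ⟨m, cnt_ne_zero G hm, rfl⟩
  have h1S : 1 ∈ S := cnt_one G ▸ hmem 1 (by rw [cnt_one]; norm_num)
  have hne2 : ∀ m, cnt G m ≠ 0 → m ≠ 2 := by
    rintro m hm rfl
    exact Nat.not_even_iff_odd.2 hodd (even_iff_two_dvd.2 (dvd_card_of_cnt G hm))
  have hgt : ∀ r : ℕ, r.Prime → r ∣ Nat.card G → 2 < r := fun r hr hrd =>
    lt_of_le_of_ne hr.two_le fun e => Nat.not_even_iff_odd.2 hodd (even_iff_two_dvd.2 (e ▸ hrd))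
  obtain ⟨a, b, hab, habS⟩ := Set.ncard_eq_two.1
    (show (S \ {1}).ncard = 2 by rw [Set.ncard_sdiff_singleton_of_mem h1S, h])
  have hv : TwoVals G a b := by
    intro m hm h0
    have h1 : cnt G m ∈ S \ {1} := ⟨hmem m h0, fun e => by
      have he := even_cnt G (m := m) (by have := hne2 m h0; omega)
      rw [Set.mem_singleton_iff.1 e] at he
      exact Nat.not_even_one he⟩
    rw [habS] at h1
    exact h1
  set π := (Nat.card G).primeFactors with hπ
  have hmemπ : ∀ {r : ℕ}, r ∈ π ↔ r.Prime ∧ r ∣ Nat.card G := fun {r} =>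
    Nat.mem_primeFactors.trans ⟨fun h => ⟨h.1, h.2.1⟩, fun h => ⟨h.1, h.2, Nat.card_pos.ne'⟩⟩
  have hvr : ∀ r ∈ π, cnt G r = a ∨ cnt G r = b := by
    intro r hr
    obtain ⟨hrp, hrd⟩ := hmemπ.1 hr
    haveI := Fact.mk hrp
    exact hv r hrp.one_lt (cast_ne_zero_imp (cnt_prime G hrp hrd) (neg_ne_zero.2 one_ne_zero))
  have hinj : ∀ r ∈ π, ∀ s ∈ π, cnt G r = cnt G s → r = s := by
    intro r hr s hs e
    obtain ⟨hrp, hrd⟩ := hmemπ.1 hr
    obtain ⟨hsp, hsd⟩ := hmemπ.1 hs
    rcases hvr r hr with ha | hb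
    · exact inj_on_values hrp hgt hrd hv hsp hsd ha (e.symm.trans ha)
    · exact inj_on_values hrp hgt hrd hv.symm hsp hsd hb (e.symm.trans hb)
  refine ⟨?_, fun h2 => ?_⟩
  · refine (Finset.card_le_card_of_injOn (cnt G) (fun r hr => ?_) hinj).trans
      (Finset.card_le_two (a := a) (b := b))
    rcases hvr r hr with e | e <;> simp [e]
  obtain ⟨p, q, hpq, hπe⟩ := Finset.card_eq_two.1 h2
  obtain ⟨hp, hpd⟩ := hmemπ.1 (show p ∈ π by rw [hπe]; simp)
  obtain ⟨hq, hqd⟩ := hmemπ.1 (show q ∈ π by rw [hπe]; simp)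
  have hprimes : ∀ r : ℕ, r.Prime → r ∣ Nat.card G → r = p ∨ r = q := by
    intro r hr hrd
    have h1 := hmemπ.2 ⟨hr, hrd⟩
    simpa [hπe] using h1
  have hcne : cnt G p ≠ cnt G q := fun e =>
    hpq (hinj p (hmemπ.2 ⟨hp, hpd⟩) q (hmemπ.2 ⟨hq, hqd⟩) e)
  have hv' : TwoVals G (cnt G p) (cnt G q) := by
    intro m hm h0
    have hP := hvr p (hmemπ.2 ⟨hp, hpd⟩)
    have hQ := hvr q (hmemπ.2 ⟨hq, hqd⟩)
    have hM := hv m hm h0
    omega
  have hp0 := cnt_sq_eq_zero hp hq hpq (hgt q hq hqd) hpd hqd hv' rfl rfl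
  have hq0 := cnt_sq_eq_zero hq hp hpq.symm (hgt p hp hpd) hqd hpd hv'.symm rfl rfl
  have hpq0 : cnt G (p * q) = 0 := by
    by_contra h0
    rcases hv' _ (Nat.one_lt_mul_iff.2 ⟨hp.pos, hq.pos, Or.inl hp.one_lt⟩) h0 with e | e
    · exact cnt_mul_ne_left hp hq hpq (hgt q hq hqd) hpd hqd rfl rfl e
    · exact cnt_mul_ne_left hq hp hpq.symm (hgt p hp hpd) hqd hpd rfl rfl (by rw [mul_comm]; exact e)
  refine ⟨fun r hr P hrd => ?_, ?_⟩
  · have hr0 : cnt G (r * r) = 0 := by
      rcases hprimes r hr.out hrd with rfl | rfl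
      · exact hp0
      · exact hq0
    have h1 : Monoid.exponent (P : Subgroup G) ∣ r := Monoid.exponent_dvd_of_forall_pow_eq_one
      fun x => by
        obtain ⟨k, hk⟩ := P.2 x
        exact Subtype.ext (pow_eq_one_of_sq hr.out hr0 (congrArg Subtype.val hk))
    refine ((Nat.dvd_prime hr.out).1 h1).resolve_left fun e => P.ne_bot_of_dvd_card hrd ?_
    have hss := Monoid.exp_eq_one_iff.1 e
    exact Subgroup.eq_bot_of_subsingleton _
  · haveI hsol : Group.IsSolvable G := CfsgLib.FT.isSolvable_of_odd hodd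
    haveI : Nontrivial G := by
      rw [← Finite.one_lt_card_iff_nontrivial]
      exact lt_of_lt_of_le hp.one_lt (Nat.le_of_dvd Nat.card_pos hpd)
    obtain ⟨T, hT⟩ := exists_isMinimalNormal (G := G)
    obtain ⟨r, hr, hTc, hTe, hTr⟩ := hT.exists_prime inferInstance
    haveI := hT.normal
    haveI := hTc
    have hrd : r ∣ Nat.card G := by
      haveI := Fact.mk hr
      obtain ⟨u, hu, hu1⟩ := (Subgroup.bot_or_exists_ne_one T).resolve_left hT.ne_bot
      have h1 := orderOf_eq_prime (hTe u hu) hu1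
      exact h1 ▸ orderOf_dvd_natCard u
    rcases hprimes r hr hrd with rfl | rfl
    · exact exists_complement hp hq hpq (hgt q hq hqd).ne' hprimes hqd hp0 hq0 hpq0 T hTr hT.ne_bot
    · exact exists_complement hq hp hpq.symm (hgt p hp hpd).ne'
        (fun s hs hsd => (hprimes s hs hsd).symm) hpd hq0 hp0 (by rw [mul_comm]; exact hpq0) T hTr
        hT.ne_bot

end CfsgLib.Techniques.OrderClasses
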