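import Cfsg.Agent.Lib.Techniques.Order320
import Cfsg.Agent.Lib.Involutions.PSUThreeFourSylow
import Cfsg.Agent.Lib.CharsMore.U34.Model

/-!
# The centralizer of an involution of `U₃(4)`
-/

set_option autoImplicit false
set_option linter.unusedSectionVars false
set_option linter.style.haveILetI false

namespace CfsgLib.Techniques.U34

open Matrix MatrixGroups CfsgLib.Involutions.U34 CfsgLib.Techniques.Order320

variable {F : Type*} [Field F]

/-- The form in isotropic coordinates. -/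
def hf (σ : F →+* F) (u v : Fin 3 → F) : F := u 0 * σ (v 2) + u 2 * σ (v 0) + u 1 * σ (v 1)

/-- The isometries of `hf`. -/
def W (σ : F →+* F) : Subgroup SL(3, F) where
  carrier := {g | ∀ u v, hf σ (g.1 *ᵥ u) (g.1 *ᵥ v) = hf σ u v}
  one_mem' := by intro u v; simp
  mul_mem' := by
    intro g h hg hh u v
    rw [Matrix.SpecialLinearGroup.coe_mul, ← Matrix.mulVec_mulVec, ← Matrix.mulVec_mulVec, hg, hh]
  inv_mem' := by
    intro g hg u v
    have h := hg (g⁻¹.1 *ᵥ u) (g⁻¹.1 *ᵥ v)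
    simp only [Matrix.mulVec_mulVec, ← Matrix.SpecialLinearGroup.coe_mul, mul_inv_cancel,
      Matrix.SpecialLinearGroup.coe_one, Matrix.one_mulVec] at h
    exact h.symm

/-- The change of coordinates. -/
def PM [Finite F] (h2 : (2 : F) = 0) (x : F) : SL(3, F) := ⟨pmat x, pmat_det h2 x⟩

theorem map_W [Finite F] {σ : F →+* F} (h : Classical.Unitary.UFrob σ 4) (h2 : (2 : F) = 0) {x : F}
    (hx : x + σ x = 1) :
    (W σ).map (MulAut.conj (PM h2 x)).toMonoidHom = Cfsg.SU 3 F 4 := by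
  set p : SL(3, F) := PM h2 x
  have hform : ∀ a b : Fin 3 → F, Cfsg.hermForm 3 F 4 (p.1 *ᵥ a) (p.1 *ᵥ b) = hf σ a b := by
    intro a b
    simp only [Cfsg.hermForm, Fin.sum_univ_three, ← h.pow, hf, p, PM]
    simp [pmat, Matrix.mulVec, dotProduct, Fin.sum_univ_three]
    linear_combination (a 0 * σ (b 0) + a 0 * σ (b 2) * σ x + a 2 * x * σ (b 0) + a 2 * σ (b 2) * x * σ x) * h2 + (a 2 * σ (b 2)) * hx + (a 2 * σ (b 2)) * h2
  have hinv : ∀ u, p.1 *ᵥ (p⁻¹.1 *ᵥ u) = u := fun u => by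
    rw [Matrix.mulVec_mulVec, ← Matrix.SpecialLinearGroup.coe_mul, mul_inv_cancel,
      Matrix.SpecialLinearGroup.coe_one, Matrix.one_mulVec]
  ext M
  rw [Subgroup.mem_map_equiv, Classical.mem_SU_iff, MulAut.conj_symm_apply]
  show (∀ u v, hf σ ((p⁻¹ * M * p).1 *ᵥ u) ((p⁻¹ * M * p).1 *ᵥ v) = hf σ u v) ↔ _
  simp only [Matrix.SpecialLinearGroup.coe_mul, ← Matrix.mulVec_mulVec, ← hform, hinv]
  exact ⟨fun hM u v => by
    have h1 := hM (p⁻¹.1 *ᵥ u) (p⁻¹.1 *ᵥ v)
    rwa [hinv, hinv] at h1, fun hM u v => hM _ _⟩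

variable [Finite F] {σ : F →+* F} (h : Classical.Unitary.UFrob σ 4) (h2 : (2 : F) = 0)
  (hF : Nat.card F = 4 ^ 2)

/-- The element `tmat σ c b`. -/
def T (σ : F →+* F) (c b : F) : SL(3, F) := ⟨tmat σ c b, tmat_det σ c b⟩

theorem T_mul (c b c' b' : F) : T σ c b * T σ c' b' = T σ (c + c') (b + b' + σ c * c') :=
  Subtype.ext (tmat_mul σ c b c' b')

theorem T_inj {c b c' b' : F} (e : T σ c b = T σ c' b') : c = c' ∧ b = b' := by
  have e' : tmat σ c b = tmat σ c' b' := congrArg Subtype.val e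
  have h12 := congrFun (congrFun e' 1) 2
  have h02 := congrFun (congrFun e' 0) 2
  simp [tmat] at h12 h02
  exact ⟨h12, h02⟩

theorem T_zero : T σ (0 : F) 0 = 1 :=
  Subtype.ext (by
    rw [Matrix.SpecialLinearGroup.coe_one, Matrix.one_fin_three]
    show tmat σ 0 0 = _
    simp [tmat])

include h h2 in
theorem T_mem {c b : F} (hb : b + σ b = c * σ c) : T σ c b ∈ W σ := by
  intro u v
  simp [T, tmat, hf, Matrix.mulVec, dotProduct, Fin.sum_univ_three, h.invol]
  linear_combination (u 2 * σ (v 2)) * hb + (u 1 * σ c * σ (v 2) + u 2 * c * σ (v 1) + u 2 * σ (v 2) * c * σ c) * h2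

include h h2 hF in
theorem card_centralizer_le :
    Nat.card (W σ ⊓ Subgroup.centralizer {T σ (0 : F) 1} : Subgroup SL(3, F)) ≤ 320 := by
  classical
  obtain ⟨x, hx⟩ := Classical.Unitary.exists_trace h
  let P := {p : F × F // p.2 + σ p.2 = p.1 * σ p.1}
  have hP : Nat.card P ≤ 64 := by
    rw [← card_uni h2 h hF hx]
    refine Nat.card_le_card_of_injective
      (fun p => (⟨T σ p.1.1 p.1.2, p.1.1, p.1.2, p.2, rfl⟩ : uni σ h2 h.invol))
      fun p p' e => ?_
    obtain ⟨e1, e2⟩ := T_inj (congrArg Subtype.val e)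
    exact Subtype.ext (Prod.ext e1 e2)
  have hA : Nat.card {x : F // x ^ (4 + 1) = 1} = 5 := Classical.card_pow_succ_eq_one hF
  have hshape : ∀ g ∈ (W σ ⊓ Subgroup.centralizer {T σ (0 : F) 1} : Subgroup SL(3, F)),
      g.1 1 0 = 0 ∧ g.1 2 0 = 0 ∧ g.1 2 1 = 0 ∧ g.1 2 2 = g.1 0 0 ∧ g.1 0 0 * σ (g.1 0 0) = 1 ∧
      g.1 0 0 * g.1 1 1 * g.1 0 0 = 1 ∧
      g.1 0 1 * σ (g.1 0 0) + g.1 1 1 * σ (g.1 1 2) = 0 ∧
      g.1 0 2 * σ (g.1 0 0) + g.1 0 0 * σ (g.1 0 2) + g.1 1 2 * σ (g.1 1 2) = 0 := by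
    intro g hg
    have hc : g.1 * tmat σ 0 1 = tmat σ 0 1 * g.1 :=
      congrArg (fun A : SL(3, F) => A.1) (Subgroup.mem_centralizer_singleton_iff.1 hg.2)
    have e02 := congrFun (congrFun hc 0) 2
    have e12 := congrFun (congrFun hc 1) 2
    have e00 := congrFun (congrFun hc 0) 0
    have e01 := congrFun (congrFun hc 0) 1
    simp [tmat, Matrix.mul_apply, Fin.sum_univ_three] at e02 e12 e00 e01
    have h22 : g.1 2 2 = g.1 0 0 := by linear_combination -e02
    have k : ∀ i j, hf σ (fun r => g.1 r i) (fun r => g.1 r j) =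
        hf σ (Pi.single i (1 : F)) (Pi.single j (1 : F)) := fun i j => by
      have h1 := hg.1 (Pi.single i 1) (Pi.single j 1)
      rwa [Matrix.mulVec_single_one, Matrix.mulVec_single_one] at h1
    have k02 := k 0 2
    have k12 := k 1 2
    have k22 := k 2 2
    simp [hf, e00, e01, e12, h22, Pi.single_apply] at k02 k12 k22
    have hdet : g.1.det = 1 := g.2
    rw [Matrix.det_fin_three] at hdet
    simp only [e00, e01, e12, h22, mul_zero, zero_mul, add_zero, sub_zero] at hdet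
    exact ⟨e12, e00, e01, h22, k02, hdet, by linear_combination k12, by linear_combination k22⟩
  let f : (W σ ⊓ Subgroup.centralizer {T σ (0 : F) 1} : Subgroup SL(3, F)) →
      {x : F // x ^ (4 + 1) = 1} × P := fun g =>
    (⟨g.1.1 0 0, by rw [pow_succ, ← h.pow, mul_comm]; exact (hshape _ g.2).2.2.2.2.1⟩,
      ⟨(g.1.1 0 0 * g.1.1 0 0 * g.1.1 1 2, σ (g.1.1 0 0) * g.1.1 0 2), by
        obtain ⟨-, -, -, -, ha, -, -, hb⟩ := hshape _ g.2
        simp only [map_mul, h.invol]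
        linear_combination hb - g.1.1 1 2 * σ (g.1.1 1 2) * (g.1.1 0 0 * σ (g.1.1 0 0) + 1) * ha -
          g.1.1 1 2 * σ (g.1.1 1 2) * h2⟩)
  have hf' : Function.Injective f := by
    intro g g' e
    obtain ⟨a1, a2, a3, a4, ha, hd, h01, -⟩ := hshape _ g.2
    obtain ⟨b1, b2, b3, b4, -, hd', h01', -⟩ := hshape _ g'.2
    have e0 : g.1.1 0 0 = g'.1.1 0 0 := congrArg (fun p => (p.1 : F)) e
    have e12 := congrArg (fun p => p.2.1.1) e
    have e02 := congrArg (fun p => p.2.1.2) e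
    simp only [f] at e12 e02
    rw [← e0] at e12 e02 hd' h01' b4
    have hne : g.1.1 0 0 ≠ 0 := fun h0 => by rw [h0, zero_mul] at ha; exact zero_ne_one ha
    have hσne : σ (g.1.1 0 0) ≠ 0 := fun h0 => by rw [h0, mul_zero] at ha; exact zero_ne_one ha
    have c12 : g.1.1 1 2 = g'.1.1 1 2 := mul_left_cancel₀ (mul_ne_zero hne hne) e12
    have c02 : g.1.1 0 2 = g'.1.1 0 2 := mul_left_cancel₀ hσne e02
    have c11 : g.1.1 1 1 = g'.1.1 1 1 := mul_left_cancel₀ hne (mul_right_cancel₀ hne (hd.trans hd'.symm))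
    have c01 : g.1.1 0 1 = g'.1.1 0 1 := mul_right_cancel₀ hσne (by
      rw [← c11, ← c12] at h01'
      linear_combination h01 - h01')
    refine Subtype.ext (Subtype.ext (Matrix.ext fun i j => ?_))
    fin_cases i <;> fin_cases j
    exacts [e0, c01, c02, a1.trans b1.symm, c11, c12, a2.trans b2.symm, a3.trans b3.symm,
      a4.trans b4.symm]
  refine (Nat.card_le_card_of_injective f hf').trans ?_
  rw [Nat.card_prod, hA]
  omega

include h h2 hF in
theorem exists_rel : ∃ q p : SL(3, F), Rel q p ∧ orderOf q = 5 ∧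
    E p (cj q p 1) ≠ 1 ∧ E p (cj q p 2) ≠ 1 ∧ E p (cj q p 1) ≠ E p (cj q p 2) ∧
    q ∈ (W σ ⊓ Subgroup.centralizer {T σ (0 : F) 1} : Subgroup SL(3, F)) ∧
    p ∈ (W σ ⊓ Subgroup.centralizer {T σ (0 : F) 1} : Subgroup SL(3, F)) := by
  classical
  obtain ⟨a, ha5, ha1⟩ : ∃ a : F, a ^ 5 = 1 ∧ a ≠ 1 := by
    by_contra hno
    push Not at hno
    have h5 := Classical.card_pow_succ_eq_one hF
    haveI : Subsingleton {x : F // x ^ (4 + 1) = 1} :=
      ⟨fun u v => Subtype.ext ((hno _ u.2).trans (hno _ v.2).symm)⟩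
    rw [Nat.card_of_subsingleton ⟨1, one_pow _⟩] at h5
    omega
  have ha0 : a ≠ 0 := fun h0 => by simp [h0] at ha5
  have hσa : σ a = a ^ 4 := h.pow a
  have hS : a ^ 4 + a ^ 3 + a ^ 2 + a + 1 = 0 :=
    (mul_eq_zero.1 (show (a - 1) * (a ^ 4 + a ^ 3 + a ^ 2 + a + 1) = 0 by
      linear_combination ha5)).resolve_left (sub_ne_zero.2 ha1)
  have hdetq : (!![a, 0, 0; 0, a ^ 3, 0; 0, 0, a] : Matrix (Fin 3) (Fin 3) F).det = 1 := by
    simp [Matrix.det_fin_three]
    linear_combination ha5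
  let q : SL(3, F) := ⟨!![a, 0, 0; 0, a ^ 3, 0; 0, 0, a], hdetq⟩
  set b := a ^ 3 + a ^ 4 with hb
  let p := T σ (1 : F) b
  have hσb : σ b = a ^ 2 + a := by
    rw [hb, map_add, map_pow, map_pow, hσa]
    linear_combination (a ^ 7 + a ^ 2) * ha5 + (a ^ 11 + a ^ 6 + a) * ha5
  have hbc : b + σ b = 1 * σ 1 := by
    rw [hσb, map_one, hb]
    linear_combination hS - h2
  have hconj : ∀ c d : F, q * T σ c d = T σ (a ^ 2 * c) d * q := by
    intro c d
    refine Subtype.ext (Matrix.ext fun i j => ?_)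
    rw [Matrix.SpecialLinearGroup.coe_mul, Matrix.SpecialLinearGroup.coe_mul]
    fin_cases i <;> fin_cases j <;>
      simp [q, T, tmat, Matrix.mul_apply, Fin.sum_univ_three, hσa] <;>
      first
        | ring1
        | linear_combination (-(a * σ c) * (a ^ 5 + 1)) * ha5
  have hcj : ∀ i, cj q p i = T σ (a ^ (2 * i)) b := by
    intro i
    induction i with
    | zero => simp [cj, p]
    | succ i ih =>
      rw [add_comm i 1, cj_add, pow_one, ih, hconj, mul_inv_cancel_right,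
        show 2 * (1 + i) = 2 + 2 * i by ring, pow_add]
  have hE : ∀ c d c' d' : F, E (T σ c d) (T σ c' d') = T σ 0 (σ c * c' + σ c' * c) := by
    intro c d c' d'
    rw [E, mul_inv_eq_iff_eq_mul, mul_inv_eq_iff_eq_mul, T_mul, T_mul, T_mul]
    refine congrArg₂ (T σ) (by ring) ?_
    simp only [map_zero, zero_add, zero_mul]
    linear_combination -(σ c' * c) * h2
  have hC1 : E p (cj q p 1) = T σ 0 (a ^ 2 + a ^ 3) := by
    rw [hcj, hE]
    refine congrArg₂ (T σ) rfl ?_
    rw [map_one, map_pow, hσa]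
    linear_combination a ^ 3 * ha5
  have hC2 : E p (cj q p 2) = T σ 0 (a ^ 4 + a) := by
    rw [hcj, hE]
    refine congrArg₂ (T σ) rfl ?_
    rw [map_one, map_pow, hσa]
    linear_combination (a ^ 11 + a ^ 6 + a) * ha5
  have hcomm : ∀ z : F, Commute q (T σ 0 z) ∧ Commute p (T σ 0 z) := fun z =>
    ⟨by show q * _ = _ * q; rw [hconj, mul_zero],
      by show T σ 1 b * _ = _ * T σ 1 b; rw [T_mul, T_mul]; exact congrArg₂ (T σ) (by ring) (by simp [add_comm])⟩
  have hsq0 : ∀ z : F, T σ 0 z * T σ 0 z = 1 := fun z => by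
    rw [T_mul, ← T_zero (σ := σ)]
    exact congrArg₂ (T σ) (by ring) (by rw [map_zero]; linear_combination z * h2)
  have hq5 : q ^ 5 = 1 := by
    refine Subtype.ext ?_
    rw [Matrix.SpecialLinearGroup.coe_pow, Matrix.SpecialLinearGroup.coe_one,
      show (q : Matrix (Fin 3) (Fin 3) F) = Matrix.diagonal ![a, a ^ 3, a] by
        ext i j; fin_cases i <;> fin_cases j <;> simp [q],
      Matrix.diagonal_pow, ← Matrix.diagonal_one]
    congr 1
    funext i
    fin_cases i <;> simp [ha5, ← pow_mul]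
    rw [show 15 = 5 * 3 from rfl, pow_mul, ha5, one_pow]
  refine ⟨q, p, ⟨hq5, ?_, ?_, ?_, ?_, ?_, ?_, ?_, ?_⟩, ?_, ?_, ?_, ?_, ?_, ?_⟩
  · rw [hcj, hcj, hcj, hcj, hcj, T_mul, T_mul, T_mul, T_mul, ← T_zero (σ := σ)]
    refine congrArg₂ (T σ) ?_ ?_
    · linear_combination hS + (a ^ 3 + a) * ha5
    · simp only [map_add, map_pow, map_one, hσa, hb]
      grind
  · show T σ 1 b * T σ 1 b = _
    rw [hC1, hC2, T_mul, T_mul]
    refine congrArg₂ (T σ) (by linear_combination h2) ?_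
    rw [map_zero, map_one]
    linear_combination (b + 1) * h2 - hS
  · rw [hC1]; exact (hcomm _).1
  · rw [hC2]; exact (hcomm _).1
  · rw [hC1]; exact (hcomm _).2
  · rw [hC2]; exact (hcomm _).2
  · rw [hC1]; exact hsq0 _
  · rw [hC2]; exact hsq0 _
  · haveI : Fact (Nat.Prime 5) := ⟨by norm_num⟩
    refine orderOf_eq_prime hq5 fun e => ha1 ?_
    simpa [q] using congrFun (congrFun (congrArg (fun A : SL(3, F) => A.1) e) 0) 0
  · rw [hC1, ← T_zero (σ := σ)]
    intro e
    have e' : a ^ 2 * (1 + a) = 0 := by linear_combination (T_inj e).2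
    have h1 : a = 1 := by
      linear_combination (mul_eq_zero.1 e').resolve_left (pow_ne_zero _ ha0) - h2
    exact ha1 h1
  · rw [hC2, ← T_zero (σ := σ)]
    intro e
    have e' : a * (a ^ 3 + 1) = 0 := by linear_combination (T_inj e).2
    have h3 : a ^ 3 = 1 := by
      linear_combination (mul_eq_zero.1 e').resolve_left ha0 - h2
    exact ha1 (by linear_combination (a ^ 3 + 1) * h3 - a * ha5)
  · rw [hC1, hC2]
    intro e
    exact one_ne_zero (α := F) (by linear_combination hS - (T_inj e).2 - (a + a ^ 4) * h2)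
  · refine ⟨fun u v => ?_, ?_⟩
    · simp [q, hf, Matrix.mulVec, dotProduct, Fin.sum_univ_three, hσa]
      linear_combination (u 0 * σ (v 2) + u 2 * σ (v 0)) * ha5 +
        (u 1 * σ (v 1) * (a ^ 10 + a ^ 5 + 1)) * ha5
    · exact Subgroup.mem_centralizer_singleton_iff.2 (hcomm 1).1
  · exact ⟨T_mem h h2 hbc, Subgroup.mem_centralizer_singleton_iff.2 (hcomm 1).2⟩

variable [Fintype F]

/-- An involution centralizer of `U₃(4)`, of order at most 320, with generators as in `Rel`. -/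
theorem exists_centralizer (hF : Fintype.card F = 16) :
    ∃ t : Cfsg.PSU 3 F 4, orderOf t = 2 ∧
      Nat.card (Subgroup.centralizer ({t} : Set (Cfsg.PSU 3 F 4))) ≤ 320 ∧
      ∃ q p : Subgroup.centralizer ({t} : Set (Cfsg.PSU 3 F 4)), Rel q p ∧ orderOf q = 5 ∧
        E p (cj q p 1) ≠ 1 ∧ E p (cj q p 2) ≠ 1 ∧ E p (cj q p 1) ≠ E p (cj q p 2) := by
  have hF' : Nat.card F = 4 ^ 2 := by rw [Nat.card_eq_fintype_card, hF]; norm_num
  obtain ⟨σ, h⟩ := Classical.Unitary.exists_uFrob hF'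
  obtain ⟨x, hx⟩ := Classical.Unitary.exists_trace h
  haveI := CfsgLib.CharsMore.U34.charP_two hF
  have h2 : (2 : F) = 0 := CharTwo.two_eq_zero
  obtain ⟨e⟩ : Nonempty (W σ ≃* Cfsg.PSU 3 F 4) :=
    ⟨(((W σ).equivMapOfInjective _ (MulAut.conj (PM h2 x)).injective).trans
      (MulEquiv.subgroupCongr (map_W h h2 hx))).trans (CfsgLib.CharsMore.U34.equivSU hF).symm⟩
  let s : W σ := ⟨T σ 0 1, T_mem h h2 (by rw [map_one, map_zero, mul_zero]; linear_combination h2)⟩
  let φ : SL(3, F) →* SL(3, F) := MonoidHom.id _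
  have hs : orderOf s = 2 := by
    rw [← Subgroup.orderOf_coe]
    refine orderOf_eq_prime (by
      rw [pow_two]; show T σ 0 1 * T σ 0 1 = 1
      rw [T_mul, ← T_zero (σ := σ)]
      exact congrArg₂ (T σ) (by ring) (by rw [map_zero]; linear_combination h2)) fun h1 => ?_
    exact one_ne_zero (α := F) (T_inj (h1.trans (T_zero (σ := σ)).symm)).2
  let D : Subgroup SL(3, F) := W σ ⊓ Subgroup.centralizer {T σ (0 : F) 1}
  let ι : D ≃* Subgroup.centralizer ({e s} : Set (Cfsg.PSU 3 F 4)) :=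
    { toFun := fun g => ⟨e ⟨g, (Subgroup.mem_inf.1 g.2).1⟩, by
        rw [Subgroup.mem_centralizer_singleton_iff, ← map_mul, ← map_mul]
        exact congrArg e (Subtype.ext
          (Subgroup.mem_centralizer_singleton_iff.1 (Subgroup.mem_inf.1 g.2).2))⟩
      invFun := fun c => ⟨(e.symm c : W σ), Subgroup.mem_inf.2 ⟨(e.symm c).2, by
        have h1 := congrArg e.symm (Subgroup.mem_centralizer_singleton_iff.1 c.2)
        rw [map_mul, map_mul, e.symm_apply_apply] at h1
        exact Subgroup.mem_centralizer_singleton_iff.2 (congrArg Subtype.val h1)⟩⟩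
      left_inv := fun g => Subtype.ext (by simp)
      right_inv := fun c => Subtype.ext (by simp)
      map_mul' := fun g g' => Subtype.ext (by
        show e _ = e _ * e _
        rw [← map_mul]
        rfl) }
  obtain ⟨q, p, R, ho, n1, n2, n3, hqD, hpD⟩ := exists_rel h h2 hF'
  let q' : D := ⟨q, hqD⟩
  let p' : D := ⟨p, hpD⟩
  have hcj : ∀ i, ((cj q' p' i : D) : SL(3, F)) = cj q p i := fun i => by simp [cj, q', p']
  have hE : ∀ i, ((E p' (cj q' p' i) : D) : SL(3, F)) = E p (cj q p i) := fun i => by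
    simp [E, hcj, p']
  have inj : ∀ {u v : D}, (u : SL(3, F)) = v → ι u = ι v := fun e' => congrArg ι (Subtype.ext e')
  have mcj : ∀ i, cj (ι q') (ι p') i = ι (cj q' p' i) := fun i => by simp [cj]
  have mE : ∀ i, E (ι p') (cj (ι q') (ι p') i) = ι (E p' (cj q' p' i)) := fun i => by simp [E, mcj]
  refine ⟨e s, by rw [e.orderOf_eq, hs],
    (Nat.card_congr ι.toEquiv).symm.le.trans (card_centralizer_le h h2 hF'),
    ι q', ι p', ⟨?_, ?_, ?_, ?_, ?_, ?_, ?_, ?_, ?_⟩, ?_, ?_, ?_, ?_⟩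
  · rw [← map_pow, ← map_one ι]; exact inj R.five
  · simp only [mcj, ← map_mul]; rw [← map_one ι]; exact inj (by simp [hcj, R.prod])
  · simp only [mE, ← map_mul]; exact inj (by simp [hE, R.sq, p'])
  · simp only [mE, ← map_mul]; exact inj (by simp [hE, R.q1, q'])
  · simp only [mE, ← map_mul]; exact inj (by simp [hE, R.q2, q'])
  · simp only [mE, ← map_mul]; exact inj (by simp [hE, R.p1, p'])
  · simp only [mE, ← map_mul]; exact inj (by simp [hE, R.p2, p'])
  · simp only [mE, ← map_mul]; rw [← map_one ι]; exact inj (by simp [hE, R.i1])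
  · simp only [mE, ← map_mul]; rw [← map_one ι]; exact inj (by simp [hE, R.i2])
  · rw [ι.orderOf_eq, ← Subgroup.orderOf_coe]; exact ho
  all_goals simp only [mE, Ne, EmbeddingLike.map_eq_one_iff, ι.injective.eq_iff, Subtype.ext_iff, hE,
    OneMemClass.coe_one]
  exacts [n1, n2, n3]

end CfsgLib.Techniques.U34
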