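import Cfsg.Agent.Lib.Rec.ThreeSpectrum
import Cfsg.Agent.Lib.Classical.UnitarySimple
import Cfsg.Agent.Lib.Classical.UnitaryOrder

/-!
# A subgroup of order `168` of `SU₃(3)`

The subgroup is generated by an element of order `2` and an element of order `3` with product of
order `7`.  The list of its `168` matrices over `GF(9)`, coded in base `9`, and the tables of left
multiplication by the two generators are checked by computation.
-/

set_option linter.unusedSectionVars false
set_option linter.style.haveILetI false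

namespace CfsgLib.Techniques.PSUThreeSeven

open Matrix CfsgLib.Rec.ThreeSpectrum

/-- The generator of order `2`. -/
def gA : Matrix (Fin 3) (Fin 3) K9 := !![⟨0, 0⟩, ⟨0, 0⟩, ⟨0, 2⟩; ⟨0, 0⟩, ⟨2, 0⟩, ⟨0, 0⟩; ⟨0, 1⟩, ⟨0, 0⟩, ⟨0, 0⟩]

/-- The generator of order `3`. -/
def gB : Matrix (Fin 3) (Fin 3) K9 := !![⟨0, 0⟩, ⟨1, 2⟩, ⟨2, 1⟩; ⟨1, 1⟩, ⟨2, 0⟩, ⟨2, 0⟩; ⟨1, 1⟩, ⟨1, 0⟩, ⟨1, 0⟩]

/-- The codes of the elements. -/
def codeList : List ℕ :=
  [43053283, 1607931, 50090058, 312911639, 363577633, 56939904, 42295069, 222033037,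
    176001571, 191449769, 347138659, 41234077, 78290801, 41225653, 79956307, 68711575,
    191397283, 111842975, 111769393, 308135227, 121646603, 307760851, 79812949, 54866628,
    70627987, 55001381, 174940597, 1653426, 223629565, 223263515, 221642947, 175010861,
    43048935, 100045656, 100409821, 57389587, 312517901, 4901068, 22100015, 4785642,
    309328931, 363574447, 347125295, 50244415, 9570798, 210522353, 9624988, 98074103,
    42413195, 176014451, 309356929, 50454635, 93077712, 93265135, 43051149, 176062771,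
    97922664, 113365741, 98284327, 312545251, 314503793, 314138467, 1712448, 347199931,
    309604895, 122918723, 52370449, 382768315, 52150212, 55263607, 78363649, 79882775,
    68663627, 57126929, 86100005, 86095683, 226424431, 23165381, 226822571, 307736363,
    69032485, 111699251, 78216277, 221667383, 3202011, 3247722, 23156309, 23274433,
    363643241, 112080421, 348190643, 95653337, 95206572, 4787586, 121278469, 382715825,
    382713125, 42290371, 80194169, 348260347, 228019915, 228292231, 9684038, 70303873,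
    228419099, 123004729, 221923709, 174997495, 223235461, 121408669, 41343725, 210519707,
    228044999, 191446637, 223515827, 95255964, 113673493, 56995128, 174953963, 100200137,
    70390613, 191394151, 22218085, 95390683, 41352149, 99982818, 3195693, 78598181,
    312797929, 226451837, 314394421, 52218882, 22095965, 314113331, 348203521, 347186567,
    42408497, 308008403, 86106565, 68797469, 50027508, 52580129, 93133296, 226700113,
    210587965, 93527357, 348247469, 176075651, 363640055, 54816876, 43059845, 309727381,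
    22214035, 1601127, 113438549, 9568368, 210585319, 121322051, 122870443, 23283505,
    97854282, 123239189, 4842020, 70259975, 113291549, 382765615, 86097843, 3306798]

/-- Left multiplication by `gA`. -/
def tabA : List ℕ :=
  [1, 0, 4, 6, 2, 9, 3, 11, 12, 5, 15, 7, 8, 19, 20, 10,
    23, 24, 26, 13, 14, 30, 31, 16, 17, 35, 18, 37, 38, 40, 21, 22,
    44, 45, 47, 25, 50, 27, 28, 54, 29, 56, 57, 58, 32, 33, 62, 34,
    64, 65, 36, 66, 67, 69, 39, 72, 41, 42, 43, 76, 77, 79, 46, 82,
    48, 49, 51, 52, 88, 53, 80, 90, 55, 91, 84, 93, 59, 60, 97, 61,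
    70, 99, 63, 100, 74, 102, 104, 106, 68, 109, 71, 73, 113, 75, 107, 115,
    117, 78, 120, 81, 83, 124, 85, 118, 86, 127, 87, 94, 129, 89, 130, 131,
    133, 92, 136, 95, 139, 96, 103, 141, 98, 142, 143, 145, 101, 148, 150, 105,
    152, 108, 110, 111, 151, 112, 157, 158, 114, 159, 153, 116, 156, 119, 121, 122,
    160, 123, 163, 164, 125, 165, 126, 132, 128, 138, 161, 166, 140, 134, 135, 137,
    144, 154, 167, 146, 147, 149, 155, 162]

/-- Left multiplication by `gB`. -/
def tabB : List ℕ :=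
  [2, 3, 5, 7, 8, 0, 10, 1, 13, 14, 16, 17, 18, 4, 21, 22,
    6, 25, 27, 28, 29, 9, 32, 33, 34, 11, 36, 12, 39, 41, 42, 43,
    15, 46, 48, 49, 51, 52, 53, 19, 55, 20, 58, 59, 60, 61, 23, 63,
    24, 50, 35, 26, 68, 70, 71, 73, 74, 75, 30, 31, 78, 80, 81, 83,
    84, 85, 86, 87, 37, 89, 38, 72, 54, 40, 92, 94, 95, 96, 44, 98,
    45, 82, 62, 47, 101, 103, 105, 107, 108, 110, 111, 112, 56, 114, 57, 116,
    118, 119, 121, 122, 123, 64, 125, 65, 126, 66, 128, 67, 109, 88, 69, 132,
    134, 135, 137, 138, 76, 140, 77, 120, 97, 79, 144, 146, 147, 149, 151, 145,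
    153, 154, 155, 142, 90, 156, 91, 136, 113, 93, 160, 133, 150, 161, 162, 130,
    99, 152, 100, 148, 124, 102, 117, 104, 127, 106, 165, 143, 139, 166, 163, 141,
    115, 159, 131, 167, 157, 129, 164, 158]

/-- A shorter element from which each element is reached. -/
def parent : List ℕ :=
  [0, 0, 0, 1, 2, 2, 3, 3, 4, 5, 6, 7, 8, 8, 9, 10,
    10, 11, 12, 13, 14, 14, 15, 16, 17, 17, 18, 18, 19, 20, 21, 22,
    22, 23, 24, 25, 26, 27, 28, 28, 29, 29, 30, 31, 32, 33, 33, 34,
    34, 35, 36, 36, 37, 38, 39, 40, 41, 42, 42, 43, 44, 45, 46, 47,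
    48, 49, 51, 52, 52, 53, 53, 54, 55, 55, 56, 57, 59, 60, 60, 61,
    61, 62, 63, 63, 64, 65, 66, 67, 68, 69, 71, 73, 74, 75, 75, 76,
    77, 78, 79, 81, 83, 84, 85, 85, 86, 86, 87, 87, 88, 89, 89, 90,
    91, 92, 93, 95, 95, 96, 96, 97, 98, 98, 99, 100, 101, 102, 104, 105,
    106, 108, 110, 111, 111, 112, 112, 113, 114, 114, 115, 116, 117, 119, 121, 122,
    122, 123, 123, 124, 125, 125, 126, 126, 128, 128, 129, 130, 133, 134, 135, 137,
    138, 141, 142, 146, 147, 149, 155, 162]

/-- The generator used to reach each element. -/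
def usedGen : List ℕ :=
  [0, 0, 1, 1, 0, 1, 0, 1, 1, 0, 1, 0, 0, 1, 1, 0, 1, 1, 1, 0, 0, 1, 1, 0,
    0, 1, 0, 1, 1, 1, 0, 0, 1, 1, 1, 0, 1, 0, 0, 1, 0, 1, 1, 1, 0, 0, 1, 0,
    1, 1, 0, 1, 1, 1, 0, 1, 0, 0, 1, 1, 1, 1, 0, 1, 0, 0, 0, 0, 1, 0, 1, 1,
    0, 1, 1, 1, 0, 0, 1, 0, 1, 1, 0, 1, 1, 1, 1, 1, 0, 1, 0, 0, 1, 0, 1, 1,
    1, 0, 1, 0, 0, 1, 0, 1, 0, 1, 0, 1, 1, 0, 1, 1, 1, 0, 1, 0, 1, 0, 1, 1,
    0, 1, 1, 1, 0, 1, 1, 0, 1, 0, 0, 0, 1, 0, 1, 1, 0, 1, 1, 0, 1, 0, 0, 0,
    1, 0, 1, 1, 0, 1, 0, 1, 0, 1, 1, 1, 1, 0, 0, 0, 1, 1, 1, 0, 0, 0, 0, 0]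

/-- The matrix with a given code. -/
def mk (c : ℕ) : Matrix (Fin 3) (Fin 3) K9 := fun i j =>
  ⟨((c / 9 ^ (3 * (i : ℕ) + j) % 9 % 3 : ℕ) : ZMod 3),
    ((c / 9 ^ (3 * (i : ℕ) + j) % 9 / 3 : ℕ) : ZMod 3)⟩

/-- The code of a matrix. -/
def code (M : Matrix (Fin 3) (Fin 3) K9) : ℕ :=
  ((List.range 9).map fun n =>
    ((M (Fin.ofNat 3 (n / 3)) (Fin.ofNat 3 n)).re.val +
      3 * (M (Fin.ofNat 3 (n / 3)) (Fin.ofNat 3 n)).im.val) * 9 ^ n).sum

/-- The `k`-th element. -/
def el (k : ℕ) : Matrix (Fin 3) (Fin 3) K9 := mk (codeList.getD k 0)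

theorem gen_spec : gA.det = 1 ∧ gB.det = 1 ∧
    gA.transpose * gA.map (fun x => x * x * x) = 1 ∧
    gB.transpose * gB.map (fun x => x * x * x) = 1 ∧
    gA ^ 2 = 1 ∧ gB ^ 3 = 1 ∧ (gA * gB) ^ 7 = 1 ∧ el 0 = 1 := by decide +kernel

theorem tab_spec : ∀ k : Fin 168, gA * el k = el (tabA.getD k 0) ∧ tabA.getD k 0 < 168 ∧
    gB * el k = el (tabB.getD k 0) ∧ tabB.getD k 0 < 168 := by decide +kernel

theorem parent_spec : ∀ k : Fin 168, 0 < (k : ℕ) → parent.getD k 0 < (k : ℕ) ∧
    el k = (if usedGen.getD k 0 = 0 then gA else gB) * el (parent.getD k 0) := by decide +kernel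

theorem code_el : ∀ k : Fin 168, code (el k) = codeList.getD k 0 := by decide +kernel

theorem codeList_nodup : codeList.Nodup := by decide +kernel

theorem codeList_length : codeList.length = 168 := by decide +kernel

theorem el_injective : Function.Injective fun k : Fin 168 => el k := by
  intro i j h
  have h' : codeList.getD i 0 = codeList.getD j 0 := by
    rw [← code_el, ← code_el]; exact congrArg code h
  have hi : (i : ℕ) < codeList.length := by rw [codeList_length]; exact i.2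
  have hj : (j : ℕ) < codeList.length := by rw [codeList_length]; exact j.2
  rw [List.getD_eq_getElem _ _ hi, List.getD_eq_getElem _ _ hj] at h'
  exact Fin.ext ((codeList_nodup.getElem_inj_iff).1 h')

/-- Elements of a monoid reached from `1` by left multiplication by two generators, as encoded by
the tables. -/
theorem card_closure {G : Type*} [Group G] [Finite G] (f : G →* Matrix (Fin 3) (Fin 3) K9)
    (hf : Function.Injective f) {a b : G} (ha : f a = gA) (hb : f b = gB) :
    Nat.card (Subgroup.closure {a, b}) = 168 := by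
  set H := Subgroup.closure ({a, b} : Set G)
  have ha' : a ∈ H := Subgroup.subset_closure (by simp)
  have hb' : b ∈ H := Subgroup.subset_closure (by simp)
  obtain ⟨-, -, -, -, hA2, hB3, -, h0⟩ := gen_spec
  have hup : ∀ x ∈ H, ∃ k : Fin 168, f x = el k := by
    have stepA : ∀ y, (∃ k : Fin 168, f y = el k) → ∃ k : Fin 168, f (a * y) = el k := by
      rintro y ⟨k, hk⟩
      exact ⟨⟨_, (tab_spec k).2.1⟩, by rw [map_mul, ha, hk]; exact (tab_spec k).1⟩
    have stepB : ∀ y, (∃ k : Fin 168, f y = el k) → ∃ k : Fin 168, f (b * y) = el k := by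
      rintro y ⟨k, hk⟩
      exact ⟨⟨_, (tab_spec k).2.2.2⟩, by rw [map_mul, hb, hk]; exact (tab_spec k).2.2.1⟩
    have hainv : a⁻¹ = a := inv_eq_of_mul_eq_one_right
      (hf (by rw [map_mul, map_one, ha, ← pow_two, hA2]))
    have hbinv : b⁻¹ = b * b := inv_eq_of_mul_eq_one_right
      (hf (by rw [map_mul, map_mul, map_one, hb, ← mul_assoc, ← pow_two, ← pow_succ, hB3]))
    intro x hx
    induction hx using Subgroup.closure_induction_left with
    | one => exact ⟨0, by rw [map_one]; exact h0.symm⟩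
    | mul_left y hy z hz ih =>
      rcases hy with rfl | rfl
      · exact stepA z ih
      · exact stepB z ih
    | inv_mul_cancel y hy z hz ih =>
      rcases hy with rfl | rfl
      · rw [hainv]; exact stepA z ih
      · rw [hbinv, mul_assoc]; exact stepB _ (stepB z ih)
  have hdown : ∀ n, ∀ hn : n < 168, ∃ x ∈ H, f x = el n := by
    intro n
    induction n using Nat.strong_induction_on with
    | _ n ih =>
      intro hn
      rcases Nat.eq_zero_or_pos n with rfl | hpos
      · exact ⟨1, one_mem H, by rw [map_one, h0]⟩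
      · obtain ⟨hlt, he⟩ := parent_spec ⟨n, hn⟩ hpos
        dsimp only at hlt he
        obtain ⟨x, hx, hfx⟩ := ih _ hlt (hlt.trans hn)
        rcases Classical.em (usedGen.getD n 0 = 0) with h | h
        · exact ⟨a * x, mul_mem ha' hx, by rw [map_mul, ha, hfx, he, if_pos h]⟩
        · exact ⟨b * x, mul_mem hb' hx, by rw [map_mul, hb, hfx, he, if_neg h]⟩
  choose k hk using fun x : H => hup x.1 x.2
  rw [Nat.card_eq_of_bijective k ⟨fun x y h => Subtype.ext (hf (by rw [hk x, hk y, h])),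
    fun i => ?_⟩, Nat.card_fin]
  obtain ⟨x, hx, hfx⟩ := hdown i i.2
  exact ⟨⟨x, hx⟩, el_injective ((hk ⟨x, hx⟩).symm.trans hfx)⟩

/-- Two elements of orders dividing `2` and `3` with product of order dividing `7` generate a
perfect group. -/
theorem not_isSolvable_closure {G : Type*} [Group G] {a b : G} (hne : a ≠ 1) (h2 : a ^ 2 = 1)
    (h3 : b ^ 3 = 1) (h7 : (a * b) ^ 7 = 1) :
    ¬ Group.IsSolvable (Subgroup.closure {a, b}) := by
  set H := Subgroup.closure ({a, b} : Set G) with hH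
  intro hs
  have ha' : a ∈ H := Subgroup.subset_closure (by simp)
  have hb' : b ∈ H := Subgroup.subset_closure (by simp)
  have : Nontrivial H := ⟨⟨a, ha'⟩, 1, fun h => hne (congrArg Subtype.val h)⟩
  let φ := Abelianization.of (G := H)
  set x := φ ⟨a, ha'⟩
  set y := φ ⟨b, hb'⟩
  have hx : x ^ 2 = 1 := by rw [← map_pow, show (⟨a, ha'⟩ : H) ^ 2 = 1 from Subtype.ext h2, map_one]
  have hy : y ^ 3 = 1 := by rw [← map_pow, show (⟨b, hb'⟩ : H) ^ 3 = 1 from Subtype.ext h3, map_one]
  have hxy : (x * y) ^ 7 = 1 := by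
    rw [← map_mul, ← map_pow, show ((⟨a, ha'⟩ : H) * ⟨b, hb'⟩) ^ 7 = 1 from Subtype.ext h7, map_one]
  have hxy1 : x * y = 1 := by
    rw [mul_pow, pow_succ x 6, pow_succ y 6, show 6 = 2 * 3 from rfl, pow_mul, hx,
      mul_comm 2 3, pow_mul y, hy] at hxy
    simpa using hxy
  have hyx : y = x := by
    have : x * y = x * x := by rw [hxy1, ← pow_two, hx]
    exact mul_left_cancel this
  have hx1 : x = 1 := by
    rw [hyx, pow_succ, hx, one_mul] at hy; exact hy
  have hy1 : y = 1 := hyx.trans hx1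
  have hker : (⊤ : Subgroup H) ≤ commutator H := by
    rw [← Abelianization.ker_of, ← Subgroup.map_subtype_le_map_subtype]
    rw [← MonoidHom.range_eq_map, Subgroup.range_subtype, hH, Subgroup.closure_le]
    rintro z (rfl | rfl)
    · exact ⟨⟨z, ha'⟩, hx1, rfl⟩
    · exact ⟨⟨z, hb'⟩, hy1, rfl⟩
  exact (Group.IsSolvable.commutator_lt_top_of_nontrivial (G := H)).ne (top_le_iff.1 hker)

variable {F : Type*} [Field F] [Fintype F]

theorem exists_subgroup (hF : Fintype.card F = 9) :
    ∃ H : Subgroup (Cfsg.PSU 3 F 3), Nat.card H = 168 ∧ ¬ Group.IsSolvable H := by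
  obtain ⟨φ⟩ := exists_ringEquiv_K9 hF
  haveI : CharP F 3 := by
    obtain ⟨p, hc⟩ := CharP.exists F
    haveI := hc
    obtain ⟨n, hp, hn⟩ := FiniteField.card F p
    rw [hF] at hn
    have : p ∣ 3 := hp.dvd_of_dvd_pow (show p ∣ 3 ^ 2 from
      (show (3:ℕ) ^ 2 = p ^ (n : ℕ) from hn) ▸ dvd_pow_self p n.ne_zero)
    rwa [(Nat.prime_dvd_prime_iff_eq hp Nat.prime_three).1 this] at hc
  have hF' : Nat.card F = 3 ^ 2 := by rw [Nat.card_eq_fintype_card, hF]; norm_num
  have hc : Subgroup.center (Cfsg.SU 3 F 3) = ⊥ :=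
    Subgroup.eq_bot_of_card_eq _
      (by rw [CfsgLib.Classical.card_center_SU hF' (by norm_num)]; norm_num)
  let e : Cfsg.PSU 3 F 3 ≃* Cfsg.SU 3 F 3 :=
    (QuotientGroup.quotientMulEquivOfEq hc).trans QuotientGroup.quotientBot
  obtain ⟨hdA, hdB, hoA, hoB, hA2, hB3, hAB7, -⟩ := gen_spec
  have mem : ∀ W : Matrix (Fin 3) (Fin 3) K9, W.det = 1 →
      W.transpose * W.map (fun x => x * x * x) = 1 →
      ∃ g : Cfsg.SU 3 F 3, (g.1.1 : Matrix (Fin 3) (Fin 3) F) = W.map φ := by
    intro W hd horth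
    let g₁ : Matrix.SpecialLinearGroup (Fin 3) F := ⟨W.map φ, by
      rw [← RingEquiv.coe_toRingHom, ← RingHom.mapMatrix_apply, ← RingHom.map_det, hd, map_one]⟩
    refine ⟨⟨g₁, fun u v => ?_⟩, rfl⟩
    show Cfsg.hermForm 3 F 3 (W.map φ *ᵥ u) (W.map φ *ᵥ v) = _
    rw [hermForm_mulVec]
    have e' : (W.map φ).transpose * (W.map φ).map (fun x => x * x * x) = 1 := by
      have h0 := congrArg (fun X => (φ : K9 →+* F).mapMatrix X) horth
      simp only [map_mul, map_one] at h0
      rw [← h0]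
      congr 1
      ext p r; simp
    rw [e', Matrix.one_mulVec]; rfl
  obtain ⟨sa, hsa⟩ := mem gA hdA hoA
  obtain ⟨sb, hsb⟩ := mem gB hdB hoB
  let f : Cfsg.SU 3 F 3 →* Matrix (Fin 3) (Fin 3) K9 :=
    { toFun := fun s => (φ.symm : F →+* K9).mapMatrix s.1.1
      map_one' := by simp
      map_mul' := fun s t => by simp }
  have hf : Function.Injective f := fun s t h =>
    Subtype.ext (Subtype.ext (Matrix.map_injective φ.symm.injective h))
  have hfa : f sa = gA := by
    show (φ.symm : F →+* K9).mapMatrix sa.1.1 = gA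
    rw [hsa]; exact Matrix.ext fun i j => by simp
  have hfb : f sb = gB := by
    show (φ.symm : F →+* K9).mapMatrix sb.1.1 = gB
    rw [hsb]; exact Matrix.ext fun i j => by simp
  have hne : sa ≠ 1 := fun h => absurd (hfa ▸ h ▸ map_one f) (by decide +kernel)
  refine ⟨(Subgroup.closure {sa, sb}).map e.symm.toMonoidHom, ?_, ?_⟩
  · rw [Subgroup.card_map_of_injective e.symm.injective]
    exact card_closure f hf hfa hfb
  · intro hs
    apply not_isSolvable_closure hne (hf (by rw [map_pow, hfa, hA2, map_one]))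
      (hf (by rw [map_pow, hfb, hB3, map_one]))
      (hf (by rw [map_pow, map_mul, hfa, hfb, hAB7, map_one]))
    haveI := hs
    exact Group.isSolvable_of_isSolvable_injective
      (f := ((Subgroup.closure {sa, sb}).equivMapOfInjective e.symm.toMonoidHom
        e.symm.injective).toMonoidHom) (MulEquiv.injective _)

end CfsgLib.Techniques.PSUThreeSeven
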