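import Mathlib.GroupTheory.Sylow
import Mathlib.GroupTheory.Solvable
import Mathlib.GroupTheory.Coset.Card
import Mathlib.Algebra.Polynomial.AlgebraMap
import Mathlib.Algebra.CharP.Lemmas
import Mathlib.Algebra.Field.ZMod
import Mathlib.Data.Matrix.Basic

/-!
Automorphisms fixing an element of prime order which is regular in a faithful action of prime
degree commute with each other.
-/

set_option autoImplicit false

namespace CfsgLib.Techniques.PrimeDegreeAut

open Finset

variable {G Ω : Type*} [Group G] [MulAction G Ω] [Fintype Ω] [DecidableEq Ω] {p : ℕ} [Fact p.Prime]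

/-- The permutation matrix of a group element. -/
def rho (p : ℕ) (Ω : Type*) [MulAction G Ω] [DecidableEq Ω] (g : G) : Matrix Ω Ω (ZMod p) :=
  Matrix.of fun i j => if i = g • j then 1 else 0

theorem rho_mul_apply (g : G) (M : Matrix Ω Ω (ZMod p)) (i j : Ω) :
    (rho p Ω g * M) i j = M (g⁻¹ • i) j := by
  rw [Matrix.mul_apply, Finset.sum_eq_single (g⁻¹ • i)]
  · simp [rho]
  · intro b _ hb
    have hne : i ≠ g • b := fun e => hb (by rw [e, inv_smul_smul])
    simp [rho, hne]
  · intro h
    exact absurd (Finset.mem_univ _) h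

theorem mul_rho_apply (g : G) (M : Matrix Ω Ω (ZMod p)) (i j : Ω) :
    (M * rho p Ω g) i j = M i (g • j) := by
  rw [Matrix.mul_apply, Finset.sum_eq_single (g • j)]
  · simp [rho]
  · intro b _ hb
    simp [rho, hb]
  · intro h
    exact absurd (Finset.mem_univ _) h

theorem rho_mul (g h : G) : rho p Ω (g * h) = rho p Ω g * rho p Ω h := by
  ext i j
  rw [rho_mul_apply]
  simp [rho, mul_smul, inv_smul_eq_iff]

theorem rho_pow (g : G) (n : ℕ) : rho p Ω (g ^ n) = rho p Ω g ^ n := by
  induction n with
  | zero =>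
    ext i j
    simp [rho, Matrix.one_apply]
  | succ n ih => rw [pow_succ, rho_mul, ih, pow_succ]

theorem rho_injective [FaithfulSMul G Ω] : Function.Injective (rho p Ω : G → Matrix Ω Ω (ZMod p)) := by
  intro g h e
  refine eq_of_smul_eq_smul (α := Ω) fun j => ?_
  have h1 : rho p Ω g (g • j) j = rho p Ω h (g • j) j := by rw [e]
  by_contra hne
  simp [rho, hne] at h1

variable [Finite G] (hp2 : ¬ p ^ 2 ∣ Nat.card G) (hcard : Fintype.card Ω = p)
  (π : G) (hπ : orderOf π = p) (a : Ω)
  (hreg : ∀ ω : Ω, ∃ n, n < p ∧ π ^ n • a = ω)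

include hp2 hcard hπ hreg in
theorem exists_intertwiner (x : MulAut G) (hx : x π = π) :
    ∃ q : Polynomial (ZMod p), IsUnit (Polynomial.aeval (rho p Ω π) q) ∧
      ∀ g : G, rho p Ω (x g) * Polynomial.aeval (rho p Ω π) q =
        Polynomial.aeval (rho p Ω π) q * rho p Ω g := by
  classical
  let R : Ω → Ω → Prop := fun i j => ∃ g : G, i = (x g) • a ∧ j = g • a
  have hR : ∀ (g : G) (i j : Ω), R ((x g) • i) (g • j) ↔ R i j := by
    intro g i j
    constructor
    · rintro ⟨h, h1, h2⟩
      refine ⟨g⁻¹ * h, ?_, ?_⟩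
      · rw [map_mul, mul_smul, ← h1, map_inv, inv_smul_smul]
      · rw [mul_smul, ← h2, inv_smul_smul]
    · rintro ⟨h, rfl, rfl⟩
      exact ⟨g * h, by rw [map_mul, mul_smul], by rw [mul_smul]⟩
  have hinj : ∀ m n, m < p → n < p → π ^ m • a = π ^ n • a → m = n := by
    intro m n hm hn e
    have hsurj : Function.Surjective fun k : Fin p => π ^ (k : ℕ) • a := fun ω => by
      obtain ⟨k, hk, e⟩ := hreg ω
      exact ⟨⟨k, hk⟩, e⟩
    have hbij := (Fintype.bijective_iff_surjective_and_card _).2
      ⟨hsurj, by rw [Fintype.card_fin, hcard]⟩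
    exact congrArg Fin.val (@hbij.1 ⟨m, hm⟩ ⟨n, hn⟩ e)
  set S := (Finset.range p).filter fun n => R (π ^ n • a) a with hS
  set q : Polynomial (ZMod p) := ∑ n ∈ S, Polynomial.X ^ n with hq
  have hM : ∀ i j, Polynomial.aeval (rho p Ω π) q i j = if R i j then 1 else 0 := by
    intro i j
    rw [hq, map_sum, Matrix.sum_apply]
    simp only [map_pow, Polynomial.aeval_X, ← rho_pow]
    obtain ⟨m, hm, rfl⟩ := hreg j
    obtain ⟨k, hk, hki⟩ := hreg ((π ^ m)⁻¹ • i)
    have hi : i = π ^ k • π ^ m • a := by
      rw [← mul_smul, ← pow_add, add_comm, pow_add, mul_smul, hki, smul_inv_smul]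
    have hxm : x (π ^ m) = π ^ m := by rw [map_pow, hx]
    have hiff : R i (π ^ m • a) ↔ R (π ^ k • a) a := by
      rw [hi, ← mul_smul, ← pow_add, add_comm, pow_add, mul_smul]
      nth_rewrite 1 [← hxm]
      exact hR _ _ _
    by_cases hkS : k ∈ S
    · rw [Finset.sum_eq_single_of_mem k hkS]
      · have h1 : R i (π ^ m • a) := hiff.2 (Finset.mem_filter.1 hkS).2
        simp [rho, hi.symm, h1]
      · intro n hn hne
        have hne2 : i ≠ π ^ n • π ^ m • a := by
          intro e
          apply hne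
          refine hinj n k (Finset.mem_range.1 (Finset.mem_filter.1 hn).1) hk
            (smul_left_cancel (π ^ m) ?_)
          rw [← mul_smul, ← mul_smul, ← pow_add, ← pow_add, add_comm m n, add_comm m k, pow_add,
            pow_add, mul_smul, mul_smul, ← e, ← hi]
        simp [rho, hne2]
    · have h1 : ¬ R i (π ^ m • a) := fun h =>
        hkS (Finset.mem_filter.2 ⟨Finset.mem_range.2 hk, hiff.1 h⟩)
      rw [if_neg h1]
      refine Finset.sum_eq_zero fun n hn => ?_
      have hne2 : i ≠ π ^ n • π ^ m • a := by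
        intro e
        apply hkS
        refine (hinj n k (Finset.mem_range.1 (Finset.mem_filter.1 hn).1) hk
            (smul_left_cancel (π ^ m) ?_)) ▸ hn
        rw [← mul_smul, ← mul_smul, ← pow_add, ← pow_add, add_comm m n, add_comm m k, pow_add,
          pow_add, mul_smul, mul_smul, ← e, ← hi]
      simp [rho, hne2]
  refine ⟨q, ?_, fun g => ?_⟩
  · have h0 : 0 ∈ S := Finset.mem_filter.2 ⟨Finset.mem_range.2 (Fact.out : p.Prime).pos,
      ⟨1, by simp, by simp⟩⟩
    have hlt : S.card < p := by
      by_contra hc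
      push Not at hc
      have hall : S = Finset.range p := Finset.eq_of_subset_of_card_le (Finset.filter_subset _ _)
        (by rw [Finset.card_range]; exact hc)
      apply hp2
      let K : Subgroup G :=
        (MulAction.stabilizer G a).comap x.toMonoidHom ⊓ MulAction.stabilizer G a
      have hfull : ∀ i j, R i j := by
        intro i j
        obtain ⟨m, hm, rfl⟩ := hreg j
        obtain ⟨k, hk, hki⟩ := hreg ((π ^ m)⁻¹ • i)
        have hxm : x (π ^ m) = π ^ m := by rw [map_pow, hx]
        have h2 : R (π ^ k • a) a := by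
          have : k ∈ S := hall.symm ▸ Finset.mem_range.2 hk
          exact (Finset.mem_filter.1 this).2
        have h3 := (hR (π ^ m) _ _).2 h2
        rwa [hxm, hki, smul_inv_smul] at h3
      let f : G → Ω × Ω := fun g => ((x g) • a, g • a)
      have hf : ∀ g h, f g = f h ↔ g⁻¹ * h ∈ K := by
        intro g h
        simp only [f, K, Prod.mk.injEq, Subgroup.mem_inf, Subgroup.mem_comap,
          MulAction.mem_stabilizer_iff, MulEquiv.toMonoidHom_eq_coe, MonoidHom.coe_coe, map_mul,
          map_inv, mul_smul, inv_smul_eq_iff]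
        exact ⟨fun e => ⟨e.1.symm, e.2.symm⟩, fun e => ⟨e.1.symm, e.2.symm⟩⟩
      have hidx : K.index = p ^ 2 := by
        rw [Subgroup.index_eq_card]
        refine (Nat.card_eq_of_bijective
          (Quotient.lift f fun g h e => (hf g h).2 (QuotientGroup.leftRel_apply.1 e)) ⟨?_, ?_⟩).trans ?_
        · rintro ⟨g⟩ ⟨h⟩ e
          exact QuotientGroup.eq.2 ((hf g h).1 e)
        · rintro ⟨i, j⟩
          obtain ⟨g, h1, h2⟩ := hfull i j
          exact ⟨QuotientGroup.mk g, Prod.ext h1.symm h2.symm⟩
        · rw [Nat.card_prod, Nat.card_eq_fintype_card, hcard, pow_two]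
      rw [← hidx]
      exact Subgroup.index_dvd_card K
    have hs : ((S.card : ℕ) : ZMod p) ≠ 0 := fun e => by
      have h1 := (ZMod.natCast_eq_zero_iff _ _).1 e
      have h2 := Nat.le_of_dvd (Finset.card_pos.2 ⟨0, h0⟩) h1
      omega
    have hu : IsUnit (Polynomial.aeval (rho p Ω π) q ^ p) := by
      rw [← map_pow, hq, sum_pow_char, map_sum]
      have : ∀ n ∈ S, Polynomial.aeval (rho p Ω π) ((Polynomial.X ^ n) ^ p : Polynomial (ZMod p)) = 1 := by
        intro n _
        have h1 : rho p Ω π ^ p = (1 : Matrix Ω Ω (ZMod p)) := by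
          have hπp : π ^ p = 1 := by rw [← hπ, pow_orderOf_eq_one]
          rw [← rho_pow, hπp]
          ext i j
          simp [rho, Matrix.one_apply]
        rw [map_pow, map_pow, Polynomial.aeval_X, ← pow_mul, mul_comm, pow_mul, h1, one_pow]
      rw [Finset.sum_congr rfl this, Finset.sum_const, nsmul_eq_mul, mul_one,
        ← map_natCast (algebraMap (ZMod p) (Matrix Ω Ω (ZMod p)))]
      exact (isUnit_iff_ne_zero.2 hs).map _
    exact (isUnit_pow_iff (Fact.out : p.Prime).ne_zero).1 hu
  · ext i j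
    rw [rho_mul_apply, mul_rho_apply, hM, hM]
    have h1 := hR g ((x g)⁻¹ • i) j
    rw [smul_inv_smul] at h1
    simp only [h1]

include hp2 hcard hπ hreg in
/-- Automorphisms fixing `π` commute. -/
theorem commute_of_fix [FaithfulSMul G Ω] (x y : MulAut G) (hx : x π = π) (hy : y π = π) (g : G) :
    x (y g) = y (x g) := by
  obtain ⟨q, hq, hq'⟩ := exists_intertwiner hp2 hcard π hπ a hreg x hx
  obtain ⟨r, hr, hr'⟩ := exists_intertwiner hp2 hcard π hπ a hreg y hy
  apply rho_injective (p := p) (Ω := Ω)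
  apply (hq.mul hr).mul_right_cancel
  have hc : Polynomial.aeval (rho p Ω π) q * Polynomial.aeval (rho p Ω π) r =
      Polynomial.aeval (rho p Ω π) r * Polynomial.aeval (rho p Ω π) q := by
    rw [← map_mul, ← map_mul, mul_comm]
  rw [← mul_assoc, hq', mul_assoc, hr', ← mul_assoc, hc, mul_assoc, ← hq', ← mul_assoc, ← hr', mul_assoc]

end CfsgLib.Techniques.PrimeDegreeAut
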