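import Mathlib
import Cfsg.Agent.Lib.OddOrder.SmallRank
import Cfsg.Agent.Lib.PGroups.UniqueOrderP
import Cfsg.Agent.Lib.PLocal.Constrained
import Cfsg.Agent.Lib.PLocal.Quadratic

/-!
# Chief factors of `p`-solvable groups of `p`-rank at most two
-/

set_option autoImplicit false
set_option linter.unusedSectionVars false

universe u

namespace CfsgLib.Techniques

open Cfsg Subgroup CfsgLib.Base
open scoped commutatorElement

variable {G : Type u} [Group G] [Finite G] {p : ℕ} [Fact p.Prime]

/-- In a `p`-group, `p` odd, whose elements of order `p` are central, equal `p`-th powers differ by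
an element of order `p`. -/
theorem div_pow_eq_one_of_pow_eq (hp : p ≠ 2) {C : Subgroup G} (hC : IsPGroup p C)
    (hcen : ∀ z ∈ C, z ^ p = 1 → z ∈ centralizer (C : Set G)) {x y : G} (hx : x ∈ C) (hy : y ∈ C)
    (he : x ^ p = y ^ p) : (x * y⁻¹) ^ p = 1 := by
  revert x y
  induction C using WellFoundedLT.induction with
  | _ C ih =>
  intro x y hx hy he
  have hsub : ∀ M : Subgroup G, M < C → ∀ {a b : G}, a ∈ M → b ∈ M → a ^ p = b ^ p →
      (a * b⁻¹) ^ p = 1 :=
    fun M hM => ih M hM (hC.to_le hM.le) fun z hz hzp =>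
      centralizer_le (show (M : Set G) ⊆ C from hM.le) (hcen z (hM.le hz) hzp)
  set P := Subgroup.closure ({x, y} : Set G) with hP
  have hPC : P ≤ C := (Subgroup.closure_le _).mpr (by rintro z (rfl | rfl) <;> assumption)
  rcases lt_or_eq_of_le hPC with hlt | hPeq
  · exact hsub P hlt (subset_closure (by simp)) (subset_closure (by simp)) he
  by_cases hxC : zpowers x = C
  · obtain ⟨j, rfl⟩ := mem_zpowers_iff.1 (hxC ▸ hy)
    have hc : Commute x (x ^ j)⁻¹ := ((Commute.refl x).zpow_right j).inv_right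
    rw [hc.mul_pow, inv_pow, ← he, mul_inv_cancel]
  -- a maximal subgroup of `C` containing `x`
  set x' : C := ⟨x, hx⟩
  have hne : zpowers x' ≠ ⊤ := fun h => hxC (by
    have := congrArg (Subgroup.map C.subtype) h
    rwa [MonoidHom.map_zpowers, ← MonoidHom.range_eq_map, range_subtype] at this)
  obtain ⟨M, hMc, hMx⟩ := (IsCoatomic.eq_top_or_exists_le_coatom (zpowers x')).resolve_left hne
  haveI : Group.IsNilpotent C := hC.isNilpotent
  haveI : M.Normal := Subgroup.NormalizerCondition.normal_of_coatom M Group.normalizerCondition_of_isNilpotent hMc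
  set M' := M.map C.subtype
  have hM'C : M' < C := by
    refine lt_of_le_of_ne (map_subtype_le M) fun h => hMc.1 ?_
    apply map_injective C.subtype_injective
    rw [← MonoidHom.range_eq_map, range_subtype]; exact h
  -- `x ^ p` is central
  have hxp : ∀ g ∈ C, g * x ^ p = x ^ p * g := by
    intro g hg
    have hle : P ≤ centralizer ({x ^ p} : Set G) := (Subgroup.closure_le _).mpr (by
      intro z hz
      rcases hz with h | h
      · subst h; exact mem_centralizer_singleton_iff.mpr ((Commute.self_pow z p).eq)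
      · rw [Set.mem_singleton_iff] at h
        subst h
        exact mem_centralizer_singleton_iff.mpr (by rw [he]; exact (Commute.self_pow z p).eq))
    rw [hPeq] at hle
    exact mem_centralizer_singleton_iff.mp (hle hg)
  have hxy : ⁅y, x⁆ ∈ centralizer (C : Set G) ∧ ⁅y, x⁆ ∈ C ∧ ⁅y, x⁆ ^ p = 1 := by
    have hc : y * x * y⁻¹ ∈ M' := ⟨⟨y, hy⟩ * x' * ⟨y, hy⟩⁻¹,
      Normal.conj_mem inferInstance _ (hMx (mem_zpowers x')) _, rfl⟩
    have h1 := hsub M' hM'C hc (mem_map_of_mem C.subtype (hMx (mem_zpowers x')))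
      (by rw [conj_pow, hxp y hy, mul_inv_cancel_right]; rfl)
    have h2 : ⁅y, x⁆ ∈ C := mul_mem (mul_mem (mul_mem hy hx) (inv_mem hy)) (inv_mem hx)
    have h1' : ⁅y, x⁆ ^ p = 1 := h1
    exact ⟨hcen _ h2 h1', h2, h1'⟩
  -- `C` has class two
  set y' : C := ⟨y, hy⟩
  have hcc : ⁅y'⁻¹, x'⁆ ∈ center C := by
    have h : ⁅y', x'⁆ ∈ center C := mem_center_iff.mpr fun z => Subtype.ext
      (mem_centralizer_iff.mp hxy.1 z z.2)
    have e : ⁅y'⁻¹, x'⁆ = y'⁻¹ * ⁅y', x'⁆⁻¹ * y' := by group
    rw [e]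
    simpa using Subgroup.Normal.conj_mem inferInstance _ (inv_mem h) y'⁻¹
  have hpow : (⁅y'⁻¹, x'⁆) ^ p = 1 := by
    have e : ⁅y'⁻¹, x'⁆ = y'⁻¹ * ⁅y', x'⁆⁻¹ * y'⁻¹⁻¹ := by group
    rw [e, conj_pow, inv_pow]
    have : ⁅y', x'⁆ ^ p = 1 := Subtype.ext (by simpa [commutatorElement_def] using hxy.2.2)
    rw [this]; simp
  have h := CfsgLib.PGroups.mul_pow_of_central hcc p
  have hch : (⁅y'⁻¹, x'⁆) ^ p.choose 2 = 1 := by
    obtain ⟨j, hj⟩ := (Fact.out : p.Prime).dvd_choose_self (by norm_num : 2 ≠ 0)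
      (lt_of_le_of_ne (Fact.out : p.Prime).two_le (Ne.symm hp))
    rw [hj, pow_mul, hpow, one_pow]
  rw [hch, mul_one] at h
  have h' := congrArg Subtype.val h
  simp only [SubgroupClass.coe_pow, MulMemClass.coe_mul, InvMemClass.coe_inv, inv_pow] at h'
  simp only [x', y'] at h'
  rw [h', he, mul_inv_cancel]

/-- Thompson's bound for the Frattini quotient. -/
theorem relIndex_le_card_omega (hp : p ≠ 2) {C Ω U : Subgroup G} (hC : IsPGroup p C)
    (hcen : ∀ z ∈ C, z ^ p = 1 → z ∈ centralizer (C : Set G))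
    (hΩ : ∀ z ∈ C, z ^ p = 1 → z ∈ Ω) (hU : ∀ z ∈ C, z ^ p ∈ U) :
    U.relIndex C ≤ Nat.card Ω := by
  classical
  haveI : Fintype C := Fintype.ofFinite _
  set U' := U.subgroupOf C
  haveI : Fintype U' := Fintype.ofFinite _
  haveI : Fintype Ω := Fintype.ofFinite _
  let f : C → U' := fun z => ⟨z ^ p, show ((z ^ p : C) : G) ∈ U by simpa using hU z z.2⟩
  have hfib : ∀ w : U', (Finset.univ.filter fun z => f z = w).card ≤ Nat.card Ω := by
    intro w
    rw [Nat.card_eq_fintype_card]
    by_cases hw : ∃ z₀, f z₀ = w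
    · obtain ⟨z₀, hz₀⟩ := hw
      have key : ∀ z, f z = w → (z : G) * (z₀ : G)⁻¹ ∈ Ω := fun z hz => by
        have e : (z : G) ^ p = (z₀ : G) ^ p := by
          have := congrArg (fun t : U' => ((t : C) : G)) (hz.trans hz₀.symm)
          simpa [f] using this
        exact hΩ _ (mul_mem z.2 (inv_mem z₀.2)) (div_pow_eq_one_of_pow_eq hp hC hcen z.2 z₀.2 e)
      refine le_trans ?_ (le_of_eq Finset.card_univ)
      refine Finset.card_le_card_of_injOn
        (fun z => if h : (z : G) * (z₀ : G)⁻¹ ∈ Ω then (⟨_, h⟩ : Ω) else 1) (by simp) ?_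
      intro a ha b hb hab
      have ha' := key a (by simpa using ha)
      have hb' := key b (by simpa using hb)
      simp only [dif_pos ha', dif_pos hb', Subtype.mk.injEq, mul_left_inj] at hab
      exact Subtype.ext hab
    · rw [Finset.filter_eq_empty_iff.mpr fun z _ h => hw ⟨z, h⟩]
      simp
  have h1 := Finset.card_le_mul_card_image_of_maps_to (f := f) (s := Finset.univ)
    (t := Finset.univ) (fun _ _ => Finset.mem_univ _) (Nat.card Ω) (fun w _ => hfib w)
  rw [Finset.card_univ, Finset.card_univ, ← Nat.card_eq_fintype_card, ← Nat.card_eq_fintype_card] at h1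
  rw [Subgroup.relIndex]
  have h2 : Nat.card U' * U'.index = Nat.card C := U'.card_mul_index
  rw [← h2, mul_comm (Nat.card Ω) _] at h1
  exact Nat.le_of_mul_le_mul_left h1 Nat.card_pos

theorem sq_not_dvd_card_gl2 : ¬ p ^ 2 ∣ Nat.card (Matrix (Fin 2) (Fin 2) (ZMod p))ˣ := by
  have hp : p.Prime := Fact.out
  rw [Matrix.card_GL_field (n := 2), Fin.prod_univ_two, Fintype.card_eq_nat_card, Nat.card_zmod]
  simp only [Fin.val_zero, pow_zero, Fin.val_one, pow_one]
  have e : p ^ 2 - p = p * (p - 1) := by rw [Nat.mul_sub_one, pow_two]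
  rw [e, ← mul_assoc, mul_comm (p ^ 2 - 1) p, mul_assoc, pow_two p]
  intro h
  rw [Nat.mul_dvd_mul_iff_left hp.pos] at h
  rcases hp.dvd_mul.mp h with h | h
  · have : p ∣ p * p := dvd_mul_right p p
    have h' := Nat.dvd_sub this h
    have hpp : 1 ≤ p * p := Nat.mul_pos hp.pos hp.pos
    rw [Nat.sub_sub_self hpp] at h'
    exact hp.one_lt.ne' (Nat.eq_one_of_dvd_one h')
  · have h2 := hp.two_le
    have := Nat.le_of_dvd (by omega) h
    omega

/-- A `p`-subgroup acting on a group of exponent `p` and order at most `p²`: the kernel has index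
at most `p`. -/
theorem relIndex_ker_le {V : Type*} [CommGroup V] [Finite V] (hV : ∀ v : V, v ^ p = 1)
    (hcard : Nat.card V ≤ p ^ 2) {H : Type*} [Group H] [Finite H] (hH : IsPGroup p H)
    (α : H →* MulAut V) : α.ker.index ≤ p := by
  obtain ⟨φ, hφ⟩ := CfsgLib.OddOrder.exists_gl2_of_action hV hcard α
  set ψ := φ.toHomUnits
  have hle : ψ.ker ≤ α.ker := fun h hh => by
    have : φ h = 1 := by simpa [ψ] using congrArg Units.val (MonoidHom.mem_ker.mp hh)
    exact MonoidHom.mem_ker.mpr (hφ h this)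
  refine le_trans (Nat.le_of_dvd ?_ (index_dvd_of_le hle)) ?_
  · exact Nat.pos_of_ne_zero index_ne_zero_of_finite
  rw [index_ker]
  obtain ⟨n, hn⟩ := IsPGroup.iff_card.mp (hH.of_surjective ψ.rangeRestrict ψ.rangeRestrict_surjective)
  have hdvd : Nat.card ψ.range ∣ Nat.card (Matrix (Fin 2) (Fin 2) (ZMod p))ˣ :=
    Subgroup.card_subgroup_dvd_card _
  rcases Nat.lt_or_ge n 2 with h | h
  · rw [hn]
    calc p ^ n ≤ p ^ 1 := Nat.pow_le_pow_right (Fact.out : p.Prime).pos (by omega)
      _ = p := pow_one p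
  · exact absurd ((pow_dvd_pow p h).trans (hn ▸ hdvd)) sq_not_dvd_card_gl2

/-- The chief factors below a normal `p`-subgroup of rank at most two. -/
theorem relIndex_le_sq_of_chief (hp : p ≠ 2) (H K : Subgroup G) [hHn : H.Normal] [hKn : K.Normal]
    (hKH : K < H) (hH : IsPGroup p H) (hr : PRankLE p 2 H)
    (hchief : ∀ L : Subgroup G, L.Normal → K ≤ L → L ≤ H → L = K ∨ L = H) :
    K.relIndex H ≤ p ^ 2 := by
  classical
  have hpp : p.Prime := Fact.out
  have hp1 : p ≤ p ^ 2 := Nat.le_self_pow (by norm_num) p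
  have hnorm : ∀ X Y : Subgroup G, X ≤ normalizer (Y : Set G) → ∀ g ∈ X, ∀ y ∈ Y, g * y * g⁻¹ ∈ Y :=
    fun X Y h g hg y hy => (mem_normalizer_iff.mp (h hg) y).mp hy
  -- the factor is elementary abelian
  set KH := K.subgroupOf H
  haveI : Group.IsNilpotent H := hH.isNilpotent
  have hHK : ¬ H ≤ K := fun h => hKH.not_ge h
  obtain ⟨hderiv, hpw⟩ : ⁅H, H⁆ ≤ K ∧ ∀ h ∈ H, h ^ p ∈ K := by
    have hF : ((frattini H).map H.subtype) ≤ K := by
      rcases hchief (K ⊔ (frattini H).map H.subtype) inferInstance le_sup_left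
        (sup_le hKH.le (map_subtype_le _)) with h | h
      · exact h ▸ le_sup_right
      · exfalso
        apply hHK
        have h1 : KH ⊔ frattini H = ⊤ := by
          apply map_injective H.subtype_injective
          rw [Subgroup.map_sup, map_subgroupOf_eq_of_le hKH.le, h, ← MonoidHom.range_eq_map,
            range_subtype]
        exact subgroupOf_eq_top.mp (frattini_nongenerating h1)
    refine ⟨?_, fun h hh => hF ⟨⟨h, hh⟩ ^ p, ?_, by simp⟩⟩
    · rw [← map_subtype_commutator]
      exact (map_mono (CfsgLib.PGroups.commutator_le_frattini hH)).trans hF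
    · exact CfsgLib.PGroups.pow_mem_frattini hH _
  have hmove : ∀ X : Subgroup G, X.Normal → X ≤ H → ¬ X ≤ K → K.relIndex H = K.relIndex X := by
    intro X hX hXH hXK
    rcases hchief (K ⊔ X) inferInstance le_sup_left (sup_le hKH.le hXH) with h | h
    · exact absurd (h ▸ le_sup_right) hXK
    · rw [← h, sup_comm, relIndex_sup_right]
  obtain ⟨T, hTc, -, hTR, hTC⟩ := CfsgLib.PGroups.exists_critical hH
  haveI := hTc
  set T' := T.map H.subtype with hT'
  haveI hT'n : T'.Normal := inferInstance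
  have hT'H : T' ≤ H := map_subtype_le T
  have hT'comm : ∀ a ∈ T', ∀ b ∈ H, ⁅a, b⁆ ∈ T' ∧ ∀ c ∈ T', c * ⁅a, b⁆ = ⁅a, b⁆ * c := by
    rintro _ ⟨a, ha, rfl⟩ b hb
    have h := hTR (commutator_mem_commutator ha (mem_top ⟨b, hb⟩))
    refine ⟨⟨_, (mem_inf.mp h).1, rfl⟩, ?_⟩
    rintro _ ⟨c, hc, rfl⟩
    exact congrArg Subtype.val (mem_centralizer_iff.mp (mem_inf.mp h).2 c hc)
  have hT'C : H ⊓ centralizer (T' : Set G) ≤ T' := by
    rintro x ⟨hx, hxc⟩
    exact ⟨⟨x, hx⟩, hTC (mem_centralizer_iff.mpr fun t ht =>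
      Subtype.ext (mem_centralizer_iff.mp hxc t (mem_map_of_mem H.subtype ht))), rfl⟩
  have hcl : ∀ a ∈ T', ∀ b ∈ T', ∀ c ∈ T', c * ⁅a, b⁆ = ⁅a, b⁆ * c :=
    fun a ha b hb => (hT'comm a ha b (hT'H hb)).2
  let D : Subgroup G :=
    { carrier := {x | x ∈ T' ∧ x ^ p = 1}
      one_mem' := ⟨one_mem _, one_pow _⟩
      mul_mem' := by
        rintro a b ⟨ha, hap⟩ ⟨hb, hbp⟩
        refine ⟨mul_mem ha hb, ?_⟩
        have := CfsgLib.PGroups.mul_pow_eq_one_of_odd (G := T') (a := ⟨a, ha⟩) (b := ⟨b, hb⟩)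
          (mem_center_iff.mpr fun c => Subtype.ext (hcl b hb a ha c c.2))
          (hpp.odd_of_ne_two hp) (n := p) (Subtype.ext (by simpa using hap))
          (Subtype.ext (by simpa using hbp))
        simpa using congrArg Subtype.val this
      inv_mem' := fun {a} ha => ⟨inv_mem ha.1, by rw [inv_pow, ha.2, inv_one]⟩ }
  have hDT : D ≤ T' := fun x hx => hx.1
  have hDH : D ≤ H := hDT.trans hT'H
  have hDp : ∀ x ∈ D, x ^ p = 1 := fun x hx => hx.2
  haveI hDn : D.Normal := ⟨fun x hx g => ⟨Normal.conj_mem hT'n x hx.1 g, by rw [conj_pow, hx.2]; simp⟩⟩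
  by_cases hD2 : Nat.card D ≤ p
  · -- `T'` is cyclic
    have hTp : IsPGroup p T' := hH.to_le hT'H
    have hcyc : IsCyclic T' := by
      by_cases hbot : ∀ x : T', x ^ p = 1 → x = 1
      · have : Subsingleton T' := by
          rw [subsingleton_iff_forall_eq 1]
          intro x
          by_contra hx
          obtain ⟨n, hn⟩ := hTp x
          revert x
          induction n with
          | zero => intro x hx hn; exact hx (by simpa using hn)
          | succ n ih =>
            intro x hx hn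
            have h1 : (x ^ p) ^ p ^ n = 1 := by rw [← pow_mul, ← pow_succ']; exact hn
            by_cases h2 : x ^ p = 1
            · exact hx (hbot x h2)
            · exact ih (x ^ p) h2 h1
        infer_instance
      push Not at hbot
      obtain ⟨z, hzp, hz1⟩ := hbot
      have huniq : ∀ x : T', x ^ p = 1 → x ∈ zpowers z := by
        intro x hx
        have hz' : orderOf (z : G) = p := by rw [orderOf_coe]; exact orderOf_eq_prime hzp hz1
        have hle : zpowers (z : G) ≤ D :=
          zpowers_le.mpr ⟨z.2, by simpa using congrArg Subtype.val hzp⟩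
        have heq := eq_of_le_of_card_ge hle (by rw [Nat.card_zpowers, hz']; exact hD2)
        have hxD : (x : G) ∈ zpowers (z : G) :=
          heq ▸ (show (x : G) ∈ D from ⟨x.2, by simpa using congrArg Subtype.val hx⟩)
        obtain ⟨j, hj⟩ := mem_zpowers_iff.mp hxD
        exact mem_zpowers_iff.mpr ⟨j, Subtype.ext (by simpa using hj)⟩
      exact (CfsgLib.PGroups.isCyclic_or_quaternion_of_unique hTp hzp huniq).resolve_right (fun h => hp h.1)
    by_cases hTK : T' ≤ K
    · -- `H / K` is a quotient of a group of automorphisms of a cyclic group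
      let α : H →* MulAut T' := (MulAut.conjNormal (H := T')).comp H.subtype
      have hker : α.ker ≤ KH := by
        intro h hh
        refine hTK (hT'C (mem_inf.mpr ⟨h.2, mem_centralizer_iff.mpr fun t ht => ?_⟩))
        have := congrArg Subtype.val (DFunLike.congr_fun (MonoidHom.mem_ker.mp hh) ⟨t, ht⟩)
        simp only [α, MonoidHom.comp_apply, MulAut.conjNormal_apply, MulAut.one_apply] at this
        exact (mul_inv_eq_iff_eq_mul.mp this).symm
      obtain ⟨n, hn⟩ := IsPGroup.iff_card.mp hTp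
      haveI := hcyc
      haveI : IsCyclic (MulAut T') := by
        haveI : IsCyclic (ZMod (Nat.card T'))ˣ := by rw [hn]; exact ZMod.isCyclic_units_of_prime_pow p hpp hp n
        exact isCyclic_of_injective (IsCyclic.mulAutMulEquiv T').toMonoidHom
          (IsCyclic.mulAutMulEquiv T').injective
      haveI : IsCyclic α.range := inferInstance
      haveI : IsCyclic (H ⧸ α.ker) := isCyclic_of_surjective
        (QuotientGroup.quotientKerEquivRange α).symm.toMonoidHom (QuotientGroup.quotientKerEquivRange α).symm.surjective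
      haveI : KH.Normal := inferInstance
      haveI : IsCyclic (H ⧸ KH) := isCyclic_of_surjective (QuotientGroup.map α.ker KH (MonoidHom.id H) hker)
        (by rintro ⟨h⟩; exact ⟨QuotientGroup.mk h, rfl⟩)
      obtain ⟨g, hg⟩ := IsCyclic.exists_generator (α := H ⧸ KH)
      refine le_trans ?_ hp1
      change KH.index ≤ p
      rw [Subgroup.index, ← orderOf_eq_card_of_forall_mem_zpowers hg]
      refine orderOf_le_of_pow_eq_one hpp.pos ?_
      induction g using QuotientGroup.induction_on with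
      | _ h => rw [← QuotientGroup.mk_pow, QuotientGroup.eq_one_iff]; exact mem_subgroupOf.mpr (by simpa using hpw h h.2)
    · rw [hmove T' hT'n hT'H hTK]
      haveI := hcyc
      haveI : IsCyclic (T' ⧸ K.subgroupOf T') :=
        isCyclic_of_surjective (QuotientGroup.mk' _) (QuotientGroup.mk'_surjective _)
      obtain ⟨g, hg⟩ := IsCyclic.exists_generator (α := T' ⧸ K.subgroupOf T')
      refine le_trans ?_ hp1
      change (K.subgroupOf T').index ≤ p
      rw [Subgroup.index, ← orderOf_eq_card_of_forall_mem_zpowers hg]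
      refine orderOf_le_of_pow_eq_one hpp.pos ?_
      induction g using QuotientGroup.induction_on with
      | _ h => rw [← QuotientGroup.mk_pow, QuotientGroup.eq_one_iff]; exact mem_subgroupOf.mpr (by simpa using hpw h (hT'H h.2))
  push Not at hD2
  have hrk : ∀ X : Subgroup G, X ≤ H → IsElementaryAbelian p X → Nat.card X ≤ p ^ 2 := by
    intro X hX hXe
    have := pRankLE_iff.1 hr (X.subgroupOf H) (isElementaryAbelian_iff.2 ⟨fun a ha b hb => Subtype.ext
      ((isElementaryAbelian_iff.1 hXe).1 a ha b hb), fun a ha =>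
      Subtype.ext (by simpa using (isElementaryAbelian_iff.1 hXe).2 a ha)⟩)
    rwa [card_subgroupOf hX] at this
  have hDexp : ∀ x : D, x ^ p = 1 := fun x => Subtype.ext (by simpa using hDp x x.2)
  have hDpg : IsPGroup p D := hH.to_le hDH
  have hab : Nat.card (Abelianization D) ≤ p ^ 2 :=
    CfsgLib.OddOrder.card_abelianization_le hDexp
      (pRankLE_of_injective (inclusion hDH) (inclusion_injective hDH) hr)
  by_cases hDK : D ≤ K
  swap
  · rw [hmove D hDn hDH hDK]
    refine le_trans ?_ hab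
    refine Nat.le_of_dvd Nat.card_pos (index_dvd_of_le ?_)
    rw [_root_.commutator_def, Subgroup.commutator_le]
    intro a _ b _
    exact mem_subgroupOf.mpr (by
      simpa [commutatorElement_def] using hderiv (commutator_mem_commutator (hDH a.2) (hDH b.2)))
  set C := H ⊓ centralizer (D : Set G) with hCdef
  haveI hCn : C.Normal := inferInstance
  -- a subgroup of order `p²` of `D`
  obtain ⟨E, hE, hEe, hE2⟩ : ∃ E ≤ D, IsElementaryAbelian p E ∧ Nat.card E = p ^ 2 := by
    obtain ⟨n, hn⟩ := IsPGroup.iff_card.mp hDpg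
    have hn2 : 2 ≤ n := by
      by_contra h
      rw [hn] at hD2
      have := (Nat.pow_lt_pow_iff_right hpp.one_lt).mp (show p ^ 1 < p ^ n by simpa using hD2)
      omega
    obtain ⟨E, hE⟩ := Sylow.exists_subgroup_card_pow_prime p (G := D) (n := 2) (hn ▸ pow_dvd_pow p hn2)
    refine ⟨E.map D.subtype, map_subtype_le E, isElementaryAbelian_iff.2 ⟨?_, fun a ha =>
      hDp a (map_subtype_le E ha)⟩, by rw [Subgroup.card_map_of_injective D.subtype_injective, hE]⟩
    haveI := IsPGroup.isMulCommutative_of_card_eq_prime_sq (p := p) (G := E) hE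
    rintro _ ⟨a, ha, rfl⟩ _ ⟨b, hb, rfl⟩
    exact congrArg (fun t : E => ((t : D) : G)) (IsMulCommutative.is_comm.comm (⟨a, ha⟩ : E) ⟨b, hb⟩)
  have hΩC : ∀ z ∈ C, z ^ p = 1 → z ∈ E := by
    intro z hz hzp
    have hB := isElementaryAbelian_sup hEe (isElementaryAbelian_zpowers hzp)
      (le_centralizer_iff.1 (zpowers_le.2 (centralizer_le (show (E : Set G) ⊆ D from hE) hz.2)))
    have h1 : E = E ⊔ zpowers z := eq_of_le_of_card_ge le_sup_left
      (hE2 ▸ hrk _ (sup_le (hE.trans hDH) (zpowers_le.mpr hz.1)) hB)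
    exact h1 ▸ mem_sup_right (mem_zpowers z)
  by_cases hCK : C ≤ K
  swap
  · rw [hmove C hCn inf_le_left hCK]
    refine le_trans (relIndex_le_card_omega hp (hH.to_le inf_le_left) ?_ hΩC fun z hz => hpw z hz.1) hE2.le
    intro z hz hzp
    exact mem_centralizer_iff.mpr fun c hc =>
      ((mem_centralizer_iff.mp hc.2) z (hE (hΩC z hz hzp))).symm
  -- the action on `D / D'`
  let α₀ : H →* MulAut D := (MulAut.conjNormal (H := D)).comp H.subtype
  let α : H →* MulAut (Abelianization D) :=
    MonoidHom.mk' (fun h => MulEquiv.abelianizationCongr (α₀ h)) (fun a b => by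
      refine MulEquiv.ext fun v => ?_
      induction v using QuotientGroup.induction_on with | _ x => ?_
      rw [map_mul]; rfl)
  set L := α.ker.map H.subtype with hL
  have hmemL : ∀ h ∈ L, ∀ d ∈ D, ⁅h, d⁆ ∈ ⁅D, D⁆ := by
    rintro _ ⟨h, hh, rfl⟩ d hd
    have h1 := DFunLike.congr_fun (MonoidHom.mem_ker.mp hh) (Abelianization.of (⟨d, hd⟩ : D))
    have h2 : (α₀ h ⟨d, hd⟩) * (⟨d, hd⟩ : D)⁻¹ ∈ commutator D := by
      rw [← div_eq_mul_inv, ← QuotientGroup.eq_iff_div_mem]
      exact h1
    rw [← map_subtype_commutator]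
    exact ⟨_, h2, by simp [α₀, commutatorElement_def, MulAut.conjNormal_apply]⟩
  have hidx : L.relIndex H ≤ p := by
    have : (L.subgroupOf H) = α.ker := comap_map_eq_self_of_injective H.subtype_injective _
    rw [Subgroup.relIndex, this]
    exact relIndex_ker_le (fun v => by
      induction v using QuotientGroup.induction_on with | _ x => ?_
      exact (map_pow Abelianization.of x p).symm.trans (by rw [hDexp x, map_one])) hab hH α
  by_cases hLK : L ≤ K
  · refine le_trans (le_trans (Nat.le_of_dvd ?_ ?_) hidx) hp1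
    · exact Nat.pos_of_ne_zero Subgroup.index_ne_zero_of_finite
    · exact relIndex_dvd_of_le_left H hLK
  exfalso
  apply hLK
  intro l hl
  have hlH : l ∈ H := map_subtype_le _ hl
  by_cases habD : ∀ a ∈ D, ∀ b ∈ D, a * b = b * a
  · refine hCK (mem_inf.mpr ⟨hlH, mem_centralizer_iff.mpr fun d hd => ?_⟩)
    have h0 : ⁅D, D⁆ = ⊥ := commutator_eq_bot_iff_le_centralizer.mpr fun a ha =>
      mem_centralizer_iff.mpr fun b hb => habD b hb a ha
    have := hmemL l hl d hd
    rw [h0, mem_bot, commutatorElement_eq_one_iff_mul_comm] at this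
    exact this.symm
  push Not at habD
  obtain ⟨a, ha, b, hb, hne⟩ := habD
  -- `D` is extraspecial of order `p³`
  set Z := D ⊓ centralizer (D : Set G) with hZ
  have hZe : IsElementaryAbelian p Z := isElementaryAbelian_iff.2
    ⟨fun x hx y hy => (mem_centralizer_iff.mp hy.2 x hx.1), fun x hx => hDp x hx.1⟩
  have haZ : a ∉ Z := fun h => hne ((mem_centralizer_iff.mp h.2 b hb).symm)
  have hZp : Nat.card Z ≤ p := by
    have hB := isElementaryAbelian_sup hZe (isElementaryAbelian_zpowers (hDp a ha))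
      (le_centralizer_iff.1 (zpowers_le.2 (mem_centralizer_iff.mpr fun z hz =>
        (mem_centralizer_iff.mp hz.2 a ha).symm)))
    have h1 := hrk _ (sup_le (inf_le_left.trans hDH) (zpowers_le.mpr (hDH ha))) hB
    have h2 : Nat.card Z < Nat.card ↥(Z ⊔ zpowers a) := by
      refine lt_of_le_of_ne (card_le_of_le le_sup_left) fun h => haZ ?_
      rw [eq_of_le_of_card_ge (le_sup_left : Z ≤ Z ⊔ zpowers a) h.ge]
      exact mem_sup_right (mem_zpowers a)
    obtain ⟨k, hk⟩ := IsPGroup.iff_card.mp (isPGroup_of_isElementaryAbelian hZe)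
    rw [hk] at h2 ⊢
    have := (Nat.pow_lt_pow_iff_right hpp.one_lt).mp (h2.trans_le h1)
    calc p ^ k ≤ p ^ 1 := Nat.pow_le_pow_right hpp.pos (by omega)
      _ = p := pow_one p
  have hDZ : ⁅D, D⁆ ≤ Z := commutator_le.mpr fun x hx y hy => mem_inf.mpr
    ⟨mul_mem (mul_mem (mul_mem hx hy) (inv_mem hx)) (inv_mem hy),
      mem_centralizer_iff.mpr fun c hc => hcl x (hDT hx) y (hDT hy) c (hDT hc)⟩
  set w := ⁅a, b⁆ with hw
  have hwZ : w ∈ Z := hDZ (commutator_mem_commutator ha hb)
  have hw1 : w ≠ 1 := fun h => hne (commutatorElement_eq_one_iff_mul_comm.mp h)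
  have hZw : ∀ z ∈ Z, ∃ j : ℤ, w ^ j = z := fun z hz => by
    have heq : zpowers w = Z := eq_of_le_of_card_ge (zpowers_le.mpr hwZ)
      (by rw [Nat.card_zpowers, orderOf_eq_prime (hDp w hwZ.1) hw1]; exact hZp)
    exact mem_zpowers_iff.mp (heq.symm ▸ hz)
  have hwc : ∀ x ∈ D, x * w = w * x := fun x hx => mem_centralizer_iff.mp hwZ.2 x hx
  have hcommb : ∀ i : ℤ, ⁅a, b ^ i⁆ = w ^ i := fun i => by
    have e : a * b * a⁻¹ = w * b := by rw [hw, commutatorElement_def]; group
    calc ⁅a, b ^ i⁆ = (a * b * a⁻¹) ^ i * (b ^ i)⁻¹ := by rw [commutatorElement_def, conj_zpow]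
      _ = (w * b) ^ i * (b ^ i)⁻¹ := by rw [e]
      _ = _ := by rw [(show Commute w b from (hwc b hb).symm).mul_zpow, mul_inv_cancel_right]
  have hcomma : ∀ i : ℤ, ⁅b, a ^ i⁆ = w ^ (-i) := fun i => by
    have e : b * a * b⁻¹ = w⁻¹ * a := by rw [hw, commutatorElement_def]; group
    calc ⁅b, a ^ i⁆ = (b * a * b⁻¹) ^ i * (a ^ i)⁻¹ := by rw [commutatorElement_def, conj_zpow]
      _ = (w⁻¹ * a) ^ i * (a ^ i)⁻¹ := by rw [e]
      _ = _ := by rw [(show Commute w⁻¹ a from (show Commute w a from (hwc a ha).symm).inv_left).mul_zpow,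
            mul_inv_cancel_right, inv_zpow, zpow_neg]
  -- correct `l` by an element of `D`
  obtain ⟨i, hi⟩ := hZw _ (hDZ (hmemL l hl a ha))
  obtain ⟨j, hj⟩ := hZw _ (hDZ (hmemL l hl b hb))
  have hla : l * a * l⁻¹ = w ^ i * a := by rw [hi, commutatorElement_def]; group
  have hlb : l * b * l⁻¹ = w ^ j * b := by rw [hj, commutatorElement_def]; group
  set d := a ^ j * b ^ (-i) with hd
  have hdD : d ∈ D := mul_mem (zpow_mem ha _) (zpow_mem hb _)
  have hwd : ∀ k : ℤ, ∀ x ∈ D, x * w ^ k = w ^ k * x := fun k x hx =>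
    (show Commute x w from hwc x hx).zpow_right k
  have hda : d * a * d⁻¹ = w ^ i * a := by
    have e1 : b ^ (-i) * a * (b ^ (-i))⁻¹ = w ^ i * a := by
      have := hcommb (-i)
      rw [commutatorElement_def] at this
      have h2 : a * b ^ (-i) * a⁻¹ = w ^ (-i) * b ^ (-i) := by rw [← this]; group
      calc b ^ (-i) * a * (b ^ (-i))⁻¹ = (w ^ (-i))⁻¹ * (a * b ^ (-i) * a⁻¹) * a * (b ^ (-i))⁻¹ := by
            rw [h2]; group
        _ = (w ^ (-i))⁻¹ * a := by group
        _ = _ := by rw [zpow_neg, inv_inv]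
    calc d * a * d⁻¹ = a ^ j * (b ^ (-i) * a * (b ^ (-i))⁻¹) * (a ^ j)⁻¹ := by rw [hd]; group
      _ = a ^ j * w ^ i * a * (a ^ j)⁻¹ := by rw [e1]; group
      _ = w ^ i * (a ^ j * a * (a ^ j)⁻¹) := by rw [hwd i _ (zpow_mem ha j)]; group
      _ = _ := by group
  have hdb : d * b * d⁻¹ = w ^ j * b := by
    have e1 : a ^ j * b * (a ^ j)⁻¹ = w ^ j * b := by
      have := hcomma j
      rw [commutatorElement_def] at this
      have h2 : b * a ^ j * b⁻¹ = w ^ (-j) * a ^ j := by rw [← this]; group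
      calc a ^ j * b * (a ^ j)⁻¹ = (w ^ (-j))⁻¹ * (b * a ^ j * b⁻¹) * b * (a ^ j)⁻¹ := by
            rw [h2]; group
        _ = (w ^ (-j))⁻¹ * b := by group
        _ = _ := by rw [zpow_neg, inv_inv]
    calc d * b * d⁻¹ = a ^ j * (b ^ (-i) * b * (b ^ (-i))⁻¹) * (a ^ j)⁻¹ := by rw [hd]; group
      _ = a ^ j * b * (a ^ j)⁻¹ := by group
      _ = _ := e1
  set m := d⁻¹ * l with hm
  have hma : m * a * m⁻¹ = a := by
    calc m * a * m⁻¹ = d⁻¹ * (l * a * l⁻¹) * d := by rw [hm]; group
      _ = d⁻¹ * (d * a * d⁻¹) * d := by rw [hla, hda]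
      _ = a := by group
  have hmb : m * b * m⁻¹ = b := by
    calc m * b * m⁻¹ = d⁻¹ * (l * b * l⁻¹) * d := by rw [hm]; group
      _ = d⁻¹ * (d * b * d⁻¹) * d := by rw [hlb, hdb]
      _ = b := by group
  have hgen : D ≤ Subgroup.closure ({a, b} : Set G) := by
    set D₂ := Subgroup.closure ({a, b} : Set G)
    have haD₂ : a ∈ D₂ := subset_closure (by simp)
    have hbD₂ : b ∈ D₂ := subset_closure (by simp)
    have hle : D₂ ≤ D := (Subgroup.closure_le _).mpr (by rintro z (rfl | rfl) <;> assumption)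
    have hwD₂ : w ∈ D₂ := mul_mem (mul_mem (mul_mem haD₂ hbD₂) (inv_mem haD₂)) (inv_mem hbD₂)
    obtain ⟨k, hk⟩ := IsPGroup.iff_card.mp (hDpg.to_le hle)
    have hk3 : 3 ≤ k := by
      by_contra hlt
      haveI : IsMulCommutative D₂ := by
        rcases Nat.lt_or_ge k 2 with h | h
        · have : IsCyclic D₂ := by
            interval_cases k
            · haveI : Subsingleton D₂ := (Nat.card_eq_one_iff_unique.mp (by simpa using hk)).1
              infer_instance
            · exact isCyclic_of_prime_card (by simpa using hk)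
          exact IsCyclic.isMulCommutative
        · exact IsPGroup.isMulCommutative_of_card_eq_prime_sq (show Nat.card D₂ = p ^ 2 by
            rw [hk]; congr 1; omega)
      exact hne (congrArg Subtype.val
        (IsMulCommutative.is_comm.comm (⟨a, haD₂⟩ : D₂) ⟨b, hbD₂⟩))
    have hDcard : Nat.card D ≤ p ^ 3 := by
      have h1 : Nat.card (commutator D) * Nat.card (Abelianization D) = Nat.card D :=
        (commutator D).card_mul_index
      have h2 : Nat.card (commutator D) ≤ p := by
        refine le_trans ?_ hZp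
        rw [← Subgroup.card_map_of_injective D.subtype_injective, map_subtype_commutator]
        exact card_le_of_le hDZ
      rw [← h1]
      calc Nat.card (commutator D) * Nat.card (Abelianization D) ≤ p * p ^ 2 := Nat.mul_le_mul h2 hab
        _ = p ^ 3 := by ring
    exact (eq_of_le_of_card_ge hle (hDcard.trans (hk ▸ Nat.pow_le_pow_right hpp.pos hk3))).ge
  have hmC : m ∈ C := by
    refine mem_inf.mpr ⟨mul_mem (inv_mem (hDH hdD)) hlH, mem_centralizer_iff.mpr fun x hx => ?_⟩
    have hle : Subgroup.closure ({a, b} : Set G) ≤ centralizer ({m} : Set G) := by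
      refine (Subgroup.closure_le _).mpr ?_
      rintro z (rfl | rfl) <;> refine mem_centralizer_singleton_iff.mpr ?_
      · exact (mul_inv_eq_iff_eq_mul.mp hma).symm
      · exact (mul_inv_eq_iff_eq_mul.mp hmb).symm
    exact mem_centralizer_singleton_iff.mp (hle (hgen hx))
  have : d * m ∈ K := mul_mem (hDK hdD) (hCK hmC)
  rwa [hm, mul_inv_cancel_left] at this

theorem chief_factor_rank_two (hp : p ≠ 2) (hG : IsPSolvable p G) (hr : PRankLE p 2 G)
    (H K : Subgroup G) [H.Normal] [K.Normal] (hKH : K < H) (hpow : ∃ n : ℕ, K.relIndex H = p ^ n)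
    (hchief : ∀ L : Subgroup G, L.Normal → K ≤ L → L ≤ H → L = K ∨ L = H) :
    K.relIndex H = p ∨ K.relIndex H = p ^ 2 := by
  classical
  have hpp : p.Prime := Fact.out
  obtain ⟨n, hn⟩ := hpow
  have hn0 : n ≠ 0 := by
    rintro rfl
    exact hKH.not_ge (relIndex_eq_one.mp (by simpa using hn))
  suffices h : n ≤ 2 by
    rcases (show n = 1 ∨ n = 2 by omega) with rfl | rfl
    · exact Or.inl (by simpa using hn)
    · exact Or.inr hn
  set N := pPrimeCore p G
  set π := QuotientGroup.mk' N
  have hπ := QuotientGroup.mk'_surjective N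
  have hcopN : (Nat.card N).Coprime p := pPrimeCore_coprime p G
  -- the factor survives in the quotient
  have hHN : H ⊓ N ≤ K := by
    rcases hchief (K ⊔ (H ⊓ N)) inferInstance le_sup_left (sup_le hKH.le inf_le_left) with h | h
    · exact h ▸ le_sup_right
    · exfalso
      have h1 : K.relIndex H = K.relIndex (H ⊓ N) := by
        conv_lhs => rw [← h, sup_comm, relIndex_sup_right]
      have h2 : p ∣ Nat.card ↥(H ⊓ N) := by
        refine dvd_trans (dvd_pow_self p hn0) ?_
        rw [← hn, h1]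
        exact relIndex_dvd_card _ _
      exact (hpp.coprime_iff_not_dvd.mp hcopN.symm) (h2.trans (card_dvd_of_le inf_le_right))
  have hrank : PRankLE p 2 (G ⧸ N) := by
    obtain ⟨P⟩ : Nonempty (Sylow p G) := inferInstance
    let P' := P.mapSurjective hπ
    refine (pRankLE_iff_sylow P').mpr ?_
    have hinj : Set.InjOn π (P : Subgroup G) := by
      intro x hx y hy he
      have : x⁻¹ * y ∈ (P : Subgroup G) ⊓ N :=
        mem_inf.mpr ⟨mul_mem (inv_mem hx) hy, QuotientGroup.eq.mp he⟩
      rw [inf_eq_bot_of_isPGroup_of_coprime P.isPGroup' hcopN, mem_bot, inv_mul_eq_one] at this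
      exact this
    let e : (P : Subgroup G) ≃* ((P : Subgroup G).map π) :=
      MulEquiv.ofBijective (π.subgroupMap P)
        ⟨fun x y he => Subtype.ext (hinj x.2 y.2 (congrArg Subtype.val he)), π.subgroupMap_surjective _⟩
    exact pRankLE_of_injective e.symm.toMonoidHom e.symm.injective
      ((pRankLE_iff_sylow P).mp hr)
  set R := pCore p (G ⧸ N) with hR
  have hRp : IsPGroup p R := isPGroup_pCore p _
  have hcon : centralizer (R : Set (G ⧸ N)) ≤ R :=
    CfsgLib.PLocal.isPConstrained_iff.1 (CfsgLib.PLocal.isPConstrained_of_isPSolvable hG)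
  have hRn : (⊤ : Subgroup (G ⧸ N)) ≤ normalizer (R : Set (G ⧸ N)) := by rw [normalizer_eq_top]
  have hindex : ¬ p ^ 2 ∣ R.index := by
    obtain ⟨φ, hφ⟩ := CfsgLib.OddOrder.exists_gl2_rep hp hRp (pRankLE_subgroup hrank R) hRn
    set ψ := (φ.comp (Subgroup.topEquiv (G := G ⧸ N)).symm.toMonoidHom).toHomUnits
    have hker : IsPGroup p ψ.ker := by
      refine CfsgLib.PLocal.isPGroup_of_forall_coprime fun d hd hdc => ?_
      have h1 : φ ⟨d, mem_top d⟩ = 1 := by
        have h0 := congrArg Units.val (MonoidHom.mem_ker.mp hd)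
        exact h0
      have hc := hφ ⟨d, mem_top d⟩ h1 (by rwa [← orderOf_coe])
      obtain ⟨k, hk⟩ := hRp ⟨d, hcon hc⟩
      have hk' : d ^ p ^ k = 1 := by simpa using congrArg Subtype.val hk
      exact orderOf_eq_one_iff.mp (Nat.eq_one_of_dvd_coprimes (hdc.pow_right k) dvd_rfl
        (orderOf_dvd_of_pow_eq_one hk'))
    intro hd
    refine sq_not_dvd_card_gl2 (hd.trans ((index_dvd_of_le (le_pCore hker)).trans ?_))
    rw [index_ker]
    exact Subgroup.card_subgroup_dvd_card _
  set H' := H.map π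
  set K' := K.map π
  haveI : H'.Normal := Normal.map inferInstance π hπ
  haveI : K'.Normal := Normal.map inferInstance π hπ
  have hrel : K'.relIndex H' = K.relIndex H := by
    rw [relIndex_map_map, QuotientGroup.ker_mk']
    have h1 : H ⊔ N = H ⊔ (K ⊔ N) := by rw [← sup_assoc, sup_eq_left.mpr hKH.le]
    have h2 : (K ⊔ N) ⊓ H = K := by
      refine le_antisymm ?_ (le_inf le_sup_left hKH.le)
      intro x hx
      obtain ⟨k, hk, m, hm, rfl⟩ := mem_sup_of_normal_right.mp (mem_inf.mp hx).1
      refine mul_mem hk (hHN (mem_inf.mpr ⟨?_, hm⟩))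
      simpa using mul_mem (inv_mem (hKH.le hk)) (mem_inf.mp hx).2
    rw [h1, relIndex_sup_right, ← inf_relIndex_right, h2]
  have hchief' : ∀ L : Subgroup (G ⧸ N), L.Normal → K' ≤ L → L ≤ H' → L = K' ∨ L = H' := by
    intro L hL h1 h2
    haveI : (L.comap π ⊓ H).Normal := inferInstance
    rcases hchief (L.comap π ⊓ H) inferInstance (le_inf (map_le_iff_le_comap.mp h1) hKH.le) inf_le_right
      with h | h
    · left
      refine le_antisymm (fun x hx => ?_) h1
      obtain ⟨y, hy, rfl⟩ := h2 hx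
      exact mem_map_of_mem π (h ▸ mem_inf.mpr ⟨hx, hy⟩)
    · right
      refine le_antisymm h2 ?_
      rw [map_le_iff_le_comap]
      exact h ▸ inf_le_left
  have hKH' : K' < H' := by
    refine lt_of_le_of_ne (map_mono hKH.le) fun h => hn0 ?_
    rw [← hrel, h, relIndex_self] at hn
    exact (Nat.pow_eq_one.mp hn.symm).resolve_left hpp.one_lt.ne'
  rw [← hrel] at hn
  rcases hchief' (K' ⊔ (H' ⊓ R)) inferInstance le_sup_left (sup_le hKH'.le inf_le_left) with h | h
  · -- above `O_p`
    have h1 : H' ⊓ R ≤ K' := h ▸ le_sup_right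
    have h2 : p ^ n ∣ R.index := by
      rw [← hn]
      refine dvd_trans (relIndex_dvd_of_le_left H' h1) ?_
      rw [inf_relIndex_left]
      exact relIndex_dvd_index_of_normal R H'
    by_contra h3
    exact hindex ((pow_dvd_pow p (by omega)).trans h2)
  · -- inside `O_p`
    set X := H' ⊓ R
    set Y := K' ⊓ R
    have hrel' : K'.relIndex H' = Y.relIndex X := by
      conv_lhs => rw [← h, sup_comm, relIndex_sup_right]
      rw [← inf_relIndex_right K' X, show K' ⊓ X = Y from by
        rw [show X = H' ⊓ R from rfl, ← inf_assoc, inf_eq_left.mpr hKH'.le]]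
    have hle : Y.relIndex X ≤ p ^ 2 := by
      refine relIndex_le_sq_of_chief hp X Y (lt_of_le_of_ne (inf_le_inf_right R hKH'.le) fun e => ?_)
        (hRp.to_le inf_le_right) (pRankLE_subgroup hrank X) fun L hL hYL hLX => ?_
      · rw [hrel', e, relIndex_self] at hn
        exact hn0 ((Nat.pow_eq_one.mp hn.symm).resolve_left hpp.one_lt.ne')
      · rcases hchief' (K' ⊔ L) inferInstance le_sup_left
          (sup_le hKH'.le (hLX.trans inf_le_left)) with h' | h'
        · left
          refine le_antisymm (le_inf ?_ (hLX.trans inf_le_right)) hYL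
          exact h' ▸ le_sup_right
        · right
          refine le_antisymm hLX fun x hx => ?_
          have hx' : x ∈ K' ⊔ L := h'.symm ▸ (mem_inf.mp hx).1
          obtain ⟨l, hl, k, hk, rfl⟩ := mem_sup_of_normal_right.mp (sup_comm K' L ▸ hx')
          refine mul_mem hl (hYL (mem_inf.mpr ⟨hk, ?_⟩))
          simpa using mul_mem (inv_mem (mem_inf.mp (hLX hl)).2) (mem_inf.mp hx).2
    rw [← hrel', hn] at hle
    exact (Nat.pow_le_pow_iff_right hpp.one_lt).mp hle

end CfsgLib.Techniques
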