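import Mathlib
import Cfsg.Agent.Lib.OddOrder.OmegaFixed
import Cfsg.Agent.Lib.PGroups.BaerAction
import Cfsg.Agent.Lib.PLocal.Constrained
import Cfsg.Agent.Lib.Coprime.Action

/-!
# A `p'`-subgroup invariant under a small elementary abelian subgroup lies in the `p'`-core
-/

set_option autoImplicit false
set_option linter.unusedSectionVars false

universe u

namespace CfsgLib.Techniques

open Cfsg Subgroup CfsgLib.Base
open scoped commutatorElement

variable {G : Type u} [Group G] [Finite G] {p : ℕ} [Fact p.Prime]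

/-- For odd `p`: if the fixed points of `P` of order `p` on the `p`-group `R` are fixed by the
`p'`-group `Q` normalised by `P`, then `Q` centralises `R`. -/
theorem le_centralizer_of_fixed_order_prime (hp : p ≠ 2) (P Q : Subgroup G) (hP : IsPGroup p P)
    (hQ : (Nat.card Q).Coprime p) (hPQ : P ≤ normalizer (Q : Set G)) (R : Subgroup G)
    (hR : IsPGroup p R) (hPR : P ≤ normalizer (R : Set G)) (hQR : Q ≤ normalizer (R : Set G))
    (hfix : ∀ x ∈ R, x ^ p = 1 → x ∈ centralizer (P : Set G) → x ∈ centralizer (Q : Set G)) :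
    Q ≤ centralizer (R : Set G) := by
  induction R using WellFoundedLT.induction with
  | _ T ih =>
  have hsub : ∀ U : Subgroup G, U < T → P ≤ normalizer (U : Set G) → Q ≤ normalizer (U : Set G) →
      Q ≤ centralizer (U : Set G) :=
    fun U hU h1 h2 => ih U hU (hR.to_le hU.le) h1 h2 fun x hx => hfix x (hU.le hx)
  refine CfsgLib.PGroups.BaerAction.le_centralizer_of_fixed_le hp P Q hP hQ hPQ _ T
    (Nat.lt_succ_self _) hR hPR hQR ?_
  by_cases hT : T = ⊥
  · subst hT; exact inf_le_left.trans bot_le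
  set E := Subgroup.closure {x : G | x ∈ T ∧ x ^ p = 1} with hE
  have hEle : E ≤ T := (Subgroup.closure_le _).mpr fun x hx => hx.1
  rcases lt_or_eq_of_le hEle with hlt | heq
  · have hEn : ∀ {H : Subgroup G}, H ≤ normalizer (T : Set G) → H ≤ normalizer (E : Set G) := by
      intro H hH g hg
      rw [mem_normalizer_iff_map_conj_eq, hE, MonoidHom.map_closure]
      congr 1
      ext y
      simp only [Set.mem_image, Set.mem_setOf_eq, MulEquiv.coe_toMonoidHom, MulAut.conj_apply]
      constructor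
      · rintro ⟨x, ⟨hx, hxp⟩, rfl⟩
        refine ⟨by simpa using (mem_normalizer_iff.mp (hH hg) x).mp hx, ?_⟩
        rw [← map_pow, hxp, map_one]
      · rintro ⟨hy, hyp⟩
        refine ⟨g⁻¹ * y * g, ⟨?_, ?_⟩, by simp [mul_assoc]⟩
        · exact (mem_normalizer_iff.mp (hH hg) _).mpr (by simpa [mul_assoc] using hy)
        · have := conj_pow (a := g⁻¹) (b := y) (i := p)
          rw [inv_inv] at this
          rw [this, hyp]; simp
    have h1 : Q ≤ centralizer (E : Set G) := hsub E hlt (hEn hPR) (hEn hQR)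
    have h2 := CfsgLib.OddOrder.le_centralizer_of_fix_order_prime hp T Q hR hQ hQR
      (fun x hx hxp q hq =>
        (mem_centralizer_iff.mp (h1 hq) x (Subgroup.subset_closure ⟨hx, hxp⟩)).symm)
    exact inf_le_left.trans (le_centralizer_iff.mp h2)
  have hTQle : ⁅T, Q⁆ ≤ T := CfsgLib.Coprime.commutator_le_of_le_normalizer hQR
  have hcop : (Nat.card Q).Coprime (Nat.card T) := by
    obtain ⟨k, hk⟩ := IsPGroup.iff_card.mp hR
    exact hk ▸ hQ.pow_right k
  haveI : Group.IsNilpotent T := hR.isNilpotent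
  rcases lt_or_eq_of_le hTQle with hlt | hTQ
  · have h1 : Q ≤ centralizer (⁅T, Q⁆ : Subgroup G) :=
      hsub _ hlt (CfsgLib.OddOrder.le_normalizer_commutator hPR hPQ) (CfsgLib.OddOrder.le_normalizer_commutator hQR le_normalizer)
    have h2 : ⁅T, Q⁆ = ⊥ := by
      rw [← CfsgLib.Coprime.commutator_commutator_eq hQR hcop (Or.inr inferInstance),
        Subgroup.commutator_eq_bot_iff_le_centralizer]
      exact le_centralizer_iff.mp h1
    rw [Subgroup.commutator_eq_bot_iff_le_centralizer] at h2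
    exact inf_le_left.trans h2
  set D := ⁅T, T⁆ with hD
  have hDle : D ≤ T := Subgroup.commutator_le_self T
  have hDlt : D < T := by
    refine lt_of_le_of_ne hDle fun h => ?_
    haveI : Nontrivial T := (Subgroup.nontrivial_iff_ne_bot T).mpr hT
    apply (Group.IsSolvable.commutator_lt_top_of_nontrivial T).ne
    apply Subgroup.map_injective T.subtype_injective
    rw [Subgroup.map_subtype_commutator, ← MonoidHom.range_eq_map, Subgroup.range_subtype]
    exact h
  have hQD := hsub D hDlt (CfsgLib.OddOrder.le_normalizer_commutator hPR hPR) (CfsgLib.OddOrder.le_normalizer_commutator hQR hQR)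
  have hcl : ∀ x y : T, ⁅x, y⁆ ∈ Subgroup.center T := by
    have h1 : ⁅⁅Q, D⁆, T⁆ = ⊥ := by
      rw [Subgroup.commutator_eq_bot_iff_le_centralizer.mpr hQD]
      exact Subgroup.commutator_bot_left T
    have h2 : ⁅⁅D, T⁆, Q⁆ = ⊥ := by
      have : ⁅D, T⁆ ≤ D := Subgroup.commutator_mono hDle le_rfl
      exact le_bot_iff.mp ((Subgroup.commutator_mono this le_rfl).trans (by
        rw [Subgroup.commutator_eq_bot_iff_le_centralizer.mpr (Subgroup.le_centralizer_iff.mp hQD)]))
    have h3 : ⁅⁅T, Q⁆, D⁆ = ⊥ := Subgroup.commutator_commutator_eq_bot_of_rotate h1 h2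
    rw [hTQ, Subgroup.commutator_eq_bot_iff_le_centralizer] at h3
    refine fun x y => Subgroup.mem_center_iff.mpr fun z => Subtype.ext ?_
    have hmem : ((⁅x, y⁆ : T) : G) ∈ D := by
      simpa [commutatorElement_def] using Subgroup.commutator_mem_commutator x.2 y.2
    exact ((Subgroup.mem_centralizer_iff.mp (h3 z.2)) _ hmem).symm
  have hexp : ∀ x : T, x ^ p = 1 := by
    have hop : Odd p := (Fact.out : p.Prime).odd_of_ne_two hp
    have : ∀ y ∈ E, ∃ h : y ∈ T, (⟨y, h⟩ : T) ^ p = 1 := by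
      intro y hy
      induction hy using Subgroup.closure_induction with
      | mem y hy => exact ⟨hy.1, Subtype.ext (by simpa using hy.2)⟩
      | one => exact ⟨one_mem _, one_pow p⟩
      | mul a b _ _ iha ihb =>
        obtain ⟨ha, hap⟩ := iha
        obtain ⟨hb, hbp⟩ := ihb
        exact ⟨mul_mem ha hb,
          CfsgLib.PGroups.mul_pow_eq_one_of_odd (hcl ⟨b, hb⟩ ⟨a, ha⟩) hop hap hbp⟩
      | inv a _ iha =>
        obtain ⟨ha, hap⟩ := iha
        refine ⟨inv_mem ha, ?_⟩
        rw [show (⟨a⁻¹, inv_mem ha⟩ : T) = ⟨a, ha⟩⁻¹ from rfl, inv_pow, hap, inv_one]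
    intro x
    obtain ⟨h, hx⟩ := this x (by rw [heq]; exact x.2)
    exact hx
  rintro x ⟨hxT, hxP⟩
  exact hfix x hxT (by simpa using congrArg Subtype.val (hexp ⟨x, hxT⟩)) hxP

theorem le_pPrimeCore_of_omega_eq (hp : p ≠ 2) (hG : IsPSolvable p G) (B : Subgroup G)
    (hB : IsElementaryAbelian p B) (hBc : Nat.card B = p ^ 2) (b₀ : G) (hb₀ : b₀ ∈ B)
    (P : Sylow p ↥(centralizer ({b₀} : Set G)))
    (hBP : B = Subgroup.closure {x : G | x ∈ ((P : Subgroup ↥(centralizer ({b₀} : Set G))).map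
      (centralizer ({b₀} : Set G)).subtype : Subgroup G) ∧ orderOf x = p})
    (Q : Subgroup G) (hQ : ¬ p ∣ Nat.card Q) (hBQ : B ≤ normalizer (Q : Set G)) :
    Q ≤ pPrimeCore p G := by
  classical
  set N := pPrimeCore p G
  set π := QuotientGroup.mk' N with hπ
  set R := pCore p (G ⧸ N) with hRdef
  have hcon : centralizer (R : Set (G ⧸ N)) ≤ R :=
    CfsgLib.PLocal.isPConstrained_iff.1 (CfsgLib.PLocal.isPConstrained_of_isPSolvable hG)
  have hQ' : (Nat.card Q).Coprime p := ((Fact.out : p.Prime).coprime_iff_not_dvd.mpr hQ).symm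
  have hQ'' : (Nat.card (Q.map π)).Coprime p := hQ'.coprime_dvd_left (Subgroup.card_map_dvd Q π)
  have hBp : IsPGroup p B := fun a => ⟨1, Subtype.ext (by simpa using hB.2 a a.2)⟩
  have hzB : zpowers b₀ ≤ B := zpowers_le.mpr hb₀
  have hRp : IsPGroup p R := isPGroup_pCore p _
  have hNR : ∀ H : Subgroup (G ⧸ N), H ≤ normalizer (R : Set (G ⧸ N)) := fun H => by
    rw [normalizer_eq_top]; exact le_top
  have hQB : B.map π ≤ normalizer ((Q.map π : Subgroup (G ⧸ N)) : Set (G ⧸ N)) :=
    (map_mono hBQ).trans (le_normalizer_map π)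
  have hQR : Q.map π ⊓ R = ⊥ := by
    rw [inf_comm]; exact inf_eq_bot_of_isPGroup_of_coprime hRp hQ''
  have key : Q.map π ≤ centralizer (R : Set (G ⧸ N)) := by
    refine le_centralizer_of_fixed_order_prime hp ((zpowers b₀).map π) (Q.map π)
      ((hBp.to_le hzB).map π) hQ'' ((map_mono hzB).trans hQB) R hRp (hNR _) (hNR _) ?_
    intro x hxR hxp hxC
    set Cb := centralizer (((zpowers b₀).map π : Subgroup (G ⧸ N)) : Set (G ⧸ N)) with hCb
    have hCmap : (centralizer ({b₀} : Set G)).map π = Cb := by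
      rw [← Subgroup.centralizer_closure, ← zpowers_eq_closure, hCb, hπ,
        CfsgLib.PLocal.map_centralizer_mk' N (pPrimeCore_coprime p G) (hBp.to_le hzB)]
    set U := R ⊓ Cb with hU
    have hBC : B ≤ (centralizer ({b₀} : Set G)) := fun b hb => mem_centralizer_singleton_iff.mpr
      (congrArg Subtype.val (hB.1.is_comm.comm ⟨b, hb⟩ ⟨b₀, hb₀⟩))
    have hBCb : B.map π ≤ Cb := hCmap ▸ map_mono hBC
    have hK : IsPGroup p (U ⊔ B.map π : Subgroup (G ⧸ N)) :=
      IsPGroup.to_sup_of_normal_left' (hRp.to_le inf_le_left) (hBp.map π)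
        (le_inf (hNR _) (hBCb.trans le_normalizer) |>.trans (CfsgLib.PLocal.normalizer_inf_le _ _))
    have hKC : U ⊔ B.map π ≤ Cb := sup_le inf_le_right hBCb
    let φ : (centralizer ({b₀} : Set G)) →* Cb := (π.comp (centralizer ({b₀} : Set G)).subtype).codRestrict Cb
      (fun c => hCmap ▸ mem_map_of_mem π c.2)
    have hφ : Function.Surjective φ := by
      intro y
      have hy := y.2
      simp only [← hCmap] at hy
      obtain ⟨c, hc, hcy⟩ := hy
      exact ⟨⟨c, hc⟩, Subtype.ext hcy⟩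
    obtain ⟨S, hS⟩ := (hK.comap_of_injective Cb.subtype Cb.subtype_injective).exists_le_sylow
    obtain ⟨d, hd⟩ := MulAction.exists_smul_eq Cb (P.mapSurjective hφ) S
    obtain ⟨c, rfl⟩ := hφ d
    set Ps : Subgroup G := (P : Subgroup (centralizer ({b₀} : Set G))).map (centralizer ({b₀} : Set G)).subtype with hPs
    have hlift : ∀ y ∈ U ⊔ B.map π, y ^ p = 1 →
        ∃ b ∈ B.map (MulAut.conj (c : G)).toMonoidHom, π b = y := by
      intro y hy hyp
      have h1 : (⟨y, hKC hy⟩ : Cb) ∈ (S : Subgroup Cb) := hS hy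
      rw [← hd, Sylow.coe_subgroup_smul, ← map_conj_eq_smul] at h1
      obtain ⟨z, hz, hze⟩ := h1
      obtain ⟨w, hw, rfl⟩ := hz
      have he : π ((c : G) * (w : G) * (c : G)⁻¹) = y := by
        have := congrArg Subtype.val hze
        simpa [φ] using this
      refine ⟨_, ⟨(w : G), ?_, by simp⟩, he⟩
      have hwp : (w : G) ^ p = 1 := by
        have h2 : π (((c : G) * (w : G) * (c : G)⁻¹) ^ p) = 1 := by rw [map_pow, he, hyp]
        have h2' : ((c : G) * (w : G) * (c : G)⁻¹) ^ p ∈ N := (QuotientGroup.eq_one_iff _).mp h2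
        rw [conj_pow] at h2'
        have h2'' : (w : G) ^ p ∈ N := by
          simpa [mul_assoc] using Normal.conj_mem inferInstance _ h2' (c : G)⁻¹
        have h3 : (w : G) ^ p ∈ Ps := pow_mem (show (w : G) ∈ Ps from ⟨w, hw, rfl⟩) p
        exact mem_bot.mp (inf_eq_bot_of_isPGroup_of_coprime (P.isPGroup'.map (centralizer ({b₀} : Set G)).subtype)
          (pPrimeCore_coprime p G) ▸ mem_inf.mpr ⟨h3, h2''⟩)
      by_cases hw1 : (w : G) = 1
      · rw [hw1]; exact one_mem B
      · rw [hBP]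
        exact Subgroup.subset_closure ⟨⟨w, hw, rfl⟩, orderOf_eq_prime hwp hw1⟩
    have hle : B.map π ≤ (B.map (MulAut.conj (c : G)).toMonoidHom).map π := by
      rintro _ ⟨b, hb, rfl⟩
      obtain ⟨b', hb', h⟩ := hlift (π b) (mem_sup_right (mem_map_of_mem π hb))
        (by rw [← map_pow, hB.2 b hb, map_one])
      exact ⟨b', hb', h⟩
    have hcard : Nat.card (B.map π) = p ^ 2 := by
      rw [← hBc]
      refine (Nat.card_congr (Equiv.ofBijective (π.subgroupMap B) ⟨?_, π.subgroupMap_surjective B⟩)).symm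
      rw [← MonoidHom.ker_eq_bot_iff, eq_bot_iff]
      intro b hb
      have h1 : (b : G) ∈ N := (QuotientGroup.eq_one_iff _).mp (congrArg Subtype.val hb)
      exact Subtype.ext (mem_bot.mp (inf_eq_bot_of_isPGroup_of_coprime hBp (pPrimeCore_coprime p G)
        ▸ mem_inf.mpr ⟨b.2, h1⟩))
    have heq : B.map π = (B.map (MulAut.conj (c : G)).toMonoidHom).map π := by
      refine Subgroup.eq_of_le_of_card_ge hle ?_
      rw [hcard]
      refine le_trans (Nat.le_of_dvd Nat.card_pos (Subgroup.card_map_dvd _ π)) ?_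
      rw [card_map_conj, hBc]
    obtain ⟨b', hb', hb'x⟩ := hlift x (mem_sup_left (mem_inf.mpr ⟨hxR, hxC⟩)) hxp
    have hxB : x ∈ B.map π := heq ▸ ⟨b', hb', hb'x⟩
    refine mem_centralizer_iff.mpr fun q hq => ?_
    have h1 : ⁅q, x⁆ ∈ Q.map π := by
      rw [commutatorElement_def]
      have := (mem_normalizer_iff.mp (hQB hxB) q⁻¹).mp (inv_mem hq)
      simpa [mul_assoc] using mul_mem hq this
    have h2 : ⁅q, x⁆ ∈ R := by
      rw [commutatorElement_def]
      exact mul_mem ((pCore_normal p _).conj_mem x hxR q) (inv_mem hxR)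
    exact commutatorElement_eq_one_iff_mul_comm.mp (mem_bot.mp (hQR ▸ mem_inf.mpr ⟨h1, h2⟩))
  rw [← QuotientGroup.ker_mk' N, ← MonoidHom.comap_bot, ← map_le_iff_le_comap, ← hQR]
  exact le_inf le_rfl (key.trans hcon)

end CfsgLib.Techniques
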