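import Cfsg.Agent.Lib.Techniques.Sections
import Cfsg.Agent.Lib.Techniques.Residual
import Cfsg.Agent.Lib.PLocal.PSolvable
import Cfsg.Agent.Lib.Coprime.Basic

/-!
Glauberman's reduction of control of fusion and of transfer to constrained sections.
-/

set_option autoImplicit false
set_option linter.unusedSectionVars false

namespace CfsgLib.Techniques

open Cfsg Subgroup

universe u

variable {G : Type u} [Group G] [Finite G] {p : ℕ} [Fact p.Prime]

theorem Link.mono_steps {T : Subgroup G} {𝓝 𝓝' : Set (Subgroup G)}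
    (h𝓝 : ∀ N ∈ 𝓝, ∃ N' ∈ 𝓝', N ≤ N') {A : Set G} {g : G} (h : Link T 𝓝 A g) :
    Link T 𝓝' A g := by
  induction h with
  | agree hA h => exact .agree hA h
  | step hN hx hA h' h ih =>
    obtain ⟨N', hN', hle⟩ := h𝓝 _ hN
    exact .step hN' (hle hx) hA ih h

theorem link_of_ctl {F : Set (Subgroup G → Subgroup G)} (hF : ∀ W ∈ F, IsConjugacyFunctor p W)
    {S K : Subgroup G} (hS : SylIn p S ⊤) (hSK : S ≤ K) (hK : FamilyControlsStrongFusionIn p F K)
    {A : Set G} {h : G} (hh : h ∈ K) (hA : A ⊆ S) (hhA : lc h '' A ⊆ S) :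
    Link S (stepSet F S ⊤) A h := by
  have hl := link_iff_chain.2 (familyFusionAt_of_controls hF (hS.mono hSK le_top) hK A h hh hA hhA)
  refine hl.mono_steps ?_
  rintro N ⟨W, hW, rfl⟩
  exact ⟨_, ⟨W, hW, rfl⟩, inf_le_inf_right _ le_top⟩

theorem target_of_ctl {F : Set (Subgroup G → Subgroup G)} (hF : ∀ W ∈ F, IsConjugacyFunctor p W)
    {S K : Subgroup G} (hS : SylIn p S ⊤) (hSK : S ≤ K) (hK : FamilyControlsTransferIn p F K) :
    S ⊓ ⁅K, K⁆ ≤ transferTarget S F := by
  rw [familyTransferAt_of_controls hF (hS.mono hSK le_top) hK]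
  exact iSup₂_mono fun W _ => inf_le_inf_left _
    (commutator_mono (inf_le_inf_right _ le_top) (inf_le_inf_right _ le_top))

theorem focal_of_ctl {F : Set (Subgroup G → Subgroup G)} (hF : ∀ W ∈ F, IsConjugacyFunctor p W)
    {S K : Subgroup G} (hS : SylIn p S ⊤) (hSK : S ≤ K) (hK : FamilyControlsTransferIn p F K)
    {a k : G} (ha : a ∈ S) (hk : k ∈ K) (hka : lc k a ∈ S) :
    a⁻¹ * lc k a ∈ transferTarget S F := by
  refine target_of_ctl hF hS hSK hK ⟨S.mul_mem (S.inv_mem ha) hka, ?_⟩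
  have := commutator_mem_commutator (K.inv_mem (hSK ha)) hk
  simpa [commutatorElement_def, lc, mul_assoc] using this

section Lift

variable {X : Type u} [Group X] {π : G →* X} {S : Subgroup G} {𝓝 : Set (Subgroup G)}
  {𝓝' : Set (Subgroup X)}

theorem link_lift
    (hstep : ∀ N ∈ 𝓝', ∀ x ∈ N, ∀ A : Set G, A ⊆ S → lc x '' (π '' A) ⊆ (S.map π : Subgroup X) →
      ∃ y, π y = x ∧ Link S 𝓝 A y)
    {B : Set X} {g : X} (h : Link (S.map π) 𝓝' B g) :
    ∀ A : Set G, A ⊆ S → π '' A = B → ∃ g', Link S 𝓝 A g' ∧ ∀ a ∈ A, π (lc g' a) = lc g (π a) := by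
  induction h with
  | @agree B g hB h =>
    intro A hA e
    refine ⟨1, .agree hA fun a _ => lc_one a, fun a ha => ?_⟩
    rw [lc_one, h (π a) (e ▸ ⟨a, ha, rfl⟩)]
  | @step B g x g' N hN hx hB h' h ih =>
    intro A hA e
    obtain ⟨y, hy, hl⟩ := hstep N hN x hx A hA (by rw [e]; exact h'.subset)
    obtain ⟨g'', hl', hg''⟩ := ih (lc y '' A) hl.image_subset (by
      rw [← e, Set.image_image, Set.image_image]
      exact Set.image_congr fun a _ => by simp [lc, hy])
    refine ⟨g'' * y, hl.comp hl', fun a ha => ?_⟩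
    rw [lc_mul, hg'' _ ⟨a, ha, rfl⟩, h (π a) (e ▸ ⟨a, ha, rfl⟩)]
    congr 1
    simp [lc, hy]

end Lift

variable {𝓦 : Set (∀ (Q : Type u) [Group Q], Subgroup Q)}

theorem sylIn_map_of_surjective {X : Type u} [Group X] [Finite X] {S : Subgroup G}
    (hS : SylIn p S ⊤) {π : G →* X} (hπ : Function.Surjective π) : SylIn p (S.map π) ⊤ := by
  refine ⟨le_top, hS.isPGroup.map π, ?_⟩
  rw [relIndex_top_right]
  intro hd
  refine hS.not_dvd ?_
  rw [relIndex_top_right]
  exact hd.trans (Subgroup.index_map_dvd S hπ)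

/-- Lifting normalizers of functor values through a quotient by a `p'`-group. -/
theorem exists_lift_normalizer {W : ∀ (Q : Type u) [Group Q], Subgroup Q}
    (hW : IsCharPFunctor.{u} p W) {S O : Subgroup G} [O.Normal] (hSp : IsPGroup p S)
    (hO : (Nat.card O).Coprime p) {x : G ⧸ O}
    (hx : x ∈ normalizer (inducedFunctor W (S.map (QuotientGroup.mk' O)) : Set (G ⧸ O))) :
    ∃ y ∈ normalizer (inducedFunctor W S : Set G), QuotientGroup.mk' O y = x := by
  obtain ⟨g, rfl⟩ := QuotientGroup.mk'_surjective O x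
  have hinj : ∀ y ∈ S, QuotientGroup.mk' O y = 1 → y = 1 := fun y hy h1 => by
    have : y ∈ S ⊓ O := ⟨hy, (QuotientGroup.eq_one_iff y).1 h1⟩
    rwa [CfsgLib.Base.inf_eq_bot_of_isPGroup_of_coprime hSp hO, mem_bot] at this
  rw [inducedFunctor_map hW hSp _ hinj, mem_normalizer_iff_cj] at hx
  set V := inducedFunctor W S with hV
  have hVp : IsPGroup p V := hSp.to_le (inducedFunctor_le W S)
  set K := V ⊔ O with hK
  have hgV : cj g V ≤ K := by
    have h1 : (cj g V).map (QuotientGroup.mk' O) ≤ V.map (QuotientGroup.mk' O) := by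
      refine le_trans (le_of_eq ?_) hx.le
      rw [cj, cj, Subgroup.map_map, Subgroup.map_map]
      congr 1
    rw [Subgroup.map_le_iff_le_comap, Subgroup.comap_map_eq, QuotientGroup.ker_mk'] at h1
    exact h1
  have hsyl : SylIn p V K := by
    refine ⟨le_sup_left, hVp, ?_⟩
    have h1 : V.relIndex K * Nat.card V = Nat.card O * Nat.card V := by
      rw [mul_comm, ← Subgroup.relIndex_bot_left V,
        Subgroup.relIndex_mul_relIndex ⊥ V K bot_le le_sup_left, Subgroup.relIndex_bot_left,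
        Subgroup.relIndex_bot_left, hK, CfsgLib.Coprime.card_sup_of_inf_eq_bot
          (by rw [normalizer_eq_top]; exact le_top)
          (CfsgLib.Base.inf_eq_bot_of_isPGroup_of_coprime hVp hO), mul_comm]
    rw [Nat.eq_of_mul_eq_mul_right Nat.card_pos h1]
    exact (Nat.Prime.coprime_iff_not_dvd Fact.out).1 hO.symm
  obtain ⟨k, hk, hke⟩ := hsyl.exists_conj_eq (hsyl.of_card (isPGroup_cj hVp) hgV (by rw [card_cj]))
  rw [hK, Subgroup.mem_sup_of_normal_right] at hk
  obtain ⟨v, hv, o, ho, rfl⟩ := hk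
  refine ⟨o * g, mem_normalizer_iff_cj.2 ?_, ?_⟩
  · have := congrArg (cj v⁻¹) hke
    rwa [← cj_mul, ← cj_mul, cj_eq_self_of_mem (inv_mem hv),
      show v⁻¹ * (v * o) * g = o * g by group] at this
  · rw [map_mul]
    have : QuotientGroup.mk' O o = 1 := (QuotientGroup.eq_one_iff o).2 ho
    rw [this, one_mul]

variable (h𝓦 : ∀ W ∈ 𝓦, IsCharPFunctor.{u} p W)
include h𝓦

theorem familyFusion_of_quotient_coprime {O : Subgroup G} [O.Normal] (hO : (Nat.card O).Coprime p)
    (h : FamilyControlsStrongFusionIn p (indFam (G ⧸ O) 𝓦) ⊤) :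
    FamilyControlsStrongFusionIn p (indFam G 𝓦) ⊤ := by
  obtain ⟨S, hS⟩ := exists_sylIn (p := p) (⊤ : Subgroup G)
  set π := QuotientGroup.mk' O with hπ
  have hπs : Function.Surjective π := QuotientGroup.mk'_surjective O
  have hinj : ∀ y z, y ∈ S → z ∈ S → π y = π z → y = z := fun y z hy hz e => by
    have h1 : y⁻¹ * z ∈ S ⊓ O := ⟨S.mul_mem (S.inv_mem hy) hz, QuotientGroup.eq.1 e⟩
    rw [CfsgLib.Base.inf_eq_bot_of_isPGroup_of_coprime hS.isPGroup hO, mem_bot] at h1
    exact inv_mul_eq_one.1 h1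
  have hat := familyFusionAt_of_controls (isConjugacyFunctor_indFam h𝓦)
    (sylIn_map_of_surjective hS hπs) h
  refine ⟨S, le_top, hS.isPGroup, hS.not_dvd, fun A g _ hA hgA => link_iff_chain.1 ?_⟩
  have hl := link_iff_chain.2 (hat (π '' A) (π g) (mem_top _) (Set.image_mono hA) (by
    rintro _ ⟨_, ⟨a, ha, rfl⟩, rfl⟩
    exact ⟨_, hgA ⟨a, ha, rfl⟩, by simp⟩))
  have hstep : ∀ N ∈ stepSet (indFam (G ⧸ O) 𝓦) (S.map π) ⊤, ∀ x ∈ N, ∀ B : Set G, B ⊆ S →
      lc x '' (π '' B) ⊆ (S.map π : Subgroup (G ⧸ O)) →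
      ∃ y, π y = x ∧ Link S (stepSet (indFam G 𝓦) S ⊤) B y := by
    rintro N ⟨_, ⟨W, hW, rfl⟩, rfl⟩ x hx B hB hxB
    obtain ⟨y, hy, rfl⟩ := exists_lift_normalizer (h𝓦 W hW) hS.isPGroup hO hx.2
    set N₀ := normalizer (inducedFunctor W S : Set G) with hN₀
    have hSN : S ≤ N₀ := le_normalizer_functor (isConjugacyFunctor_induced (h𝓦 W hW)) hS.isPGroup
    set M := N₀ ⊓ (S ⊔ O) with hM
    have hBM : cj y (closure B) ≤ M := by
      rw [Subgroup.map_le_iff_le_comap, closure_le]
      intro b hb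
      refine ⟨N₀.mul_mem (N₀.mul_mem hy (hSN (hB hb))) (N₀.inv_mem hy), ?_⟩
      obtain ⟨s, hs, e⟩ := hxB ⟨_, ⟨b, hb, rfl⟩, rfl⟩
      have h1 : y * b * y⁻¹ ∈ (S.map π).comap π := ⟨s, hs, by rw [e]; simp [lc]; rfl⟩
      rwa [Subgroup.comap_map_eq, hπ, QuotientGroup.ker_mk'] at h1
    obtain ⟨k, hk, hkle⟩ := (hS.mono (le_inf hSN le_sup_left) le_top).exists_conj
      (isPGroup_cj (hS.isPGroup.to_le ((closure_le _).2 hB))) hBM
    have hk2 : k ∈ S ⊔ O := hk.2
    rw [Subgroup.mem_sup_of_normal_right] at hk2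
    obtain ⟨s, hs, o, ho, rfl⟩ := hk2
    have hoN : o * y ∈ N₀ := by
      have := N₀.mul_mem (N₀.mul_mem (N₀.inv_mem (hSN hs)) hk.1) hy
      simpa [mul_assoc] using this
    refine ⟨o * y, ?_, Link.single ⟨_, ⟨W, hW, rfl⟩, rfl⟩ ⟨mem_top _, hoN⟩ hB ?_⟩
    · have : π o = 1 := (QuotientGroup.eq_one_iff o).2 ho
      rw [map_mul, this, one_mul]
    · rintro _ ⟨b, hb, rfl⟩
      have h1 : cj (s * o) (cj y (closure B)) ≤ S := hkle
      rw [← cj_mul] at h1
      have h2 := cj_le_iff.1 h1 b (subset_closure hb)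
      have := S.mul_mem (S.mul_mem (S.inv_mem hs) h2) hs
      simpa [lc, mul_assoc] using this
  obtain ⟨g', hl', hg'⟩ := link_lift hstep hl A hA rfl
  refine hl'.congr fun a ha => hinj _ _ (hgA ⟨a, ha, rfl⟩) (hl'.image_subset ⟨a, ha, rfl⟩) ?_
  rw [hg' a ha]
  simp only [lc, map_mul, map_inv]

theorem familyTransfer_of_quotient_coprime {O : Subgroup G} [O.Normal] (hO : (Nat.card O).Coprime p)
    (h : FamilyControlsTransferIn p (indFam (G ⧸ O) 𝓦) ⊤) :
    FamilyControlsTransferIn p (indFam G 𝓦) ⊤ := by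
  obtain ⟨S, hS⟩ := exists_sylIn (p := p) (⊤ : Subgroup G)
  refine ⟨S, le_top, hS.isPGroup, hS.not_dvd, le_antisymm ?_ (transferTarget_le _ _)⟩
  set π := QuotientGroup.mk' O with hπ
  have hπs : Function.Surjective π := QuotientGroup.mk'_surjective O
  have hinj : ∀ y z, y ∈ S → z ∈ S → π y = π z → y = z := fun y z hy hz e => by
    have h1 : y⁻¹ * z ∈ S ⊓ O := ⟨S.mul_mem (S.inv_mem hy) hz, QuotientGroup.eq.1 e⟩
    rw [CfsgLib.Base.inf_eq_bot_of_isPGroup_of_coprime hS.isPGroup hO, mem_bot] at h1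
    exact inv_mul_eq_one.1 h1
  have hat := familyTransferAt_of_controls (isConjugacyFunctor_indFam h𝓦)
    (sylIn_map_of_surjective hS hπs) h
  have hle : (S ⊓ ⁅(⊤ : Subgroup G), (⊤ : Subgroup G)⁆).map π ≤ (transferTarget S (indFam G 𝓦)).map π := by
    refine le_trans (le_inf (map_mono inf_le_left) ?_) (hat.le.trans ?_)
    · refine (map_mono inf_le_right).trans ?_
      rw [Subgroup.map_commutator]
      exact commutator_mono le_top le_top
    refine iSup₂_le ?_
    rintro _ ⟨W, hW, rfl⟩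
    set N₀ := normalizer (inducedFunctor W S : Set G) with hN₀
    have hSN : S ≤ N₀ := le_normalizer_functor (isConjugacyFunctor_induced (h𝓦 W hW)) hS.isPGroup
    have hN : (⊤ : Subgroup (G ⧸ O)) ⊓ normalizer (inducedFunctor W (S.map π) : Set (G ⧸ O)) ≤
        N₀.map π := by
      intro x hx
      obtain ⟨y, hy, rfl⟩ := exists_lift_normalizer (h𝓦 W hW) hS.isPGroup hO hx.2
      exact ⟨y, hy, rfl⟩
    refine le_trans (inf_le_inf_left _ (commutator_mono hN hN)) ?_
    rw [← Subgroup.map_commutator]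
    rintro _ ⟨⟨s, hs, rfl⟩, n, hn, hns⟩
    refine ⟨s, ?_, rfl⟩
    suffices hsc : s ∈ ⁅N₀, N₀⁆ by
      refine (le_iSup₂ (f := fun (V : Subgroup G → Subgroup G) (_ : V ∈ indFam G 𝓦) =>
        S ⊓ ⁅(⊤ : Subgroup G) ⊓ normalizer (V S : Set G), (⊤ : Subgroup G) ⊓ normalizer (V S : Set G)⁆)
        (inducedFunctor W) ⟨W, hW, rfl⟩) ⟨hs, ?_⟩
      rwa [top_inf_eq]
    -- `s = n o` with `o` of order prime to `p`
    set o := n⁻¹ * s with ho'
    have ho : o ∈ O := QuotientGroup.eq.1 hns
    have hcomm : ⁅N₀, N₀⁆ = (commutator N₀).map N₀.subtype := (map_subtype_commutator N₀).symm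
    have hnN : n ∈ N₀ := Subgroup.commutator_le_self N₀ hn
    rw [hcomm] at hn ⊢
    obtain ⟨n', hn', hn'e⟩ := hn
    have hoN : o ∈ N₀ := N₀.mul_mem (N₀.inv_mem hnN) (hSN hs)
    set s' : N₀ := ⟨s, hSN hs⟩ with hs'
    have e : s' = n' * ⟨o, hoN⟩ := Subtype.ext (by
      show s = (n' : G) * o
      rw [show (n' : G) = n from hn'e, ho', mul_inv_cancel_left])
    refine ⟨s', ?_, rfl⟩
    have h1 : (Abelianization.of s') ^ Nat.card O = 1 := by
      have h2 : Abelianization.of n' = 1 := (QuotientGroup.eq_one_iff n').2 hn'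
      rw [e, map_mul, h2, one_mul, ← map_pow]
      have : (⟨o, hoN⟩ : N₀) ^ Nat.card O = 1 := Subtype.ext (by
        rw [SubgroupClass.coe_pow, OneMemClass.coe_one]
        exact orderOf_dvd_iff_pow_eq_one.1
          ((Subgroup.orderOf_mk o ho).symm ▸ orderOf_dvd_natCard (⟨o, ho⟩ : O)))
      rw [this, map_one]
    have h3 : orderOf (Abelianization.of s') = 1 := by
      refine Nat.eq_one_of_dvd_coprimes (?_ : (Nat.card O).Coprime (orderOf s'))
        (orderOf_dvd_of_pow_eq_one h1) (orderOf_map_dvd _ _)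
      rw [Subgroup.orderOf_mk]
      obtain ⟨k, hk⟩ := IsPGroup.iff_orderOf.1 hS.isPGroup ⟨s, hs⟩
      rw [Subgroup.orderOf_mk] at hk
      rw [hk]
      exact hO.pow_right k
    exact (QuotientGroup.eq_one_iff s').1 (orderOf_eq_one_iff.1 h3)
  intro x hx
  obtain ⟨y, hy, hye⟩ := hle ⟨x, hx, rfl⟩
  rwa [hinj x y hx.1 ((transferTarget_le _ _ hy).1) hye.symm]

omit h𝓦

/-- The setting of the reduction: `G` with all proper subgroups and proper quotients controlled. -/
theorem centralizer_le_of_inf_le {S : Subgroup G} (hS : SylIn p S ⊤) (hO : pPrimeCore p G = ⊥)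
    (h : S ⊓ centralizer ((pCore p G : Subgroup G) : Set G) ≤ pCore p G) : Constrained p G := by
  set C := centralizer ((pCore p G : Subgroup G) : Set G) with hC
  haveI : C.Normal := inferInstance
  have hsyl := hS.inf_normal (N := C) le_top (by rw [normalizer_eq_top])
  refine le_trans (CfsgLib.PLocal.le_of_central_of_pPrimeCore_eq_bot (Z := S ⊓ C) hO inf_le_right ?_
    hsyl.isPGroup ((Nat.Prime.coprime_iff_not_dvd Fact.out).2 hsyl.not_dvd).symm) h
  exact fun c hc z hz => hc z (h hz)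

theorem mem_centralizer_of_coprime {S C : Subgroup G} [C.Normal] (hS : IsPGroup p S)
    (h : S ⊔ C = ⊤) {y : G} (hy : (orderOf y).Coprime p) : y ∈ C := by
  have hq : IsPGroup p (G ⧸ C) := by
    have h1 : S.map (QuotientGroup.mk' C) = ⊤ := by
      rw [eq_top_iff, ← Subgroup.map_top_of_surjective _ (QuotientGroup.mk'_surjective C), ← h,
        Subgroup.map_sup, QuotientGroup.map_mk'_self, sup_bot_eq]
    have h2 := hS.map (QuotientGroup.mk' C)
    rw [h1] at h2
    exact h2.of_equiv Subgroup.topEquiv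
  rw [← QuotientGroup.eq_one_iff]
  exact CfsgLib.Transfer.eq_one_of_coprime_orderOf hq
    (hy.coprime_dvd_left (orderOf_map_dvd (QuotientGroup.mk' C) y))

theorem cj_pCore (g : G) : cj g (pCore p G) = pCore p G :=
  mem_normalizer_iff_cj.1 (by rw [normalizer_eq_top]; exact mem_top g)

include h𝓦

/-- Fusion is controlled in `G` if it is in its proper subgroups and in its proper quotients,
unless `G` is constrained. -/
theorem familyFusion_reduce
    (hK : ∀ K : Subgroup G, K ≠ ⊤ → FamilyControlsStrongFusionIn p (indFam G 𝓦) K)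
    (hQ : ∀ (N : Subgroup G) [N.Normal], N ≠ ⊥ →
      FamilyControlsStrongFusionIn p (indFam (G ⧸ N) 𝓦) ⊤)
    (hC : Constrained p G → FamilyControlsStrongFusionIn p (indFam G 𝓦) ⊤) :
    FamilyControlsStrongFusionIn p (indFam G 𝓦) ⊤ := by
  obtain ⟨S, hS⟩ := exists_sylIn (p := p) (⊤ : Subgroup G)
  have hF := isConjugacyFunctor_indFam (G := G) h𝓦
  set P := pCore p G with hP
  have hPS : P ≤ S := hS.le_of_normal (CfsgLib.Base.isPGroup_pCore p G) le_top (by rw [normalizer_eq_top])
  by_cases hO : pPrimeCore p G = ⊥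
  swap
  · exact familyFusion_of_quotient_coprime h𝓦 (CfsgLib.Base.pPrimeCore_coprime p G) (hQ _ hO)
  by_cases hP0 : P = ⊥
  · refine familyControlsFusion_of_local (E := Extremal p S) hS hF (fun h => h) (fun {V} hV => ?_)
      (fun U _ hU0 hUS => hK _ fun htop => hU0 ?_)
    · obtain ⟨g, hg, -, he⟩ := exists_extremal_conj hS hV
      exact ⟨g, hg, he⟩
    · haveI := normalizer_eq_top_iff.1 htop
      exact le_bot_iff.1 (hP0 ▸ CfsgLib.Base.le_pCore (hS.isPGroup.to_le hUS))
  set C := centralizer ((P : Subgroup G) : Set G) with hCdef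
  haveI : C.Normal := inferInstance
  by_cases hR0 : S ⊓ C ≤ P
  · exact hC (centralizer_le_of_inf_le hS hO hR0)
  set R := P ⊔ (S ⊓ C) with hR
  have hRS : R ≤ S := sup_le hPS inf_le_left
  have hproper : ∀ V : Subgroup G, V ≤ S → ¬ V ≤ P → normalizer (V : Set G) ≠ ⊤ := by
    intro V hVS hV htop
    haveI := normalizer_eq_top_iff.1 htop
    exact hV (CfsgLib.Base.le_pCore (hS.isPGroup.to_le hVS))
  have hSnotP : ¬ S ≤ P := fun h => hR0 (inf_le_left.trans h)
  have hSN : ∀ V : Subgroup G, S ≤ normalizer (V : Set G) → ¬ V ≤ P → V ≤ S →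
      FamilyControlsStrongFusionIn p (indFam G 𝓦) (normalizer (V : Set G)) :=
    fun V _ h2 h3 => hK _ (hproper V h3 h2)
  have hRnorm : normalizer ((S ⊓ C : Subgroup G) : Set G) ≤ normalizer (R : Set G) := by
    intro x hx
    rw [mem_normalizer_iff_cj] at hx ⊢
    rw [hR]
    show (P ⊔ (S ⊓ C)).map _ = _
    rw [Subgroup.map_sup]
    show cj x P ⊔ cj x (S ⊓ C) = _
    rw [hx, cj_pCore]
  have hSR : S ≤ normalizer (R : Set G) := by
    refine le_trans ?_ hRnorm
    rw [le_normalizer_iff_cj]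
    intro s hs
    rw [cj_inf, cj_eq_self_of_mem hs, mem_normalizer_iff_cj.1 (show s ∈ normalizer (C : Set G) by
      rw [normalizer_eq_top]; exact mem_top s)]
  have hRP : ¬ R ≤ P := fun h => hR0 (le_sup_right.trans h)
  refine ⟨S, le_top, hS.isPGroup, hS.not_dvd, fun A g _ hA hgA => link_iff_chain.1 ?_⟩
  set H := S ⊔ C with hH
  by_cases hHtop : H = ⊤
  swap
  · -- factor `g` through `N(R)` and `H`
    obtain ⟨a, ha, c, hc, rfl⟩ := hS.frattini (N := C) le_top (by rw [normalizer_eq_top]) (mem_top g)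
    have haR : a ∈ normalizer (R : Set G) := hRnorm ha.2
    set M := H ⊓ normalizer (R : Set G) with hM
    have hAM : cj a (closure A) ≤ M := by
      rw [Subgroup.map_le_iff_le_comap, closure_le]
      intro x hx
      refine ⟨?_, (normalizer (R : Set G)).mul_mem ((normalizer (R : Set G)).mul_mem haR (hSR (hA hx)))
        ((normalizer (R : Set G)).inv_mem haR)⟩
      have h1 : c * a * x * (c * a)⁻¹ ∈ H := (le_sup_left : S ≤ H) (hgA ⟨x, hx, rfl⟩)
      have hcH : c ∈ H := (le_sup_right : C ≤ H) hc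
      have := H.mul_mem (H.mul_mem (H.inv_mem hcH) h1) hcH
      simpa [mul_assoc] using this
    obtain ⟨k, hk, hkle⟩ := (hS.mono (le_inf le_sup_left hSR) le_top).exists_conj
      (isPGroup_cj (hS.isPGroup.to_le ((closure_le _).2 hA))) hAM
    rw [← cj_mul] at hkle
    have h1 : Link S (stepSet (indFam G 𝓦) S ⊤) A (k * a) :=
      link_of_ctl hF hS hSR (hSN R hSR hRP hRS) (mul_mem hk.2 haR) hA (by
        rintro _ ⟨x, hx, rfl⟩
        exact cj_le_iff.1 hkle x (subset_closure hx))
    have e : c * a = (c * k⁻¹) * (k * a) := by group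
    rw [e]
    refine h1.comp (link_of_ctl hF hS le_sup_left (hK H hHtop)
      (H.mul_mem ((le_sup_right : C ≤ H) hc) (H.inv_mem hk.1)) h1.image_subset ?_)
    rintro _ ⟨_, ⟨x, hx, rfl⟩, rfl⟩
    rw [← lc_mul, ← e]
    exact hgA ⟨x, hx, rfl⟩
  -- now `G = S C`: work modulo `P`
  set π := QuotientGroup.mk' P with hπ
  have hπs : Function.Surjective π := QuotientGroup.mk'_surjective P
  have hSpre : (S.map π).comap π = S := by
    rw [Subgroup.comap_map_eq, hπ, QuotientGroup.ker_mk', sup_eq_left.2 hPS]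
  have hbarS := sylIn_map_of_surjective hS hπs
  have hlink : ∀ N ∈ stepSet (indFam (G ⧸ P) 𝓦) (S.map π) ⊤, ∀ x ∈ N, ∀ B : Set G, B ⊆ S →
      lc x '' (π '' B) ⊆ (S.map π : Subgroup (G ⧸ P)) →
      ∃ y, π y = x ∧ Link S (stepSet (indFam G 𝓦) S ⊤) B y := by
    rintro N ⟨_, ⟨W, hW, rfl⟩, rfl⟩ x hx B hB hxB
    obtain ⟨y, rfl⟩ := hπs x
    set V := (inducedFunctor W (S.map π)).comap π with hV
    have hVS : V ≤ S := (comap_mono (inducedFunctor_le W _)).trans hSpre.le
    have hSVn : S ≤ normalizer (V : Set G) := by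
      rw [hV, ← Subgroup.comap_normalizer_eq_of_surjective _ hπs]
      exact hSpre.ge.trans (comap_mono (le_normalizer_functor
        (isConjugacyFunctor_induced (h𝓦 W hW)) hbarS.isPGroup))
    have hVP : ¬ V ≤ P := by
      intro hle
      refine (isConjugacyFunctor_induced (h𝓦 W hW) _ hbarS.isPGroup).2.1 ?_ ?_
      · rw [Ne, Subgroup.map_eq_bot_iff, hπ, QuotientGroup.ker_mk']; exact hSnotP
      · rw [← Subgroup.map_comap_eq_self_of_surjective hπs (inducedFunctor W (S.map π)), ← hV,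
          Subgroup.map_eq_bot_iff, hπ, QuotientGroup.ker_mk']
        exact hle
    refine ⟨y, rfl, link_of_ctl hF hS hSVn (hSN V hSVn hVP hVS) ?_ hB ?_⟩
    · rw [hV, ← Subgroup.comap_normalizer_eq_of_surjective _ hπs]
      exact hx.2
    · rintro _ ⟨b, hb, rfl⟩
      refine hSpre.le ?_
      obtain ⟨s, hs, e⟩ := hxB ⟨_, ⟨b, hb, rfl⟩, rfl⟩
      exact ⟨s, hs, by rw [e]; simp [lc]⟩
  have hNS : FamilyControlsStrongFusionIn p (indFam G 𝓦) (normalizer (S : Set G)) :=
    hSN S le_normalizer hSnotP le_rfl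
  suffices hmain : ∀ (B : Subgroup G), P ≤ B → B ≤ S → ∀ g : G, cj g B ≤ S →
      Link S (stepSet (indFam G 𝓦) S ⊤) B g by
    refine (hmain (P ⊔ closure A) le_sup_left (sup_le hPS ((closure_le _).2 hA)) g ?_).mono
      fun a ha => (le_sup_right : closure A ≤ _) (subset_closure ha)
    show (P ⊔ closure A).map _ ≤ S
    rw [Subgroup.map_sup]
    refine sup_le (by
      show cj g P ≤ S
      rw [cj_pCore]; exact hPS) ?_
    rw [Subgroup.map_le_iff_le_comap, closure_le]
    intro a ha
    exact hgA ⟨a, ha, rfl⟩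
  intro B
  induction hd : Nat.card S - Nat.card B using Nat.strong_induction_on generalizing B with
  | _ d ih =>
    intro hPB hBS g hg
    rcases eq_or_lt_of_le hBS with rfl | hlt
    · exact link_of_ctl hF hS le_normalizer hNS
        (mem_normalizer_iff_cj.2 (Subgroup.eq_of_le_of_card_ge hg (by rw [card_cj]))) Set.Subset.rfl
        (fun x hx => hg hx)
    have hcfam := familyFusionAt_of_controls (isConjugacyFunctor_indFam h𝓦) hbarS (hQ P hP0)
    obtain ⟨g', hl, hg'⟩ := link_lift hlink (link_iff_chain.2 (hcfam (π '' (B : Set G)) (π g)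
      (mem_top _) (Set.image_mono hBS) (by
        rintro _ ⟨_, ⟨b, hb, rfl⟩, rfl⟩
        exact ⟨_, cj_le_iff.1 hg b hb, by simp⟩))) (B : Set G) hBS rfl
    -- the error term
    set B' := cj g' B with hB'
    set e := g * g'⁻¹ with he
    have hB'S : B' ≤ S := fun x hx => hl.image_subset hx
    have heB : ∀ x ∈ B', π (lc e x) = π x := by
      rintro _ ⟨b, hb, rfl⟩
      show π (lc e (lc g' b)) = π (lc g' b)
      rw [← lc_mul, he, inv_mul_cancel_right, hg' b hb]
      simp [lc]
    suffices hel : Link S (stepSet (indFam G 𝓦) S ⊤) B' e by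
      have := hl.comp hel
      rwa [he, inv_mul_cancel_right] at this
    have hcard : Nat.card B' = Nat.card B := card_cj g' B
    have hPB' : P ≤ B' := by
      rw [hB', ← show cj g' P = P from cj_pCore g']; exact cj_mono hPB
    have hB'lt : B' < S := lt_of_le_of_ne hB'S fun hh =>
      hlt.ne (Subgroup.eq_of_le_of_card_ge hBS (by rw [← hcard, hh]))
    obtain ⟨h, hh, hUS, hUext⟩ := exists_extremal_conj hS hB'S
    set U := cj h B' with hU
    have hlh : Link S (stepSet (indFam G 𝓦) S ⊤) B' h := by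
      have hgrow := lt_inf_normalizer' hS.isPGroup hB'lt
      have h1 := card_lt_of_lt hgrow
      have h2 : Nat.card (S ⊓ normalizer (B' : Set G) : Subgroup G) ≤ Nat.card S :=
        Subgroup.card_le_of_le inf_le_left
      exact (ih _ (by omega) _ rfl (hPB'.trans hgrow.le) inf_le_left h hh).mono hgrow.le
    set f := h * e * h⁻¹ with hf
    have hfP : ∀ u ∈ U, lc f u * u⁻¹ ∈ P := by
      rintro _ ⟨x, hx, rfl⟩
      have h1 : lc e x * x⁻¹ ∈ P := by
        rw [← QuotientGroup.eq_one_iff]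
        show π (lc e x * x⁻¹) = 1
        rw [map_mul, heB x hx, map_inv, mul_inv_cancel]
      have h2 := Subgroup.Normal.conj_mem (inferInstance : P.Normal) _ h1 h
      simpa [hf, lc, mul_assoc] using h2
    have hPU : P ≤ U := by
      rw [hU, ← show cj h P = P from cj_pCore h]; exact cj_mono hPB'
    have hfN : ∀ y : G, (∀ u ∈ U, lc y u * u⁻¹ ∈ P) → y ∈ normalizer (U : Set G) := by
      intro y hy
      refine mem_normalizer_iff_cj.2 (Subgroup.eq_of_le_of_card_ge ?_ (card_cj y U).ge)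
      rw [cj_le_iff]
      intro u hu
      have := U.mul_mem (hPU (hy u hu)) hu
      simpa [lc] using this
    let K : Subgroup G :=
      { carrier := {y | ∀ u ∈ U, lc y u * u⁻¹ ∈ P}
        one_mem' := fun u _ => by simp [lc]
        mul_mem' := fun {x y} hx hy u hu => by
          have h1 := hy u hu
          have h2 := hx (lc y u) ((Subgroup.mem_normalizer_iff.1 (hfN y hy) u).1 hu)
          have := P.mul_mem h2 h1
          simpa [lc, mul_assoc] using this
        inv_mem' := fun {x} hx u hu => by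
          have hu' : lc x⁻¹ u ∈ U :=
            (Subgroup.mem_normalizer_iff.1 (inv_mem (hfN x hx)) u).1 hu
          have := P.inv_mem (hx _ hu')
          simpa [lc, mul_assoc] using this }
    have hKN : K ≤ normalizer (U : Set G) := fun y hy => hfN y hy
    have hNK : normalizer (U : Set G) ≤ normalizer (K : Set G) := by
      rw [le_normalizer_iff_cj]
      intro n hn
      refine Subgroup.eq_of_le_of_card_ge ?_ (by rw [card_cj])
      rw [cj_le_iff]
      intro y hy u hu
      have hu' : lc n⁻¹ u ∈ U := (Subgroup.mem_normalizer_iff.1 (inv_mem hn) u).1 hu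
      have := Subgroup.Normal.conj_mem (inferInstance : P.Normal) _ (hy _ hu') n
      simpa [lc, mul_assoc] using this
    set T := S ⊓ normalizer (U : Set G) with hT
    have hKsyl := (hUext.sylIn hS).inf_normal hKN hNK
    have hcen : ∀ y : K, (orderOf y).Coprime p → ∀ u ∈ U, lc (y : G) u = u := by
      intro y hy u hu
      have hyG : (orderOf (y : G)).Coprime p := by rwa [Subgroup.orderOf_coe]
      have hyC : (y : G) ∈ C := mem_centralizer_of_coprime hS.isPGroup hHtop hyG
      set z := lc (y : G) u * u⁻¹ with hz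
      have hzP : z ∈ P := y.2 u hu
      have hyz : lc (y : G) z = z := by
        have := hyC z hzP
        simp only [lc]
        rw [← this]; group
      have hpow : ∀ n : ℕ, lc ((y : G) ^ n) u = z ^ n * u := by
        intro n
        induction n with
        | zero => simp [lc]
        | succ n ihn =>
          rw [pow_succ', lc_mul, ihn]
          have : lc (y : G) (z ^ n * u) = lc (y : G) z ^ n * lc (y : G) u := by
            simp only [lc, conj_pow]; group
          rw [this, hyz, show lc (y : G) u = z * u by rw [hz]; group, ← mul_assoc, ← pow_succ]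
      have h1 := hpow (orderOf (y : G))
      rw [pow_orderOf_eq_one, lc_one] at h1
      have h2 : z ^ orderOf (y : G) = 1 := mul_eq_right.1 h1.symm
      obtain ⟨k, hk⟩ := IsPGroup.iff_orderOf.1 (CfsgLib.Base.isPGroup_pCore p G) ⟨z, hzP⟩
      rw [Subgroup.orderOf_mk] at hk
      have h3 : orderOf z = 1 := Nat.eq_one_of_dvd_coprimes (Nat.Coprime.pow_left k hyG.symm)
        hk.dvd (orderOf_dvd_of_pow_eq_one h2)
      rw [orderOf_eq_one_iff] at h3
      have : lc (y : G) u = z * u := by rw [hz]; group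
      rw [this, h3, one_mul]
    obtain ⟨t, ht, c', hc', hfe⟩ : ∃ t ∈ T, ∃ c', (∀ u ∈ U, lc c' u = u) ∧ f = t * c' := by
      haveI := CfsgLib.Transfer.pResidual_normal (p := p) (G := K)
      have hsup := pResidual_sup_eq_top (p := p) (R := (T ⊓ K).subgroupOf K) hKsyl.not_dvd
      have hmem : (⟨f, hfP⟩ : K) ∈ (T ⊓ K).subgroupOf K ⊔ pResidual p K := by
        rw [sup_comm, hsup]; exact mem_top _
      rw [Subgroup.mem_sup_of_normal_right] at hmem
      obtain ⟨t, ht, r, hr, hre⟩ := hmem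
      refine ⟨t, ht.1, r, fun u hu => ?_, (congrArg Subtype.val hre).symm⟩
      let D : Subgroup K :=
        { carrier := {y | lc (y : G) u = u}
          one_mem' := by simp [lc]
          mul_mem' := fun {x y} hx hy => by
            show lc ((x * y : K) : G) u = u
            rw [Subgroup.coe_mul, lc_mul, show lc (y : G) u = u from hy]; exact hx
          inv_mem' := fun {x} hx => by
            show lc ((x⁻¹ : K) : G) u = u
            rw [Subgroup.coe_inv]
            conv_lhs => rw [← (show lc (x : G) u = u from hx)]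
            exact lc_inv_lc _ _ }
      have : pResidual p K ≤ D := (closure_le _).2 fun y hy => hcen y hy u hu
      exact this hr
    have hlf : Link S (stepSet (indFam G 𝓦) S ⊤) (U : Set G) f := by
      have h1 : Link S (stepSet (indFam G 𝓦) S ⊤) (U : Set G) t := by
        refine link_of_ctl hF hS le_normalizer hNS (le_normalizer ht.1) hUS ?_
        rintro _ ⟨u, hu, rfl⟩
        exact S.mul_mem (S.mul_mem ht.1 (hUS hu)) (S.inv_mem ht.1)
      refine h1.congr fun u hu => ?_
      rw [hfe, lc_mul, hc' u hu]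
    have hfU : lc f '' (U : Set G) = U := by
      rw [image_lc, mem_normalizer_iff_cj.1 (hKN hfP)]
    have h4 := (hlh.comp (k := f) hlf).comp (k := h⁻¹) (by
      rw [show lc (f * h) '' (B' : Set G) = lc h '' (B' : Set G) by
        rw [show lc (f * h) '' (B' : Set G) = lc f '' (lc h '' (B' : Set G)) by
          rw [Set.image_image]; exact Set.image_congr fun a _ => lc_mul f h a]
        exact hfU]
      exact hlh.inv)
    rwa [hf, show h⁻¹ * (h * e * h⁻¹ * h) = e by group] at h4

omit h𝓦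

/-- The transfer of an element fixing every coset. -/
theorem transfer_apply_of_fixed {H : Subgroup G} {A : Type*} [CommGroup A] (φ : H →* A) {z : G}
    [inst : Fintype (G ⧸ H)] (hz : ∀ q : G ⧸ H, z • q = q) (hmem : ∀ q : G ⧸ H, q.out⁻¹ * z * q.out ∈ H) :
    MonoidHom.transfer φ z = ∏ q : G ⧸ H, φ ⟨q.out⁻¹ * z * q.out, hmem q⟩ := by
  have ho : ∀ q : G ⧸ H, ((Quotient.out q : G) : G ⧸ H) = q := fun q => Quotient.out_eq' q
  let T : H.LeftTransversal := ⟨Set.range Quotient.out, Subgroup.isComplement_range_left ho⟩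
  obtain rfl : inst = H.fintypeQuotientOfFiniteIndex := Subsingleton.elim _ _
  let := H.fintypeQuotientOfFiniteIndex
  rw [MonoidHom.transfer_def φ T z]
  unfold Subgroup.leftTransversals.diff
  refine Fintype.prod_congr _ _ fun q => congrArg φ (Subtype.ext ?_)
  have e1 : ((T.2.leftQuotientEquiv q : T.1) : G) = q.out :=
    Subgroup.IsComplement.leftQuotientEquiv_apply ho q
  show ((T.2.leftQuotientEquiv q : T.1) : G)⁻¹ * ((z • T).2.leftQuotientEquiv q : _) = _
  rw [Subgroup.smul_apply_eq_smul_apply_inv_smul, e1, smul_eq_mul]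
  have e2 : z⁻¹ • q = q := by
    conv_lhs => rw [← hz q, inv_smul_smul]
  rw [e2, e1]
  group

/-- A subgroup of `S` containing `[S, S]` absorbs the elements of `G'` central modulo it. -/
theorem mem_of_conj_eq {S X : Subgroup G} (hS : SylIn p S ⊤) (hXS : X ≤ S) (hSX : ⁅S, S⁆ ≤ X)
    {z : G} (hzS : z ∈ S) (hzc : ∀ g : G, g⁻¹ * z * g ∈ S ∧ z⁻¹ * (g⁻¹ * z * g) ∈ X)
    (hz : z ∈ ⁅(⊤ : Subgroup G), (⊤ : Subgroup G)⁆) : z ∈ X := by
  classical
  have hcomm : commutator S ≤ X.subgroupOf S := by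
    intro x hx
    refine Subgroup.mem_subgroupOf.2 (hSX ?_)
    rw [← map_subtype_commutator S]
    exact ⟨x, hx, rfl⟩
  haveI : (X.subgroupOf S).Normal := Subgroup.Normal.of_commutator_le S hcomm
  letI : CommGroup (S ⧸ X.subgroupOf S) :=
    { (inferInstance : Group (S ⧸ X.subgroupOf S)) with
      mul_comm := fun a b => by
        induction a using QuotientGroup.induction_on with
        | _ a =>
          induction b using QuotientGroup.induction_on with
          | _ b =>
            rw [← QuotientGroup.mk_mul, ← QuotientGroup.mk_mul, QuotientGroup.eq]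
            refine hcomm ?_
            have := Subgroup.commutator_mem_commutator (H₁ := (⊤ : Subgroup S)) (H₂ := (⊤ : Subgroup S))
              (mem_top b⁻¹) (mem_top a⁻¹)
            simpa [commutator_def, commutatorElement_def, mul_assoc] using this }
  let φ : S →* S ⧸ X.subgroupOf S := QuotientGroup.mk' _
  letI : Fintype (G ⧸ S) := Fintype.ofFinite _
  have hfix : ∀ q : G ⧸ S, z • q = q := by
    intro q
    conv_rhs => rw [← QuotientGroup.out_eq' q]
    conv_lhs => rw [← QuotientGroup.out_eq' q]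
    refine QuotientGroup.eq.2 ?_
    have h1 := S.inv_mem (hzc q.out).1
    simpa [mul_assoc] using h1
  have h1 := transfer_apply_of_fixed φ hfix (fun q => (hzc q.out).1)
  have h2 : ∀ q : G ⧸ S, φ ⟨q.out⁻¹ * z * q.out, (hzc q.out).1⟩ = φ ⟨z, hzS⟩ := by
    intro q
    refine (QuotientGroup.eq.2 ?_).symm
    exact Subgroup.mem_subgroupOf.2 (hzc q.out).2
  rw [Fintype.prod_congr _ _ h2, Finset.prod_const, Finset.card_univ, ← Nat.card_eq_fintype_card] at h1
  have h3 : MonoidHom.transfer φ z = 1 :=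
    Abelianization.commutator_subset_ker (MonoidHom.transfer φ) (by rwa [commutator_def])
  rw [h3] at h1
  have h4 : orderOf (φ ⟨z, hzS⟩) = 1 := by
    obtain ⟨k, hk⟩ := IsPGroup.iff_orderOf.1 hS.isPGroup ⟨z, hzS⟩
    refine Nat.eq_one_of_dvd_coprimes (?_ : (p ^ k).Coprime (Nat.card (G ⧸ S)))
      (hk ▸ orderOf_map_dvd φ _) (orderOf_dvd_of_pow_eq_one h1.symm)
    refine Nat.Coprime.pow_left k ((Nat.Prime.coprime_iff_not_dvd Fact.out).2 ?_)
    have := hS.not_dvd
    rwa [relIndex_top_right] at this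
  exact Subgroup.mem_subgroupOf.1 ((QuotientGroup.eq_one_iff _).1 (orderOf_eq_one_iff.1 h4))

include h𝓦

/-- If the proper quotient `G / O_p(G)` and the proper subgroups are controlled, transfer control
reduces to `O_p(G) ∩ G'`. -/
theorem familyTransfer_of_pCore_inf
    (hK : ∀ K : Subgroup G, K ≠ ⊤ → FamilyControlsTransferIn p (indFam G 𝓦) K)
    (hQ : FamilyControlsTransferIn p (indFam (G ⧸ pCore p G) 𝓦) ⊤)
    {S : Subgroup G} (hS : SylIn p S ⊤) (hSP : ¬ S ≤ pCore p G)
    (h : pCore p G ⊓ ⁅(⊤ : Subgroup G), (⊤ : Subgroup G)⁆ ≤ transferTarget S (indFam G 𝓦)) :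
    FamilyControlsTransferIn p (indFam G 𝓦) ⊤ := by
  have hF := isConjugacyFunctor_indFam (G := G) h𝓦
  set P := pCore p G with hP
  have hPS : P ≤ S :=
    hS.le_of_normal (CfsgLib.Base.isPGroup_pCore p G) le_top (by rw [normalizer_eq_top])
  set π := QuotientGroup.mk' P with hπ
  have hπs : Function.Surjective π := QuotientGroup.mk'_surjective P
  have hSpre : (S.map π).comap π = S := by
    rw [Subgroup.comap_map_eq, hπ, QuotientGroup.ker_mk', sup_eq_left.2 hPS]
  have hbarS := sylIn_map_of_surjective hS hπs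
  have hat := familyTransferAt_of_controls (isConjugacyFunctor_indFam h𝓦) hbarS hQ
  have hle : (S ⊓ ⁅(⊤ : Subgroup G), (⊤ : Subgroup G)⁆).map π ≤ (transferTarget S (indFam G 𝓦)).map π := by
    refine le_trans (le_inf (map_mono inf_le_left) ?_) (hat.le.trans ?_)
    · refine (map_mono inf_le_right).trans ?_
      rw [Subgroup.map_commutator]
      exact commutator_mono le_top le_top
    refine iSup₂_le ?_
    rintro _ ⟨W, hW, rfl⟩
    set V := (inducedFunctor W (S.map π)).comap π with hV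
    have hM : normalizer (V : Set G) =
        (normalizer (inducedFunctor W (S.map π) : Set (G ⧸ P))).comap π :=
      (Subgroup.comap_normalizer_eq_of_surjective _ hπs).symm
    have hSVn : S ≤ normalizer (V : Set G) := by
      rw [hM]
      exact hSpre.ge.trans (comap_mono (le_normalizer_functor
        (isConjugacyFunctor_induced (h𝓦 W hW)) hbarS.isPGroup))
    have hVS : V ≤ S := (comap_mono (inducedFunctor_le W _)).trans hSpre.le
    have htop : normalizer (V : Set G) ≠ ⊤ := by
      intro htop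
      haveI := normalizer_eq_top_iff.1 htop
      refine (isConjugacyFunctor_induced (h𝓦 W hW) _ hbarS.isPGroup).2.1 ?_ ?_
      · rw [Ne, Subgroup.map_eq_bot_iff, hπ, QuotientGroup.ker_mk']; exact hSP
      · rw [← Subgroup.map_comap_eq_self_of_surjective hπs (inducedFunctor W (S.map π)), ← hV,
          Subgroup.map_eq_bot_iff, hπ, QuotientGroup.ker_mk']
        exact CfsgLib.Base.le_pCore (hS.isPGroup.to_le hVS)
    have hN : (⊤ : Subgroup (G ⧸ P)) ⊓ normalizer (inducedFunctor W (S.map π) : Set (G ⧸ P)) ≤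
        (normalizer (V : Set G)).map π := by
      rw [hM, Subgroup.map_comap_eq_self_of_surjective hπs]
      exact inf_le_right
    refine le_trans (inf_le_inf_left _ (commutator_mono hN hN)) ?_
    rw [← Subgroup.map_commutator]
    rintro _ ⟨⟨s, hs, rfl⟩, m, hm, hms⟩
    refine ⟨m, target_of_ctl hF hS hSVn (hK _ htop) ⟨?_, hm⟩, hms⟩
    exact hSpre.le ⟨s, hs, hms.symm⟩
  refine ⟨S, le_top, hS.isPGroup, hS.not_dvd, le_antisymm ?_ (transferTarget_le _ _)⟩
  intro x hx
  obtain ⟨y, hy, hye⟩ := hle ⟨x, hx, rfl⟩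
  have h1 : y⁻¹ * x ∈ P ⊓ ⁅(⊤ : Subgroup G), (⊤ : Subgroup G)⁆ :=
    ⟨QuotientGroup.eq.1 hye, Subgroup.mul_mem _ (Subgroup.inv_mem _ (transferTarget_le _ _ hy).2) hx.2⟩
  have := mul_mem hy (h h1)
  rwa [mul_inv_cancel_left] at this

/-- Transfer is controlled in `G` if it is in its proper subgroups and in its proper quotients,
unless `G` is constrained. -/
theorem familyTransfer_reduce
    (hK : ∀ K : Subgroup G, K ≠ ⊤ → FamilyControlsTransferIn p (indFam G 𝓦) K)
    (hQ : ∀ (N : Subgroup G) [N.Normal], N ≠ ⊥ →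
      FamilyControlsTransferIn p (indFam (G ⧸ N) 𝓦) ⊤)
    (hC : Constrained p G → FamilyControlsTransferIn p (indFam G 𝓦) ⊤) :
    FamilyControlsTransferIn p (indFam G 𝓦) ⊤ := by
  obtain ⟨S, hS⟩ := exists_sylIn (p := p) (⊤ : Subgroup G)
  have hF := isConjugacyFunctor_indFam (G := G) h𝓦
  set P := pCore p G with hP
  have hPS : P ≤ S :=
    hS.le_of_normal (CfsgLib.Base.isPGroup_pCore p G) le_top (by rw [normalizer_eq_top])
  by_cases hO : pPrimeCore p G = ⊥
  swap
  · exact familyTransfer_of_quotient_coprime h𝓦 (CfsgLib.Base.pPrimeCore_coprime p G) (hQ _ hO)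
  by_cases hP0 : P = ⊥
  · refine familyControlsTransfer_of_local (E := Extremal p S) hS hF (fun h => h) (fun {V} hV => ?_)
      (fun U _ hU0 hUS => hK _ fun htop => hU0 ?_)
    · obtain ⟨g, hg, -, he⟩ := exists_extremal_conj hS hV
      exact ⟨g, hg, he⟩
    · haveI := normalizer_eq_top_iff.1 htop
      exact le_bot_iff.1 (hP0 ▸ CfsgLib.Base.le_pCore (hS.isPGroup.to_le hUS))
  set C := centralizer ((P : Subgroup G) : Set G) with hCdef
  haveI : C.Normal := inferInstance
  by_cases hR0 : S ⊓ C ≤ P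
  · exact hC (centralizer_le_of_inf_le hS hO hR0)
  set R := P ⊔ (S ⊓ C) with hR
  have hRS : R ≤ S := sup_le hPS inf_le_left
  have hproper : ∀ V : Subgroup G, V ≤ S → ¬ V ≤ P → normalizer (V : Set G) ≠ ⊤ := by
    intro V hVS hV htop
    haveI := normalizer_eq_top_iff.1 htop
    exact hV (CfsgLib.Base.le_pCore (hS.isPGroup.to_le hVS))
  have hSnotP : ¬ S ≤ P := fun h => hR0 (inf_le_left.trans h)
  have hRnorm : normalizer ((S ⊓ C : Subgroup G) : Set G) ≤ normalizer (R : Set G) := by
    intro x hx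
    rw [mem_normalizer_iff_cj] at hx ⊢
    rw [hR]
    show (P ⊔ (S ⊓ C)).map _ = _
    rw [Subgroup.map_sup]
    show cj x P ⊔ cj x (S ⊓ C) = _
    rw [hx, cj_pCore]
  have hSR : S ≤ normalizer (R : Set G) := by
    refine le_trans ?_ hRnorm
    rw [le_normalizer_iff_cj]
    intro s hs
    rw [cj_inf, cj_eq_self_of_mem hs, mem_normalizer_iff_cj.1 (show s ∈ normalizer (C : Set G) by
      rw [normalizer_eq_top]; exact mem_top s)]
  have hRP : ¬ R ≤ P := fun h => hR0 (le_sup_right.trans h)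
  set H := S ⊔ C with hH
  by_cases hHtop : H = ⊤
  swap
  · refine familyControlsTransfer_of_focal hS fun x hx g hgx => ?_
    obtain ⟨a, ha, c, hc, rfl⟩ := hS.frattini (N := C) le_top (by rw [normalizer_eq_top]) (mem_top g)
    have haR : a ∈ normalizer (R : Set G) := hRnorm ha.2
    have hcH : c ∈ H := (le_sup_right : C ≤ H) hc
    have hAM : cj a (zpowers x) ≤ H ⊓ normalizer (R : Set G) := by
      rw [Subgroup.map_le_iff_le_comap, zpowers_le]
      refine ⟨?_, (normalizer (R : Set G)).mul_mem ((normalizer (R : Set G)).mul_mem haR (hSR hx))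
        ((normalizer (R : Set G)).inv_mem haR)⟩
      have h1 : lc (c * a) x ∈ H := (le_sup_left : S ≤ H) hgx
      have := H.mul_mem (H.mul_mem (H.inv_mem hcH) h1) hcH
      simpa [lc, mul_assoc] using this
    obtain ⟨k, hk, hkle⟩ := (hS.mono (le_inf le_sup_left hSR) le_top).exists_conj
      (isPGroup_cj (hS.isPGroup.to_le (zpowers_le.2 hx))) hAM
    rw [← cj_mul] at hkle
    have hy : lc (k * a) x ∈ S := cj_le_iff.1 hkle x (mem_zpowers x)
    have e : c * a = (c * k⁻¹) * (k * a) := by group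
    have hgx' : lc (c * k⁻¹) (lc (k * a) x) ∈ S := by rw [← lc_mul, ← e]; exact hgx
    have h1 := focal_of_ctl hF hS hSR (hK _ (hproper R hRS hRP)) hx (mul_mem hk.2 haR) hy
    have h2 := focal_of_ctl hF hS le_sup_left (hK H hHtop) hy
      (H.mul_mem hcH (H.inv_mem hk.1)) hgx'
    have h3 := mul_mem h1 h2
    rw [e, lc_mul]
    simpa [mul_assoc] using h3
  refine familyTransfer_of_pCore_inf h𝓦 hK (hQ P hP0) hS hSnotP fun z hz => ?_
  set X := transferTarget S (indFam G 𝓦) with hX
  have hSX : ⁅S, S⁆ ≤ X := by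
    refine le_trans ?_ (target_of_ctl hF hS le_normalizer (hK _ (hproper S le_rfl hSnotP)))
    exact le_inf (Subgroup.commutator_le_self S) (commutator_mono le_normalizer le_normalizer)
  refine mem_of_conj_eq hS (fun x hx => (transferTarget_le _ _ hx).1) hSX (hPS hz.1) (fun g => ?_) hz.2
  have hg : g ∈ S ⊔ C := by rw [← hH, hHtop]; exact mem_top g
  rw [sup_comm, Subgroup.mem_sup_of_normal_left] at hg
  obtain ⟨c, hc, s, hs, rfl⟩ := hg
  have e : (c * s)⁻¹ * z * (c * s) = s⁻¹ * z * s := by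
    calc (c * s)⁻¹ * z * (c * s) = s⁻¹ * (c⁻¹ * (z * c)) * s := by group
      _ = s⁻¹ * (c⁻¹ * (c * z)) * s := by rw [hc z hz.1]
      _ = _ := by group
  rw [e]
  refine ⟨S.mul_mem (S.mul_mem (S.inv_mem hs) (hPS hz.1)) hs, hSX ?_⟩
  have := Subgroup.commutator_mem_commutator (S.inv_mem (hPS hz.1)) (S.inv_mem hs)
  simpa [commutatorElement_def, mul_assoc] using this

end CfsgLib.Techniques
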