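import Mathlib
import Cfsg.Agent.Lib.OddOrder.PStableCriterion
import Cfsg.Agent.Lib.Components.Bender
import Cfsg.Agent.Lib.Base.MinimalNormal
import Cfsg.Agent.Lib.Base.Cores
import Cfsg.Agent.Lib.PLocal.Quadratic
import Cfsg.Agent.Lib.PLocal.PSolvable
import Cfsg.Agent.Lib.Coprime.Action

/-!
# Centralisers of self-centralising normal abelian subgroups of the Fitting subgroup of a Hall subgroup
-/

set_option autoImplicit false
set_option linter.unusedSectionVars false

universe u

namespace CfsgLib.Techniques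

open Cfsg Subgroup CfsgLib.Base
open scoped commutatorElement

variable {S : Type u} [Group S] [Finite S]

/-- A subgroup containing all prime-power parts of `x` contains `x`. -/
theorem mem_of_primePowerParts {K : Subgroup S} {x : S}
    (h : ∀ y ∈ zpowers x, ∀ t k : ℕ, t.Prime → orderOf y = t ^ k → y ∈ K) : x ∈ K := by
  have hle : zpowers x ≤ K := by
    rw [← relIndex_eq_one]
    by_contra hne
    obtain ⟨t, ht, htd⟩ := Nat.exists_prime_and_dvd hne
    haveI := Fact.mk ht
    obtain ⟨P⟩ : Nonempty (Sylow t ↥(zpowers x)) := inferInstance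
    have hPK : (P : Subgroup ↥(zpowers x)) ≤ K.subgroupOf (zpowers x) := by
      intro y hy
      obtain ⟨k, hk⟩ := P.isPGroup' ⟨y, hy⟩
      have hyk : (y : S) ^ t ^ k = 1 := by
        simpa using congrArg (fun z : ↥(P : Subgroup ↥(zpowers x)) => ((z : ↥(zpowers x)) : S)) hk
      obtain ⟨j, -, hj⟩ := (Nat.dvd_prime_pow ht).mp (orderOf_dvd_of_pow_eq_one hyk)
      exact mem_subgroupOf.mpr (h y y.2 t j ht hj)
    exact P.not_dvd_index (htd.trans (index_dvd_of_le hPK))
  exact hle (mem_zpowers x)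

variable {π : Set ℕ}

/-- The centraliser statement in a quotient without `π'`-core. -/
theorem centralizer_le_of_piCore_bot [Group.IsSolvable S] (h2 : 2 ∉ π) (h3 : 3 ∉ π)
    (hO : piCore πᶜ S = ⊥) (A : Subgroup S) (hAab : IsMulCommutative A)
    (hnorm : ∀ t : ℕ, t.Prime → pCore t S ≤ normalizer (A : Set S))
    (hcent : ∀ t : ℕ, t.Prime → pCore t S ⊓ centralizer (A : Set S) ≤ A) :
    centralizer (A : Set S) ≤ A := by
  have hRbot : ∀ t : ℕ, t.Prime → t ∉ π → pCore t S = ⊥ := by
    intro t ht htπ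
    haveI := Fact.mk ht
    rw [eq_bot_iff, ← hO]
    refine le_piCore fun q hq hqd => ?_
    obtain ⟨n, hn⟩ := IsPGroup.iff_card.mp (isPGroup_pCore t S)
    rw [hn] at hqd
    rw [(Nat.prime_dvd_prime_iff_eq hq ht).mp (hq.dvd_of_dvd_pow hqd)]
    exact htπ
  -- commutators of the centraliser with the cores lie in `A`
  have hcomm : ∀ t : ℕ, t.Prime → ∀ y ∈ centralizer (A : Set S), ⁅pCore t S, zpowers y⁆ ≤ A := by
    intro t ht y hy
    have hyA : zpowers y ≤ centralizer (A : Set S) := zpowers_le.mpr hy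
    refine le_trans (le_inf ?_ ?_) (hcent t ht)
    · exact Subgroup.commutator_le_left _ _
    · rw [← commutator_eq_bot_iff_le_centralizer]
      have h1 : ⁅⁅zpowers y, A⁆, pCore t S⁆ = ⊥ := by
        rw [commutator_eq_bot_iff_le_centralizer.mpr hyA, commutator_bot_left]
      have h2 : ⁅⁅A, pCore t S⁆, zpowers y⁆ = ⊥ := by
        refine le_bot_iff.mp ((commutator_mono (CfsgLib.PLocal.commutator_le_of_le_normalizer
          (hnorm t ht)) le_rfl).trans ?_)
        rw [commutator_comm, commutator_eq_bot_iff_le_centralizer.mpr hyA]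
      exact commutator_commutator_eq_bot_of_rotate h1 h2
  have hquad : ∀ t : ℕ, t.Prime → ∀ y ∈ centralizer (A : Set S),
      ⁅⁅pCore t S, zpowers y⁆, zpowers y⁆ = ⊥ := by
    intro t ht y hy
    refine le_bot_iff.mp ((commutator_mono (hcomm t ht y hy) le_rfl).trans ?_)
    rw [commutator_comm, commutator_eq_bot_iff_le_centralizer.mpr (zpowers_le.mpr hy)]
  intro x hx
  refine mem_of_primePowerParts fun y hyx t k ht hyt => ?_
  haveI := Fact.mk ht
  have hy : y ∈ centralizer (A : Set S) := zpowers_le.mpr hx hyx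
  -- `y` centralises the other cores
  have hcop : ∀ s : ℕ, s.Prime → s ≠ t → zpowers y ≤ centralizer (pCore s S : Set S) := by
    intro s hs hst
    haveI := Fact.mk hs
    obtain ⟨n, hn⟩ := IsPGroup.iff_card.mp (isPGroup_pCore s S)
    have hcp : (Nat.card (zpowers y)).Coprime (Nat.card (pCore s S)) := by
      rw [Nat.card_zpowers, hyt, hn]
      exact Nat.Coprime.pow _ _ ((Nat.coprime_primes ht hs).mpr (Ne.symm hst))
    have h := CfsgLib.Coprime.commutator_commutator_eq (A := zpowers y) (K := pCore s S)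
      (by rw [normalizer_eq_top]; exact le_top) hcp (Or.inl inferInstance)
    rw [hquad s hs y hy] at h
    rw [← commutator_eq_bot_iff_le_centralizer, commutator_comm]
    exact h.symm
  have hyt' : IsPGroup t (zpowers y) := IsPGroup.of_card (n := k) (by rw [Nat.card_zpowers, hyt])
  have hF : ∀ X : Subgroup S, (∀ s : ℕ, s.Prime → X ≤ centralizer (pCore s S : Set S)) →
      X ≤ fittingSubgroup S := fun X hX => by
    refine le_trans ?_ centralizer_fittingSubgroup_le
    rw [le_centralizer_iff, fittingSubgroup_eq_iSup_pCore]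
    exact iSup_le fun s => le_centralizer_iff.mp (hX s s.2)
  by_cases htπ : t ∈ π
  swap
  · have hyF : zpowers y ≤ fittingSubgroup S := hF _ fun s hs => by
      by_cases hst : s = t
      · subst hst
        rw [hRbot s hs htπ]
        intro z _
        exact mem_centralizer_iff.mpr fun w hw => by rw [mem_bot.mp hw]; simp
      · exact hcop s hs hst
    have := CfsgLib.Components.pGroup_le_pCore_of_le_fitting hyt' hyF (mem_zpowers y)
    rw [hRbot t ht htπ, mem_bot] at this
    rw [this]; exact one_mem A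
  have ht5 : 5 ≤ t := by
    rcases lt_or_ge t 5 with h | h
    · have := ht.two_le
      rcases (show t = 2 ∨ t = 3 ∨ t = 4 by omega) with rfl | rfl | rfl
      · exact absurd htπ h2
      · exact absurd htπ h3
      · exact absurd ht (by norm_num)
    · exact h
  set R := pCore t S
  set C := centralizer (R : Set S) with hC
  haveI : C.Normal := by rw [hC]; infer_instance
  have himg : (QuotientGroup.mk y : S ⧸ C) ∈ pCore t (S ⧸ C) :=
    (CfsgLib.OddOrder.mem_pCore_centralizer_pGroup_or_involves (by omega) R (isPGroup_pCore t S) y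
      (hquad t ht y hy)).resolve_right
      (CfsgLib.OddOrder.InvolvesSL2.not_of_pSolvable ht5 CfsgLib.PLocal.isPSolvable_of_isSolvable)
  set W := (pCore t (S ⧸ C)).comap (QuotientGroup.mk' C) ⊓
    ⨅ s : {s : Nat.Primes // (s : ℕ) ≠ t}, centralizer (pCore ((s : Nat.Primes) : ℕ) S : Set S)
    with hW
  haveI hWn : W.Normal := by
    rw [hW]
    haveI : (⨅ s : {s : Nat.Primes // (s : ℕ) ≠ t},
        centralizer (pCore ((s : Nat.Primes) : ℕ) S : Set S)).Normal :=
      Subgroup.normal_iInf_normal fun s => inferInstance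
    infer_instance
  have hWc : ∀ s : ℕ, s.Prime → s ≠ t → W ≤ centralizer (pCore s S : Set S) := fun s hs hst =>
    inf_le_right.trans (iInf_le_of_le (⟨⟨s, hs⟩, hst⟩ : {s : Nat.Primes // (s : ℕ) ≠ t}) le_rfl)
  have hyW : y ∈ W := by
    refine mem_inf.mpr ⟨himg, mem_iInf.mpr fun s => hcop _ s.1.2 s.2 (mem_zpowers y)⟩
  -- elements of `W` of order prime to `t` are central in `W`
  have hcentral : ∀ w : W, (orderOf (w : S)).Coprime t → w ∈ center W := by
    intro w hw
    have hwC : (w : S) ∈ C := by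
      have h1 : (QuotientGroup.mk (w : S) : S ⧸ C) ∈ pCore t (S ⧸ C) := (mem_inf.mp w.2).1
      obtain ⟨j, hj⟩ := isPGroup_pCore t (S ⧸ C) ⟨_, h1⟩
      have h2 : (QuotientGroup.mk (w : S) : S ⧸ C) ^ t ^ j = 1 := by simpa using congrArg Subtype.val hj
      have h3 : orderOf (QuotientGroup.mk (w : S) : S ⧸ C) = 1 :=
        Nat.eq_one_of_dvd_coprimes (hw.pow_right j) (orderOf_map_dvd (QuotientGroup.mk' C) (w : S))
          (orderOf_dvd_of_pow_eq_one h2)
      exact (QuotientGroup.eq_one_iff _).mp (orderOf_eq_one_iff.mp h3)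
    have hwF : (w : S) ∈ fittingSubgroup S := hF (zpowers (w : S)) (fun s hs => zpowers_le.mpr (by
      by_cases hst : s = t
      · subst hst; exact hwC
      · exact hWc s hs hst w.2)) (mem_zpowers _)
    refine mem_center_iff.mpr fun v => Subtype.ext ?_
    have : (w : S) ∈ centralizer ({(v : S)} : Set S) := by
      refine mem_of_primePowerParts fun u hu s j hs hus => ?_
      haveI := Fact.mk hs
      by_cases hst : s = t
      · have h1 : orderOf u ∣ orderOf (w : S) := orderOf_dvd_of_mem_zpowers hu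
        have : u = 1 := by
          rw [← orderOf_eq_one_iff]
          exact Nat.eq_one_of_dvd_coprimes (hw.pow_right j) h1 (by rw [hus, hst])
        rw [this]; exact one_mem _
      · have hu' : u ∈ pCore s S := CfsgLib.Components.pGroup_le_pCore_of_le_fitting
          (IsPGroup.of_card (n := j) (by rw [Nat.card_zpowers, hus]))
          (zpowers_le.mpr (zpowers_le.mpr hwF hu)) (mem_zpowers u)
        exact mem_centralizer_singleton_iff.mpr (mem_centralizer_iff.mp (hWc s hs hst v.2) u hu')
    exact (mem_centralizer_singleton_iff.mp this).symm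
  haveI : Group.IsNilpotent W := by
    refine of_quotient_center_nilpotent (IsPGroup.isNilpotent (p := t) fun q => ?_)
    obtain ⟨w, rfl⟩ := QuotientGroup.mk_surjective q
    refine ⟨(orderOf (w : S)).factorization t, ?_⟩
    rw [← QuotientGroup.mk_pow, QuotientGroup.eq_one_iff]
    refine hcentral _ ?_
    rw [SubgroupClass.coe_pow, orderOf_pow' _ (pow_ne_zero _ ht.ne_zero),
      Nat.gcd_eq_right (Nat.ordProj_dvd _ t)]
    exact (Nat.coprime_ordCompl ht (orderOf_pos _).ne').symm
  have hyR : y ∈ R := CfsgLib.Components.pGroup_le_pCore_of_le_fitting hyt'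
    (zpowers_le.mpr (le_fittingSubgroup (N := W) inferInstance hyW)) (mem_zpowers y)
  exact hcent t ht (mem_inf.mpr ⟨hyR, hy⟩)

theorem centralizer_scn_fitting_hall [Group.IsSolvable S] (h2 : 2 ∉ π) (h3 : 3 ∉ π) (H : Subgroup S)
    (hH : IsPiHall π H) (A : Subgroup S) (hA : IsSCN ((fittingSubgroup H).map H.subtype) A) :
    ∃ D : Subgroup S, D ≤ centralizer (A : Set S) ∧
      (∀ c ∈ centralizer (A : Set S), ∀ d ∈ D, c * d * c⁻¹ ∈ D) ∧
      A ⊓ D = ⊥ ∧ A ⊔ D = centralizer (A : Set S) ∧
      ∀ q : ℕ, q.Prime → q ∣ Nat.card D → q ∉ π := by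
  classical
  set N := piCore πᶜ S with hN
  have hNpi : ∀ q : ℕ, q.Prime → q ∣ Nat.card N → q ∉ π := fun q hq hd => piCore_primes πᶜ S q hq hd
  set F := (fittingSubgroup H).map H.subtype
  have hFH : F ≤ H := map_subtype_le _
  have hAH : A ≤ H := hA.1.trans hFH
  have hHN : H ⊓ N = ⊥ := by
    rw [← Subgroup.card_eq_one]
    by_contra hne
    obtain ⟨q, hq, hqd⟩ := Nat.exists_prime_and_dvd hne
    exact hNpi q hq (hqd.trans (card_dvd_of_le inf_le_right))
      (hH.1 q hq (hqd.trans (card_dvd_of_le inf_le_left)))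
  have hAN : A ⊓ N = ⊥ := le_bot_iff.mp ((inf_le_inf_right N hAH).trans hHN.le)
  have hAcomm : A ≤ centralizer (A : Set S) := fun a ha => by
    have h : a ∈ F ⊓ centralizer (A : Set S) := by rw [hA.2.2]; exact ha
    exact (mem_inf.mp h).2
  haveI hAab : IsMulCommutative A :=
    ⟨⟨fun a b => Subtype.ext ((mem_centralizer_iff.mp (hAcomm b.2)) a a.2)⟩⟩
  set φ := QuotientGroup.mk' N with hφ
  have hinj : ∀ a b : S, a ∈ H → b ∈ H → φ a = φ b → a = b := by
    intro a b ha hb he
    have : a⁻¹ * b ∈ H ⊓ N := mem_inf.mpr ⟨mul_mem (inv_mem ha) hb, QuotientGroup.eq.mp he⟩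
    rw [hHN, mem_bot, inv_mul_eq_one] at this
    exact this
  -- the cores of the quotient come from the Fitting subgroup of `H`
  have hlift : ∀ t : ℕ, t.Prime → ∀ r ∈ pCore t (S ⧸ N), ∃ f ∈ F, φ f = r := by
    intro t ht r hr
    haveI := Fact.mk ht
    by_cases htπ : t ∈ π
    swap
    · have hb : pCore t (S ⧸ N) ≤ piCore πᶜ (S ⧸ N) := le_piCore fun q hq hqd => by
        obtain ⟨n, hn⟩ := IsPGroup.iff_card.mp (isPGroup_pCore t (S ⧸ N))
        rw [hn] at hqd
        rw [(Nat.prime_dvd_prime_iff_eq hq ht).mp (hq.dvd_of_dvd_pow hqd)]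
        exact htπ
      have := hb hr
      rw [piCore_quotient_piCore, mem_bot] at this
      exact ⟨1, one_mem F, by rw [this, map_one]⟩
    set R := pCore t (S ⧸ N)
    have hRH : R ≤ H.map φ := by
      rw [← relIndex_eq_one]
      obtain ⟨n, hn⟩ := IsPGroup.iff_card.mp (isPGroup_pCore t (S ⧸ N))
      have h1 : (H.map φ).relIndex R ∣ t ^ n := hn ▸ Dvd.intro_left _ (Subgroup.card_mul_index _)
      have h2 : (H.map φ).relIndex R ∣ H.index := by
        refine dvd_trans ?_ (Subgroup.index_map_dvd H (QuotientGroup.mk'_surjective N))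
        refine dvd_trans (dvd_of_eq ?_) (relIndex_dvd_index_of_le (le_sup_left : H.map φ ≤ H.map φ ⊔ R))
        have e0 := CfsgLib.PLocal.card_sup_mul_card_inf (H.map φ) R
          (by rw [normalizer_eq_top]; exact le_top)
        have e1 : Nat.card (H.map φ) * (H.map φ).relIndex (H.map φ ⊔ R) =
            Nat.card ↥(H.map φ ⊔ R) := by
          simpa [relIndex_bot_left] using relIndex_mul_relIndex ⊥ (H.map φ) _ bot_le le_sup_left
        have e2 : Nat.card ↥(H.map φ ⊓ R) * (H.map φ ⊓ R).relIndex R = Nat.card R := by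
          simpa [relIndex_bot_left] using relIndex_mul_relIndex ⊥ (H.map φ ⊓ R) R bot_le inf_le_right
        rw [inf_relIndex_right] at e2
        rw [← e1, ← e2] at e0
        have e3 : Nat.card (H.map φ) * Nat.card ↥(H.map φ ⊓ R) * (H.map φ).relIndex (H.map φ ⊔ R) =
            Nat.card (H.map φ) * Nat.card ↥(H.map φ ⊓ R) * (H.map φ).relIndex R := by linarith
        exact (Nat.eq_of_mul_eq_mul_left (Nat.mul_pos Nat.card_pos Nat.card_pos) e3).symm
      exact Nat.eq_one_of_dvd_coprimes
        (Nat.Coprime.pow_left n (ht.coprime_iff_not_dvd.mpr (hH.2 t ht htπ))) h1 h2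
    set RH := R.comap (φ.comp H.subtype) with hRH'
    haveI : RH.Normal := Normal.comap inferInstance _
    have hRHp : IsPGroup t RH := by
      refine (isPGroup_pCore t (S ⧸ N)).comap_of_injective (φ.comp H.subtype) ?_
      intro a b he
      exact Subtype.ext (hinj a b a.2 b.2 he)
    have hRHF : RH ≤ fittingSubgroup H := le_fittingSubgroup hRHp.isNilpotent
    obtain ⟨h, hh, rfl⟩ := hRH hr
    exact ⟨h, ⟨⟨h, hh⟩, hRHF (show φ h ∈ R from hr), rfl⟩, rfl⟩
  haveI : Group.IsSolvable (S ⧸ N) := inferInstance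
  have key := centralizer_le_of_piCore_bot (S := S ⧸ N) h2 h3 (piCore_quotient_piCore πᶜ S)
    (A.map φ) inferInstance
    (fun t ht r hr => by
      obtain ⟨f, hf, rfl⟩ := hlift t ht r hr
      exact le_normalizer_map φ (mem_map_of_mem φ (hA.2.1 hf)))
    (fun t ht r hr => by
      obtain ⟨f, hf, rfl⟩ := hlift t ht r (mem_inf.mp hr).1
      refine mem_map_of_mem φ ?_
      rw [← hA.2.2]
      refine mem_inf.mpr ⟨hf, mem_centralizer_iff.mpr fun a ha => ?_⟩
      refine hinj _ _ (mul_mem (hAH ha) (hFH hf)) (mul_mem (hFH hf) (hAH ha)) ?_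
      rw [map_mul, map_mul]
      exact mem_centralizer_iff.mp (mem_inf.mp hr).2 _ (mem_map_of_mem φ ha))
  refine ⟨centralizer (A : Set S) ⊓ N, inf_le_left, ?_, ?_, ?_, ?_⟩
  · intro c hc d hd
    exact mem_inf.mpr ⟨mul_mem (mul_mem hc (mem_inf.mp hd).1) (inv_mem hc),
      Normal.conj_mem inferInstance d (mem_inf.mp hd).2 c⟩
  · exact le_bot_iff.mp ((inf_le_inf_left A inf_le_right).trans hAN.le)
  · refine le_antisymm (sup_le hAcomm inf_le_left) fun c hc => ?_
    have hcq : φ c ∈ A.map φ := key (by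
      refine mem_centralizer_iff.mpr ?_
      rintro _ ⟨a, ha, rfl⟩
      rw [← map_mul, ← map_mul, mem_centralizer_iff.mp hc a ha])
    obtain ⟨a, ha, he⟩ := hcq
    rw [← mul_inv_cancel_left a c]
    exact mul_mem_sup ha (mem_inf.mpr ⟨mul_mem (inv_mem (hAcomm ha)) hc, QuotientGroup.eq.mp he⟩)
  · exact fun q hq hd => hNpi q hq (hd.trans (card_dvd_of_le inf_le_right))

end CfsgLib.Techniques
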