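import Cfsg.Prelude.Def_Solvable
import Cfsg.Agent.Lib.PGroups.Critical
import Cfsg.Agent.Lib.PGroups.SymplecticType

/-!
# Abelian TI 2-subgroups in groups with `C(O₂) ≤ O₂`

The squares of an abelian TI 2-subgroup `A` lie in `O₂`, and unless `A` has exponent at most `4`
they generate an abelian normal closure.  The proof works with a critical subgroup `H` of `O₂`.
-/

set_option autoImplicit false

namespace CfsgLib.Techniques.TIAbelian

variable {X : Type*} [Group X]

/-- `c h c⁻¹ h⁻¹`. -/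
def E (c h : X) : X := c * h * c⁻¹ * h⁻¹

theorem E_mul (c h : X) : c * h * c⁻¹ = E c h * h := by rw [E, inv_mul_cancel_right]

theorem E_eq_one {c h : X} : E c h = 1 ↔ c * h = h * c := by
  rw [E, mul_inv_eq_one, mul_inv_eq_iff_eq_mul]

/-- An odd-order element moving `h` by a fixed involution fixes `h`. -/
theorem eq_one_of_odd {c h t : X} (hodd : Odd (orderOf c)) (ht : t * t = 1) (hct : c * t = t * c)
    (hch : c * h * c⁻¹ = t * h) : t = 1 := by
  have key : ∀ n : ℕ, c ^ n * h * (c ^ n)⁻¹ = t ^ n * h := by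
    intro n
    induction n with
    | zero => simp
    | succ n ih =>
      have h1 : Commute (c ^ n) t := Commute.pow_left hct n
      calc c ^ (n + 1) * h * (c ^ (n + 1))⁻¹ = c ^ n * (c * h * c⁻¹) * (c ^ n)⁻¹ := by
            rw [pow_succ]; group
        _ = t * (c ^ n * h * (c ^ n)⁻¹) := by rw [hch, ← mul_assoc (c ^ n), h1.eq]; group
        _ = t ^ (n + 1) * h := by rw [ih, pow_succ', mul_assoc]
  have h2 := key (orderOf c)
  rw [pow_orderOf_eq_one] at h2
  obtain ⟨k, hk⟩ := hodd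
  rw [hk, pow_succ, pow_mul, pow_two, ht, one_pow, one_mul, one_mul, inv_one, mul_one] at h2
  exact mul_eq_right.1 h2.symm

/-- A subgroup without nontrivial elements of odd order is a 2-group. -/
theorem isPGroup_of_odd [Finite X] (S : Subgroup X)
    (h : ∀ c ∈ S, Odd (orderOf c) → c = 1) : IsPGroup 2 S := by
  intro c
  obtain ⟨k, m, hm, hn⟩ :=
    Nat.exists_eq_pow_mul_and_not_dvd (orderOf_pos (c : X)).ne' 2 (by norm_num)
  refine ⟨k, Subtype.ext (h _ (c ^ 2 ^ k).2 ?_)⟩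
  rw [SubmonoidClass.coe_pow, orderOf_pow' _ (by positivity), hn, Nat.gcd_mul_right_left,
    Nat.mul_div_cancel_left _ (by positivity)]
  exact Nat.odd_iff.2 (by omega)

/-- The hypotheses: `H` is a normal subgroup of class two with elementary `H/Z(H)`, containing its
centralizer, and `A` is an abelian TI 2-subgroup. -/
structure Setting (H A : Subgroup X) : Prop where
  normal : ∀ g : X, ∀ h ∈ H, g * h * g⁻¹ ∈ H
  sq : ∀ h ∈ H, ∀ k ∈ H, k * (h * h) = h * h * k
  class2 : ∀ h ∈ H, ∀ k ∈ H, ∀ l ∈ H, l * E h k = E h k * l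
  self : ∀ c, (∀ h ∈ H, h * c = c * h) → c ∈ H
  two : ∀ h ∈ H, ∃ k : ℕ, h ^ 2 ^ k = 1
  atwo : ∀ a ∈ A, ∃ k : ℕ, a ^ 2 ^ k = 1
  acomm : ∀ a ∈ A, ∀ b ∈ A, a * b = b * a
  ti : ∀ g : X, ∀ x ∈ A, x ≠ 1 → g * x * g⁻¹ ∈ A → ∀ a ∈ A, g * a * g⁻¹ ∈ A

/-- `Z(H)` as a predicate. -/
def Zc (H : Subgroup X) (u : X) : Prop := u ∈ H ∧ ∀ k ∈ H, k * u = u * k

variable {H A : Subgroup X}

theorem Zc.one : Zc H 1 := ⟨one_mem H, fun _ _ => by simp⟩

theorem Zc.mul {u v : X} (hu : Zc H u) (hv : Zc H v) : Zc H (u * v) :=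
  ⟨mul_mem hu.1 hv.1, fun k hk => by rw [← mul_assoc, hu.2 k hk, mul_assoc, hv.2 k hk, mul_assoc]⟩

theorem Zc.inv {u : X} (hu : Zc H u) : Zc H u⁻¹ :=
  ⟨inv_mem hu.1, fun k hk => ((Commute.inv_right (hu.2 k hk)) : Commute k u⁻¹).eq⟩

namespace Setting

variable (S : Setting H A)
include S

theorem zc_conj (g : X) {u : X} (hu : Zc H u) : Zc H (g * u * g⁻¹) := by
  refine ⟨S.normal g u hu.1, fun k hk => ?_⟩
  have hk' : g⁻¹ * k * g ∈ H := by simpa using S.normal g⁻¹ k hk
  have := congrArg (fun t => g * t * g⁻¹) (hu.2 _ hk')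
  simpa [mul_assoc] using this

theorem E_mem (c : X) {h : X} (hh : h ∈ H) : E c h ∈ H := mul_mem (S.normal c h hh) (inv_mem hh)

theorem zc_E (c : X) {u : X} (hu : Zc H u) : Zc H (E c u) := (S.zc_conj c hu).mul hu.inv

theorem zc_E_left {h k : X} (hh : h ∈ H) (hk : k ∈ H) : Zc H (E h k) :=
  ⟨mul_mem (S.normal h k hk) (inv_mem hk), S.class2 h hh k hk⟩

theorem zc_sq {h : X} (hh : h ∈ H) : Zc H (h * h) := ⟨mul_mem hh hh, S.sq h hh⟩

theorem E_mul_right {g p q : X} (hg : g ∈ H) (hp : p ∈ H) (hq : q ∈ H) :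
    E g (p * q) = E g p * E g q := by
  calc E g (p * q) = (g * p * g⁻¹) * E g q * p⁻¹ := by rw [E, E]; group
    _ = (g * p * g⁻¹) * (E g q * p⁻¹) := mul_assoc _ _ _
    _ = E g p * E g q := by
      rw [← (S.zc_E_left hg hq).2 _ (inv_mem hp), ← mul_assoc]; rfl

theorem E_mul_left {g g' p : X} (hg : g ∈ H) (hg' : g' ∈ H) (hp : p ∈ H) :
    E (g * g') p = E g p * E g' p := by
  calc E (g * g') p = g * E g' p * g⁻¹ * E g p := by rw [E, E, E]; group
    _ = E g' p * E g p := by rw [(S.zc_E_left hg' hp).2 g hg, mul_inv_cancel_right]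
    _ = E g p * E g' p := ((S.zc_E_left hg' hp).2 _ (S.E_mem g hp)).symm

/-- Commuting with a nontrivial element of `A` forces normalizing `A`. -/
theorem norm {g x : X} (hx : x ∈ A) (hx1 : x ≠ 1) (hgx : g * x = x * g) :
    ∀ a ∈ A, g * a * g⁻¹ ∈ A :=
  S.ti g x hx hx1 (by rwa [mul_inv_eq_iff_eq_mul.2 hgx])

theorem E_mem_A {g a : X} (ha : a ∈ A) (hg : ∀ b ∈ A, g * b * g⁻¹ ∈ A) : E a g ∈ A := by
  have := mul_mem ha (hg a⁻¹ (inv_mem ha))
  rwa [← mul_assoc, ← mul_assoc] at this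

/-- If `A` meets `Z(H)` trivially, fixed points on `Z(H)` of one nontrivial element are fixed by
`A`. -/
theorem zc_fix (h0 : ∀ x ∈ A, Zc H x → x = 1) {b u : X} (hb : b ∈ A) (hb1 : b ≠ 1)
    (hu : Zc H u) (hbu : b * u = u * b) {a : X} (ha : a ∈ A) : a * u = u * a :=
  E_eq_one.1 (h0 _ (S.E_mem_A ha (S.norm hb hb1 hbu.symm)) (S.zc_E a hu))

theorem exists_order_four {a : X} (ha : a ∈ A) (ha2 : a * a ≠ 1) :
    ∃ b ∈ A, b * b ≠ 1 ∧ b * b * (b * b) = 1 := by
  classical
  have hex := S.atwo a ha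
  set k := Nat.find hex with hk
  have hspec : a ^ 2 ^ k = 1 := Nat.find_spec hex
  have hmin : ∀ j < k, a ^ 2 ^ j ≠ 1 := fun j hj => Nat.find_min hex hj
  obtain ⟨i, hi⟩ : ∃ i, k = i + 2 := by
    refine ⟨k - 2, ?_⟩
    rcases k with _ | _ | k
    · exact absurd (by simpa using hspec) (fun h : a = 1 => ha2 (by rw [h, one_mul]))
    · exact absurd (by rw [← pow_two]; simpa using hspec) ha2
    · omega
  refine ⟨a ^ 2 ^ i, pow_mem ha _, ?_, ?_⟩
  · rw [← pow_add, ← two_mul, ← pow_succ']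
    exact hmin _ (by omega)
  · rw [← pow_add, ← pow_add, ← hspec, hi]
    ring_nf

/-- `A` centralizes `Z(H)` if it meets it trivially and has exponent above `2`. -/
theorem centralizes_zc (h0 : ∀ x ∈ A, Zc H x → x = 1) {a : X} (ha : a ∈ A) (ha2 : a * a ≠ 1)
    {a' : X} (ha' : a' ∈ A) {u : X} (hu : Zc H u) : a' * u = u * a' := by
  obtain ⟨b, hb, hb2, hb4⟩ := S.exists_order_four ha ha2
  have hb1 : b ≠ 1 := fun h => hb2 (by rw [h, one_mul])
  have hbb : b * b ∈ A := mul_mem hb hb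
  have hbase : ∀ v, Zc H v → v * v = 1 → ∀ c ∈ A, c * v = v * c := by
    intro v hv hvv c hc
    set w := E b v with hw
    have hwZ := S.zc_E b hv
    have hE2 : E (b * b) v = b * w * b⁻¹ * w := by rw [hw, E, E]; group
    set t := E (b * b) v with ht
    have htZ := S.zc_E (b * b) hv
    have hsq1 : ∀ {c : X}, E c v * E c v = 1 := by
      intro c
      have h1 : (c * v * c⁻¹) * (c * v * c⁻¹) = 1 := by rw [conj_mul, hvv, mul_one, mul_inv_cancel]
      rw [E_mul, (Commute.mul_mul_mul_comm (show Commute v (E c v) from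
        ((S.zc_E c hv).2 v hv.1)))] at h1
      rwa [hvv, mul_one] at h1
    have htt : t * t = 1 := hsq1
    have hww : w * w = 1 := hsq1
    have htb : b * b * t = t * (b * b) := by
      apply mul_inv_eq_iff_eq_mul.1
      calc b * b * t * (b * b)⁻¹
          = (b * b * (b * b)) * v * (b * b * (b * b))⁻¹ * (b * b * v * (b * b)⁻¹)⁻¹ := by
            rw [ht, E]; group
        _ = v * (t * v)⁻¹ := by rw [hb4, E_mul (b * b) v]; simp [ht]
        _ = t := by rw [mul_inv_rev, mul_inv_cancel_left, inv_eq_of_mul_eq_one_right htt]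
    have hbt : b * t = t * b := S.zc_fix h0 hbb hb2 htZ htb hb
    have hbw : b * b * w = w * (b * b) := by
      apply mul_inv_eq_iff_eq_mul.1
      have h1 : b * t * b⁻¹ = t := mul_inv_eq_iff_eq_mul.2 hbt
      rw [hE2] at h1
      have hcom : Commute (b * w * b⁻¹) w := (hwZ.2 _ (S.normal b w hwZ.1))
      calc b * b * w * (b * b)⁻¹ = b * (b * w * b⁻¹ * w) * b⁻¹ * (b * w * b⁻¹)⁻¹ := by group
        _ = w := by rw [h1, hcom.eq, mul_inv_cancel_right]
    have hbw' : b * w = w * b := S.zc_fix h0 hbb hb2 hwZ hbw hb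
    have ht1 : t = 1 := by rw [hE2, mul_inv_eq_iff_eq_mul.2 hbw', hww]
    exact S.zc_fix h0 hbb hb2 hv (E_eq_one.1 ht1) hc
  obtain ⟨k, hk⟩ := S.two u hu.1
  induction k generalizing u a' with
  | zero =>
    rw [pow_zero, pow_one] at hk
    simp [hk]
  | succ k ih =>
    have hu2 : ∀ c ∈ A, c * (u * u) = u * u * c := fun c hc =>
      ih hc (hu.mul hu) (by rw [← pow_two, ← pow_mul, ← pow_succ']; exact hk)
    have hwZ := S.zc_E b hu
    have hww : E b u * E b u = 1 := by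
      have h1 : (b * u * b⁻¹) * (b * u * b⁻¹) = u * u := by
        rw [conj_mul, mul_inv_eq_iff_eq_mul.2 (hu2 b hb)]
      rwa [E_mul, (Commute.mul_mul_mul_comm (show Commute u (E b u) from hwZ.2 u hu.1)),
        mul_eq_right] at h1
    have hbw : b * E b u * b⁻¹ = E b u := mul_inv_eq_iff_eq_mul.2 (hbase _ hwZ hww b hb)
    have h2 : E (b * b) u = 1 := by
      calc E (b * b) u = b * E b u * b⁻¹ * E b u := by rw [E, E]; group
        _ = 1 := by rw [hbw, hww]
    exact S.zc_fix h0 hbb hb2 hu (E_eq_one.1 h2) ha'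

/-- If `A` meets `Z(H)` nontrivially, `H` normalizes `A`. -/
theorem normalizes {x : X} (hx : x ∈ A) (hx1 : x ≠ 1) (hxZ : Zc H x) {h : X} (hh : h ∈ H) :
    ∀ a ∈ A, h * a * h⁻¹ ∈ A :=
  S.norm hx hx1 (hxZ.2 h hh)

/-- `[a²]` fixes the involutions of `Z(H)`. -/
theorem sq_fixes {a u : X} (ha : a ∈ A) (hu : Zc H u) (huu : u * u = 1) :
    a * a * u = u * (a * a) := by
  by_cases h0 : ∀ x ∈ A, Zc H x → x = 1
  · by_cases ha2 : a * a = 1
    · simp [ha2]
    · exact S.centralizes_zc h0 ha ha2 (mul_mem ha ha) hu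
  · push Not at h0
    obtain ⟨x, hx, hxZ, hx1⟩ := h0
    have hwA : E a u ∈ A := S.E_mem_A ha (S.normalizes hx hx1 hxZ hu.1)
    have hww : E a u * E a u = 1 := by
      have h1 : (a * u * a⁻¹) * (a * u * a⁻¹) = 1 := by rw [conj_mul, huu, mul_one, mul_inv_cancel]
      rwa [E_mul, (Commute.mul_mul_mul_comm (show Commute u (E a u) from
        (S.zc_E a hu).2 u hu.1)), huu, mul_one] at h1
    refine E_eq_one.1 ?_
    calc E (a * a) u = a * E a u * a⁻¹ * E a u := by rw [E, E]; group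
      _ = 1 := by rw [mul_inv_eq_iff_eq_mul.2 (S.acomm a ha _ hwA), hww]

/-- If `[h,a,a,a] ∈ Z(H)` then `[h,a,a] ∈ Z(H)`. -/
theorem step {a h : X} (ha : a ∈ A) (hh : h ∈ H) (h3 : Zc H (E a (E a (E a h)))) (ha2 : a * a ≠ 1) :
    Zc H (E a (E a h)) := by
  by_cases h0 : ∀ x ∈ A, Zc H x → x = 1
  swap
  · push Not at h0
    obtain ⟨x, hx, hxZ, hx1⟩ := h0
    have hwA : E a h ∈ A := S.E_mem_A ha (S.normalizes hx hx1 hxZ hh)
    rw [E_eq_one.2 (S.acomm a ha _ hwA)]
    exact Zc.one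
  have hfix : ∀ {c u : X}, c ∈ A → Zc H u → c * u * c⁻¹ = u := fun hc hu =>
    mul_inv_eq_iff_eq_mul.2 (S.centralizes_zc h0 ha ha2 hc hu)
  set w := E a h with hw
  set y := E a w with hy
  set u := E a y with hu
  have hwH : w ∈ H := S.E_mem a hh
  have hyH : y ∈ H := S.E_mem a hwH
  have haA2 : a * a ∈ A := mul_mem ha ha
  have haw : a * w * a⁻¹ = y * w := E_mul a w
  have hah : a * h * a⁻¹ = w * h := E_mul a h
  -- `a` centralizes `y`
  have hay : a * y * a⁻¹ = y := by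
    have huu : u * u = 1 := by
      have h1 : (a * y * a⁻¹) * (a * y * a⁻¹) = y * y := by
        rw [conj_mul, hfix ha (S.zc_sq hyH)]
      rwa [E_mul, ← hu, (Commute.mul_mul_mul_comm (show Commute y u from h3.2 y hyH)),
        mul_eq_right] at h1
    have h2 : E (a * a) y = 1 := by
      calc E (a * a) y = a * E a y * a⁻¹ * E a y := by rw [E, E]; group
        _ = 1 := by rw [← hu, hfix ha h3, huu]
    have hu1 : u = 1 := h0 _ (S.E_mem_A ha (S.norm haA2 ha2 (E_eq_one.1 h2).symm)) h3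
    rw [E_mul, ← hu, hu1, one_mul]
  -- `[w, y] = y⁻²` and `[h, y] = y²`
  have hc1 : E w y = (y * y)⁻¹ := by
    have h1 : (y * w) * (y * w) = w * w := by rw [← haw, conj_mul, hfix ha (S.zc_sq hwH)]
    have h2 : (y * w) * (y * w) = y * (w * y * w⁻¹) * (w * w) := by group
    rw [h2, mul_eq_right, E_mul, ← mul_assoc, (S.zc_E_left hwH hyH).2 y hyH, mul_assoc] at h1
    exact eq_inv_of_mul_eq_one_left h1
  have hc2 : E h y = y * y := by
    have h1 : E (w * h) (y * w) = E h w := by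
      calc E (w * h) (y * w) = a * E h w * a⁻¹ := by rw [← hah, ← haw, E, E]; group
        _ = E h w := hfix ha (S.zc_E_left hh hwH)
    rw [S.E_mul_left hwH hh (mul_mem hyH hwH), S.E_mul_right hwH hyH hwH,
      S.E_mul_right hh hyH hwH, show E w w = 1 from E_eq_one.2 rfl, mul_one, ← mul_assoc,
      mul_eq_right, hc1, inv_mul_eq_one] at h1
    exact h1.symm
  -- `y² = 1`
  have hy2 : y * y = 1 := by
    set s := y * (w * w) with hs
    have hwwZ := S.zc_sq hwH
    have hs2 : a * a * h * (a * a)⁻¹ = s * h := by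
      calc a * a * h * (a * a)⁻¹ = a * (a * h * a⁻¹) * a⁻¹ := by group
        _ = s * h := by rw [hah, ← conj_mul, haw, hah, hs]; group
    by_cases h4 : a * a * (a * a) = 1
    · have hsfix : a * a * s * (a * a)⁻¹ = s := by
        calc a * a * s * (a * a)⁻¹ = a * (a * s * a⁻¹) * a⁻¹ := by group
          _ = s := by
            have : a * s * a⁻¹ = s := by rw [hs, ← conj_mul, hay, hfix ha hwwZ]
            rw [this, this]
      have hss : s * s = 1 := by
        have h1 : a * a * (a * a) * h * (a * a * (a * a))⁻¹ = s * s * h := by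
          calc _ = a * a * (a * a * h * (a * a)⁻¹) * (a * a)⁻¹ := by group
            _ = _ := by rw [hs2, ← conj_mul, hsfix, hs2, ← mul_assoc]
        rw [h4, one_mul, inv_one, mul_one] at h1
        exact mul_eq_right.1 h1.symm
      have h2 : (s * h) * (s * h) = h * h := by
        rw [← hs2, conj_mul, hfix haA2 (S.zc_sq hh)]
      have h3' : (s * h) * (s * h) = s * (h * s * h⁻¹) * (h * h) := by group
      have hEs : E h s = y * y := by
        have hww1 : E h (w * w) = 1 := E_eq_one.2 (hwwZ.2 h hh)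
        rw [hs, S.E_mul_right hh hyH hwwZ.1, hww1, mul_one, hc2]
      have hsH : s ∈ H := mul_mem hyH hwwZ.1
      rw [h3', mul_eq_right, E_mul, hEs, ← mul_assoc, (S.zc_sq hyH).2 s hsH, mul_assoc, hss,
        mul_one] at h2
      exact h2
    · have h2 : E (a * a * (a * a)) w = 1 := by
        have hyy : E (a * a) w = y * y := by
          calc E (a * a) w = a * E a w * a⁻¹ * E a w := by rw [E, E]; group
            _ = y * y := by rw [← hy, hay]
        calc E (a * a * (a * a)) w = a * a * E (a * a) w * (a * a)⁻¹ * E (a * a) w := by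
              rw [E, E]; group
          _ = y * y * (y * y) := by rw [hyy, hfix haA2 (S.zc_sq hyH)]
          _ = 1 := by
            have h1 : E w y * E w y = 1 := by
              rw [← S.E_mul_left hwH hwH hyH]
              exact E_eq_one.2 (hwwZ.2 y hyH).symm
            rw [hc1, ← mul_inv_rev, inv_eq_one] at h1
            exact h1
      have hyA : y ∈ A := S.E_mem_A ha (S.norm (mul_mem haA2 haA2) h4 (E_eq_one.1 h2).symm)
      exact h0 _ (mul_mem hyA hyA) (S.zc_sq hyH)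
  by_cases hy1 : y = 1
  · rw [hy1]; exact Zc.one
  exfalso
  have h2 : E (a * a) w = 1 := by
    calc E (a * a) w = a * E a w * a⁻¹ * E a w := by rw [E, E]; group
      _ = 1 := by rw [← hy, hay, hy2]
  have hyA : y ∈ A := S.E_mem_A ha (S.norm haA2 ha2 (E_eq_one.1 h2).symm)
  have hhy : h * y = y * h := E_eq_one.1 (hc2.trans hy2)
  have hwA : w ∈ A := S.E_mem_A ha (S.norm hyA hy1 hhy)
  exact hy1 (E_eq_one.2 (S.acomm a ha w hwA))

theorem zc_E_congr (a : X) {v z : X} (hv : v ∈ H) (hz : Zc H z) (h : Zc H (E a (v * z))) :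
    Zc H (E a v) := by
  have h' : E a (v * z) = E a v * (v * E a z * v⁻¹) := by rw [E, E, E]; group
  rw [h', mul_inv_eq_iff_eq_mul.2 ((S.zc_E a hz).2 v hv)] at h
  have := h.mul (S.zc_E a hz).inv
  rwa [mul_inv_cancel_right] at this

theorem zc_E_congr' (a : X) {v z : X} (hv : v ∈ H) (hz : Zc H z) :
    ∃ z', Zc H z' ∧ E a (v * z) = E a v * z' := by
  refine ⟨E a z, S.zc_E a hz, ?_⟩
  calc E a (v * z) = E a v * (v * E a z * v⁻¹) := by rw [E, E, E]; group
    _ = _ := by rw [mul_inv_eq_iff_eq_mul.2 ((S.zc_E a hz).2 v hv)]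

theorem E_sq (b : X) {h : X} (hh : h ∈ H) :
    ∃ z, Zc H z ∧ E (b * b) h = E b (E b h) * z := by
  refine ⟨E b h * E b h, S.zc_sq (S.E_mem b hh), ?_⟩
  rw [E, E, E]; group

/-- `a²` centralizes `H/Z(H)`. -/
theorem sq_central {a h : X} (ha : a ∈ A) (hh : h ∈ H) : Zc H (E (a * a) h) := by
  obtain ⟨n, hn⟩ := S.atwo a ha
  induction n generalizing a h with
  | zero =>
    rw [pow_zero, pow_one] at hn
    simp [hn, E, Zc.one]
  | succ n ih =>
    by_cases ha2 : a * a = 1
    · simp [ha2, E, Zc.one]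
    have haA2 : a * a ∈ A := mul_mem ha ha
    have h4 : ∀ h ∈ H, Zc H (E a (E a (E a (E a h)))) := by
      intro h hh
      have h1 := ih haA2 hh (by rw [← pow_two, ← pow_mul, ← pow_succ']; exact hn)
      obtain ⟨z1, hz1, e1⟩ := S.E_sq (a * a) hh
      obtain ⟨z2, hz2, e2⟩ := S.E_sq a hh
      have hv : E a (E a h) ∈ H := S.E_mem a (S.E_mem a hh)
      obtain ⟨z3, hz3, e3⟩ := S.E_sq a (S.E_mem (a * a) hh)
      rw [e1, e3, mul_assoc, e2] at h1
      obtain ⟨z4, hz4, e4⟩ := S.zc_E_congr' a hv hz2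
      rw [e4] at h1
      obtain ⟨z5, hz5, e5⟩ := S.zc_E_congr' a (S.E_mem a hv) hz4
      rw [e5, mul_assoc] at h1
      have := h1.mul (hz5.mul (hz3.mul hz1)).inv
      rwa [mul_inv_cancel_right] at this
    have h2 : Zc H (E a (E a h)) :=
      S.step ha hh (S.step ha (S.E_mem a hh) (h4 h hh) ha2) ha2
    obtain ⟨z, hz, e⟩ := S.E_sq a hh
    rw [e]
    exact h2.mul hz

/-- The stabilizer of `H ≥ Z(H)` fixing the involutions of `Z(H)`. -/
def stab (S : Setting H A) : Subgroup X where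
  carrier := {c | (∀ h ∈ H, Zc H (E c h)) ∧ ∀ u, Zc H u → u * u = 1 → c * u = u * c}
  one_mem' := ⟨fun h _ => by simp [E, Zc.one], fun u _ _ => by simp⟩
  mul_mem' := fun {c d} hc hd => ⟨fun h hh => by
      have e : E (c * d) h = c * E d h * c⁻¹ * E c h := by rw [E, E, E]; group
      rw [e]
      exact (S.zc_conj c (hd.1 h hh)).mul (hc.1 h hh),
    fun u hu huu => (Commute.mul_left (hc.2 u hu huu) (hd.2 u hu huu) : Commute (c * d) u)⟩
  inv_mem' := fun {c} hc => ⟨fun h hh => by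
      have e : E c⁻¹ h = c⁻¹ * (E c h)⁻¹ * c⁻¹⁻¹ := by rw [E, E]; group
      rw [e]
      exact S.zc_conj c⁻¹ (hc.1 h hh).inv,
    fun u hu huu => (Commute.inv_left (hc.2 u hu huu) : Commute c⁻¹ u)⟩

theorem stab_normal : S.stab.Normal := by
  refine ⟨fun c hc g => ⟨fun h hh => ?_, fun u hu huu => ?_⟩⟩
  · have e : E (g * c * g⁻¹) h = g * E c (g⁻¹ * h * g) * g⁻¹ := by rw [E, E]; group
    rw [e]
    exact S.zc_conj g (hc.1 _ (by simpa using S.normal g⁻¹ h hh))
  · have h1 := hc.2 (g⁻¹ * u * g) (by simpa using S.zc_conj g⁻¹ hu) (by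
      calc g⁻¹ * u * g * (g⁻¹ * u * g) = g⁻¹ * (u * u) * g := by group
        _ = 1 := by rw [huu]; group)
    calc g * c * g⁻¹ * u = g * (c * (g⁻¹ * u * g)) * g⁻¹ := by group
      _ = u * (g * c * g⁻¹) := by rw [h1]; group

theorem sq_mem_stab {a : X} (ha : a ∈ A) : a * a ∈ S.stab :=
  ⟨fun _ hh => S.sq_central ha hh, fun _ hu huu => S.sq_fixes ha hu huu⟩

theorem stab_isPGroup [Finite X] : IsPGroup 2 S.stab := by
  refine isPGroup_of_odd _ fun c hc hodd => ?_
  have hZ : ∀ (k : ℕ) (u : X), Zc H u → u ^ 2 ^ k = 1 → c * u = u * c := by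
    intro k
    induction k with
    | zero => intro u _ hk; rw [pow_zero, pow_one] at hk; simp [hk]
    | succ k ih =>
      intro u hu hk
      have h2 := ih _ (hu.mul hu) (by rw [← pow_two, ← pow_mul, ← pow_succ']; exact hk)
      have hww : E c u * E c u = 1 := by
        have h1 : (c * u * c⁻¹) * (c * u * c⁻¹) = u * u := by
          rw [conj_mul, mul_inv_eq_iff_eq_mul.2 h2]
        rwa [E_mul, (Commute.mul_mul_mul_comm (show Commute u (E c u) from
          (S.zc_E c hu).2 u hu.1)), mul_eq_right] at h1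
      exact E_eq_one.1 (eq_one_of_odd hodd hww (hc.2 _ (S.zc_E c hu) hww) (E_mul c u))
  have hfix : ∀ u, Zc H u → c * u = u * c := fun u hu => by
    obtain ⟨k, hk⟩ := S.two u hu.1
    exact hZ k u hu hk
  have hcH : c ∈ H := S.self c fun h hh => by
    have hww : E c h * E c h = 1 := by
      have h1 : (c * h * c⁻¹) * (c * h * c⁻¹) = h * h := by
        rw [conj_mul, mul_inv_eq_iff_eq_mul.2 (hfix _ (S.zc_sq hh))]
      rwa [E_mul, (Commute.mul_mul_mul_comm (show Commute h (E c h) from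
        (hc.1 h hh).2 h hh)), mul_eq_right] at h1
    exact (E_eq_one.1 (eq_one_of_odd hodd hww (hc.2 _ (hc.1 h hh) hww) (E_mul c h))).symm
  obtain ⟨k, hk⟩ := S.two c hcH
  obtain ⟨j, hj, e⟩ := (Nat.dvd_prime_pow Nat.prime_two).1 (orderOf_dvd_of_pow_eq_one hk)
  rcases Nat.eq_zero_or_pos j with rfl | hjpos
  · rw [pow_zero, orderOf_eq_one_iff] at e; exact e
  · exfalso
    rw [e, Nat.odd_pow_iff hjpos.ne'] at hodd
    exact absurd hodd (by decide)

/-- If `A` has exponent above `4`, it meets `Z(H)` in an involution. -/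
theorem exists_central_invol {a : X} (ha : a ∈ A) (ha4 : a * a * (a * a) ≠ 1) :
    ∃ x ∈ A, x ≠ 1 ∧ x * x = 1 ∧ Zc H x := by
  obtain ⟨y, hy, hyZ, hy1⟩ : ∃ y ∈ A, Zc H y ∧ y ≠ 1 := by
    by_contra hno
    push Not at hno
    have ha2 : a * a ≠ 1 := fun h => ha4 (by rw [h, one_mul])
    have haA2 : a * a ∈ A := mul_mem ha ha
    have hc : ∀ h ∈ H, h * (a * a * (a * a)) = a * a * (a * a) * h := by
      intro h hh
      have ht := S.sq_central ha hh
      have hfix : ∀ u, Zc H u → a * a * u * (a * a)⁻¹ = u := fun u hu =>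
        mul_inv_eq_iff_eq_mul.2 (S.centralizes_zc hno ha ha2 haA2 hu)
      have hww : E (a * a) h * E (a * a) h = 1 := by
        have h1 : (a * a * h * (a * a)⁻¹) * (a * a * h * (a * a)⁻¹) = h * h := by
          rw [conj_mul, hfix _ (S.zc_sq hh)]
        rwa [E_mul, (Commute.mul_mul_mul_comm (show Commute h (E (a * a) h) from
          ht.2 h hh)), mul_eq_right] at h1
      refine (E_eq_one.1 ?_).symm
      calc E (a * a * (a * a)) h = a * a * E (a * a) h * (a * a)⁻¹ * E (a * a) h := by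
            rw [E, E]; group
        _ = 1 := by rw [hfix _ ht, hww]
    exact ha4 (hno _ (mul_mem haA2 haA2) ⟨S.self _ hc, hc⟩)
  obtain ⟨k, hk⟩ := S.atwo y hy
  induction k generalizing y with
  | zero => exact absurd (by simpa using hk) hy1
  | succ k ih =>
    by_cases hyy : y * y = 1
    · exact ⟨y, hy, hy1, hyy, hyZ⟩
    · exact ih (y * y) (mul_mem hy hy) (hyZ.mul hyZ) hyy
        (by rw [← pow_two, ← pow_mul, ← pow_succ']; exact hk)

/-- With an involution of `A ∩ Z(H)`, squares of conjugates of `A` normalize `A`. -/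
theorem sq_conj_norm {x : X} (hx : x ∈ A) (hx1 : x ≠ 1) (hxx : x * x = 1) (hxZ : Zc H x)
    (g : X) {c : X} (hc : c ∈ A) :
    ∀ b ∈ A, g * (c * c) * g⁻¹ * b * (g * (c * c) * g⁻¹)⁻¹ ∈ A := by
  refine S.norm hx hx1 ?_
  have hu : Zc H (g⁻¹ * x * g) := by simpa using S.zc_conj g⁻¹ hxZ
  have hwA : E c (g⁻¹ * x * g) ∈ A := S.E_mem_A hc (S.normalizes hx hx1 hxZ hu.1)
  have huu : g⁻¹ * x * g * (g⁻¹ * x * g) = 1 := by
    calc g⁻¹ * x * g * (g⁻¹ * x * g) = g⁻¹ * (x * x) * g := by group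
      _ = 1 := by rw [hxx]; group
  generalize hv : g⁻¹ * x * g = u at hu huu hwA
  have hww : E c u * E c u = 1 := by
    have h1 : (c * u * c⁻¹) * (c * u * c⁻¹) = 1 := by rw [conj_mul, huu, mul_one, mul_inv_cancel]
    rwa [E_mul, (Commute.mul_mul_mul_comm (show Commute u (E c u) from
      (S.zc_E c hu).2 u hu.1)), huu, mul_one] at h1
  have h2 : E (c * c) u = 1 := by
    calc E (c * c) u = c * E c u * c⁻¹ * E c u := by rw [E, E]; group
      _ = 1 := by rw [mul_inv_eq_iff_eq_mul.2 (S.acomm c hc _ hwA), hww]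
  have h3 := E_eq_one.1 h2
  rw [← hv] at h3
  calc g * (c * c) * g⁻¹ * x = g * (c * c * (g⁻¹ * x * g)) * g⁻¹ := by group
    _ = x * (g * (c * c) * g⁻¹) := by rw [h3]; group

/-- Conjugates of squares of elements of `A` commute. -/
theorem sq_conj_comm {a₀ : X} (ha₀ : a₀ ∈ A) (ha4 : a₀ * a₀ * (a₀ * a₀) ≠ 1)
    (g : X) {c a : X} (hc : c ∈ A) (ha : a ∈ A) :
    g * (c * c) * g⁻¹ * (a * a) = a * a * (g * (c * c) * g⁻¹) := by
  obtain ⟨x, hx, hx1, hxx, hxZ⟩ := S.exists_central_invol ha₀ ha4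
  set p := g * (c * c) * g⁻¹ with hp
  set q := a * a with hq
  have hqA : q ∈ A := mul_mem ha ha
  have hcA : c * c ∈ A := mul_mem hc hc
  have h1 : E p q ∈ A := mul_mem (S.sq_conj_norm hx hx1 hxx hxZ g hc q hqA) (inv_mem hqA)
  have h2 : g⁻¹ * E p q * g ∈ A := by
    have h := mul_mem hcA (S.sq_conj_norm hx hx1 hxx hxZ g⁻¹ ha _ (inv_mem hcA))
    rwa [show c * c * (g⁻¹ * (a * a) * g⁻¹⁻¹ * (c * c)⁻¹ * (g⁻¹ * (a * a) * g⁻¹⁻¹)⁻¹) =
      g⁻¹ * E p q * g by rw [hp, hq, E]; group] at h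
  by_cases he : E p q = 1
  · exact E_eq_one.1 he
  have hgN : ∀ b ∈ A, g⁻¹ * b * g ∈ A := fun b hb => by
    simpa using S.ti g⁻¹ _ h1 he (by simpa using h2) b hb
  have hn : ∀ b ∈ A, g * b * g⁻¹ ∈ A := by
    refine fun b hb => S.ti g _ h2 ?_ (by simpa [mul_assoc] using h1) b hb
    intro h
    exact he (by simpa [mul_assoc] using congrArg (fun t => g * t * g⁻¹) h)
  exact S.acomm p (hn _ hcA) q hqA

end Setting

/-- A critical subgroup of `O₂(X)` gives the setting. -/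
theorem exists_setting [Finite X] {A Q : Subgroup X} [Q.Normal] (hQ : IsPGroup 2 Q)
    (hself : ∀ c, (∀ q ∈ Q, q * c = c * q) → c ∈ Q)
    (hmax : ∀ N : Subgroup X, N.Normal → IsPGroup 2 N → N ≤ Q) (hA2 : IsPGroup 2 A)
    (hAa : IsMulCommutative A)
    (hti : ∀ h : X, A.map (MulAut.conj h).toMonoidHom = A ∨
      A.map (MulAut.conj h).toMonoidHom ⊓ A = ⊥) :
    ∃ H : Subgroup X, Setting H A := by
  haveI : Fact (Nat.Prime 2) := ⟨Nat.prime_two⟩
  obtain ⟨K, hKc, hΦ, hKQ, hCK⟩ := CfsgLib.PGroups.exists_critical (P := Q) hQ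
  have hnorm : ∀ g : X, ∀ h ∈ K.map Q.subtype, g * h * g⁻¹ ∈ K.map Q.subtype := by
    rintro g _ ⟨h, hh, rfl⟩
    refine ⟨MulAut.conjNormal g h, ?_, MulAut.conjNormal_apply g h⟩
    exact (Subgroup.characteristic_iff_map_le.1 hKc (MulAut.conjNormal g))
      ⟨h, hh, rfl⟩
  refine ⟨K.map Q.subtype, hnorm, ?_, ?_, ?_, ?_, ?_, ?_, ?_⟩
  · rintro _ ⟨h, hh, rfl⟩ _ ⟨k, hk, rfl⟩
    have : h * h ∈ (frattini K).map K.subtype := ⟨(⟨h, hh⟩ : K) ^ 2,
      CfsgLib.PGroups.pow_mem_frattini (hQ.to_subgroup K) _, by simp [pow_two]⟩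
    exact congrArg Subtype.val (hΦ this k hk)
  · rintro _ ⟨h, hh, rfl⟩ _ ⟨k, hk, rfl⟩ _ ⟨l, hl, rfl⟩
    exact congrArg Subtype.val ((hKQ (Subgroup.commutator_mem_commutator hh
      (Subgroup.mem_top k))).2 l hl)
  · intro c hc
    have hn : ∀ c, (∀ h ∈ K.map Q.subtype, h * c = c * h) → Odd (orderOf c) → c = 1 := by
      intro c hc hodd
      have hcq : ∀ q ∈ Q, q * c = c * q := by
        intro q hq
        set t := q⁻¹ * (c * q * c⁻¹) with ht
        have htQ : t ∈ Q := mul_mem (inv_mem hq) (Subgroup.Normal.conj_mem inferInstance q hq c)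
        have htK : (⟨t, htQ⟩ : Q) ∈ K := hCK fun k hk => by
          refine Subtype.ext ?_
          show (k : X) * t = t * k
          have hk' : (k : X) ∈ K.map Q.subtype := ⟨k, hk, rfl⟩
          have h1 : q * (k : X) * q⁻¹ * c = c * (q * (k : X) * q⁻¹) := hc _ (hnorm q _ hk')
          have h2 := hc _ hk'
          calc (k : X) * t = q⁻¹ * ((q * k * q⁻¹) * c) * q * c⁻¹ := by rw [ht]; group
            _ = q⁻¹ * c * q * (k * c⁻¹) := by rw [h1]; group
            _ = t * k := by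
              rw [show (k : X) * c⁻¹ = c⁻¹ * k from (Commute.inv_right h2 : Commute (k : X) c⁻¹).eq,
                ht]
              group
        have hct : c * t = t * c := (hc t ⟨_, htK, rfl⟩).symm
        have hkey : ∀ n : ℕ, c ^ n * q * (c ^ n)⁻¹ = q * t ^ n := by
          intro n
          induction n with
          | zero => simp
          | succ n ih =>
            calc c ^ (n + 1) * q * (c ^ (n + 1))⁻¹ = c ^ n * (q * t) * (c ^ n)⁻¹ := by
                  rw [pow_succ, ht]; group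
              _ = (c ^ n * q * (c ^ n)⁻¹) * (c ^ n * t * (c ^ n)⁻¹) := by group
              _ = q * t ^ (n + 1) := by
                rw [ih, mul_inv_eq_iff_eq_mul.2 (Commute.pow_left hct n).eq, pow_succ, mul_assoc]
        have h2 := hkey (orderOf c)
        rw [pow_orderOf_eq_one, one_mul, inv_one, mul_one] at h2
        have h3 : t ^ orderOf c = 1 := mul_eq_left.1 h2.symm
        obtain ⟨k, hk⟩ := hQ ⟨t, htQ⟩
        have hk' : t ^ 2 ^ k = 1 := congrArg Subtype.val hk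
        have h4 : orderOf t = 1 := Nat.eq_one_of_dvd_coprimes
          (Nat.Coprime.pow_left k (Nat.coprime_two_left.2 hodd))
          (orderOf_dvd_of_pow_eq_one hk') (orderOf_dvd_of_pow_eq_one h3)
        rw [orderOf_eq_one_iff, ht, inv_mul_eq_one, eq_mul_inv_iff_mul_eq] at h4
        exact h4
      obtain ⟨k, hk⟩ := hQ ⟨c, hself c hcq⟩
      rw [← orderOf_eq_one_iff]
      exact Nat.eq_one_of_dvd_coprimes (Nat.Coprime.pow_left k (Nat.coprime_two_left.2 hodd))
        (orderOf_dvd_of_pow_eq_one (congrArg Subtype.val hk : c ^ 2 ^ k = 1)) dvd_rfl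
    set C : Subgroup X := Subgroup.centralizer (K.map Q.subtype : Set X) with hC
    haveI : C.Normal := ⟨fun d hd g => Subgroup.mem_centralizer_iff.2 fun h hh => by
      have h1 := Subgroup.mem_centralizer_iff.1 hd (g⁻¹ * h * g) (by simpa using hnorm g⁻¹ h hh)
      calc h * (g * d * g⁻¹) = g * ((g⁻¹ * h * g) * d) * g⁻¹ := by group
        _ = g * d * g⁻¹ * h := by rw [h1]; group⟩
    have hp : IsPGroup 2 C := isPGroup_of_odd _ fun d hd => hn d (Subgroup.mem_centralizer_iff.1 hd)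
    have hcQ : c ∈ Q := hmax C inferInstance hp (Subgroup.mem_centralizer_iff.2 hc)
    exact ⟨⟨c, hcQ⟩, hCK fun k hk => Subtype.ext (hc _ ⟨k, hk, rfl⟩), rfl⟩
  · rintro _ ⟨h, _, rfl⟩
    obtain ⟨k, hk⟩ := hQ h
    exact ⟨k, congrArg Subtype.val hk⟩
  · intro a ha
    obtain ⟨k, hk⟩ := hA2 ⟨a, ha⟩
    exact ⟨k, congrArg Subtype.val hk⟩
  · exact fun a ha b hb => congrArg Subtype.val (hAa.is_comm.comm ⟨a, ha⟩ ⟨b, hb⟩)
  · intro g x hx hx1 hgx a ha
    rcases hti g with h | h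
    · rw [← h]; exact ⟨a, ha, rfl⟩
    · exfalso
      have : g * x * g⁻¹ ∈ A.map (MulAut.conj g).toMonoidHom ⊓ A := ⟨⟨x, hx, rfl⟩, hgx⟩
      rw [h, Subgroup.mem_bot] at this
      exact hx1 (by simpa using this)

end CfsgLib.Techniques.TIAbelian
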