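import Cfsg.Agent.Lib.Components.FStar
import Cfsg.Agent.Lib.PGroups.Basic
import Cfsg.Agent.Lib.PLocal.Constrained

/-!
# An elementary abelian TI 2-subgroup `V` with `F*(N(V)) = O₂(N(V))` containing a conjugate
-/

set_option autoImplicit false
set_option linter.style.haveILetI false
set_option linter.unusedSectionVars false

namespace CfsgLib.TISub

open Subgroup Cfsg CfsgLib.Base CfsgLib.Components
open scoped commutatorElement

variable {G : Type*} [Group G] [Finite G]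

/-- The standing hypotheses on `V`. -/
structure Setup (V : Subgroup G) : Prop where
  elem : IsElementaryAbelian 2 V
  fstar : (generalizedFittingSubgroup ↥(normalizer (V : Set G))).map (normalizer (V : Set G)).subtype =
    (pCore 2 ↥(normalizer (V : Set G))).map (normalizer (V : Set G)).subtype
  maxAb : ∀ A : Subgroup G, V ≤ A → A ≤ normalizer (V : Set G) → IsMulCommutative ↥A →
    (∀ m ∈ normalizer (V : Set G), ∀ a ∈ A, m * a * m⁻¹ ∈ A) → A = V
  ti : ∀ x : G, V.map (MulAut.conj x).toMonoidHom = V ∨ V.map (MulAut.conj x).toMonoidHom ⊓ V = ⊥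

/-- `Q = O₂(N(V))`. -/
def coreQ (V : Subgroup G) : Subgroup G :=
  (pCore 2 ↥(normalizer (V : Set G))).map (normalizer (V : Set G)).subtype

/-- `P = C_Q(V)`. -/
def coreP (V : Subgroup G) : Subgroup G := coreQ V ⊓ centralizer (V : Set G)

/-- The conjugate `x A x⁻¹`. -/
abbrev cj (x : G) (A : Subgroup G) : Subgroup G := A.map (MulAut.conj x).toMonoidHom

omit [Finite G] in
theorem mem_cj {x : G} {A : Subgroup G} {y : G} : y ∈ cj x A ↔ ∃ a ∈ A, x * a * x⁻¹ = y := Iff.rfl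

omit [Finite G] in
theorem cj_cj (x y : G) (A : Subgroup G) : cj x (cj y A) = cj (x * y) A := by
  rw [cj, cj, cj, Subgroup.map_map]; congr 1; ext; simp [mul_assoc]

omit [Finite G] in
theorem cj_one (A : Subgroup G) : cj 1 A = A := by
  ext y; simp [mem_cj]

theorem cj_eq_self {x : G} {A : Subgroup G} (h : x ∈ normalizer (A : Set G)) : cj x A = A :=
  map_conj_eq_self_iff.2 h

omit [Finite G] in
theorem comm_of_elem {A : Subgroup G} (hA : IsElementaryAbelian 2 A) {a b : G} (ha : a ∈ A)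
    (hb : b ∈ A) : a * b = b * a :=
  congrArg Subtype.val (hA.1.is_comm.comm (⟨a, ha⟩ : ↥A) ⟨b, hb⟩)

omit [Finite G] in
theorem inv_of_elem {A : Subgroup G} (hA : IsElementaryAbelian 2 A) {a : G} (ha : a ∈ A) :
    a⁻¹ = a :=
  inv_eq_of_mul_eq_one_left (by rw [← sq]; exact hA.2 a ha)

theorem coreQ_cj (x : G) (V : Subgroup G) : coreQ (cj x V) = cj x (coreQ V) := by
  have hN : normalizer ((cj x V : Subgroup G) : Set G) = cj x (normalizer (V : Set G)) :=
    (map_normalizer_eq_of_bijective (f := (MulAut.conj x).toMonoidHom) V (MulAut.conj x).bijective).symm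
  rw [coreQ, hN, cj, coreQ]
  rw [← map_pCore_mulEquiv ((normalizer (V : Set G)).equivMapOfInjective
    (MulAut.conj x).toMonoidHom (MulAut.conj x).injective), Subgroup.map_map]
  refine Eq.trans ?_ (Subgroup.map_map _ _ _).symm
  congr 1

theorem coreP_cj (x : G) (V : Subgroup G) : coreP (cj x V) = cj x (coreP V) := by
  rw [coreP, coreP, coreQ_cj]
  show _ = ((coreQ V) ⊓ centralizer (V : Set G)).map _
  rw [Subgroup.map_inf _ _ _ (MulAut.conj x).injective]
  congr 1
  ext y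
  rw [mem_centralizer_iff]
  constructor
  · intro h
    refine ⟨x⁻¹ * y * x, mem_centralizer_iff.2 fun v hv => ?_, by simp [mul_assoc]⟩
    have := h _ ⟨v, hv, rfl⟩
    calc v * (x⁻¹ * y * x) = x⁻¹ * ((x * v * x⁻¹) * y) * x := by group
      _ = x⁻¹ * (y * (x * v * x⁻¹)) * x := by rw [show x * v * x⁻¹ * y = y * (x * v * x⁻¹) from this]
      _ = _ := by group
  · rintro ⟨c, hc, rfl⟩ _ ⟨v, hv, rfl⟩
    show x * v * x⁻¹ * (x * c * x⁻¹) = x * c * x⁻¹ * (x * v * x⁻¹)
    calc x * v * x⁻¹ * (x * c * x⁻¹) = x * (v * c) * x⁻¹ := by group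
      _ = x * (c * v) * x⁻¹ := by rw [mem_centralizer_iff.1 hc v hv]
      _ = _ := by group

theorem Setup.cj {V : Subgroup G} (hV : Setup V) (x : G) : Setup (cj x V) := by
  have hN : normalizer ((TISub.cj x V : Subgroup G) : Set G) = TISub.cj x (normalizer (V : Set G)) :=
    (map_normalizer_eq_of_bijective (f := (MulAut.conj x).toMonoidHom) V (MulAut.conj x).bijective).symm
  refine ⟨⟨?_, ?_⟩, ?_, ?_, ?_⟩
  · haveI := hV.elem.1
    exact Subgroup.map_isMulCommutative _ _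
  · rintro _ ⟨a, ha, rfl⟩
    rw [← map_pow, hV.elem.2 a ha, map_one]
  · rw [hN]
    set e := (normalizer (V : Set G)).equivMapOfInjective (MulAut.conj x).toMonoidHom
      (MulAut.conj x).injective
    rw [← fstar_map_equiv e, ← map_pCore_mulEquiv e, Subgroup.map_map, Subgroup.map_map]
    have h := congrArg (Subgroup.map (MulAut.conj x).toMonoidHom) hV.fstar
    rw [Subgroup.map_map, Subgroup.map_map] at h
    exact h
  · intro A hVA hAN hAc hAinv
    have hxA : TISub.cj x (TISub.cj x⁻¹ A) = A := by rw [cj_cj, mul_inv_cancel, cj_one]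
    have h1 : V ≤ TISub.cj x⁻¹ A := fun v hv => ⟨x * v * x⁻¹, hVA ⟨v, hv, rfl⟩, by simp [mul_assoc]⟩
    have h2 : TISub.cj x⁻¹ A ≤ normalizer (V : Set G) := by
      refine (map_mono hAN).trans (le_of_eq ?_)
      rw [hN]
      show TISub.cj x⁻¹ (TISub.cj x _) = _
      rw [cj_cj, inv_mul_cancel, cj_one]
    haveI := hAc
    rw [← hxA, hV.maxAb _ h1 h2 (Subgroup.map_isMulCommutative _ _) ?_]
    rintro m hm _ ⟨a, ha, rfl⟩
    refine ⟨(x * m * x⁻¹) * a * (x * m * x⁻¹)⁻¹, hAinv _ (hN ▸ ⟨m, hm, rfl⟩) a ha, ?_⟩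
    simp [mul_assoc]
  · intro y
    rcases hV.ti (x⁻¹ * y * x) with h | h
    · left
      have := congrArg (TISub.cj x) h
      rw [show Subgroup.map (MulAut.conj (x⁻¹ * y * x)).toMonoidHom V = TISub.cj (x⁻¹ * y * x) V from rfl,
        cj_cj, ← mul_assoc, mul_inv_cancel_left] at this
      show TISub.cj y (TISub.cj x V) = _
      rw [cj_cj]; exact this
    · right
      have := congrArg (TISub.cj x) h
      rw [show TISub.cj x (V.map (MulAut.conj (x⁻¹ * y * x)).toMonoidHom ⊓ V) =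
        TISub.cj x (TISub.cj (x⁻¹ * y * x) V) ⊓ TISub.cj x V from
          Subgroup.map_inf _ _ _ (MulAut.conj x).injective, cj_cj, ← mul_assoc, mul_inv_cancel_left] at this
      show TISub.cj y (TISub.cj x V) ⊓ _ = ⊥
      rw [cj_cj, this]; exact Subgroup.map_bot _

/-- `A` is a conjugate of `V` different from `V`, inside `Q`. -/
structure Nbr (V A : Subgroup G) : Prop where
  conj : ∃ x, A = TISub.cj x V
  ne : A ≠ V
  le : A ≤ coreQ V

variable {V A : Subgroup G}

theorem Nbr.setup (hA : Nbr V A) (hV : Setup V) : Setup A := by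
  obtain ⟨x, rfl⟩ := hA.conj; exact hV.cj x

theorem Nbr.card (hA : Nbr V A) : Nat.card A = Nat.card V := by
  obtain ⟨x, rfl⟩ := hA.conj; exact card_map_conj x V

theorem Nbr.coreP_eq (hA : Nbr V A) : ∃ x, A = TISub.cj x V ∧ coreP A = TISub.cj x (coreP V) := by
  obtain ⟨x, rfl⟩ := hA.conj; exact ⟨x, rfl, coreP_cj x V⟩

/-- A nontrivial element lies in one conjugate only. -/
theorem Setup.eq_of_mem (hV : Setup V) {x y : G} {w : G} (hw : w ≠ 1) (hx : w ∈ TISub.cj x V)
    (hy : w ∈ TISub.cj y V) : TISub.cj x V = TISub.cj y V := by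
  rcases hV.ti (y⁻¹ * x) with h | h
  · have := congrArg (TISub.cj y) h
    rwa [show V.map (MulAut.conj (y⁻¹ * x)).toMonoidHom = TISub.cj (y⁻¹ * x) V from rfl, cj_cj,
      mul_inv_cancel_left] at this
  · exfalso
    obtain ⟨a, ha, hax⟩ := hy
    obtain ⟨b, hb, hbx⟩ := hx
    have hmem : a ∈ V.map (MulAut.conj (y⁻¹ * x)).toMonoidHom ⊓ V := by
      refine ⟨⟨b, hb, ?_⟩, ha⟩
      have e : x * b * x⁻¹ = y * a * y⁻¹ := hbx.trans hax.symm
      show y⁻¹ * x * b * (y⁻¹ * x)⁻¹ = a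
      rw [show y⁻¹ * x * b * (y⁻¹ * x)⁻¹ = y⁻¹ * (x * b * x⁻¹) * y by group, e]; group
    rw [h, mem_bot] at hmem
    exact hw (by rw [← hax, hmem]; simp)

theorem Setup.mem_normalizer_of_commute (hV : Setup V) {v t : G} (hv : v ∈ V) (hv1 : v ≠ 1)
    (h : t * v = v * t) : t ∈ normalizer (V : Set G) := by
  refine map_conj_eq_self_iff.1 ?_
  show TISub.cj t V = V
  conv_rhs => rw [← cj_one V]
  refine hV.eq_of_mem hv1 ⟨v, hv, ?_⟩ ⟨v, hv, by simp⟩
  show t * v * t⁻¹ = v
  rw [h, mul_inv_cancel_right]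

theorem Setup.inf_eq_bot (hV : Setup V) {x : G} (h : TISub.cj x V ≠ V) :
    TISub.cj x V ⊓ V = ⊥ :=
  (hV.ti x).resolve_left h

theorem Nbr.disjoint (hA : Nbr V A) (hV : Setup V) {a : G} (ha : a ∈ A) (hv : a ∈ V) : a = 1 := by
  obtain ⟨x, rfl⟩ := hA.conj
  exact mem_bot.1 (hV.inf_eq_bot hA.ne ▸ ⟨ha, hv⟩)

theorem Setup.le_coreQ (hV : Setup V) : V ≤ coreQ V :=
  le_map_pCore le_normalizer le_rfl (fun a => ⟨1, by
    apply Subtype.ext
    simpa using hV.elem.2 a a.2⟩)

omit [Finite G] in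
theorem coreQ_le : coreQ V ≤ normalizer (V : Set G) := map_subtype_le _

theorem conj_mem_coreQ {m q : G} (hm : m ∈ normalizer (V : Set G)) (hq : q ∈ coreQ V) :
    m * q * m⁻¹ ∈ coreQ V := by
  obtain ⟨q', hq', rfl⟩ := hq
  exact ⟨⟨m, hm⟩ * q' * ⟨m, hm⟩⁻¹, (pCore_normal 2 _).conj_mem _ hq' _, rfl⟩

theorem conj_mem_coreP {m q : G} (hm : m ∈ normalizer (V : Set G)) (hq : q ∈ coreP V) :
    m * q * m⁻¹ ∈ coreP V :=
  ⟨conj_mem_coreQ hm hq.1, mem_centralizer_iff.2 fun v hv => by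
    have h1 : m⁻¹ * v * m ∈ V := by
      simpa using (mem_normalizer_iff.1 (inv_mem hm) v).1 hv
    have h2 := mem_centralizer_iff.1 hq.2 _ h1
    calc v * (m * q * m⁻¹) = m * ((m⁻¹ * v * m) * q) * m⁻¹ := by group
      _ = m * (q * (m⁻¹ * v * m)) * m⁻¹ := by rw [h2]
      _ = _ := by group⟩

theorem isPGroup_coreQ : IsPGroup 2 ↥(coreQ V) := isPGroup_map_pCore 2 _

theorem Setup.le_coreP (hV : Setup V) : V ≤ coreP V :=
  le_inf hV.le_coreQ fun _ hv => mem_centralizer_iff.2 fun _ hw => comm_of_elem hV.elem hw hv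

omit [Finite G] in
theorem coreP_le : coreP V ≤ normalizer (V : Set G) := inf_le_left.trans coreQ_le

theorem Setup.center_coreP (hV : Setup V) {z : G} (hz : z ∈ coreP V)
    (h : ∀ x ∈ coreP V, z * x = x * z) : z ∈ V := by
  set Z := coreP V ⊓ centralizer (coreP V : Set G) with hZ
  have hle : V ≤ Z := le_inf hV.le_coreP fun v hv => mem_centralizer_iff.2 fun x hx =>
    (mem_centralizer_iff.1 hx.2 v hv).symm
  have hc : IsMulCommutative ↥Z := ⟨⟨fun a b => Subtype.ext
    ((mem_centralizer_iff.1 a.2.2 b b.2.1).symm)⟩⟩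
  have := hV.maxAb Z hle (inf_le_left.trans coreP_le) hc fun m hm a ha =>
    ⟨conj_mem_coreP hm ha.1, mem_centralizer_iff.2 fun x hx => by
      have h1 : m⁻¹ * x * m ∈ coreP V := by simpa using conj_mem_coreP (inv_mem hm) hx
      have h2 := mem_centralizer_iff.1 ha.2 _ h1
      calc x * (m * a * m⁻¹) = m * ((m⁻¹ * x * m) * a) * m⁻¹ := by group
        _ = m * (a * (m⁻¹ * x * m)) * m⁻¹ := by rw [h2]
        _ = _ := by group⟩
  rw [← this]
  exact ⟨hz, mem_centralizer_iff.2 fun x hx => (h x hx).symm⟩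

/-- `P` has class at most two with `[P, P] ≤ V`. -/
theorem Setup.commutator_mem (hV : Setup V) {x y : G} (hx : x ∈ coreP V) (hy : y ∈ coreP V) :
    ⁅x, y⁆ ∈ V := by
  set P := coreP V with hP
  haveI hVn : (V.subgroupOf P).Normal := normal_subgroupOf_of_le_normalizer coreP_le
  set Z₂ := (center (↥P ⧸ V.subgroupOf P)).comap (QuotientGroup.mk' (V.subgroupOf P)) with hZ₂
  set T := Z₂.map P.subtype with hT
  have hTmem : ∀ t, t ∈ T ↔ t ∈ P ∧ ∀ x ∈ P, ⁅t, x⁆ ∈ V := by
    intro t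
    constructor
    · rintro ⟨t, ht, rfl⟩
      refine ⟨t.2, fun x hx => ?_⟩
      have h1 := mem_center_iff.1 ht (QuotientGroup.mk' _ ⟨x, hx⟩)
      have h2 : QuotientGroup.mk' (V.subgroupOf P) ⁅t, (⟨x, hx⟩ : ↥P)⁆ = 1 := by
        rw [map_commutatorElement, commutatorElement_eq_one_iff_mul_comm, h1]
      exact mem_subgroupOf.1 ((QuotientGroup.eq_one_iff _).1 h2)
    · rintro ⟨htP, h⟩
      refine ⟨⟨t, htP⟩, mem_center_iff.2 fun w => ?_, rfl⟩
      obtain ⟨w, rfl⟩ := QuotientGroup.mk'_surjective _ w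
      refine (commutatorElement_eq_one_iff_mul_comm.1 ?_).symm
      rw [← map_commutatorElement]
      exact (QuotientGroup.eq_one_iff _).2 (h w w.2)
  have hTP : T ≤ P := map_subtype_le _
  have hPV : P ≤ centralizer (V : Set G) := inf_le_right
  have hTinv : ∀ m ∈ normalizer (V : Set G), ∀ t ∈ T, m * t * m⁻¹ ∈ T := by
    intro m hm t ht
    obtain ⟨htP, h⟩ := (hTmem t).1 ht
    refine (hTmem _).2 ⟨conj_mem_coreP hm htP, fun x hx => ?_⟩
    have h1 : ⁅t, m⁻¹ * x * m⁆ ∈ V := h _ (by simpa using conj_mem_coreP (inv_mem hm) hx)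
    have e : ⁅m * t * m⁻¹, x⁆ = m * ⁅t, m⁻¹ * x * m⁆ * m⁻¹ := by group
    rw [e]
    exact (mem_normalizer_iff.1 hm _).1 h1
  -- the centre of `T` is `V`
  have hVT : V ≤ T := fun v hv => (hTmem v).2 ⟨hV.le_coreP hv, fun x hx => by
    rw [show ⁅v, x⁆ = 1 from commutatorElement_eq_one_iff_mul_comm.2
      (mem_centralizer_iff.1 (hPV hx) v hv)]
    exact one_mem _⟩
  have hZT : T ⊓ centralizer (T : Set G) = V := hV.maxAb _
    (le_inf hVT fun v hv => mem_centralizer_iff.2 fun t ht =>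
      (mem_centralizer_iff.1 (hPV (hTP ht)) v hv).symm)
    (inf_le_left.trans (hTP.trans coreP_le))
    ⟨⟨fun a b => Subtype.ext ((mem_centralizer_iff.1 a.2.2 b b.2.1).symm)⟩⟩
    fun m hm a ha => ⟨hTinv m hm a ha.1, mem_centralizer_iff.2 fun t ht => by
      have h1 : m⁻¹ * t * m ∈ T := by simpa using hTinv m⁻¹ (inv_mem hm) t ht
      have h2 := mem_centralizer_iff.1 ha.2 _ h1
      calc t * (m * a * m⁻¹) = m * ((m⁻¹ * t * m) * a) * m⁻¹ := by group
        _ = m * (a * (m⁻¹ * t * m)) * m⁻¹ := by rw [h2]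
        _ = _ := by group⟩
  -- the centraliser of `T` in `P` is `V`
  have hC : ∀ c ∈ P, c ∈ centralizer (T : Set G) → c ∈ V := by
    set C := (centralizer (T : Set G)).subgroupOf P with hCdef
    haveI hCn : C.Normal := normal_subgroupOf_of_le_normalizer
      ((show P ≤ normalizer (T : Set G) from fun p hp => mem_normalizer_iff.2 fun t =>
        ⟨hTinv p (coreP_le hp) t, fun h => by
          simpa [mul_assoc] using hTinv p⁻¹ (inv_mem (coreP_le hp)) _ h⟩).trans
        (CfsgLib.PLocal.normalizer_le_centralizer_normalizer T))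
    intro c hc hcT
    by_contra hcV
    set f := QuotientGroup.mk' (V.subgroupOf P) with hf
    haveI : (C.map f).Normal := hCn.map f (QuotientGroup.mk'_surjective _)
    have hne : C.map f ≠ ⊥ := fun h => hcV (mem_subgroupOf.1 ((QuotientGroup.eq_one_iff _).1
      (mem_bot.1 (h ▸ mem_map_of_mem f (show (⟨c, hc⟩ : ↥P) ∈ C from hcT)))))
    obtain ⟨z, hz, hz1⟩ := (bot_or_exists_ne_one _).resolve_left
      (CfsgLib.PGroups.inf_center_ne_bot (((isPGroup_coreQ (V := V)).to_le (show P ≤ coreQ V from inf_le_left)).to_quotient _) hne)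
    obtain ⟨⟨d, hd, rfl⟩, hdz⟩ := hz
    apply hz1
    refine (QuotientGroup.eq_one_iff _).2 (mem_subgroupOf.2 ?_)
    rw [← hZT]
    exact ⟨⟨d, hdz, rfl⟩, hd⟩
  refine hC _ ?_ ?_
  · exact mul_mem (mul_mem (mul_mem hx hy) (inv_mem hx)) (inv_mem hy)
  · have hTPV : ⁅T, P⁆ ≤ V := commutator_le.2 fun t ht x hx => ((hTmem t).1 ht).2 x hx
    have hVP : ⁅V, P⁆ = ⊥ := commutator_eq_bot_iff_le_centralizer.2 (le_centralizer_iff.1 hPV)
    have h2 : ⁅⁅T, P⁆, P⁆ = ⊥ := le_bot_iff.1 (hVP ▸ commutator_mono hTPV le_rfl)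
    have h1 : ⁅⁅P, T⁆, P⁆ = ⊥ := by rwa [commutator_comm P T]
    have h3 := commutator_commutator_eq_bot_of_rotate h1 h2
    exact commutator_eq_bot_iff_le_centralizer.1 h3 (commutator_mem_commutator hx hy)

theorem Setup.central (hV : Setup V) {v x : G} (hv : v ∈ V) (hx : x ∈ coreP V) : x * v = v * x :=
  (mem_centralizer_iff.1 hx.2 v hv).symm

theorem Setup.comm_mul_left (hV : Setup V) {x y z : G} (hx : x ∈ coreP V) (hy : y ∈ coreP V)
    (hz : z ∈ coreP V) : ⁅x * y, z⁆ = ⁅x, z⁆ * ⁅y, z⁆ := by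
  have e : ⁅x * y, z⁆ = x * ⁅y, z⁆ * x⁻¹ * ⁅x, z⁆ := by group
  rw [e, hV.central (hV.commutator_mem hy hz) hx, mul_inv_cancel_right,
    comm_of_elem hV.elem (hV.commutator_mem hy hz) (hV.commutator_mem hx hz)]

theorem Setup.comm_mul_right (hV : Setup V) {x y z : G} (hx : x ∈ coreP V) (hy : y ∈ coreP V)
    (hz : z ∈ coreP V) : ⁅x, y * z⁆ = ⁅x, y⁆ * ⁅x, z⁆ := by
  have e : ⁅x, y * z⁆ = ⁅x, y⁆ * (y * ⁅x, z⁆ * y⁻¹) := by group
  rw [e, hV.central (hV.commutator_mem hx hz) hy, mul_inv_cancel_right]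

theorem Setup.comm_symm (hV : Setup V) {x y : G} (hx : x ∈ coreP V) (hy : y ∈ coreP V) :
    ⁅x, y⁆ = ⁅y, x⁆ := by
  rw [← inv_of_elem hV.elem (hV.commutator_mem hy hx), commutatorElement_inv]

/-- `V` centralises any conjugate of it contained in `N(V)`. -/
theorem Setup.le_centralizer_of_le_normalizer (hV : Setup V) {x : G} (hne : TISub.cj x V ≠ V)
    (hle : TISub.cj x V ≤ normalizer (V : Set G)) : TISub.cj x V ≤ centralizer (V : Set G) := by
  set A := TISub.cj x V
  have hA := hV.cj x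
  have hdis : ∀ a, a ∈ A → a ∈ V → a = 1 := fun a ha hv =>
    mem_bot.1 (hV.inf_eq_bot hne ▸ ⟨ha, hv⟩)
  rw [le_centralizer_iff]
  intro v hv
  by_contra hvC
  -- a commuting pair forces `v` to centralise `A`
  have key : ∀ w ∈ V, ∀ a ∈ A, a ≠ 1 → w * a = a * w → w ∈ centralizer (A : Set G) := by
    intro w hw a ha ha1 hc
    have hwN := hA.mem_normalizer_of_commute ha ha1 hc
    refine mem_centralizer_iff.2 fun b hb => ?_
    have h1 : ⁅w, b⁆ = 1 := hdis _
      (by rw [commutatorElement_def]; exact mul_mem ((mem_normalizer_iff.1 hwN b).1 hb) (inv_mem hb))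
      (by
        rw [show ⁅w, b⁆ = w * (b * w⁻¹ * b⁻¹) by group]
        exact mul_mem hw ((mem_normalizer_iff.1 (hle hb) _).1 (inv_mem hw)))
    exact (commutatorElement_eq_one_iff_mul_comm.1 h1).symm
  have hcV : ∀ a ∈ A, ⁅v, a⁆ ∈ V := fun a ha => by
    rw [show ⁅v, a⁆ = v * (a * v⁻¹ * a⁻¹) by group]
    exact mul_mem hv ((mem_normalizer_iff.1 (hle ha) _).1 (inv_mem hv))
  have hcC : ∀ a ∈ A, ⁅v, a⁆ ∈ centralizer (A : Set G) := by
    intro a ha
    by_cases ha1 : a = 1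
    · rw [ha1, commutatorElement_one_right]; exact one_mem _
    refine key _ (hcV a ha) a ha ha1 ?_
    have h1 : a⁻¹ = a := inv_of_elem hA.elem ha
    have h2 : ⁅v, a⁆⁻¹ = ⁅v, a⁆ := inv_of_elem hV.elem (hcV a ha)
    have h3 : v⁻¹ = v := inv_of_elem hV.elem hv
    calc ⁅v, a⁆ * a = v * a * v := by rw [commutatorElement_def, h3, h1, mul_assoc, show a * a = 1 from by rw [← sq]; exact hA.elem.2 a ha, mul_one]
      _ = a * ⁅v, a⁆⁻¹ := by rw [commutatorElement_inv, commutatorElement_def, h3, h1]; group; simp [show a * a = 1 from by rw [← sq]; exact hA.elem.2 a ha]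
      _ = a * ⁅v, a⁆ := by rw [h2]
  let f : ↥A →* ↥(V ⊓ centralizer (A : Set G)) :=
    MonoidHom.mk' (fun a => ⟨⁅v, (a : G)⁆, hcV a a.2, hcC a a.2⟩) fun a b => Subtype.ext (by
      show ⁅v, (a : G) * b⁆ = ⁅v, (a : G)⁆ * ⁅v, (b : G)⁆
      have e : ⁅v, (a : G) * b⁆ = ⁅v, (a : G)⁆ * (a * ⁅v, (b : G)⁆ * (a : G)⁻¹) := by group
      rw [e, mem_centralizer_iff.1 (hcC b b.2) a a.2, mul_inv_cancel_right])
  have hf : Function.Injective f := by
    rw [← MonoidHom.ker_eq_bot_iff, eq_bot_iff]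
    intro a ha
    rw [mem_bot]
    by_contra ha1
    exact hvC (key v hv a a.2 (fun h => ha1 (Subtype.ext h))
      (commutatorElement_eq_one_iff_mul_comm.1 (congrArg Subtype.val ha)))
  have h1 := Nat.card_le_card_of_injective f hf
  have h2 : V ⊓ centralizer (A : Set G) = V := eq_of_le_of_card_ge inf_le_left (by
    have : Nat.card A = Nat.card V := card_map_conj x V
    omega)
  exact hvC (h2.symm.le hv).2

theorem Nbr.le_coreP (hA : Nbr V A) (hV : Setup V) : A ≤ coreP V := by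
  obtain ⟨x, rfl⟩ := hA.conj
  exact le_inf hA.le (hV.le_centralizer_of_le_normalizer hA.ne (hA.le.trans coreQ_le))

theorem Nbr.le_centralizer (hA : Nbr V A) (hV : Setup V) : A ≤ centralizer (V : Set G) :=
  (hA.le_coreP hV).trans inf_le_right

/-- An element of `P` commuting with one nontrivial element of `A` centralises `A`. -/
theorem Nbr.centralizes (hA : Nbr V A) (hV : Setup V) {p a : G} (hp : p ∈ coreP V) (ha : a ∈ A)
    (ha1 : a ≠ 1) (h : p * a = a * p) {b : G} (hb : b ∈ A) : p * b = b * p := by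
  have hpN := (hA.setup hV).mem_normalizer_of_commute ha ha1 h
  refine commutatorElement_eq_one_iff_mul_comm.1 (hA.disjoint hV ?_ (hV.commutator_mem hp (hA.le_coreP hV hb)))
  rw [commutatorElement_def]
  exact mul_mem ((mem_normalizer_iff.1 hpN b).1 hb) (inv_mem hb)

/-- Some neighbour of `V` does not commute with `A`. -/
theorem Nbr.exists_opposite (hA : Nbr V A) (hV : Setup V) :
    ∃ B, Nbr V B ∧ ∀ a ∈ A, a ≠ 1 → ∀ b ∈ B, b ≠ 1 → a * b ≠ b * a := by
  set N := normalizer (V : Set G)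
  set U := closure {y : G | ∃ m ∈ N, ∃ a ∈ A, y = m * a * m⁻¹} with hU
  have hUP : U ≤ coreP V := (closure_le _).2 (by
    rintro _ ⟨m, hm, a, ha, rfl⟩
    exact conj_mem_coreP hm (hA.le_coreP hV ha))
  have hUinv : ∀ m ∈ N, ∀ u ∈ U, m * u * m⁻¹ ∈ U := by
    intro m hm u hu
    induction hu using closure_induction with
    | mem y hy =>
      obtain ⟨k, hk, a, ha, rfl⟩ := hy
      exact subset_closure ⟨m * k, mul_mem hm hk, a, ha, by group⟩
    | one => simp
    | mul y z _ _ ihy ihz => rw [show m * (y * z) * m⁻¹ = (m * y * m⁻¹) * (m * z * m⁻¹) by group]; exact mul_mem ihy ihz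
    | inv y _ ihy => rw [show m * y⁻¹ * m⁻¹ = (m * y * m⁻¹)⁻¹ by group]; exact inv_mem ihy
  by_contra hno
  push Not at hno
  -- then `A` commutes with all of its conjugates
  have hcomm : ∀ m ∈ N, ∀ a ∈ A, ∀ a' ∈ A, a * (m * a' * m⁻¹) = (m * a' * m⁻¹) * a := by
    intro m hm a ha a' ha'
    obtain ⟨x, hx⟩ := hA.conj
    have hB : Nbr V (TISub.cj m A) := by
      refine ⟨⟨m * x, by rw [hx, cj_cj]⟩, fun he => hA.ne ?_, ?_⟩
      · have := congrArg (TISub.cj m⁻¹) he
        rw [cj_cj, inv_mul_cancel, cj_one] at this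
        rw [this]; exact cj_eq_self (inv_mem hm)
      · rintro _ ⟨b, hb, rfl⟩; exact conj_mem_coreQ hm (hA.le hb)
    obtain ⟨a0, ha0, ha01, b0, hb0, hb01, hc⟩ := hno _ hB
    have h1 : ∀ b ∈ A, b0 * b = b * b0 := fun b hb =>
      hA.centralizes hV (hB.le_coreP hV hb0) ha0 ha01 hc.symm hb
    exact hB.centralizes hV (hA.le_coreP hV ha) hb0 hb01 (h1 a ha).symm ⟨a', ha', rfl⟩
  have hUc : IsMulCommutative ↥U := Subgroup.isMulCommutative_closure (by
    rintro _ ⟨m, hm, a, ha, rfl⟩ _ ⟨k, hk, b, hb, rfl⟩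
    have h := hcomm _ (mul_mem (inv_mem hm) hk) a ha b hb
    calc m * a * m⁻¹ * (k * b * k⁻¹) = m * (a * ((m⁻¹ * k) * b * (m⁻¹ * k)⁻¹)) * m⁻¹ := by group
      _ = m * (((m⁻¹ * k) * b * (m⁻¹ * k)⁻¹) * a) * m⁻¹ := by rw [h]
      _ = _ := by group)
  set U' := V ⊔ U with hU'
  have hU'c : IsMulCommutative ↥U' := by
    have h1 : U' ≤ centralizer (U' : Set G) := sup_le
      (fun v hv => mem_centralizer_iff.2 fun w hw => by
        have : U' ≤ centralizer ({v} : Set G) := sup_le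
          (fun u hu => mem_centralizer_singleton_iff.2 (comm_of_elem hV.elem hu hv))
          (fun u hu => mem_centralizer_singleton_iff.2 (hV.central hv (hUP hu)))
        exact mem_centralizer_singleton_iff.1 (this hw))
      (fun u hu => mem_centralizer_iff.2 fun w hw => by
        have : U' ≤ centralizer ({u} : Set G) := sup_le
          (fun v hv => mem_centralizer_singleton_iff.2 (hV.central hv (hUP hu)).symm)
          (fun u' hu' => mem_centralizer_singleton_iff.2 (congrArg Subtype.val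
            (hUc.is_comm.comm (⟨u', hu'⟩ : ↥U) ⟨u, hu⟩)))
        exact mem_centralizer_singleton_iff.1 (this hw))
    exact le_centralizer_iff_isMulCommutative.1 h1
  have heq := hV.maxAb U' le_sup_left (sup_le le_normalizer (hUP.trans coreP_le)) hU'c (by
    intro m hm u hu
    have hle : U' ≤ U'.comap (MulAut.conj m).toMonoidHom := sup_le
      (fun v hv => mem_sup_left ((mem_normalizer_iff.1 hm v).1 hv))
      (fun v hv => mem_sup_right (hUinv m hm v hv))
    exact hle hu)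
  refine hA.ne (eq_of_le_of_card_ge ?_ hA.card.ge)
  intro a ha
  rw [← heq]
  exact mem_sup_right (subset_closure ⟨1, one_mem _, a, ha, by simp⟩)

/-- Every element of `V` is a commutator of a given nontrivial element of `A` with `P`. -/
theorem Nbr.exists_commutator_eq (hA : Nbr V A) (hV : Setup V) {a v : G} (ha : a ∈ A) (ha1 : a ≠ 1)
    (hv : v ∈ V) : ∃ p ∈ coreP V, ⁅p, a⁆ = v := by
  obtain ⟨B, hB, hAB⟩ := hA.exists_opposite hV
  let f : ↥B →* ↥V := MonoidHom.mk'
    (fun b => ⟨⁅(b : G), a⁆, hV.commutator_mem (hB.le_coreP hV b.2) (hA.le_coreP hV ha)⟩)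
    fun b c => Subtype.ext (hV.comm_mul_left (hB.le_coreP hV b.2) (hB.le_coreP hV c.2) (hA.le_coreP hV ha))
  have hf : Function.Injective f := by
    rw [← MonoidHom.ker_eq_bot_iff, eq_bot_iff]
    intro b hb
    rw [mem_bot]
    by_contra hb1
    exact hAB a ha ha1 b b.2 (fun h => hb1 (Subtype.ext h))
      (commutatorElement_eq_one_iff_mul_comm.1 (congrArg Subtype.val hb)).symm
  obtain ⟨b, hb⟩ := ((Nat.bijective_iff_injective_and_card f).2 ⟨hf, hB.card⟩).2 ⟨v, hv⟩
  exact ⟨b, hB.le_coreP hV b.2, congrArg Subtype.val hb⟩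

/-- `C_{N(V)}(P) = V`. -/
theorem Setup.mem_of_centralizes (hV : Setup V) {c : G} (hc : c ∈ normalizer (V : Set G))
    (h : ∀ x ∈ coreP V, c * x = x * c) : c ∈ V := by
  set N := normalizer (V : Set G) with hN
  set C := (centralizer (coreP V : Set G)).subgroupOf N with hC
  haveI hCn : C.Normal := normal_subgroupOf_of_le_normalizer
    ((show N ≤ normalizer (coreP V : Set G) from fun m hm => mem_normalizer_iff.2 fun q =>
      ⟨conj_mem_coreP hm, fun hq => by simpa [mul_assoc] using conj_mem_coreP (inv_mem hm) hq⟩).trans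
      (CfsgLib.PLocal.normalizer_le_centralizer_normalizer _))
  -- `C_Q(P) = V`
  have hQ : ∀ x : ↥N, x ∈ C → x ∈ generalizedFittingSubgroup ↥N → (x : G) ∈ V := by
    intro x hx hxF
    have hxQ : (x : G) ∈ coreQ V := by
      have := mem_map_of_mem N.subtype hxF
      rwa [hV.fstar] at this
    refine hV.center_coreP ⟨hxQ, ?_⟩ fun y hy => (mem_centralizer_iff.1 hx y hy).symm
    exact mem_centralizer_iff.2 fun v hv => mem_centralizer_iff.1 hx v (hV.le_coreP hv)
  have hCle : ∀ x : ↥N, x ∈ C → x ∈ generalizedFittingSubgroup ↥N := by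
    intro x hx
    have hcen : (⟨x, hx⟩ : ↥C) ∈ centralizer (generalizedFittingSubgroup ↥C : Set ↥C) := by
      refine mem_centralizer_iff.2 fun y hy => Subtype.ext (Subtype.ext ?_)
      have hy' := mem_map_of_mem C.subtype hy
      rw [map_fstar_eq_inf] at hy'
      exact mem_centralizer_iff.1 hx _ (hV.le_coreP (hQ _ hy'.2 hy'.1))
    have h2 := mem_map_of_mem C.subtype (centralizer_fstar_le hcen)
    rw [map_fstar_eq_inf] at h2
    exact h2.1
  have hcC : (⟨c, hc⟩ : ↥N) ∈ C := mem_centralizer_iff.2 fun x hx => (h x hx).symm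
  exact hQ _ hcC (hCle _ hcC)

end CfsgLib.TISub
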