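import Cfsg.Agent.Lib.Techniques.TISymm

/-!
# Elements exchanging a pair of neighbours; the core is `C_Q(V)`
-/

set_option autoImplicit false
set_option linter.style.haveILetI false
set_option linter.unusedSectionVars false

namespace CfsgLib.TISub

open Subgroup Cfsg CfsgLib.Base CfsgLib.Components
open scoped commutatorElement

variable {G : Type*} [Group G] [Finite G] {V A : Subgroup G}

theorem Nbr.exists_ne_one (hA : Nbr V A) : ∃ a ∈ A, a ≠ 1 := by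
  by_contra h
  push Not at h
  have hAb : A = ⊥ := (eq_bot_iff_forall A).2 h
  have := hA.card
  rw [hAb, Subgroup.card_bot] at this
  exact hA.ne (hAb.trans (Subgroup.eq_bot_of_card_eq V this.symm).symm)

theorem Nbr.eq_of_comm_eq (hA : Nbr V A) (hV : Setup V) {p q a₀ : G} (hp : p ∈ coreP V)
    (hq : q ∈ coreP V) (ha₀ : a₀ ∈ A) (h₀ : a₀ ≠ 1) (h : ⁅p, a₀⁆ = ⁅q, a₀⁆) {a : G} (ha : a ∈ A) :
    ⁅p, a⁆ = ⁅q, a⁆ := by
  have hr : q⁻¹ * p ∈ coreP V := mul_mem (inv_mem hq) hp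
  have h1 : q⁻¹ * p * a₀ = a₀ * (q⁻¹ * p) := by
    refine commutatorElement_eq_one_iff_mul_comm.1 ?_
    rw [hV.comm_mul_left (inv_mem hq) hp (hA.le_coreP hV ha₀), h,
      ← hV.comm_mul_left (inv_mem hq) hq (hA.le_coreP hV ha₀), inv_mul_cancel, commutatorElement_one_left]
  calc ⁅p, a⁆ = ⁅q * (q⁻¹ * p), a⁆ := by rw [mul_inv_cancel_left]
    _ = ⁅q, a⁆ * ⁅q⁻¹ * p, a⁆ := hV.comm_mul_left hq hr (hA.le_coreP hV ha)
    _ = _ := by rw [commutatorElement_eq_one_iff_mul_comm.2 (hA.centralizes hV hr ha₀ h₀ h1 ha),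
        mul_one]

theorem Nbr.comm_inj (hA : Nbr V A) (hV : Setup V) {p a₀ : G} (hp : p ∈ coreP V) (ha₀ : a₀ ∈ A)
    (h₀ : ⁅p, a₀⁆ ≠ 1) {a b : G} (ha : a ∈ A) (hb : b ∈ A) (h : ⁅p, a⁆ = ⁅p, b⁆) : a = b := by
  have hab : a * b⁻¹ ∈ A := mul_mem ha (inv_mem hb)
  have h1 : ⁅p, a * b⁻¹⁆ = 1 := by
    rw [hV.comm_mul_right hp (hA.le_coreP hV ha) (inv_mem (hA.le_coreP hV hb)), h,
      ← hV.comm_mul_right hp (hA.le_coreP hV hb) (inv_mem (hA.le_coreP hV hb)), mul_inv_cancel,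
      commutatorElement_one_right]
  refine mul_inv_eq_one.1 ?_
  by_contra hne
  exact h₀ (commutatorElement_eq_one_iff_mul_comm.2
    (hA.centralizes hV hp hab hne (commutatorElement_eq_one_iff_mul_comm.1 h1) ha₀))

theorem Nbr.comm_surj (hA : Nbr V A) (hV : Setup V) {p a₀ : G} (hp : p ∈ coreP V) (ha₀ : a₀ ∈ A)
    (h₀ : ⁅p, a₀⁆ ≠ 1) {v : G} (hv : v ∈ V) : ∃ a ∈ A, ⁅p, a⁆ = v := by
  let f : ↥A → ↥V := fun a => ⟨⁅p, (a : G)⁆, hV.commutator_mem hp (hA.le_coreP hV a.2)⟩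
  have hf : Function.Injective f := fun a b hab =>
    Subtype.ext (hA.comm_inj hV hp ha₀ h₀ a.2 b.2 (congrArg Subtype.val hab))
  obtain ⟨a, ha⟩ := ((Nat.bijective_iff_injective_and_card f).2 ⟨hf, hA.card⟩).2 ⟨v, hv⟩
  exact ⟨a, a.2, congrArg Subtype.val ha⟩

/-- A translation along `A` is inverted by one along `V`. -/
theorem Nbr.exists_inv (hA : Nbr V A) (hV : Setup V) {p a₀ : G} (hp : p ∈ coreP V) (ha₀ : a₀ ∈ A)
    (h₀ : ⁅p, a₀⁆ ≠ 1) : ∃ t ∈ coreP A, ∀ a ∈ A, ⁅t, ⁅p, a⁆⁆ = a := by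
  have hA' := hA.symm hV
  have hSA := hA.setup hV
  have hv₀ : ⁅p, a₀⁆ ∈ V := hV.commutator_mem hp (hA.le_coreP hV ha₀)
  obtain ⟨t, ht, htv⟩ := hA'.exists_commutator_eq hSA hv₀ h₀ ha₀
  refine ⟨t, ht, fun a ha => ?_⟩
  obtain ⟨x, hx⟩ := hA.conj
  have hVa : ∀ v ∈ V, ∀ a ∈ A, v * a = a * v := fun v hv a ha =>
    (hV.central hv (hA.le_coreP hV ha)).symm
  have heq : cj t V = cj p A := by
    rw [hx, cj_cj]
    refine hV.eq_of_mem (w := ⁅p, a₀⁆ * a₀) ?_ ?_ ?_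
    · intro h
      apply h₀
      exact (hA.disjoint hV (a := ⁅p, a₀⁆) (by
        rw [eq_inv_of_mul_eq_one_left h]; exact inv_mem ha₀) hv₀)
    · refine ⟨_, hv₀, ?_⟩
      show t * ⁅p, a₀⁆ * t⁻¹ = _
      rw [hVa _ hv₀ _ ha₀]
      nth_rewrite 2 [← htv]
      group
    · rw [← cj_cj, ← hx]
      refine ⟨a₀, ha₀, ?_⟩
      show p * a₀ * p⁻¹ = _
      group
  have hv : ⁅p, a⁆ ∈ V := hV.commutator_mem hp (hA.le_coreP hV ha)
  obtain ⟨v', hv', he⟩ : p * a * p⁻¹ ∈ cj t V := heq ▸ ⟨a, ha, rfl⟩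
  have hb : ⁅t, v'⁆ ∈ A := hSA.commutator_mem ht (hA'.le_coreP hSA hv')
  have he' : ⁅p, a⁆ * a = v' * ⁅t, v'⁆ := by
    rw [hVa _ hv' _ hb, show ⁅t, v'⁆ * v' = t * v' * t⁻¹ by group]
    refine Eq.trans ?_ he.symm
    group
  have h1 : v'⁻¹ * ⁅p, a⁆ = ⁅t, v'⁆ * a⁻¹ := by
    calc v'⁻¹ * ⁅p, a⁆ = v'⁻¹ * (⁅p, a⁆ * a) * a⁻¹ := by group
      _ = v'⁻¹ * (v' * ⁅t, v'⁆) * a⁻¹ := by rw [he']
      _ = _ := by group
  have h2 : v'⁻¹ * ⁅p, a⁆ = 1 :=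
    hA.disjoint hV (h1 ▸ mul_mem hb (inv_mem ha)) (mul_mem (inv_mem hv') hv)
  have h3 : v' = ⁅p, a⁆ := inv_mul_eq_one.1 h2
  rw [h2, eq_comm, mul_inv_eq_one] at h1
  rw [← h3, h1]

/-- An element exchanging `A` and `V`. -/
theorem Nbr.exists_swap (hA : Nbr V A) (hV : Setup V) {p a₀ : G} (hp : p ∈ coreP V) (ha₀ : a₀ ∈ A)
    (h₀ : ⁅p, a₀⁆ ≠ 1) : ∃ w, cj w A = V ∧ cj w V = A ∧
      ∀ a ∈ A, w * a * w⁻¹ = ⁅p, a⁆ ∧ w * ⁅p, a⁆ * w⁻¹ = a := by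
  obtain ⟨s, hs, hinv⟩ := hA.exists_inv hV hp ha₀ h₀
  have hVa : ∀ v ∈ V, ∀ a ∈ A, v * a = a * v := fun v hv a ha =>
    (hV.central hv (hA.le_coreP hV ha)).symm
  have hSA := hA.setup hV
  have key : ∀ a ∈ A, p * s * p * a * (p * s * p)⁻¹ = ⁅p, a⁆ ∧
      p * s * p * ⁅p, a⁆ * (p * s * p)⁻¹ = a := by
    intro a ha
    have hv : ⁅p, a⁆ ∈ V := hV.commutator_mem hp (hA.le_coreP hV ha)
    have hpv : p * ⁅p, a⁆ * p⁻¹ = ⁅p, a⁆ := by rw [hV.central hv hp, mul_inv_cancel_right]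
    have hsv : s * ⁅p, a⁆ * s⁻¹ = a * ⁅p, a⁆ := by
      nth_rewrite 2 [← hinv a ha]
      group
    have hsa : s * a * s⁻¹ = a := by rw [hSA.central ha hs, mul_inv_cancel_right]
    have haa : a * a = 1 := by rw [← sq]; exact hSA.elem.2 a ha
    constructor
    · calc p * s * p * a * (p * s * p)⁻¹ = p * (s * (⁅p, a⁆ * a) * s⁻¹) * p⁻¹ := by group
        _ = p * ((s * ⁅p, a⁆ * s⁻¹) * (s * a * s⁻¹)) * p⁻¹ := by group
        _ = p * ⁅p, a⁆ * p⁻¹ := by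
            rw [hsv, hsa, mul_assoc a, hVa _ hv _ ha, ← mul_assoc a, haa, one_mul]
        _ = _ := hpv
    · calc p * s * p * ⁅p, a⁆ * (p * s * p)⁻¹ = p * (s * (p * ⁅p, a⁆ * p⁻¹) * s⁻¹) * p⁻¹ := by group
        _ = p * (s * ⁅p, a⁆ * s⁻¹) * p⁻¹ := by rw [hpv]
        _ = (p * a * p⁻¹) * (p * ⁅p, a⁆ * p⁻¹) := by rw [hsv]; group
        _ = ⁅p, a⁆ * a * ⁅p, a⁆ := by rw [hpv]; group
        _ = a * (⁅p, a⁆ * ⁅p, a⁆) := by rw [hVa _ hv _ ha, mul_assoc]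
        _ = a := by rw [← sq, hV.elem.2 _ hv, mul_one]
  refine ⟨p * s * p, eq_of_le_of_card_ge ?_ ?_, eq_of_le_of_card_ge ?_ ?_, key⟩
  · rintro _ ⟨a, ha, rfl⟩
    show p * s * p * a * (p * s * p)⁻¹ ∈ V
    rw [(key a ha).1]
    exact hV.commutator_mem hp (hA.le_coreP hV ha)
  · rw [card_map_conj, hA.card]
  · rintro _ ⟨v, hv, rfl⟩
    obtain ⟨a, ha, rfl⟩ := hA.comm_surj hV hp ha₀ h₀ hv
    show p * s * p * ⁅p, a⁆ * (p * s * p)⁻¹ ∈ A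
    rw [(key a ha).2]
    exact ha
  · rw [card_map_conj, hA.card]

/-- The set of translations is closed under `φ χ⁻¹ φ`. -/
theorem Nbr.exists_hua (hA : Nbr V A) (hV : Setup V) {p p' a₀ a₁ : G} (hp : p ∈ coreP V)
    (hp' : p' ∈ coreP V) (ha₀ : a₀ ∈ A) (h₀ : ⁅p, a₀⁆ ≠ 1) (ha₁ : a₁ ∈ A) (h₁ : ⁅p', a₁⁆ ≠ 1) :
    ∃ r ∈ coreP V, ∀ a ∈ A, ∀ a' ∈ A, ⁅p, a⁆ = ⁅p', a'⁆ → ⁅r, a⁆ = ⁅p, a'⁆ := by
  obtain ⟨w, hwA, hwV, hw⟩ := hA.exists_swap hV hp ha₀ h₀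
  obtain ⟨t, ht, htinv⟩ := hA.exists_inv hV hp' ha₁ h₁
  refine ⟨w * t * w⁻¹, ?_, fun a ha a' ha' h => ?_⟩
  · have hP : coreP V = cj w (coreP A) := by rw [← coreP_cj, hwA]
    rw [hP]
    exact ⟨t, ht, rfl⟩
  · have e : ⁅w * t * w⁻¹, a⁆ = w * ⁅t, w⁻¹ * a * w⁆ * w⁻¹ := by group
    have e2 : w⁻¹ * a * w = ⁅p', a'⁆ := by
      rw [← h]
      nth_rewrite 1 [← (hw a ha).2]
      group
    rw [e, e2, htinv a' ha', (hw a' ha').1]

/-- `N(V)` is transitive on `V ∖ {1}`. -/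
theorem Nbr.transitive (hA : Nbr V A) (hV : Setup V) {u v : G} (hu : u ∈ V) (hu1 : u ≠ 1)
    (hv : v ∈ V) (hv1 : v ≠ 1) : ∃ m ∈ normalizer (V : Set G), m * u * m⁻¹ = v := by
  obtain ⟨a, ha, ha1⟩ := hA.exists_ne_one
  obtain ⟨p, hp, hpa⟩ := hA.exists_commutator_eq hV ha ha1 hu
  obtain ⟨q, hq, hqa⟩ := hA.exists_commutator_eq hV ha ha1 hv
  obtain ⟨w, -, hwV, hw⟩ := hA.exists_swap hV hp ha (hpa ▸ hu1)
  obtain ⟨w', hw'A, -, hw'⟩ := hA.exists_swap hV hq ha (hqa ▸ hv1)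
  refine ⟨w' * w, map_conj_eq_self_iff.1 ?_, ?_⟩
  · show cj (w' * w) V = V
    rw [← cj_cj, hwV, hw'A]
  · calc w' * w * u * (w' * w)⁻¹ = w' * (w * ⁅p, a⁆ * w⁻¹) * w'⁻¹ := by rw [hpa]; group
      _ = v := by rw [(hw a ha).2, (hw' a ha).1, hqa]

/-- `C_Q(V) = Q`. -/
theorem Nbr.coreP_eq_coreQ (hA : Nbr V A) (hV : Setup V) : coreP V = coreQ V := by
  refine le_antisymm inf_le_left fun q hq => ⟨hq, ?_⟩
  obtain ⟨a, ha, ha1⟩ := hA.exists_ne_one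
  haveI hVn : (V.subgroupOf (coreQ V)).Normal := normal_subgroupOf_of_le_normalizer coreQ_le
  have hne : V.subgroupOf (coreQ V) ≠ ⊥ := fun h => by
    have hc := card_subgroupOf hV.le_coreQ
    rw [h, Subgroup.card_bot, ← hA.card] at hc
    have := Subgroup.eq_bot_of_card_eq A hc.symm
    rw [this, mem_bot] at ha
    exact ha1 ha
  obtain ⟨⟨r, hr⟩, hrmem, hr1⟩ := (bot_or_exists_ne_one _).resolve_left
    (CfsgLib.PGroups.inf_center_ne_bot (isPGroup_coreQ (V := V)) hne)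
  have hrV : r ∈ V := hrmem.1
  have hr1' : r ≠ 1 := fun h => hr1 (Subtype.ext h)
  have hrC : ∀ x ∈ coreQ V, x * r = r * x := fun x hx =>
    congrArg Subtype.val (mem_center_iff.1 hrmem.2 ⟨x, hx⟩)
  refine mem_centralizer_iff.2 fun v hv => ?_
  by_cases hv1 : v = 1
  · rw [hv1, one_mul, mul_one]
  obtain ⟨m, hm, rfl⟩ := hA.transitive hV hrV hr1' hv hv1
  have h := hrC (m⁻¹ * q * m) (by simpa using conj_mem_coreQ (inv_mem hm) hq)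
  calc m * r * m⁻¹ * q = m * (r * (m⁻¹ * q * m)) * m⁻¹ := by group
    _ = m * ((m⁻¹ * q * m) * r) * m⁻¹ := by rw [h]
    _ = q * (m * r * m⁻¹) := by group

theorem Nbr.map_commutator (hA : Nbr V A) (hV : Setup V) :
    (commutator ↥(coreQ V)).map (coreQ V).subtype = V := by
  rw [map_subtype_commutator, ← hA.coreP_eq_coreQ hV]
  refine le_antisymm (commutator_le.2 fun x hx y hy => hV.commutator_mem hx hy) fun v hv => ?_
  obtain ⟨a, ha, ha1⟩ := hA.exists_ne_one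
  obtain ⟨p, hp, rfl⟩ := hA.exists_commutator_eq hV ha ha1 hv
  exact commutator_mem_commutator hp (hA.le_coreP hV ha)

theorem Nbr.map_frattini (hA : Nbr V A) (hV : Setup V) :
    (frattini ↥(coreQ V)).map (coreQ V).subtype = V := by
  rw [CfsgLib.PGroups.frattini_eq_derivedPow (p := 2) isPGroup_coreQ, CfsgLib.PGroups.derivedPow,
    Subgroup.map_sup, hA.map_commutator hV, sup_eq_left, Subgroup.map_le_iff_le_comap, closure_le]
  rintro _ ⟨⟨g, hg⟩, rfl⟩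
  rw [← hA.coreP_eq_coreQ hV] at hg
  show g ^ 2 ∈ V
  refine hV.center_coreP (pow_mem hg 2) fun x hx => commutatorElement_eq_one_iff_mul_comm.1 ?_
  rw [sq, hV.comm_mul_left hg hg hx, ← sq]
  exact hV.elem.2 _ (hV.commutator_mem hg hx)

theorem Nbr.map_center (hA : Nbr V A) (hV : Setup V) :
    (center ↥(coreQ V)).map (coreQ V).subtype = V := by
  have hPQ := hA.coreP_eq_coreQ hV
  refine le_antisymm ?_ fun v hv => ?_
  · rintro _ ⟨⟨z, hz⟩, hc, rfl⟩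
    exact hV.center_coreP (hPQ.ge hz) fun x hx =>
      (congrArg Subtype.val (mem_center_iff.1 hc ⟨x, hPQ.le hx⟩)).symm
  · exact ⟨⟨v, hV.le_coreQ hv⟩, mem_center_iff.2 fun x => Subtype.ext
      (hV.central hv (hPQ.ge x.2)), rfl⟩

/-- The partition of `V ⊔ A` by conjugates of `V`. -/
theorem Nbr.spread (hA : Nbr V A) (hV : Setup V) {w : G} (hw : w ∈ V ⊔ A) (hw1 : w ≠ 1) :
    ∃! U : Subgroup G, (∃ x : G, U = cj x V) ∧ U ≤ V ⊔ A ∧ w ∈ U := by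
  obtain ⟨v, hv, a, ha, rfl⟩ := Set.mem_mul.1 (by
    rw [← coe_mul_of_left_le_normalizer_right V A
      ((le_centralizer_iff.1 (hA.le_centralizer hV)).trans (centralizer_le_normalizer _))]
    exact hw)
  refine existsUnique_of_exists_of_unique ?_ ?_
  · by_cases ha1 : a = 1
    · exact ⟨V, ⟨1, (cj_one V).symm⟩, le_sup_left, by rw [ha1, mul_one]; exact hv⟩
    obtain ⟨p, hp, hpa⟩ := hA.exists_commutator_eq hV ha ha1 hv
    obtain ⟨x, hx⟩ := hA.conj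
    refine ⟨cj p A, ⟨p * x, by rw [hx, cj_cj]⟩, ?_, a, ha, ?_⟩
    · rintro _ ⟨b, hb, rfl⟩
      show p * b * p⁻¹ ∈ V ⊔ A
      rw [show p * b * p⁻¹ = ⁅p, b⁆ * b by group]
      exact mul_mem_sup (hV.commutator_mem hp (hA.le_coreP hV hb)) hb
    · show p * a * p⁻¹ = v * a
      rw [← hpa]; group
  · rintro U U' ⟨⟨x, rfl⟩, -, hU⟩ ⟨⟨y, rfl⟩, -, hU'⟩
    exact hV.eq_of_mem hw1 hU hU'

/-- `P` normalises `V ⊔ A`. -/
theorem Nbr.coreP_le_normalizer_sup (hA : Nbr V A) (hV : Setup V) :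
    coreP V ≤ normalizer ((V ⊔ A : Subgroup G) : Set G) := by
  intro p hp
  refine map_conj_eq_self_iff.1 (eq_of_le_of_card_ge ?_ (by rw [card_map_conj]))
  rw [Subgroup.map_le_iff_le_comap]
  refine sup_le (fun v hv => ?_) (fun a ha => ?_)
  · show p * v * p⁻¹ ∈ V ⊔ A
    rw [hV.central hv hp, mul_inv_cancel_right]
    exact mem_sup_left hv
  · show p * a * p⁻¹ ∈ V ⊔ A
    rw [show p * a * p⁻¹ = ⁅p, a⁆ * a by group]
    exact mul_mem_sup (hV.commutator_mem hp (hA.le_coreP hV ha)) ha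

theorem Nbr.sup_le_normalizer_sup (hA : Nbr V A) (hV : Setup V) :
    coreP V ⊔ coreP A ≤ normalizer ((V ⊔ A : Subgroup G) : Set G) :=
  sup_le (hA.coreP_le_normalizer_sup hV)
    ((((hA.symm hV).coreP_le_normalizer_sup (hA.setup hV))).trans (le_of_eq (by rw [sup_comm A V])))

end CfsgLib.TISub
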