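import Cfsg.Agent.Lib.Techniques.TISemifield
import Cfsg.Agent.Lib.Classical.SLGen

/-!
# The two cores induce `SL₂` on `V ⊔ A`
-/

set_option autoImplicit false
set_option linter.style.haveILetI false
set_option linter.unusedSectionVars false

namespace CfsgLib.TISub

open Subgroup Cfsg CfsgLib.Base CfsgLib.Components Matrix
open scoped commutatorElement IsMulCommutative MatrixGroups

variable {G : Type*} [Group G] [Finite G] {V : Subgroup G}

namespace Frame

variable [IsMulCommutative ↥V] (F : Frame V)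

/-- Coordinates on `V ⊔ A`. -/
noncomputable def cc (f : Fin 2 → Additive ↥V) : G :=
  ((f 0).toMul : G) * (F.α (f 1).toMul : G)

theorem cc_add (f f' : Fin 2 → Additive ↥V) : F.cc (f + f') = F.cc f * F.cc f' := by
  show (((f 0).toMul * (f' 0).toMul : ↥V) : G) * ((F.α ((f 1).toMul * (f' 1).toMul) : ↥F.A) : G) = _
  rw [map_mul, Subgroup.coe_mul, Subgroup.coe_mul, cc, cc]
  have h := F.hV.central (f' 0).toMul.2 (F.hA.le_coreP F.hV (F.α (f 1).toMul).2)
  exact (Commute.mul_mul_mul_comm (show Commute ((f' 0).toMul : G) _ from h.symm) _ _)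

theorem cc_mem (f : Fin 2 → Additive ↥V) : F.cc f ∈ V ⊔ F.A :=
  mul_mem_sup (f 0).toMul.2 (F.α (f 1).toMul).2

theorem cc_injective : Function.Injective F.cc := by
  intro f f' h
  have e : ((f' 0).toMul : G)⁻¹ * ((f 0).toMul : G) =
      (F.α (f' 1).toMul : G) * (F.α (f 1).toMul : G)⁻¹ := by
    calc ((f' 0).toMul : G)⁻¹ * ((f 0).toMul : G)
        = ((f' 0).toMul : G)⁻¹ * F.cc f * (F.α (f 1).toMul : G)⁻¹ := by rw [cc]; group
      _ = _ := by rw [h, cc]; group
  have h1 := F.hA.disjoint F.hV (e ▸ mul_mem (F.α (f' 1).toMul).2 (inv_mem (F.α (f 1).toMul).2))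
    (mul_mem (inv_mem (f' 0).toMul.2) (f 0).toMul.2)
  have h2 : ((f' 0).toMul : G) = (f 0).toMul := inv_mul_eq_one.1 h1
  rw [h1, eq_comm, mul_inv_eq_one] at e
  funext i
  match i with
  | 0 => exact Additive.toMul.injective (Subtype.ext h2.symm)
  | 1 => exact Additive.toMul.injective (F.α.injective (Subtype.ext e.symm))

theorem exists_cc {w : G} (hw : w ∈ V ⊔ F.A) : ∃ f, F.cc f = w := by
  obtain ⟨v, hv, a, ha, rfl⟩ := Set.mem_mul.1 (by
    rw [← coe_mul_of_left_le_normalizer_right V F.A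
      ((le_centralizer_iff.1 (F.hA.le_centralizer F.hV)).trans (centralizer_le_normalizer _))]
    exact hw)
  refine ⟨![Additive.ofMul ⟨v, hv⟩, Additive.ofMul (F.α.symm ⟨a, ha⟩)], ?_⟩
  show v * (F.α (F.α.symm ⟨a, ha⟩) : G) = _
  rw [MulEquiv.apply_symm_apply]

end Frame

/-- `⟨P, P(A)⟩` induces `SL₂(V)` on `V ⊔ A`. -/
theorem Frame.exists_hom [IsMulCommutative ↥V] (F : Frame V) :
    letI := F.field
    ∃ φ : ↥(coreP V ⊔ coreP F.A) →* SL(2, Additive ↥V), Function.Surjective φ ∧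
      φ.ker = (centralizer ((V ⊔ F.A : Subgroup G) : Set G)).subgroupOf (coreP V ⊔ coreP F.A) := by
  letI := F.field
  set H := coreP V ⊔ coreP F.A with hH
  let Acts : G → SL(2, Additive ↥V) → Prop := fun h M => ∀ f, h * F.cc f * h⁻¹ = F.cc ((M : Matrix (Fin 2) (Fin 2) (Additive ↥V)) *ᵥ f)
  have hmul : ∀ {h k M N}, Acts h M → Acts k N → Acts (h * k) (M * N) := by
    intro h k M N hM hN f
    rw [Matrix.SpecialLinearGroup.coe_mul M N, ← mulVec_mulVec]
    rw [← hM, ← hN]
    group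
  have hone : Acts 1 1 := fun f => by
    rw [one_mul, inv_one, mul_one]; exact congrArg F.cc (one_mulVec f).symm
  have hinv : ∀ {h M}, Acts h M → Acts h⁻¹ M⁻¹ := by
    intro h M hM f
    have e : (M : Matrix (Fin 2) (Fin 2) (Additive ↥V)) *ᵥ ((↑M⁻¹ : Matrix (Fin 2) (Fin 2) (Additive ↥V)) *ᵥ f) = f := by
      rw [mulVec_mulVec, ← Matrix.SpecialLinearGroup.coe_mul M M⁻¹, mul_inv_cancel]
      exact one_mulVec f
    have := hM ((↑M⁻¹ : Matrix (Fin 2) (Fin 2) (Additive ↥V)) *ᵥ f)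
    rw [e] at this
    rw [← this]
    group
  have huniq : ∀ {h M N}, Acts h M → Acts h N → M = N := fun {h M N} hM hN =>
    Subtype.ext (Matrix.ext_iff_mulVec.2 fun f => F.cc_injective ((hM f).symm.trans (hN f)))
  have h01 : (0 : Fin 2) ≠ 1 := by decide
  have hVP : ∀ {v p : G}, v ∈ V → p ∈ coreP V → p * v * p⁻¹ = v := fun hv hp => by
    rw [F.hV.central hv hp, mul_inv_cancel_right]
  have hPA : ∀ a ∈ F.A, a ∈ coreP V := fun a ha => F.hA.le_coreP F.hV ha
  -- upper transvections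
  have hup : ∀ p (hp : p ∈ coreP V), Acts p (Matrix.SpecialLinearGroup.transvection h01
      (Additive.ofMul (⟨⁅p, F.a₀⁆, F.hV.commutator_mem hp (hPA _ F.ha₀)⟩ : ↥V))) := by
    intro p hp f
    set c : Additive ↥V := Additive.ofMul (⟨⁅p, F.a₀⁆, F.hV.commutator_mem hp (hPA _ F.ha₀)⟩ : ↥V)
      with hc
    have hpa : ⁅p, (F.α (f 1).toMul : G)⁆ = (((f 1) * c).toMul : G) :=
      F.hA.eq_of_comm_eq F.hV hp (F.hB.le_coreP F.hV (F.β c.toMul).2) F.ha₀ F.a₀_ne
        (F.comm_β c.toMul).symm (F.α (f 1).toMul).2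
    rw [CfsgLib.Classical.transvection_mulVec]
    simp only [Frame.cc, Pi.add_apply, Pi.single_eq_same, Pi.single_eq_of_ne h01.symm, add_zero]
    rw [show p * (((f 0).toMul : G) * (F.α (f 1).toMul : G)) * p⁻¹ =
      (p * ((f 0).toMul : G) * p⁻¹) * (⁅p, (F.α (f 1).toMul : G)⁆ * (F.α (f 1).toMul : G)) by group,
      hVP (f 0).toMul.2 hp, hpa, mul_comm c, ← mul_assoc]
    rfl
  -- lower transvections
  have hA' := F.hA.symm F.hV
  have hSA := F.hA.setup F.hV
  have hlo : ∀ t ∈ coreP F.A, ∀ c : Additive ↥V,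
      (∀ x : Additive ↥V, ⁅t, (x.toMul : G)⁆ = (F.α (x * c).toMul : G)) →
      Acts t (Matrix.SpecialLinearGroup.transvection h01.symm c) := by
    intro t ht c hc f
    rw [CfsgLib.Classical.transvection_mulVec]
    simp only [Frame.cc, Pi.add_apply, Pi.single_eq_same, Pi.single_eq_of_ne h01, add_zero]
    have e2 : ((F.α (f 1 + c * f 0).toMul : ↥F.A) : G) =
        (F.α (f 1).toMul : G) * (F.α (f 0 * c).toMul : G) := by
      rw [mul_comm c, ← Subgroup.coe_mul, ← map_mul]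
      rfl
    rw [e2, show t * (((f 0).toMul : G) * (F.α (f 1).toMul : G)) * t⁻¹ =
      (⁅t, ((f 0).toMul : G)⁆ * ((f 0).toMul : G)) * (t * (F.α (f 1).toMul : G) * t⁻¹) by group,
      hSA.central (F.α (f 1).toMul).2 ht, mul_inv_cancel_right, hc,
      ← F.hV.central (f 0).toMul.2 (hPA _ (F.α (f 0 * c).toMul).2) |>.symm, mul_assoc,
      comm_of_elem hSA.elem (F.α (f 1).toMul).2 (F.α (f 0 * c).toMul).2]
  have hP_le : ∀ p ∈ coreP V, ∃ M, Acts p M := fun p hp => ⟨_, hup p hp⟩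
  have hPA_le : ∀ t ∈ coreP F.A, ∃ M, Acts t M := by
    intro t ht
    have hm : ∀ x : Additive ↥V, ⁅t, (x.toMul : G)⁆ ∈ F.A := fun x =>
      hSA.commutator_mem ht (hA'.le_coreP hSA x.toMul.2)
    let c : Additive ↥V := Additive.ofMul (F.α.symm ⟨⁅t, ((1 : Additive ↥V).toMul : G)⁆, hm 1⟩)
    have hαc : (F.α c.toMul : G) = ⁅t, ((1 : Additive ↥V).toMul : G)⁆ :=
      congrArg Subtype.val (F.α.apply_symm_apply _)
    refine ⟨_, hlo t ht c fun x => ?_⟩
    have hone_ne : ((1 : Additive ↥V).toMul : G) ≠ 1 := fun h => F.e_ne (Subtype.ext h)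
    by_cases hc0 : c = 0
    · rw [hc0, mul_zero]
      show _ = ((F.α 1 : ↥F.A) : G)
      rw [map_one, Subgroup.coe_one, commutatorElement_eq_one_iff_mul_comm]
      refine hA'.centralizes hSA ht (1 : Additive ↥V).toMul.2 hone_ne
        (commutatorElement_eq_one_iff_mul_comm.1 ?_) x.toMul.2
      rw [← hαc, hc0]
      show ((F.α 1 : ↥F.A) : G) = 1
      rw [map_one, Subgroup.coe_one]
    have hne : ⁅t, ((1 : Additive ↥V).toMul : G)⁆ ≠ 1 := fun h => hc0 (by
      refine Additive.toMul.injective (F.α.injective (Subtype.ext ?_))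
      rw [hαc, h, show (0 : Additive ↥V).toMul = (1 : ↥V) from rfl, map_one, Subgroup.coe_one])
    obtain ⟨p, hp, hinv⟩ := hA'.exists_inv hSA ht (1 : Additive ↥V).toMul.2 hne
    let d : Additive ↥V := Additive.ofMul (⟨⁅p, F.a₀⁆, F.hV.commutator_mem hp (hPA _ F.ha₀)⟩ : ↥V)
    have key : ∀ z y : Additive ↥V, ⁅t, (z.toMul : G)⁆ = (F.α y.toMul : G) → y * d = z := by
      intro z y hzy
      refine Additive.toMul.injective (Subtype.ext ?_)
      have := hinv z.toMul z.toMul.2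
      rw [hzy, F.hA.eq_of_comm_eq F.hV hp (F.hB.le_coreP F.hV (F.β d.toMul).2) F.ha₀ F.a₀_ne
        (F.comm_β d.toMul).symm (F.α y.toMul).2] at this
      exact this
    have hcd : c * d = 1 := key 1 c hαc.symm
    let y : Additive ↥V := Additive.ofMul (F.α.symm ⟨⁅t, (x.toMul : G)⁆, hm x⟩)
    have hy : (F.α y.toMul : G) = ⁅t, (x.toMul : G)⁆ :=
      congrArg Subtype.val (F.α.apply_symm_apply _)
    have hyd : y * d = x := key x y hy.symm
    rw [← hy, show x * c = y from by rw [← hyd, mul_assoc, mul_comm d, hcd, mul_one]]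
  have hall : ∀ h : ↥H, ∃ M, Acts h M := by
    let S : Subgroup G :=
      { carrier := {h | ∃ M, Acts h M}
        mul_mem' := fun ⟨M, hM⟩ ⟨N, hN⟩ => ⟨M * N, hmul hM hN⟩
        one_mem' := ⟨1, hone⟩
        inv_mem' := fun ⟨M, hM⟩ => ⟨M⁻¹, hinv hM⟩ }
    exact fun h => (show H ≤ S from sup_le hP_le hPA_le) h.2
  choose M hM using hall
  let φ : ↥H →* SL(2, Additive ↥V) :=
    MonoidHom.mk' M fun h k => huniq (hM (h * k)) (hmul (hM h) (hM k))
  refine ⟨φ, ?_, ?_⟩
  · rw [← MonoidHom.range_eq_top]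
    refine CfsgLib.Classical.eq_top_of_transvection_mem _ fun i j hij c => ?_
    have hex : ∀ (h : G) (hh : h ∈ H) (N : SL(2, Additive ↥V)), Acts h N → N ∈ φ.range :=
      fun h hh N hN => ⟨⟨h, hh⟩, huniq (hM ⟨h, hh⟩) hN⟩
    match i, j, hij with
    | 0, 0, hij => exact absurd rfl hij
    | 1, 1, hij => exact absurd rfl hij
    | 0, 1, hij =>
      have hp := F.hB.le_coreP F.hV (F.β c.toMul).2
      have := hup _ hp
      rw [show (⟨⁅(F.β c.toMul : G), F.a₀⁆, F.hV.commutator_mem hp (hPA _ F.ha₀)⟩ : ↥V) = c.toMul from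
        Subtype.ext (F.comm_β c.toMul)] at this
      exact hex _ (mem_sup_left hp) _ this
    | 1, 0, hij =>
      by_cases hc0 : c = 0
      · refine hex 1 (one_mem _) _ (hlo 1 (one_mem _) c fun x => ?_)
        rw [commutatorElement_one_left, hc0, mul_zero]
        show _ = ((F.α 1 : ↥F.A) : G)
        rw [map_one, Subgroup.coe_one]
      have hci : c⁻¹.toMul ≠ (1 : ↥V) := fun h => inv_ne_zero hc0 (Additive.toMul.injective h)
      have hp := F.hB.le_coreP F.hV (F.β c⁻¹.toMul).2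
      have hb : ⁅(F.β c⁻¹.toMul : G), F.a₀⁆ ≠ 1 := by
        rw [F.comm_β]
        exact fun h => hci (Subtype.ext h)
      obtain ⟨t, ht, hinv⟩ := F.hA.exists_inv F.hV hp F.ha₀ hb
      refine hex t (mem_sup_right ht) _ (hlo t ht c fun x => ?_)
      have := hinv _ (F.α (x * c).toMul).2
      rwa [show ⁅(F.β c⁻¹.toMul : G), (F.α (x * c).toMul : G)⁆ = ((x * c * c⁻¹).toMul : G) from rfl,
        mul_inv_cancel_right₀ hc0] at this
  · ext h
    rw [MonoidHom.mem_ker, mem_subgroupOf, mem_centralizer_iff]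
    constructor
    · intro h1 w hw
      obtain ⟨f, rfl⟩ := F.exists_cc hw
      have := hM h f
      rw [show M h = 1 from h1] at this
      replace this := this.trans (congrArg F.cc (one_mulVec f))
      conv_lhs => rw [← this]
      group
    · intro h1
      refine huniq (hM h) fun f => ?_
      rw [← h1 _ (F.cc_mem f), mul_inv_cancel_right]
      exact congrArg F.cc (one_mulVec f).symm

/-- `⟨P, P(A)⟩` modulo the centralizer of `V ⊔ A` is `SL₂` of a field of order `|V|`. -/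
theorem Nbr.exists_sl2 {A : Subgroup G} (hA : Nbr V A) (hV : Setup V)
    (hN : ((centralizer ((V ⊔ A : Subgroup G) : Set G)).subgroupOf (coreP V ⊔ coreP A)).Normal) :
    ∃ (K : Type) (_ : Field K) (_ : Fintype K), Fintype.card K = Nat.card ↥V ∧
      Nonempty (↥(coreP V ⊔ coreP A) ⧸
        (centralizer ((V ⊔ A : Subgroup G) : Set G)).subgroupOf (coreP V ⊔ coreP A) ≃* SL(2, K)) := by
  haveI : IsMulCommutative ↥V := hV.elem.1
  obtain ⟨F, rfl⟩ := hA.exists_frame hV
  letI := F.field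
  obtain ⟨φ, hsurj, hker⟩ := F.exists_hom
  haveI : Finite (Additive ↥V) := inferInstanceAs (Finite ↥V)
  letI : Field (Shrink.{0} (Additive ↥V)) := (equivShrink.{0} (Additive ↥V)).symm.field
  haveI : Finite (Shrink.{0} (Additive ↥V)) := Finite.of_equiv _ (equivShrink.{0} (Additive ↥V))
  let σ : Shrink.{0} (Additive ↥V) ≃+* Additive ↥V := (equivShrink.{0} (Additive ↥V)).symm.ringEquiv
  letI : Fintype (Shrink.{0} (Additive ↥V)) := Fintype.ofFinite _
  refine ⟨Shrink.{0} (Additive ↥V), inferInstance, inferInstance, ?_, ⟨?_⟩⟩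
  · rw [← Nat.card_eq_fintype_card]
    exact Nat.card_congr (σ.toEquiv.trans Additive.toMul)
  · refine ((QuotientGroup.quotientMulEquivOfEq hker.symm).trans
      (QuotientGroup.quotientKerEquivOfSurjective φ hsurj)).trans
      (MonoidHom.toMulEquiv (Matrix.SpecialLinearGroup.map σ.symm.toRingHom)
        (Matrix.SpecialLinearGroup.map σ.toRingHom) ?_ ?_)
    · ext M i j
      simp
    · ext M i j
      simp

end CfsgLib.TISub
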