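import Cfsg.Agent.Lib.Techniques.TIHua
import Cfsg.Agent.Lib.Techniques.InvSemifieldField

/-!
# The field attached to a pair of opposite neighbours
-/

set_option autoImplicit false
set_option linter.style.haveILetI false
set_option linter.unusedSectionVars false

namespace CfsgLib.TISub

open Subgroup Cfsg CfsgLib.Base CfsgLib.Components
open scoped commutatorElement IsMulCommutative

variable {G : Type*} [Group G] [Finite G] {V : Subgroup G}

/-- Two neighbours `A`, `B` of `V` with no commuting pair of nontrivial elements, with base points. -/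
structure Frame (V : Subgroup G) where
  hV : Setup V
  A : Subgroup G
  B : Subgroup G
  hA : Nbr V A
  hB : Nbr V B
  opp : ∀ a ∈ A, a ≠ 1 → ∀ b ∈ B, b ≠ 1 → a * b ≠ b * a
  a₀ : G
  b₀ : G
  ha₀ : a₀ ∈ A
  hb₀ : b₀ ∈ B
  a₀_ne : a₀ ≠ 1
  b₀_ne : b₀ ≠ 1

theorem Nbr.exists_frame {A : Subgroup G} (hA : Nbr V A) (hV : Setup V) :
    ∃ F : Frame V, F.A = A := by
  obtain ⟨B, hB, hAB⟩ := hA.exists_opposite hV
  obtain ⟨a, ha, ha1⟩ := hA.exists_ne_one
  obtain ⟨b, hb, hb1⟩ := hB.exists_ne_one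
  exact ⟨⟨hV, A, B, hA, hB, hAB, a, b, ha, hb, ha1, hb1⟩, rfl⟩

namespace Frame

variable (F : Frame V)

theorem comm_mem {b a : G} (hb : b ∈ F.B) (ha : a ∈ F.A) : ⁅b, a⁆ ∈ V :=
  F.hV.commutator_mem (F.hB.le_coreP F.hV hb) (F.hA.le_coreP F.hV ha)

theorem comm_ne {b a : G} (hb : b ∈ F.B) (hb1 : b ≠ 1) (ha : a ∈ F.A) (ha1 : a ≠ 1) :
    ⁅b, a⁆ ≠ 1 := fun h =>
  F.opp a ha ha1 b hb hb1 (commutatorElement_eq_one_iff_mul_comm.1 h).symm

/-- `a ↦ ⁅b₀, a⁆`. -/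
def fA : ↥F.A →* ↥V :=
  MonoidHom.mk' (fun a => ⟨⁅F.b₀, (a : G)⁆, F.comm_mem F.hb₀ a.2⟩) fun a c => Subtype.ext
    (F.hV.comm_mul_right (F.hB.le_coreP F.hV F.hb₀) (F.hA.le_coreP F.hV a.2)
      (F.hA.le_coreP F.hV c.2))

/-- `b ↦ ⁅b, a₀⁆`. -/
def fB : ↥F.B →* ↥V :=
  MonoidHom.mk' (fun b => ⟨⁅(b : G), F.a₀⁆, F.comm_mem b.2 F.ha₀⟩) fun b c => Subtype.ext
    (F.hV.comm_mul_left (F.hB.le_coreP F.hV b.2) (F.hB.le_coreP F.hV c.2)
      (F.hA.le_coreP F.hV F.ha₀))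

theorem fA_bijective : Function.Bijective F.fA := by
  refine (Nat.bijective_iff_injective_and_card _).2 ⟨?_, F.hA.card⟩
  rw [← MonoidHom.ker_eq_bot_iff, eq_bot_iff]
  intro a ha
  rw [mem_bot]
  by_contra h
  exact F.comm_ne F.hb₀ F.b₀_ne a.2 (fun h' => h (Subtype.ext h')) (congrArg Subtype.val ha)

theorem fB_bijective : Function.Bijective F.fB := by
  refine (Nat.bijective_iff_injective_and_card _).2 ⟨?_, F.hB.card⟩
  rw [← MonoidHom.ker_eq_bot_iff, eq_bot_iff]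
  intro b hb
  rw [mem_bot]
  by_contra h
  exact F.comm_ne b.2 (fun h' => h (Subtype.ext h')) F.ha₀ F.a₀_ne (congrArg Subtype.val hb)

/-- The element of `A` with given commutator with `b₀`. -/
noncomputable def α : ↥V ≃* ↥F.A := (MulEquiv.ofBijective F.fA F.fA_bijective).symm

/-- The element of `B` with given commutator with `a₀`. -/
noncomputable def β : ↥V ≃* ↥F.B := (MulEquiv.ofBijective F.fB F.fB_bijective).symm

theorem comm_α (v : ↥V) : ⁅F.b₀, (F.α v : G)⁆ = v :=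
  congrArg Subtype.val ((MulEquiv.ofBijective F.fA F.fA_bijective).apply_symm_apply v)

theorem comm_β (v : ↥V) : ⁅(F.β v : G), F.a₀⁆ = v :=
  congrArg Subtype.val ((MulEquiv.ofBijective F.fB F.fB_bijective).apply_symm_apply v)

theorem α_comm (a : ↥F.A) : F.α ⟨⁅F.b₀, (a : G)⁆, F.comm_mem F.hb₀ a.2⟩ = a :=
  (MulEquiv.ofBijective F.fA F.fA_bijective).symm_apply_apply a

theorem β_comm (b : ↥F.B) : F.β ⟨⁅(b : G), F.a₀⁆, F.comm_mem b.2 F.ha₀⟩ = b :=
  (MulEquiv.ofBijective F.fB F.fB_bijective).symm_apply_apply b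

/-- The product `x ⋄ y = ⁅β y, α x⁆`. -/
noncomputable def pr (x y : ↥V) : ↥V :=
  ⟨⁅(F.β y : G), (F.α x : G)⁆, F.comm_mem (F.β y).2 (F.α x).2⟩

theorem pr_mul_left (x x' y : ↥V) : F.pr (x * x') y = F.pr x y * F.pr x' y := Subtype.ext <| by
  show ⁅(F.β y : G), ((F.α (x * x') : ↥F.A) : G)⁆ = _
  rw [map_mul]
  exact F.hV.comm_mul_right (F.hB.le_coreP F.hV (F.β y).2) (F.hA.le_coreP F.hV (F.α x).2)
    (F.hA.le_coreP F.hV (F.α x').2)

theorem pr_mul_right (x y y' : ↥V) : F.pr x (y * y') = F.pr x y * F.pr x y' := Subtype.ext <| by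
  show ⁅((F.β (y * y') : ↥F.B) : G), (F.α x : G)⁆ = _
  rw [map_mul]
  exact F.hV.comm_mul_left (F.hB.le_coreP F.hV (F.β y).2) (F.hB.le_coreP F.hV (F.β y').2)
    (F.hA.le_coreP F.hV (F.α x).2)

/-- The neutral element. -/
def e : ↥V := ⟨⁅F.b₀, F.a₀⁆, F.comm_mem F.hb₀ F.ha₀⟩

theorem e_ne : F.e ≠ 1 := fun h =>
  F.comm_ne F.hb₀ F.b₀_ne F.ha₀ F.a₀_ne (congrArg Subtype.val h)

theorem pr_e_left (y : ↥V) : F.pr F.e y = y := Subtype.ext <| by
  show ⁅(F.β y : G), (F.α F.e : G)⁆ = y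
  rw [show F.α F.e = ⟨F.a₀, F.ha₀⟩ from F.α_comm ⟨F.a₀, F.ha₀⟩]
  exact F.comm_β y

theorem pr_e_right (x : ↥V) : F.pr x F.e = x := Subtype.ext <| by
  show ⁅(F.β F.e : G), (F.α x : G)⁆ = x
  rw [show F.β F.e = ⟨F.b₀, F.hb₀⟩ from F.β_comm ⟨F.b₀, F.hb₀⟩]
  exact F.comm_α x

theorem pr_rip {y : ↥V} (hy : y ≠ 1) : ∃ y', ∀ x, F.pr (F.pr x y) y' = x := by
  have hb : (F.β y : G) ≠ 1 := fun h => hy (F.β.injective (by
    rw [map_one]; exact Subtype.ext h))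
  obtain ⟨r, hr, hrr⟩ := F.hA.exists_hua F.hV (F.hB.le_coreP F.hV F.hb₀)
    (F.hB.le_coreP F.hV (F.β y).2) F.ha₀ (F.comm_ne F.hb₀ F.b₀_ne F.ha₀ F.a₀_ne) F.ha₀
    (F.comm_ne (F.β y).2 hb F.ha₀ F.a₀_ne)
  refine ⟨⟨⁅r, F.a₀⁆, F.hV.commutator_mem hr (F.hA.le_coreP F.hV F.ha₀)⟩, fun x => Subtype.ext ?_⟩
  show ⁅(F.β _ : G), (F.α (F.pr x y) : G)⁆ = x
  rw [F.hA.eq_of_comm_eq F.hV (F.hB.le_coreP F.hV (F.β _).2) hr F.ha₀ F.a₀_ne (F.comm_β _)
    (F.α _).2, hrr _ (F.α _).2 _ (F.α x).2 (F.comm_α (F.pr x y))]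
  exact F.comm_α x

theorem pr_lip {x : ↥V} (hx : x ≠ 1) : ∃ x', ∀ y, F.pr x' (F.pr x y) = y := by
  have ha : (F.α x : G) ≠ 1 := fun h => hx (F.α.injective (by
    rw [map_one]; exact Subtype.ext h))
  have hAP : ∀ {a : G}, a ∈ F.A → a ∈ coreP V := fun ha => F.hA.le_coreP F.hV ha
  have hBP : ∀ {b : G}, b ∈ F.B → b ∈ coreP V := fun hb => F.hB.le_coreP F.hV hb
  have hne : ∀ {a : G}, a ∈ F.A → a ≠ 1 → ⁅a, F.b₀⁆ ≠ 1 := fun ha ha1 => by
    rw [F.hV.comm_symm (hAP ha) (hBP F.hb₀)]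
    exact F.comm_ne F.hb₀ F.b₀_ne ha ha1
  obtain ⟨r, hr, hrr⟩ := F.hB.exists_hua F.hV (hAP F.ha₀) (hAP (F.α x).2) F.hb₀
    (hne F.ha₀ F.a₀_ne) F.hb₀ (hne (F.α x).2 ha)
  refine ⟨⟨⁅r, F.b₀⁆, F.hV.commutator_mem hr (hBP F.hb₀)⟩, fun y => Subtype.ext ?_⟩
  show ⁅(F.β (F.pr x y) : G), (F.α _ : G)⁆ = y
  rw [F.hV.comm_symm (hBP (F.β _).2) (hAP (F.α _).2)]
  rw [F.hB.eq_of_comm_eq F.hV (hAP (F.α _).2) hr F.hb₀ F.b₀_ne ?_ (F.β _).2,
    hrr _ (F.β _).2 _ (F.β y).2 ?_]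
  · rw [F.hV.comm_symm (hAP F.ha₀) (hBP (F.β y).2)]
    exact F.comm_β y
  · rw [F.hV.comm_symm (hAP F.ha₀) (hBP (F.β _).2), F.comm_β,
      F.hV.comm_symm (hAP (F.α x).2) (hBP (F.β y).2)]
    rfl
  · rw [F.hV.comm_symm (hAP (F.α _).2) (hBP F.hb₀), F.comm_α]

theorem pr_comm_assoc (x y z : ↥V) :
    F.pr x y = F.pr y x ∧ F.pr (F.pr x y) z = F.pr x (F.pr y z) := by
  haveI : IsMulCommutative ↥V := F.hV.elem.1
  haveI : Finite (Additive ↥V) := inferInstanceAs (Finite ↥V)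
  let S : CfsgLib.InvSemifield.Data (Additive ↥V) :=
    { mul := AddMonoidHom.mk'
        (fun x => AddMonoidHom.mk' (fun y => Additive.ofMul (F.pr x.toMul y.toMul)) fun y y' =>
          congrArg Additive.ofMul (F.pr_mul_right _ _ _))
        fun x x' => AddMonoidHom.ext fun y => congrArg Additive.ofMul (F.pr_mul_left _ _ _)
      one := Additive.ofMul F.e
      one_ne := F.e_ne
      one_mul := F.pr_e_left
      mul_one := F.pr_e_right
      two := fun v => by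
        apply Additive.toMul.injective
        show v.toMul * v.toMul = 1
        exact Subtype.ext (by simpa [← sq] using F.hV.elem.2 _ v.toMul.2)
      rip := fun y hy => by
        obtain ⟨y', h⟩ := F.pr_rip (y := y.toMul) hy
        exact ⟨Additive.ofMul y', h⟩
      lip := fun x hx => by
        obtain ⟨x', h⟩ := F.pr_lip (x := x.toMul) hx
        exact ⟨Additive.ofMul x', h⟩ }
  obtain ⟨h1, h2⟩ := CfsgLib.InvSemifield.comm_assoc (S := S)
  exact ⟨h1 (Additive.ofMul x) (Additive.ofMul y),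
    h2 (Additive.ofMul x) (Additive.ofMul y) (Additive.ofMul z)⟩

theorem pr_inv {x : ↥V} (hx : x ≠ 1) : ∃ y, F.pr x y = F.e := by
  obtain ⟨x', hx'⟩ := F.pr_lip hx
  refine ⟨x', ?_⟩
  have := hx' F.e
  rwa [F.pr_e_right, (F.pr_comm_assoc x' x x).1] at this

/-- The field on `V`. -/
@[reducible] noncomputable def field [IsMulCommutative ↥V] : Field (Additive ↥V) :=
  letI : CommRing (Additive ↥V) :=
    { (inferInstance : AddCommGroup (Additive ↥V)) with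
      mul := fun x y => Additive.ofMul (F.pr x.toMul y.toMul)
      one := Additive.ofMul F.e
      one_mul := F.pr_e_left
      mul_one := F.pr_e_right
      left_distrib := fun x y z => congrArg Additive.ofMul (F.pr_mul_right _ _ _)
      right_distrib := fun x y z => congrArg Additive.ofMul (F.pr_mul_left _ _ _)
      zero_mul := fun y => congrArg Additive.ofMul (show F.pr 1 y.toMul = 1 by
        have := F.pr_mul_left 1 1 y.toMul
        rwa [one_mul, left_eq_mul] at this)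
      mul_zero := fun y => congrArg Additive.ofMul (show F.pr y.toMul 1 = 1 by
        have := F.pr_mul_right y.toMul 1 1
        rwa [one_mul, left_eq_mul] at this)
      mul_assoc := fun x y z => congrArg Additive.ofMul (F.pr_comm_assoc _ _ _).2
      mul_comm := fun x y => congrArg Additive.ofMul (F.pr_comm_assoc x.toMul y.toMul y.toMul).1 }
  IsField.toField
    { exists_pair_ne := ⟨Additive.ofMul F.e, 0, F.e_ne⟩
      mul_comm := mul_comm
      mul_inv_cancel := fun {x} hx => by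
        obtain ⟨y, hy⟩ := F.pr_inv (x := x.toMul) hx
        exact ⟨Additive.ofMul y, congrArg Additive.ofMul hy⟩ }

end Frame

end CfsgLib.TISub
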