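import Cfsg.Agent.Lib.Techniques.TIBasic
import Cfsg.Agent.Lib.Coprime.Basic

/-!
# Symmetry: a conjugate of `V` inside `O₂(N(V))` has `V` inside its own `O₂`
-/

set_option autoImplicit false
set_option linter.style.haveILetI false
set_option linter.unusedSectionVars false

namespace CfsgLib.TISub

open Subgroup Cfsg CfsgLib.Base CfsgLib.Components
open scoped commutatorElement

variable {G : Type*} [Group G] [Finite G] {V A : Subgroup G}

/-- `C_P(A) V`-decompositions: `p ↦ ⁅p, a⁆` as a homomorphism. -/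
def commHom (hV : Setup V) {y : G} (hy : y ∈ coreP V) : ↥(coreP V) →* ↥V :=
  MonoidHom.mk' (fun p => ⟨⁅(p : G), y⁆, hV.commutator_mem p.2 hy⟩) fun p q =>
    Subtype.ext (hV.comm_mul_left p.2 q.2 hy)

theorem card_ker_mul (hV : Setup V) {y : G} (hy : y ∈ coreP V)
    (hsurj : ∀ v ∈ V, ∃ p ∈ coreP V, ⁅p, y⁆ = v) :
    Nat.card (commHom hV hy).ker * Nat.card V = Nat.card (coreP V) := by
  have h1 : (commHom hV hy).range = ⊤ := eq_top_iff.2 fun v _ => by
    obtain ⟨p, hp, hpv⟩ := hsurj v v.2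
    exact ⟨⟨p, hp⟩, Subtype.ext hpv⟩
  have h2 : Nat.card (commHom hV hy).ker * (commHom hV hy).ker.index = Nat.card (coreP V) :=
    Subgroup.card_mul_index _
  rwa [Subgroup.index_ker, h1, Subgroup.card_top] at h2

/-- A `w ∈ W` outside `V` is moved by a translation: case A. -/
theorem Nbr.le_coreQ_of_moved (hA : Nbr V A) (hV : Setup V) {t v : G}
    (ht : t ∈ normalizer (A : Set G)) (hv : v ∈ V) (hmem : ⁅v, t⁆ ∈ A) (hne : ⁅v, t⁆ ≠ 1) :
    V ≤ coreQ A := by
  set a := ⁅v, t⁆ with ha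
  have hv1 : v ≠ 1 := fun h => hne (by rw [ha, h, commutatorElement_one_left])
  have hw : t * v * t⁻¹ = v * a := by
    have h1 : v⁻¹ = v := inv_of_elem hV.elem hv
    have h2 : t * v⁻¹ * t⁻¹ = v⁻¹ * a := by rw [ha]; group
    rwa [h1] at h2
  have hw1 : v * a ≠ 1 := fun h => hne (hA.disjoint hV hmem (by
    rw [← inv_eq_of_mul_eq_one_right h]; exact inv_mem hv))
  obtain ⟨p, hp, hpa⟩ := hA.exists_commutator_eq hV hmem hne hv
  have hpa' : p * a * p⁻¹ = v * a := by rw [← hpa]; group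
  obtain ⟨x, hx⟩ := hA.conj
  have heq : cj t V = cj p A := by
    rw [hx, cj_cj]
    refine hV.eq_of_mem hw1 ⟨v, hv, hw⟩ ?_
    rw [← cj_cj, ← hx]
    exact ⟨a, hmem, hpa'⟩
  -- `A ≤ Q(p A p⁻¹)`
  have h1 : A ≤ coreQ (cj p A) := by
    rw [← heq, coreQ_cj]
    exact (cj_eq_self ht).ge.trans (map_mono hA.le)
  rw [coreQ_cj] at h1
  -- `p⁻¹ a' p ∈ Q(A)`
  intro w hw'
  have hnc : p * a ≠ a * p := fun h => hv1 (by
    rw [← hpa]; exact commutatorElement_eq_one_iff_mul_comm.2 h)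
  let f : ↥A →* ↥V := MonoidHom.mk'
    (fun b => ⟨⁅p, (b : G)⁆, hV.commutator_mem hp (hA.le_coreP hV b.2)⟩)
    fun b c => Subtype.ext (hV.comm_mul_right hp (hA.le_coreP hV b.2) (hA.le_coreP hV c.2))
  have hf : Function.Injective f := by
    rw [← MonoidHom.ker_eq_bot_iff, eq_bot_iff]
    intro b hb
    rw [mem_bot]
    by_contra hb1
    exact hnc (hA.centralizes hV hp b.2 (fun h => hb1 (Subtype.ext h))
      (commutatorElement_eq_one_iff_mul_comm.1 (congrArg Subtype.val hb)) hmem)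
  obtain ⟨⟨b, hb⟩, hbw⟩ := ((Nat.bijective_iff_injective_and_card f).2 ⟨hf, hA.card⟩).2 ⟨w, hw'⟩
  obtain ⟨q, hq, hqb⟩ := h1 hb
  have hq2 : q = p⁻¹ * b * p := by rw [← hqb]; show q = p⁻¹ * (p * q * p⁻¹) * p; group
  have hb' : ⁅p, b⁆ = w := congrArg Subtype.val hbw
  -- `⁅p⁻¹, b⁆` is the inverse of `⁅p, b⁆`
  have hpinv : ⁅p⁻¹, b⁆ = w⁻¹ := by
    have h := hV.comm_mul_left (inv_mem hp) hp (hA.le_coreP hV hb)
    rw [inv_mul_cancel, commutatorElement_one_left, hb'] at h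
    exact eq_inv_of_mul_eq_one_left h.symm
  have hw2 : q * b⁻¹ = w := by
    rw [hq2, show p⁻¹ * b * p * b⁻¹ = ⁅p⁻¹, b⁆ by group, hpinv, inv_of_elem hV.elem hw']
  rw [← hw2]
  exact mul_mem hq (inv_mem ((hA.setup hV).le_coreQ hb))

/-- `V ≤ Q(A)`. -/
theorem Nbr.symm_le (hA : Nbr V A) (hV : Setup V) : V ≤ coreQ A := by
  by_contra hcon
  have hSA := hA.setup hV
  -- case B
  have hB : ∀ t ∈ normalizer (A : Set G), ∀ v ∈ V, ⁅v, t⁆ ∈ A → ⁅v, t⁆ = 1 := by
    intro t ht v hv hmem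
    by_contra hne
    exact hcon (hA.le_coreQ_of_moved hV ht hv hmem hne)
  have hVA : ∀ v ∈ V, ∀ a ∈ A, v * a = a * v := fun v hv a ha =>
    (hV.central hv (hA.le_coreP hV ha)).symm
  have hVN : ∀ v ∈ V, v ∈ normalizer (A : Set G) := fun v hv =>
    centralizer_le_normalizer _ (mem_centralizer_iff.2 fun a ha => (hVA v hv a ha).symm)
  have hPA : ∀ {t : G}, t ∈ coreP A → t ∈ normalizer (A : Set G) := fun ht => coreP_le ht
  -- `V ∩ P(A) = 1`
  have hX : ∀ x ∈ V, x ∈ coreP A → x = 1 := fun x hx hxP => hA.disjoint hV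
    (hSA.center_coreP hxP fun t ht => commutatorElement_eq_one_iff_mul_comm.1
      (hB t (hPA ht) x hx (hSA.commutator_mem hxP ht))) hx
  have hV0 : ∀ v ∈ V, (∀ t ∈ coreP A, v * t = t * v) → v = 1 := fun v hv h =>
    hA.disjoint hV (hSA.mem_of_centralizes (hVN v hv) h) hv
  -- elements of `P(A)` centralising one `v ≠ 1` centralise `V`
  have hL : ∀ r ∈ coreP A, ∀ v ∈ V, v ≠ 1 → v * r = r * v → ∀ v' ∈ V, v' * r = r * v' := by
    intro r hr v hv hv1 h v' hv'
    have hrN := hV.mem_normalizer_of_commute hv hv1 h.symm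
    refine commutatorElement_eq_one_iff_mul_comm.1 (hX _ ?_ ?_)
    · rw [show ⁅v', r⁆ = v' * (r * v'⁻¹ * r⁻¹) by group]
      exact mul_mem hv' ((mem_normalizer_iff.1 hrN _).1 (inv_mem hv'))
    · rw [commutatorElement_def]
      exact mul_mem (conj_mem_coreP (hVN v' hv') hr) (inv_mem hr)
  have hn : ∀ v ∈ V, ∀ t ∈ coreP A, ⁅v, t⁆ ∈ coreP A := fun v hv t ht => by
    rw [commutatorElement_def]
    exact mul_mem (conj_mem_coreP (hVN v hv) ht) (inv_mem ht)
  have hsq : ∀ t ∈ coreP A, t * t ∈ A := fun t ht => by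
    refine hSA.center_coreP (mul_mem ht ht) fun x hx => commutatorElement_eq_one_iff_mul_comm.1 ?_
    rw [hSA.comm_mul_left ht ht hx, ← sq]
    exact hSA.elem.2 _ (hSA.commutator_mem ht hx)
  have hn1 : ∀ v ∈ V, ∀ t ∈ coreP A, ⁅v, t⁆ * ⁅v, t⁆ = 1 ∧ v * ⁅v, t⁆ = ⁅v, t⁆ * v ∧
      ⁅⁅v, t⁆, t⁆ = 1 := by
    intro v hv t ht
    set s := ⁅v, t⁆ with hs
    have hv2 : v⁻¹ = v := inv_of_elem hV.elem hv
    have hsP := hn v hv t ht
    have hvs : v * s * v⁻¹ = s⁻¹ := by
      rw [hs]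
      calc v * ⁅v, t⁆ * v⁻¹ = (v * v) * t * v⁻¹ * t⁻¹ * v⁻¹ := by group
        _ = t * v * t⁻¹ * v⁻¹ := by rw [show v * v = 1 from by rw [← sq]; exact hV.elem.2 v hv, one_mul, hv2]
        _ = ⁅v, t⁆⁻¹ := by group
    have h1 : ⁅v, s⁆ = (s * s)⁻¹ := by rw [commutatorElement_def, hvs, mul_inv_rev]
    have h2 : ⁅v, s⁆ = 1 := hB s (hPA hsP) v hv (h1 ▸ inv_mem (hsq s hsP))
    have hss : s * s = 1 := by rw [h1, inv_eq_one] at h2; exact h2
    refine ⟨hss, commutatorElement_eq_one_iff_mul_comm.1 h2, ?_⟩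
    have h3 : v * t * v⁻¹ = s * t := by rw [hs]; group
    have h4 : (s * t) * (s * t) = t * t := by
      rw [← h3, show v * t * v⁻¹ * (v * t * v⁻¹) = v * (t * t) * v⁻¹ by group,
        hVA v hv _ (hsq t ht), mul_inv_cancel_right]
    have h5 : s * t * s = t := by
      have := congrArg (· * t⁻¹) h4
      simpa [mul_assoc] using this
    rw [commutatorElement_eq_one_iff_mul_comm]
    calc s * t = s * t * (s * s) := by rw [hss, mul_one]
      _ = (s * t * s) * s := by group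
      _ = t * s := by rw [h5]
  have hnmul : ∀ v : G, ∀ t r : G, ⁅v, t * r⁆ = ⁅v, t⁆ * (t * ⁅v, r⁆ * t⁻¹) := fun v t r => by group
  have hpol : ∀ v ∈ V, ∀ t ∈ coreP A, ∀ r ∈ coreP A, ⁅⁅v, t⁆, r⁆ = ⁅⁅v, r⁆, t⁆ := by
    intro v hv t ht r hr
    have hnt := hn v hv t ht
    have hnr := hn v hv r hr
    have hcr : t * ⁅v, r⁆ * t⁻¹ ∈ coreP A := conj_mem_coreP (hPA ht) hnr
    have hconj : ∀ x ∈ coreP A, ⁅t * ⁅v, r⁆ * t⁻¹, x⁆ = ⁅⁅v, r⁆, x⁆ := fun x hx => by
      rw [show t * ⁅v, r⁆ * t⁻¹ = ⁅t, ⁅v, r⁆⁆ * ⁅v, r⁆ by group,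
        hSA.comm_mul_left (hSA.le_coreP (hSA.commutator_mem ht hnr)) hnr hx,
        commutatorElement_eq_one_iff_mul_comm.2 (hSA.central (hSA.commutator_mem ht hnr) hx).symm,
        one_mul]
    have h := (hn1 v hv (t * r) (mul_mem ht hr)).2.2
    rw [hnmul v t r, hSA.comm_mul_left hnt hcr (mul_mem ht hr), hconj _ (mul_mem ht hr),
      hSA.comm_mul_right hnt ht hr, hSA.comm_mul_right hnr ht hr, (hn1 v hv t ht).2.2,
      (hn1 v hv r hr).2.2, one_mul, mul_one] at h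
    rw [eq_inv_of_mul_eq_one_left h, inv_of_elem hSA.elem (hSA.commutator_mem hnr ht)]
  -- `N^⊥ ≤ L`
  have hperp : ∀ v ∈ V, ∀ r ∈ coreP A, (∀ t ∈ coreP A, ⁅⁅v, t⁆, r⁆ = 1) → v * r = r * v := by
    intro v hv r hr h
    refine commutatorElement_eq_one_iff_mul_comm.1 (hB r (hPA hr) v hv ?_)
    refine hSA.center_coreP (hn v hv r hr) fun t ht => commutatorElement_eq_one_iff_mul_comm.1 ?_
    rw [← hpol v hv t ht r hr]; exact h t ht
  obtain ⟨B, hB', hAB⟩ := hA.exists_opposite hV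
  -- elements of `P` centralising `C_P(A)` lie in `A V`
  have hdec : ∀ j ∈ coreP V, (∀ a ∈ A, j * a = a * j) →
      (∀ q ∈ coreP V, (∀ a ∈ A, q * a = a * q) → j * q = q * j) → ∃ a ∈ A, ∃ w ∈ V, j = a * w := by
    intro j hj hjA hjP
    obtain ⟨b0, hb0, hb01⟩ : ∃ b ∈ B, b ≠ 1 := by
      by_contra h
      push Not at h
      have hBb : B = ⊥ := (eq_bot_iff_forall B).2 h
      have hc := hB'.card
      rw [hBb, Subgroup.card_bot] at hc
      have hVb : V = ⊥ := Subgroup.eq_bot_of_card_eq V hc.symm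
      exact hA.ne (by rw [hVb]; exact Subgroup.eq_bot_of_card_eq A (hA.card.trans hc.symm))
    obtain ⟨a, ha, hav⟩ : ∃ a ∈ A, ⁅a, b0⁆ = ⁅j, b0⁆ := by
      let f : ↥A →* ↥V := MonoidHom.mk'
        (fun a => ⟨⁅(a : G), b0⁆, hV.commutator_mem (hA.le_coreP hV a.2) (hB'.le_coreP hV hb0)⟩)
        fun a c => Subtype.ext (hV.comm_mul_left (hA.le_coreP hV a.2) (hA.le_coreP hV c.2)
          (hB'.le_coreP hV hb0))
      have hf : Function.Injective f := by
        rw [← MonoidHom.ker_eq_bot_iff, eq_bot_iff]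
        intro a ha
        rw [mem_bot]
        by_contra ha1
        exact hAB a a.2 (fun h => ha1 (Subtype.ext h)) b0 hb0 hb01
          (commutatorElement_eq_one_iff_mul_comm.1 (congrArg Subtype.val ha))
      obtain ⟨a, ha⟩ := ((Nat.bijective_iff_injective_and_card f).2 ⟨hf, hA.card⟩).2
        ⟨⁅j, b0⁆, hV.commutator_mem hj (hB'.le_coreP hV hb0)⟩
      exact ⟨a, a.2, congrArg Subtype.val ha⟩
    have haP := hA.le_coreP hV ha
    set c := a⁻¹ * j with hc
    have hcP : c ∈ coreP V := mul_mem (inv_mem haP) hj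
    have hcb0 : c * b0 = b0 * c := by
      refine commutatorElement_eq_one_iff_mul_comm.1 ?_
      rw [hc, hV.comm_mul_left (inv_mem haP) hj (hB'.le_coreP hV hb0), ← hav,
        ← hV.comm_mul_left (inv_mem haP) haP (hB'.le_coreP hV hb0), inv_mul_cancel,
        commutatorElement_one_left]
    refine ⟨a, ha, c, ?_, by rw [hc, mul_inv_cancel_left]⟩
    refine hV.center_coreP hcP fun x hx => ?_
    obtain ⟨a0, ha0, ha01⟩ : ∃ a ∈ A, a ≠ 1 := by
      by_contra h
      push Not at h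
      have hAb : A = ⊥ := (eq_bot_iff_forall A).2 h
      have := hA.card
      rw [hAb, Subgroup.card_bot] at this
      exact hA.ne (hAb.trans (Subgroup.eq_bot_of_card_eq V this.symm).symm)
    obtain ⟨b, hb, hbx⟩ : ∃ b ∈ B, ⁅b, a0⁆ = ⁅x, a0⁆ := by
      let f : ↥B →* ↥V := MonoidHom.mk'
        (fun b => ⟨⁅(b : G), a0⁆, hV.commutator_mem (hB'.le_coreP hV b.2) (hA.le_coreP hV ha0)⟩)
        fun b b' => Subtype.ext (hV.comm_mul_left (hB'.le_coreP hV b.2) (hB'.le_coreP hV b'.2)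
          (hA.le_coreP hV ha0))
      have hf : Function.Injective f := by
        rw [← MonoidHom.ker_eq_bot_iff, eq_bot_iff]
        intro b hb
        rw [mem_bot]
        by_contra hb1
        exact hAB a0 ha0 ha01 b b.2 (fun h => hb1 (Subtype.ext h))
          (commutatorElement_eq_one_iff_mul_comm.1 (congrArg Subtype.val hb)).symm
      obtain ⟨b, hb⟩ := ((Nat.bijective_iff_injective_and_card f).2 ⟨hf, hB'.card⟩).2
        ⟨⁅x, a0⁆, hV.commutator_mem hx (hA.le_coreP hV ha0)⟩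
      exact ⟨b, b.2, congrArg Subtype.val hb⟩
    have hbP := hB'.le_coreP hV hb
    have hq : b⁻¹ * x ∈ coreP V := mul_mem (inv_mem hbP) hx
    have hqa0 : b⁻¹ * x * a0 = a0 * (b⁻¹ * x) := by
      refine commutatorElement_eq_one_iff_mul_comm.1 ?_
      rw [hV.comm_mul_left (inv_mem hbP) hx (hA.le_coreP hV ha0), ← hbx,
        ← hV.comm_mul_left (inv_mem hbP) hbP (hA.le_coreP hV ha0), inv_mul_cancel,
        commutatorElement_one_left]
    have hqA : ∀ a' ∈ A, (b⁻¹ * x) * a' = a' * (b⁻¹ * x) := fun a' ha' =>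
      hA.centralizes hV hq ha0 ha01 hqa0 ha'
    have h1 : Commute c (b⁻¹ * x) := by
      have e1 : Commute a (b⁻¹ * x) := (hqA a ha).symm
      have e2 : Commute j (b⁻¹ * x) := hjP _ hq hqA
      exact e1.inv_left.mul_left e2
    have h2 : Commute c b := hB'.centralizes hV hcP hb0 hb01 hcb0 hb
    have h3 := h2.mul_right h1
    rwa [mul_inv_cancel_left] at h3
  -- `C_P(A)` is trivial on `L` modulo `A`
  have hLA : ∀ p ∈ coreP V, (∀ a ∈ A, p * a = a * p) → ∀ l ∈ coreP A,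
      (∀ v ∈ V, v * l = l * v) → ⁅p, l⁆ ∈ A := by
    intro p hp hpA l hl hlV
    have hlN : l ∈ normalizer (V : Set G) :=
      centralizer_le_normalizer _ (mem_centralizer_iff.2 hlV)
    have hpN : p ∈ normalizer (A : Set G) :=
      centralizer_le_normalizer _ (mem_centralizer_iff.2 fun a ha => (hpA a ha).symm)
    have hjV : ⁅p, l⁆ ∈ coreP V := by
      rw [show ⁅p, l⁆ = p * (l * p⁻¹ * l⁻¹) by group]
      exact mul_mem hp (conj_mem_coreP hlN (inv_mem hp))
    have hjA : ⁅p, l⁆ ∈ coreP A := by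
      rw [commutatorElement_def]
      exact mul_mem (conj_mem_coreP hpN hl) (inv_mem hl)
    obtain ⟨a, ha, w, hw, hj⟩ := hdec _ hjV
      (fun a ha => (mem_centralizer_iff.1 hjA.2 a ha).symm) fun q hq hqA => by
        refine commutatorElement_eq_one_iff_mul_comm.1 (hX _ (hV.commutator_mem hjV hq) ?_)
        have hqN : q ∈ normalizer (A : Set G) :=
          centralizer_le_normalizer _ (mem_centralizer_iff.2 fun a ha => (hqA a ha).symm)
        rw [show ∀ j : G, ⁅j, q⁆ = j * (q * j⁻¹ * q⁻¹) from fun j => by group]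
        exact mul_mem hjA (conj_mem_coreP hqN (inv_mem hjA))
    have hw1 : w = 1 := hX w hw (by
      have := mul_mem (inv_mem (hSA.le_coreP ha)) hjA
      rwa [hj, inv_mul_cancel_left] at this)
    rw [hj, hw1, mul_one]; exact ha
  -- `C_P(A)` moves `P(A)` into `L`
  have hrL : ∀ p ∈ coreP V, (∀ a ∈ A, p * a = a * p) → ∀ t ∈ coreP A,
      ∀ v ∈ V, v * ⁅p, t⁆ = ⁅p, t⁆ * v := by
    intro p hp hpA t ht v hv
    by_cases hv1 : v = 1
    · rw [hv1, one_mul, mul_one]
    have hpN : p ∈ normalizer (A : Set G) :=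
      centralizer_le_normalizer _ (mem_centralizer_iff.2 fun a ha => (hpA a ha).symm)
    have hr : ⁅p, t⁆ ∈ coreP A := by
      rw [commutatorElement_def]
      exact mul_mem (conj_mem_coreP hpN ht) (inv_mem ht)
    refine hperp v hv _ hr fun u hu => ?_
    set l := ⁅v, u⁆ with hl
    have hlP := hn v hv u hu
    have hlV : ∀ v' ∈ V, v' * l = l * v' := hL l hlP v hv hv1 (hn1 v hv u hu).2.1
    have hpl := hLA p hp hpA l hlP hlV
    have e1 : p * ⁅l, t⁆ * p⁻¹ = ⁅⁅p, l⁆ * l, ⁅p, t⁆ * t⁆ := by group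
    rw [show p * ⁅l, t⁆ * p⁻¹ = ⁅l, t⁆ by rw [hpA _ (hSA.commutator_mem hlP ht), mul_inv_cancel_right],
      hSA.comm_mul_left (hSA.le_coreP hpl) hlP (mul_mem hr ht),
      commutatorElement_eq_one_iff_mul_comm.2 (hSA.central hpl (mul_mem hr ht)).symm, one_mul,
      hSA.comm_mul_right hlP hr ht] at e1
    exact mul_eq_right.1 e1.symm
  -- `C_P(A)` is elementary abelian
  have hP0 : ∀ p ∈ coreP V, (∀ a ∈ A, p * a = a * p) → ∀ q ∈ coreP V, (∀ a ∈ A, q * a = a * q) →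
      p * q = q * p ∧ p * p = 1 := by
    intro p hp hpA q hq hqA
    set CA := coreP V ⊓ centralizer (A : Set G) with hCA
    haveI : (A.subgroupOf (coreP A)).Normal := normal_subgroupOf_of_le_normalizer coreP_le
    have hcomm : ∀ x y : ↥(coreP A) ⧸ A.subgroupOf (coreP A), x * y = y * x := by
      intro x y
      obtain ⟨x, rfl⟩ := QuotientGroup.mk'_surjective _ x
      obtain ⟨y, rfl⟩ := QuotientGroup.mk'_surjective _ y
      rw [← commutatorElement_eq_one_iff_mul_comm, ← map_commutatorElement]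
      exact (QuotientGroup.eq_one_iff _).2 (hSA.commutator_mem x.2 y.2)
    have hmem : ∀ r ∈ CA, ∀ t ∈ coreP A, ⁅r, t⁆ ∈ coreP A := fun r hr t ht => by
      rw [commutatorElement_def]
      exact mul_mem (conj_mem_coreP (centralizer_le_normalizer _ hr.2) ht) (inv_mem ht)
    have hkill : ∀ t (ht : t ∈ coreP A), ∃ ψ : ↥CA →* ↥(coreP A) ⧸ A.subgroupOf (coreP A),
        ∀ r, ψ r = QuotientGroup.mk' _ ⟨⁅(r : G), t⁆, hmem r r.2 t ht⟩ := by
      intro t ht
      refine ⟨MonoidHom.mk' (fun r => QuotientGroup.mk' _ ⟨⁅(r : G), t⁆, hmem r r.2 t ht⟩)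
        fun r s => ?_, fun _ => rfl⟩
      rw [← map_mul]
      refine (QuotientGroup.eq).2 (mem_subgroupOf.2 ?_)
      show (⁅(r : G) * s, t⁆)⁻¹ * (⁅(r : G), t⁆ * ⁅(s : G), t⁆) ∈ A
      have hrA : ∀ a ∈ A, (r : G) * a = a * r := fun a ha => (mem_centralizer_iff.1 r.2.2 a ha).symm
      have hsA : ∀ a ∈ A, (s : G) * a = a * s := fun a ha => (mem_centralizer_iff.1 s.2.2 a ha).symm
      have hl := hLA r r.2.1 hrA _ (hmem s s.2 t ht) (hrL s s.2.1 hsA t ht)
      have e : ⁅(r : G) * s, t⁆ = ⁅(r : G), ⁅(s : G), t⁆⁆ * (⁅(s : G), t⁆ * ⁅(r : G), t⁆) := by group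
      rw [e, mul_inv_rev, show (⁅(s : G), t⁆ * ⁅(r : G), t⁆)⁻¹ * ⁅(r : G), ⁅(s : G), t⁆⁆⁻¹ *
        (⁅(r : G), t⁆ * ⁅(s : G), t⁆) = (⁅(s : G), t⁆ * ⁅(r : G), t⁆)⁻¹ *
          (⁅(r : G), t⁆ * ⁅(s : G), t⁆) *
          ((⁅(r : G), t⁆ * ⁅(s : G), t⁆)⁻¹ * ⁅(r : G), ⁅(s : G), t⁆⁆⁻¹ * (⁅(r : G), t⁆ * ⁅(s : G), t⁆))
          by group]
      refine mul_mem ?_ ?_
      · rw [show (⁅(s : G), t⁆ * ⁅(r : G), t⁆)⁻¹ * (⁅(r : G), t⁆ * ⁅(s : G), t⁆) =
          ⁅⁅(r : G), t⁆⁻¹, ⁅(s : G), t⁆⁻¹⁆ by group]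
        exact hSA.commutator_mem (inv_mem (hmem r r.2 t ht)) (inv_mem (hmem s s.2 t ht))
      · have := (mem_normalizer_iff.1 (inv_mem (hPA (mul_mem (hmem r r.2 t ht) (hmem s s.2 t ht)))) _).1
          (inv_mem hl)
        simpa using this
    have hfinal : ∀ x : ↥CA, (x : G) ∈ V →
        (∀ t (ht : t ∈ coreP A), QuotientGroup.mk' (A.subgroupOf (coreP A))
          ⟨⁅(x : G), t⁆, hmem x x.2 t ht⟩ = 1) → (x : G) = 1 := fun x hx h =>
      hV0 _ hx fun t ht => commutatorElement_eq_one_iff_mul_comm.1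
        (hB t (hPA ht) _ hx (mem_subgroupOf.1 ((QuotientGroup.eq_one_iff _).1 (h t ht))))
    let P' : ↥CA := ⟨p, hp, mem_centralizer_iff.2 fun a ha => (hpA a ha).symm⟩
    let Q' : ↥CA := ⟨q, hq, mem_centralizer_iff.2 fun a ha => (hqA a ha).symm⟩
    constructor
    · have h := hfinal ⁅P', Q'⁆ (hV.commutator_mem hp hq) fun t ht => by
        obtain ⟨ψ, hψ⟩ := hkill t ht
        rw [← hψ, map_commutatorElement, commutatorElement_eq_one_iff_mul_comm]
        exact hcomm _ _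
      exact commutatorElement_eq_one_iff_mul_comm.1 h
    · refine hfinal (P' * P') ?_ fun t ht => ?_
      · refine hV.center_coreP (mul_mem hp hp) fun x hx => commutatorElement_eq_one_iff_mul_comm.1 ?_
        show ⁅p * p, x⁆ = 1
        rw [hV.comm_mul_left hp hp hx, ← sq]
        exact hV.elem.2 _ (hV.commutator_mem hp hx)
      · obtain ⟨ψ, hψ⟩ := hkill t ht
        rw [← hψ, map_mul, hψ, ← map_mul]
        exact (QuotientGroup.eq_one_iff _).2 (mem_subgroupOf.2 (hsq _ (hmem P' P'.2 t ht)))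
  -- hence `|P| = |V| ^ 3`
  obtain ⟨a0, ha0, ha01⟩ : ∃ a ∈ A, a ≠ 1 := by
    by_contra h
    push Not at h
    have hAb : A = ⊥ := (eq_bot_iff_forall A).2 h
    have := hA.card
    rw [hAb, Subgroup.card_bot] at this
    exact hA.ne (hAb.trans (Subgroup.eq_bot_of_card_eq V this.symm).symm)
  set q := Nat.card V with hq
  have hqpos : 0 < q := Nat.card_pos
  have hdisj : Disjoint A V := disjoint_iff_inf_le.2 fun a ha => mem_bot.2 (hA.disjoint hV ha.1 ha.2)
  have hcardP : Nat.card (coreP V) = q * q * q := by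
    have h := card_ker_mul hV (hA.le_coreP hV ha0) fun v hv => hA.exists_commutator_eq hV ha0 ha01 hv
    rw [← h, ← hq]
    congr 1
    have hmap : (commHom hV (hA.le_coreP hV ha0)).ker.map (coreP V).subtype = A ⊔ V := by
      refine le_antisymm ?_ (sup_le ?_ ?_)
      · rintro _ ⟨j, hj, rfl⟩
        have hj0 : (j : G) * a0 = a0 * j :=
          commutatorElement_eq_one_iff_mul_comm.1 (congrArg Subtype.val hj)
        have hjA : ∀ a ∈ A, (j : G) * a = a * j := fun a ha => hA.centralizes hV j.2 ha0 ha01 hj0 ha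
        obtain ⟨a, ha, w, hw, he⟩ := hdec _ j.2 hjA fun r hr hrA => (hP0 _ j.2 hjA r hr hrA).1
        show (j : G) ∈ A ⊔ V
        rw [he]; exact mul_mem_sup ha hw
      · intro a ha
        exact ⟨⟨a, hA.le_coreP hV ha⟩, Subtype.ext (commutatorElement_eq_one_iff_mul_comm.2
          (comm_of_elem hSA.elem ha ha0)), rfl⟩
      · intro v hv
        exact ⟨⟨v, hV.le_coreP hv⟩, Subtype.ext (commutatorElement_eq_one_iff_mul_comm.2
          (hV.central hv (hA.le_coreP hV ha0)).symm), rfl⟩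
    rw [← CfsgLib.Base.card_map_subtype, hmap]
    have hsup := CfsgLib.Coprime.card_sup_of_inf_eq_bot (H := A) (N := V) (fun a ha =>
      centralizer_le_normalizer _ (hA.le_centralizer hV ha)) hdisj.eq_bot
    rw [hsup, hA.card, ← hq]
  -- centralisers of elements outside `V` have order at most `q ^ 2`
  have hsmall : ∀ x ∈ coreP V, x ∉ V →
      Nat.card ↥(coreP V ⊓ centralizer ({x} : Set G)) ≤ q * q := by
    intro x hx hxV
    have hsurj : ∀ v ∈ V, ∃ p ∈ coreP V, ⁅p, x⁆ = v := by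
      intro v hv
      by_cases hxa : ∀ a ∈ A, x * a = a * x
      · obtain ⟨a, ha, w, hw, he⟩ := hdec x hx hxa fun r hr hrA => (hP0 x hx hxa r hr hrA).1
        have ha1 : a ≠ 1 := fun h => hxV (by rw [he, h, one_mul]; exact hw)
        obtain ⟨p, hp, hpv⟩ := hA.exists_commutator_eq hV ha ha1 hv
        refine ⟨p, hp, ?_⟩
        rw [he, hV.comm_mul_right hp (hA.le_coreP hV ha) (hV.le_coreP hw), hpv,
          commutatorElement_eq_one_iff_mul_comm.2 (hV.central hw hp), mul_one]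
      · push Not at hxa
        obtain ⟨a, ha, hne⟩ := hxa
        let f : ↥A →* ↥V := MonoidHom.mk'
          (fun a => ⟨⁅(a : G), x⁆, hV.commutator_mem (hA.le_coreP hV a.2) hx⟩)
          fun a c => Subtype.ext (hV.comm_mul_left (hA.le_coreP hV a.2) (hA.le_coreP hV c.2) hx)
        have hf : Function.Injective f := by
          rw [← MonoidHom.ker_eq_bot_iff, eq_bot_iff]
          intro c hc
          rw [mem_bot]
          by_contra hc1
          exact hne (hA.centralizes hV hx c.2 (fun h => hc1 (Subtype.ext h))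
            (commutatorElement_eq_one_iff_mul_comm.1 (congrArg Subtype.val hc)).symm ha)
        obtain ⟨c, hc⟩ := ((Nat.bijective_iff_injective_and_card f).2 ⟨hf, hA.card⟩).2 ⟨v, hv⟩
        exact ⟨c, hA.le_coreP hV c.2, congrArg Subtype.val hc⟩
    have h := card_ker_mul hV hx hsurj
    rw [hcardP, ← hq] at h
    refine le_of_eq_of_le ?_ (le_of_eq (Nat.eq_of_mul_eq_mul_right hqpos h))
    have hmap : (commHom hV hx).ker.map (coreP V).subtype = coreP V ⊓ centralizer ({x} : Set G) := by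
      refine le_antisymm ?_ ?_
      · rintro _ ⟨j, hj, rfl⟩
        exact ⟨j.2, mem_centralizer_singleton_iff.2
          (commutatorElement_eq_one_iff_mul_comm.1 (congrArg Subtype.val hj))⟩
      · intro j hj
        exact ⟨⟨j, hj.1⟩, Subtype.ext (commutatorElement_eq_one_iff_mul_comm.2
          (mem_centralizer_singleton_iff.1 hj.2)), rfl⟩
    rw [← hmap, card_map_subtype]
  -- transport to `A` and finish
  obtain ⟨g, hg, hgP⟩ := hA.coreP_eq
  obtain ⟨v, hv, hv1⟩ : ∃ v ∈ V, v ≠ 1 := by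
    by_contra h
    push Not at h
    have hVb : V = ⊥ := (eq_bot_iff_forall V).2 h
    exact hA.ne (by rw [hg, hVb]; exact Subgroup.map_bot _)
  set L := coreP A ⊓ centralizer ({v} : Set G) with hLdef
  have hLmem : ∀ l, l ∈ L ↔ l ∈ coreP A ∧ v * l = l * v := fun l => by
    rw [hLdef]
    exact ⟨fun h => ⟨h.1, (mem_centralizer_singleton_iff.1 h.2).symm⟩,
      fun h => ⟨h.1, mem_centralizer_singleton_iff.2 h.2.symm⟩⟩
  have hAL : A ≤ L := fun a ha => (hLmem a).2 ⟨hSA.le_coreP ha, hVA v hv a ha⟩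
  haveI hALn : (A.subgroupOf L).Normal :=
    normal_subgroupOf_of_le_normalizer ((inf_le_left : L ≤ coreP A).trans coreP_le)
  have hnL : ∀ t ∈ coreP A, ⁅v, t⁆ ∈ L := fun t ht => (hLmem _).2 ⟨hn v hv t ht, (hn1 v hv t ht).2.1⟩
  let ν : ↥(coreP A) →* ↥L ⧸ A.subgroupOf L :=
    MonoidHom.mk' (fun t => QuotientGroup.mk' _ ⟨⁅v, (t : G)⁆, hnL t t.2⟩) fun t r => by
      rw [← map_mul]
      refine (QuotientGroup.eq).2 (mem_subgroupOf.2 ?_)
      show (⁅v, (t : G) * r⁆)⁻¹ * (⁅v, (t : G)⁆ * ⁅v, (r : G)⁆) ∈ A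
      rw [hnmul, show (⁅v, (t : G)⁆ * ((t : G) * ⁅v, (r : G)⁆ * (t : G)⁻¹))⁻¹ *
        (⁅v, (t : G)⁆ * ⁅v, (r : G)⁆) = ⁅(t : G), ⁅v, (r : G)⁆⁻¹⁆ by group]
      exact hSA.commutator_mem t.2 (inv_mem (hn v hv r r.2))
  have hνker : ν.ker = L.subgroupOf (coreP A) := by
    ext t
    rw [MonoidHom.mem_ker, mem_subgroupOf, hLmem]
    constructor
    · intro h
      exact ⟨t.2, commutatorElement_eq_one_iff_mul_comm.1
        (hB t (hPA t.2) v hv (mem_subgroupOf.1 ((QuotientGroup.eq_one_iff _).1 h)))⟩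
    · intro h
      refine (QuotientGroup.eq_one_iff _).2 (mem_subgroupOf.2 ?_)
      show ⁅v, (t : G)⁆ ∈ A
      rw [commutatorElement_eq_one_iff_mul_comm.2 h.2]
      exact one_mem _
  have hLP : L ≤ coreP A := inf_le_left
  have hLsq : q * q ≤ Nat.card L := by
    have e2 : Nat.card ν.ker * Nat.card ν.range = Nat.card (coreP A) := by
      rw [← Subgroup.index_ker, Subgroup.card_mul_index]
    have e3 : Nat.card (↥L ⧸ A.subgroupOf L) * q = Nat.card L := by
      rw [hq, ← hA.card, ← card_subgroupOf hAL, ← Subgroup.card_eq_card_quotient_mul_card_subgroup]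
    have hcA : Nat.card (coreP A) = q * q * q := by rw [hgP, card_map_conj, hcardP]
    rw [hνker, card_subgroupOf hLP, hcA] at e2
    have e4 : Nat.card ν.range ≤ Nat.card (↥L ⧸ A.subgroupOf L) := Subgroup.card_le_card_group _
    by_contra hlt
    rw [Nat.not_le] at hlt
    have e5 : q * q * q * q ≤ Nat.card L * Nat.card L := by
      rw [← e2]
      calc Nat.card L * Nat.card ν.range * q ≤ Nat.card L * (Nat.card (↥L ⧸ A.subgroupOf L) * q) := by
            rw [mul_assoc]; exact Nat.mul_le_mul_left _ (Nat.mul_le_mul_right _ e4)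
        _ = _ := by rw [e3]
    nlinarith [Nat.mul_self_lt_mul_self hlt]
  obtain ⟨t, ht, htL⟩ : ∃ t ∈ coreP A, t ∉ L := by
    by_contra h
    push Not at h
    exact hv1 (hV0 v hv fun t ht => ((hLmem t).1 (h t ht)).2)
  set s := ⁅v, t⁆ with hs
  have hsA : s ∉ A := fun h =>
    htL ((hLmem t).2 ⟨ht, commutatorElement_eq_one_iff_mul_comm.1 (hB t (hPA ht) v hv h)⟩)
  -- `C(s)` is too large
  have hbig : ∀ x ∈ coreP A, x ∉ A → Nat.card ↥(coreP A ⊓ centralizer ({x} : Set G)) ≤ q * q := by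
    intro x hx hxA
    rw [hgP] at hx
    obtain ⟨x0, hx0, rfl⟩ := hx
    have hx0V : x0 ∉ V := fun h => hxA (hg ▸ ⟨x0, h, rfl⟩)
    refine le_trans (le_of_eq ?_) (hsmall x0 hx0 hx0V)
    have hc : coreP A ⊓ centralizer ({(MulAut.conj g).toMonoidHom x0} : Set G) =
        cj g (coreP V ⊓ centralizer ({x0} : Set G)) := by
      rw [hgP]
      ext y
      constructor
      · rintro ⟨⟨y0, hy0, rfl⟩, hy⟩
        refine ⟨y0, ⟨hy0, mem_centralizer_singleton_iff.2 ((MulAut.conj g).injective ?_)⟩, rfl⟩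
        rw [map_mul, map_mul]
        exact mem_centralizer_singleton_iff.1 hy
      · rintro ⟨y0, ⟨hy0, hc⟩, rfl⟩
        refine ⟨⟨y0, hy0, rfl⟩, mem_centralizer_singleton_iff.2 ?_⟩
        rw [← map_mul, ← map_mul, mem_centralizer_singleton_iff.1 hc]
    rw [hc, card_map_conj]
  have hlt : Nat.card L < Nat.card ↥(coreP A ⊓ centralizer ({s} : Set G)) := by
    refine lt_of_le_of_ne (Subgroup.card_le_of_le ?_) fun he => htL ?_
    · intro l hl
      obtain ⟨hlP, hlv⟩ := (hLmem l).1 hl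
      refine ⟨hlP, mem_centralizer_singleton_iff.2 ?_⟩
      have h1 : ⁅s, l⁆ = 1 := by
        rw [hs, hpol v hv t ht l hlP, commutatorElement_eq_one_iff_mul_comm.2 hlv,
          commutatorElement_one_left]
      exact (commutatorElement_eq_one_iff_mul_comm.1 h1).symm
    · have h2 : L = coreP A ⊓ centralizer ({s} : Set G) := eq_of_le_of_card_ge (fun l hl => by
        obtain ⟨hlP, hlv⟩ := (hLmem l).1 hl
        refine ⟨hlP, mem_centralizer_singleton_iff.2 ?_⟩
        have h1 : ⁅s, l⁆ = 1 := by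
          rw [hs, hpol v hv t ht l hlP, commutatorElement_eq_one_iff_mul_comm.2 hlv,
            commutatorElement_one_left]
        exact (commutatorElement_eq_one_iff_mul_comm.1 h1).symm) he.ge
      rw [h2]
      exact ⟨ht, mem_centralizer_singleton_iff.2
        (commutatorElement_eq_one_iff_mul_comm.1 (hn1 v hv t ht).2.2).symm⟩
  have := hbig s (hn v hv t ht) hsA
  omega

/-- The relation `Nbr` is symmetric. -/
theorem Nbr.symm (hA : Nbr V A) (hV : Setup V) : Nbr A V := by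
  obtain ⟨x, hx⟩ := hA.conj
  exact ⟨⟨x⁻¹, by rw [hx, cj_cj, inv_mul_cancel, cj_one]⟩, hA.ne.symm, hA.symm_le hV⟩

end CfsgLib.TISub
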