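import Cfsg.Agent.Lib.Techniques.Minimal
import Cfsg.Agent.Lib.PLocal.Constrained
import Cfsg.Prelude.Def_LocalEven
import Cfsg.Prelude.Def_PLocal
import Cfsg.Prelude.Def_TwoFusion

/-!
Triple factorizations in constrained sections.
-/

set_option autoImplicit false
set_option linter.unusedSectionVars false

namespace CfsgLib.Techniques

open Cfsg Subgroup

universe u

/-- `Ω₁(Z(T))`. -/
abbrev omZ (p : ℕ) {X : Type u} [Group X] (T : Subgroup X) : Subgroup X :=
  omegaOne p (T ⊓ centralizer (T : Set X))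

/-- Factorization in constrained groups. -/
def PairFac (p : ℕ) (W₁ W₂ : ∀ (Q : Type u) [Group Q], Subgroup Q) (X : Type u) [Group X] : Prop :=
  Constrained p X → ∀ T : Sylow p X, ∀ x : X,
    ∃ a ∈ normalizer ((inducedFunctor (G := X) W₁ (T : Subgroup X) : Subgroup X) : Set X),
      ∃ b ∈ normalizer ((inducedFunctor (G := X) W₂ (T : Subgroup X) : Subgroup X) : Set X), x = a * b

/-- Factorization with the centralizer of `Ω₁(Z(T))`. -/
def CentFac (p : ℕ) (W : ∀ (Q : Type u) [Group Q], Subgroup Q) (X : Type u) [Group X] : Prop :=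
  Constrained p X → ∀ T : Sylow p X, ∀ x : X,
    ∃ a ∈ centralizer ((omZ p (T : Subgroup X) : Subgroup X) : Set X),
      ∃ b ∈ normalizer ((inducedFunctor (G := X) W (T : Subgroup X) : Subgroup X) : Set X), x = a * b

variable {p : ℕ} [Fact p.Prime]

theorem constrained_congr_type {Y Z : Type u} [Group Y] [Group Z] (e : Y ≃* Z) (h : Constrained p Z) :
    Constrained p Y := by
  intro y hy
  have hm : (pCore p Y).map e.toMonoidHom = pCore p Z := CfsgLib.Base.map_pCore_mulEquiv e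
  have : e y ∈ pCore p Z := h (by
    rw [Subgroup.mem_centralizer_iff]
    intro z hz
    rw [← hm] at hz
    obtain ⟨w, hw, rfl⟩ := hz
    show e w * e y = e y * e w
    rw [← map_mul, ← map_mul, Subgroup.mem_centralizer_iff.1 hy w hw])
  rw [← hm] at this
  obtain ⟨w, hw, he⟩ := this
  exact e.injective he ▸ hw

theorem pairFac_congr {W₁ W₂ : ∀ (Q : Type u) [Group Q], Subgroup Q}
    (h₁ : IsCharPFunctor.{u} p W₁) (h₂ : IsCharPFunctor.{u} p W₂) {Y Z : Type u} [Group Y] [Group Z]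
    [Finite Y] [Finite Z] (e : Y ≃* Z) (h : PairFac p W₁ W₂ Y) : PairFac p W₁ W₂ Z := by
  intro hC T z
  let T' : Sylow p Y := T.comapOfInjective e.toMonoidHom e.injective (fun x _ => e.surjective x)
  have hT : (T' : Subgroup Y).map e.toMonoidHom = (T : Subgroup Z) := by
    show ((T : Subgroup Z).comap e.toMonoidHom).map e.toMonoidHom = _
    exact Subgroup.map_comap_eq_self_of_surjective e.surjective _
  obtain ⟨a, ha, b, hb, hab⟩ := h (constrained_congr_type e hC) T' (e.symm z)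
  refine ⟨e a, ?_, e b, ?_, by rw [← map_mul, ← hab, MulEquiv.apply_symm_apply]⟩
  · rw [← hT, inducedFunctor_map_of_injective h₁ T'.isPGroup' (f := e.toMonoidHom) e.injective]
    exact (mem_normalizer_map_iff (f := e.toMonoidHom) e.injective).2 ha
  · rw [← hT, inducedFunctor_map_of_injective h₂ T'.isPGroup' (f := e.toMonoidHom) e.injective]
    exact (mem_normalizer_map_iff (f := e.toMonoidHom) e.injective).2 hb

variable {G : Type u} [Group G] [Finite G]

/-- The factorizations give control of fusion by the pair. -/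
theorem familyFusion_of_pairFac {W₁ W₂ : ∀ (Q : Type u) [Group Q], Subgroup Q}
    (h₁ : IsCharPFunctor.{u} p W₁) (h₂ : IsCharPFunctor.{u} p W₂)
    (h : ∀ (K R : Subgroup G) [_hR : (R.subgroupOf K).Normal],
      PairFac p W₁ W₂ (K ⧸ R.subgroupOf K)) :
    FamilyControlsStrongFusionIn p (indFam G ({W₁, W₂} : Set _)) ⊤ := by
  have h𝓦 : ∀ W ∈ ({W₁, W₂} : Set (∀ (Q : Type u) [Group Q], Subgroup Q)), IsCharPFunctor.{u} p W := by
    rintro W (rfl | rfl)
    exacts [h₁, h₂]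
  refine familyFusion_of_sections h𝓦 G ((sectionsSatisfy_of_quotients
    (fun Y Z _ _ _ _ e hY => pairFac_congr h₁ h₂ e hY) h).imp ?_)
  intro X _ _ hfac _ _ hC
  obtain ⟨T⟩ : Nonempty (Sylow p X) := inferInstance
  refine controls_family (T := T) fun A x hA hxA => ?_
  obtain ⟨a, ha, b, hb, hx⟩ := hfac hC T x
  set V₁ := inducedFunctor (G := X) W₁ (T : Subgroup X) with hV₁
  set V₂ := inducedFunctor (G := X) W₂ (T : Subgroup X) with hV₂
  set M := normalizer (V₁ : Set X) ⊓ normalizer (V₂ : Set X) with hM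
  have hTM : (T : Subgroup X) ≤ M :=
    le_inf (le_normalizer_functor (isConjugacyFunctor_induced h₁) T.isPGroup')
      (le_normalizer_functor (isConjugacyFunctor_induced h₂) T.isPGroup')
  have hcl : closure A ≤ (T : Subgroup X) := (closure_le _).2 hA
  have hclx : cj x (closure A) ≤ (T : Subgroup X) := by
    rw [Subgroup.map_le_iff_le_comap, closure_le]
    intro y hy
    exact hxA ⟨y, hy, rfl⟩
  have hUM : cj b (closure A) ≤ M := by
    refine le_inf ?_ ?_
    · rw [cj_le_iff]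
      intro y hy
      have h1 : a⁻¹ * (x * y * x⁻¹) * a ∈ normalizer (V₁ : Set X) :=
        (normalizer (V₁ : Set X)).mul_mem ((normalizer (V₁ : Set X)).mul_mem ((normalizer (V₁ : Set X)).inv_mem ha) ((hTM (hclx (conj_mem_cj.2 hy))).1)) ha
      have e : b * y * b⁻¹ = a⁻¹ * (x * y * x⁻¹) * a := by rw [hx]; group
      rw [e]; exact h1
    · rw [cj_le_iff]
      exact fun y hy => (normalizer (V₂ : Set X)).mul_mem ((normalizer (V₂ : Set X)).mul_mem hb (hTM (hcl hy)).2) ((normalizer (V₂ : Set X)).inv_mem hb)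
  have hTs : SylIn p (T : Subgroup X) M := sylIn_of_le T hTM
  obtain ⟨m, hm, hmT⟩ := hTs.exists_conj (isPGroup_cj (T.isPGroup'.to_le hcl)) hUM
  have hmb : lc (m * b) '' A ⊆ (T : Subgroup X) := by
    rintro _ ⟨y, hy, rfl⟩
    rw [lc_mul]
    exact hmT (conj_mem_cj.2 (conj_mem_cj.2 (subset_closure hy)))
  have hstep : ∀ W ∈ ({W₁, W₂} : Set (∀ (Q : Type u) [Group Q], Subgroup Q)),
      (⊤ : Subgroup X) ⊓ normalizer ((inducedFunctor (G := X) W (T : Subgroup X) : Subgroup X) : Set X)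
        ∈ stepSet (indFam X ({W₁, W₂} : Set _)) (T : Subgroup X) ⊤ :=
    fun W hW => ⟨_, ⟨W, hW, rfl⟩, rfl⟩
  have hl1 : Link (T : Subgroup X) (stepSet (indFam X ({W₁, W₂} : Set _)) (T : Subgroup X) ⊤) A (m * b) :=
    Link.single (hstep W₂ (Or.inr rfl)) ⟨mem_top _, mul_mem hm.2 hb⟩ hA hmb
  have e : x = a * m⁻¹ * (m * b) := by rw [hx]; group
  have hl2 := hl1.comp (k := a * m⁻¹) (Link.single (hstep W₁ (Or.inl rfl))
    ⟨mem_top _, mul_mem ha ((normalizer (V₁ : Set X)).inv_mem hm.1)⟩ hmb ?_)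
  · rwa [← e] at hl2
  · rw [Set.image_image]
    rintro _ ⟨y, hy, rfl⟩
    show lc (a * m⁻¹) (lc (m * b) y) ∈ (T : Subgroup X)
    rw [← lc_mul, ← e]
    exact hxA ⟨y, hy, rfl⟩

theorem omZ_le (T : Subgroup G) : omZ p T ≤ T ⊓ centralizer (T : Set G) :=
  (closure_le _).2 fun _ hx => hx.1

/-- An orbit of `Ω₁(Z(S))` under `N(W₁(S))` is one under `N(W₂(S))`. -/
theorem exists_agree {W₁ W₂ : ∀ (Q : Type u) [Group Q], Subgroup Q}
    (h₁ : IsCharPFunctor.{u} p W₁) (h₂ : IsCharPFunctor.{u} p W₂)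
    (hfac : ∀ (K R : Subgroup G) [_hR : (R.subgroupOf K).Normal],
      CentFac p W₂ (K ⧸ R.subgroupOf K))
    (S : Sylow p G) (hZ : omZ p (S : Subgroup G) ≤ inducedFunctor (G := G) W₁ (S : Subgroup G))
    (hZ2 : omZ p (S : Subgroup G) ≤ inducedFunctor (G := G) W₂ (S : Subgroup G))
    {n : G} (hn : n ∈ normalizer ((inducedFunctor (G := G) W₁ (S : Subgroup G) : Subgroup G) : Set G))
    {z : G} (hz : z ∈ omZ p (S : Subgroup G)) :
    ∃ n₂ ∈ normalizer ((inducedFunctor (G := G) W₂ (S : Subgroup G) : Subgroup G) : Set G),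
      n * z * n⁻¹ = n₂ * z * n₂⁻¹ := by
  set Z := omZ p (S : Subgroup G) with hZdef
  set V := inducedFunctor (G := G) W₁ (S : Subgroup G) with hV
  set N := normalizer (V : Set G) with hNdef
  have hVS : V ≤ (S : Subgroup G) := inducedFunctor_le W₁ _
  have hSN : (S : Subgroup G) ≤ N := le_normalizer_functor (isConjugacyFunctor_induced h₁) S.isPGroup'
  set C := centralizer (V : Set G) with hC
  have hCN : C ≤ N := centralizer_le_normalizer _
  obtain ⟨k, hk, c, hc, rfl⟩ := (sylIn_of_le S hSN).frattini hCN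
    (CfsgLib.PLocal.normalizer_le_centralizer_normalizer V) hn
  set D := V ⊔ ((S : Subgroup G) ⊓ C) with hD
  have hDS : D ≤ (S : Subgroup G) := sup_le hVS inf_le_left
  set K := normalizer (D : Set G) ⊓ N with hK
  have hkK : k ∈ K := by
    refine ⟨mem_normalizer_iff_cj.2 ?_, hk.1⟩
    rw [hD, cj, Subgroup.map_sup]
    exact congrArg₂ _ (mem_normalizer_iff_cj.1 hk.1) (mem_normalizer_iff_cj.1 hk.2)
  have hSK : (S : Subgroup G) ≤ K := by
    refine le_inf (fun s hs => ?_) hSN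
    rw [mem_normalizer_iff_cj, hD, cj, Subgroup.map_sup]
    refine congrArg₂ _ (mem_normalizer_iff_cj.1 (hSN hs)) ?_
    show cj s ((S : Subgroup G) ⊓ C) = _
    rw [cj_inf, cj_eq_self_of_mem hs, mem_normalizer_iff_cj.1
      (CfsgLib.PLocal.normalizer_le_centralizer_normalizer V (hSN hs))]
  have hzS : z ∈ (S : Subgroup G) := (omZ_le _ hz).1
  have hzV : k * z * k⁻¹ ∈ V := (mem_normalizer_iff.1 hk.1 z).1 (hZ hz)
  have hnz : c * k * z * (c * k)⁻¹ = k * z * k⁻¹ := by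
    have h1 := Subgroup.mem_centralizer_iff.1 hc _ hzV
    calc c * k * z * (c * k)⁻¹ = c * (k * z * k⁻¹) * c⁻¹ := by group
      _ = k * z * k⁻¹ := by rw [← h1]; group
  rw [hnz]
  -- the constrained section
  let R : Subgroup G := (pPrimeCore p K).map K.subtype
  have hRK : R.subgroupOf K = pPrimeCore p K :=
    Subgroup.comap_map_eq_self_of_injective K.subtype_injective _
  haveI hRn : (R.subgroupOf K).Normal := by rw [hRK]; infer_instance
  set O := R.subgroupOf K with hO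
  have hOc : (Nat.card O).Coprime p := by rw [hRK]; exact CfsgLib.Base.pPrimeCore_coprime p K
  let π := QuotientGroup.mk' O
  have hπ : Function.Surjective π := QuotientGroup.mk'_surjective O
  have hO1 : pPrimeCore p (K ⧸ O) = ⊥ := by
    refine le_bot_iff.1 ?_
    have e := CfsgLib.Base.comap_mk'_pPrimeCore (p := p) O hOc
    intro q hq
    obtain ⟨y, rfl⟩ := hπ q
    have : y ∈ (pPrimeCore p (K ⧸ O)).comap π := hq
    rw [e, ← hRK] at this
    rw [mem_bot]
    exact (QuotientGroup.eq_one_iff y).2 this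
  set S₀ : Subgroup K := (S : Subgroup G).subgroupOf K with hS₀
  have hS₀s : SylIn p S₀ ⊤ := ⟨le_top, S.isPGroup'.comap_subtype,
    by rw [relIndex_top_right]; exact fun hd => S.not_dvd_index (hd.trans (relIndex_dvd_index_of_le hSK))⟩
  set D₀ : Subgroup K := D.subgroupOf K with hD₀
  haveI : D₀.Normal := Subgroup.normal_subgroupOf_of_le_normalizer inf_le_left
  have hD₀p : IsPGroup p D₀ := (S.isPGroup'.to_le hDS).comap_subtype
  set T := S₀.map π with hT
  have hTs : SylIn p T ⊤ := sylIn_map_of_surjective hS₀s hπ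
  have hinjS : ∀ y ∈ S₀, π y = 1 → y = 1 := fun y hy h1 => by
    have : y ∈ S₀ ⊓ O := ⟨hy, (QuotientGroup.eq_one_iff y).1 h1⟩
    rwa [CfsgLib.Base.inf_eq_bot_of_isPGroup_of_coprime hS₀s.isPGroup hOc, mem_bot] at this
  have hcons : Constrained p (K ⧸ O) := by
    refine centralizer_le_of_inf_le hTs hO1 ?_
    rintro q ⟨⟨s, hs, rfl⟩, hq⟩
    have hle : D₀.map π ≤ pCore p (K ⧸ O) :=
      CfsgLib.Base.le_pCore (hN := Subgroup.Normal.map inferInstance _ hπ) (hD₀p.map π)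
    refine hle ⟨s, Subgroup.mem_subgroupOf.2 (mem_sup_right ⟨hs, ?_⟩), rfl⟩
    change (s : G) ∈ centralizer (V : Set G)
    rw [Subgroup.mem_centralizer_iff]
    intro v hv
    have hvD : (⟨v, hSK (hVS hv)⟩ : K) ∈ D₀ := mem_sup_left hv
    have h1 := Subgroup.mem_centralizer_iff.1 hq (π ⟨v, hSK (hVS hv)⟩) (hle (mem_map_of_mem _ hvD))
    rw [← map_mul, ← map_mul, ← div_eq_one, ← map_div] at h1
    have h2 := hinjS _ (S₀.div_mem (S₀.mul_mem (Subgroup.mem_subgroupOf.2 (hVS hv) : (⟨v, hSK (hVS hv)⟩ : K) ∈ S₀) hs)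
      (S₀.mul_mem hs (Subgroup.mem_subgroupOf.2 (hVS hv)))) h1
    exact congrArg Subtype.val (div_eq_one.1 h2)
  obtain ⟨Ts, hTse⟩ := hTs.to_sylow
  obtain ⟨a, ha, b, hb, hab⟩ := hfac K R hcons Ts (π ⟨k, hkK⟩)⁻¹
  rw [hTse] at ha hb
  have hzbar : π ⟨z, hSK hzS⟩ ∈ centralizer (centralizer ((omZ p T : Subgroup (K ⧸ O)) : Set (K ⧸ O)) : Set (K ⧸ O)) := by
    rw [Subgroup.mem_centralizer_iff]
    intro y hy
    refine (Subgroup.mem_centralizer_iff.1 hy _ ?_).symm
    have hgen : Z ≤ ((omZ p T).comap π).map K.subtype := by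
      rw [hZdef, omZ, omegaOne, closure_le]
      intro x hx
      refine ⟨⟨x, hSK hx.1.1⟩, subset_closure ⟨⟨mem_map_of_mem _ (show (⟨x, hSK hx.1.1⟩ : K) ∈ S₀ from hx.1.1), ?_⟩, ?_⟩, rfl⟩
      · change π ⟨x, hSK hx.1.1⟩ ∈ centralizer (T : Set (K ⧸ O))
        rw [Subgroup.mem_centralizer_iff]
        rintro _ ⟨s, hs, rfl⟩
        rw [← map_mul, ← map_mul]
        exact congrArg π (Subtype.ext (Subgroup.mem_centralizer_iff.1 hx.1.2 (s : G) hs))
      · rw [← map_pow]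
        exact (congrArg π (Subtype.ext hx.2 : (⟨x, hSK hx.1.1⟩ : K) ^ p = 1)).trans π.map_one
    obtain ⟨w, hw, e⟩ := hgen hz
    have : w = ⟨z, hSK hzS⟩ := Subtype.ext e
    exact this ▸ hw
  obtain ⟨y, hy, hyb⟩ := exists_lift_normalizer h₂ hS₀s.isPGroup hOc (inv_mem hb)
  have hyG : (y : G) ∈ normalizer ((inducedFunctor (G := G) W₂ (S : Subgroup G) : Subgroup G) : Set G) := by
    have e : S₀.map K.subtype = (S : Subgroup G) := Subgroup.map_subgroupOf_eq_of_le hSK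
    rw [← e, inducedFunctor_map_of_injective h₂ hS₀s.isPGroup K.subtype_injective]
    exact (mem_normalizer_map_iff K.subtype_injective).2 hy
  refine ⟨y, hyG, ?_⟩
  have hyz : (y : G) * z * (y : G)⁻¹ ∈ (S : Subgroup G) :=
    (inducedFunctor_le W₂ _) ((mem_normalizer_iff.1 hyG z).1 (hZ2 hz))
  have h2 : π (y * ⟨z, hSK hzS⟩ * y⁻¹) = π (⟨k, hkK⟩ * ⟨z, hSK hzS⟩ * ⟨k, hkK⟩⁻¹) := by
    simp only [map_mul, map_inv]
    rw [show π y = b⁻¹ from hyb]
    have hk' : π ⟨k, hkK⟩ = b⁻¹ * a⁻¹ := by rw [← mul_inv_rev, ← hab, inv_inv]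
    rw [hk']
    have h3 := Subgroup.mem_centralizer_iff.1 hzbar a ha
    calc b⁻¹ * π ⟨z, hSK hzS⟩ * b⁻¹⁻¹ = b⁻¹ * a⁻¹ * (a * π ⟨z, hSK hzS⟩) * b := by group
      _ = b⁻¹ * a⁻¹ * (π ⟨z, hSK hzS⟩ * a) * b := by rw [h3]
      _ = _ := by group
  rw [← div_eq_one, ← map_div] at h2
  have h5 := hinjS _ (S₀.div_mem (show (y * ⟨z, hSK hzS⟩ * y⁻¹ : K) ∈ S₀ from hyz)
    (show (⟨k, hkK⟩ * ⟨z, hSK hzS⟩ * ⟨k, hkK⟩⁻¹ : K) ∈ S₀ from hVS hzV)) h2
  exact (congrArg Subtype.val (div_eq_one.1 h5)).symm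

/-- The conclusion: `A = ⟨Ω₁(Z(S))^{N(W₁(S))}⟩` controls strong fusion. -/
theorem triple_factorization {W₁ W₂ : ∀ (Q : Type u) [Group Q], Subgroup Q}
    (h₁ : IsCharPFunctor.{u} p W₁) (h₂ : IsCharPFunctor.{u} p W₂)
    (hf₁ : ∀ (K R : Subgroup G) [_hR : (R.subgroupOf K).Normal], CentFac p W₁ (K ⧸ R.subgroupOf K))
    (hf₂ : ∀ (K R : Subgroup G) [_hR : (R.subgroupOf K).Normal], CentFac p W₂ (K ⧸ R.subgroupOf K))
    (hf₃ : ∀ (K R : Subgroup G) [_hR : (R.subgroupOf K).Normal],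
      PairFac p W₁ W₂ (K ⧸ R.subgroupOf K))
    (S : Sylow p G) (hZ1 : omZ p (S : Subgroup G) ≤ inducedFunctor (G := G) W₁ (S : Subgroup G))
    (hZ2 : omZ p (S : Subgroup G) ≤ inducedFunctor (G := G) W₂ (S : Subgroup G))
    (A : Subgroup G)
    (hA : A = closure {x : G | ∃ n ∈ normalizer
      ((inducedFunctor (G := G) W₁ (S : Subgroup G) : Subgroup G) : Set G),
      ∃ z ∈ omZ p (S : Subgroup G), x = n * z * n⁻¹}) :
    A ≤ (S : Subgroup G) ∧ IsElementaryAbelian p A ∧ IsStronglyClosed A (S : Subgroup G) ∧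
      ControlsStrongFusion p A := by
  set V₁ := inducedFunctor (G := G) W₁ (S : Subgroup G) with hV₁
  set V₂ := inducedFunctor (G := G) W₂ (S : Subgroup G) with hV₂
  set O := {x : G | ∃ n ∈ normalizer (V₁ : Set G), ∃ z ∈ omZ p (S : Subgroup G), x = n * z * n⁻¹}
    with hOdef
  have hOV : O ⊆ V₁ := by
    rintro _ ⟨n, hn, z, hz, rfl⟩
    exact (mem_normalizer_iff.1 hn z).1 (hZ1 hz)
  have hVS : V₁ ≤ (S : Subgroup G) := inducedFunctor_le W₁ _
  have hAS : A ≤ (S : Subgroup G) := hA ▸ (closure_le _).2 (hOV.trans (SetLike.coe_subset_coe.2 hVS))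
  have hzc : ∀ z ∈ omZ p (S : Subgroup G), ∀ v ∈ (S : Subgroup G), v * z = z * v := fun z hz v hv =>
    Subgroup.mem_centralizer_iff.1 (omZ_le _ hz).2 v hv
  -- elementary abelian
  have hcomm : ∀ x ∈ O, ∀ v ∈ V₁, v * x = x * v := by
    rintro _ ⟨n, hn, z, hz, rfl⟩ v hv
    have h := hzc z hz (n⁻¹ * v * n) (hVS ((Subgroup.mem_normalizer_iff''.1 hn v).1 hv))
    calc v * (n * z * n⁻¹) = n * ((n⁻¹ * v * n) * z) * n⁻¹ := by group
      _ = n * (z * (n⁻¹ * v * n)) * n⁻¹ := by rw [h]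
      _ = _ := by group
  have hAV : A ≤ V₁ := hA ▸ (closure_le _).2 hOV
  have hAc : A ≤ centralizer (V₁ : Set G) := hA ▸ (closure_le _).2 fun x hx =>
    Subgroup.mem_centralizer_iff.2 fun v hv => hcomm x hx v hv
  have hpow : ∀ a ∈ A, a ^ p = 1 := by
    have hOp : ∀ x ∈ O, x ^ p = 1 := by
      rintro _ ⟨n, _, z, hz, rfl⟩
      have hzp : z ^ p = 1 := by
        induction hz using Subgroup.closure_induction with
        | mem x hx => exact hx.2
        | one => exact one_pow p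
        | mul x y hx hy ihx ihy =>
          rw [Commute.mul_pow (hzc y hy x (omZ_le _ hx).1), ihx, ihy, one_mul]
        | inv x _ ihx => rw [inv_pow, ihx, inv_one]
      rw [conj_pow, hzp, mul_one, mul_inv_cancel]
    intro a ha
    rw [hA] at ha
    induction ha using Subgroup.closure_induction with
    | mem x hx => exact hOp x hx
    | one => exact one_pow p
    | mul x y hx hy ihx ihy =>
      rw [← hA] at hx hy
      rw [Commute.mul_pow (Subgroup.mem_centralizer_iff.1 (hAc hy) x (hAV hx)), ihx, ihy, one_mul]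
    | inv x _ ihx => rw [inv_pow, ihx, inv_one]
  have hel : IsElementaryAbelian p A :=
    ⟨⟨⟨fun a b => Subtype.ext (Subgroup.mem_centralizer_iff.1 (hAc b.2) a (hAV a.2))⟩⟩, hpow⟩
  -- the two orbits agree
  have hO₂ : O = {x : G | ∃ n ∈ normalizer (V₂ : Set G), ∃ z ∈ omZ p (S : Subgroup G), x = n * z * n⁻¹} := by
    ext x
    constructor
    · rintro ⟨n, hn, z, hz, rfl⟩
      obtain ⟨m, hm, e⟩ := exists_agree h₁ h₂ hf₂ S hZ1 hZ2 hn hz
      exact ⟨m, hm, z, hz, e⟩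
    · rintro ⟨n, hn, z, hz, rfl⟩
      obtain ⟨m, hm, e⟩ := exists_agree h₂ h₁ hf₁ S hZ2 hZ1 hn hz
      exact ⟨m, hm, z, hz, e⟩
  have hinv : ∀ (U : Subgroup G) (g : G), g ∈ normalizer (U : Set G) →
      O = {x : G | ∃ n ∈ normalizer (U : Set G), ∃ z ∈ omZ p (S : Subgroup G), x = n * z * n⁻¹} →
      g ∈ normalizer (A : Set G) := by
    intro U g hg hOU
    refine mem_normalizer_fintype fun a ha => ?_
    have : cj g A ≤ A := by
      rw [hA, cj, MonoidHom.map_closure, closure_le]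
      rintro _ ⟨x, hx, rfl⟩
      refine subset_closure ?_
      rw [hOU] at hx ⊢
      obtain ⟨n, hn, z, hz, rfl⟩ := hx
      exact ⟨g * n, mul_mem hg hn, z, hz, by
        show g * (n * z * n⁻¹) * g⁻¹ = _
        group⟩
    exact this (conj_mem_cj.2 ha)
  have hN₁ : normalizer (V₁ : Set G) ≤ normalizer (A : Set G) := fun g hg => hinv V₁ g hg rfl
  have hN₂ : normalizer (V₂ : Set G) ≤ normalizer (A : Set G) := fun g hg => hinv V₂ g hg hO₂
  -- control of fusion
  have h𝓦 : ∀ W ∈ indFam G ({W₁, W₂} : Set (∀ (Q : Type u) [Group Q], Subgroup Q)),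
      IsConjugacyFunctor p W := isConjugacyFunctor_indFam (by
      rintro W (rfl | rfl)
      exacts [h₁, h₂])
  have hfus := familyFusionAt_of_controls h𝓦 (sylIn_top S) (familyFusion_of_pairFac h₁ h₂ hf₃)
  have key : ∀ (X : Set G) (g : G), X ⊆ (S : Subgroup G) → lc g '' X ⊆ (S : Subgroup G) →
      ∃ x ∈ normalizer (A : Set G), ∀ a ∈ X, lc g a = lc x a := by
    intro X g hX hgX
    have hl := link_iff_chain.2 (hfus X g (mem_top g) hX hgX)
    clear hX hgX
    induction hl with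
    | agree _ h => exact ⟨1, one_mem _, fun a ha => by rw [h a ha, lc_one]⟩
    | @step X g x g' N hN hx _ _ h ih =>
      obtain ⟨y, hy, hy'⟩ := ih
      refine ⟨y * x, mul_mem hy ?_, fun a ha => by rw [h a ha, lc_mul, hy' _ ⟨a, ha, rfl⟩]⟩
      obtain ⟨_, ⟨W, hW, rfl⟩, rfl⟩ := hN
      rcases hW with rfl | rfl
      exacts [hN₁ hx.2, hN₂ hx.2]
  refine ⟨hAS, hel, ⟨hAS, fun a ha g hga => ?_⟩, S, hAS, fun X hX => ⟨hX, fun g hg => key X g hX hg⟩⟩
  obtain ⟨x, hx, e⟩ := key {a} g (Set.singleton_subset_iff.2 (hAS ha))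
    (by rintro _ ⟨y, rfl, rfl⟩; exact hga)
  rw [show g * a * g⁻¹ = lc g a from rfl, e a rfl]
  exact (mem_normalizer_iff.1 hx a).1 ha

end CfsgLib.Techniques
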